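import Groth.Agent.Omega.SmoothFibreDim
import Groth.Agent.EGA4Lib.SmoothRegular
import Groth.Agent.Dim.LocalHom
import Groth.Agent.S0565
import Mathlib

/-!
# Local rings at smooth points over Noetherian bases
-/

set_option autoImplicit false

universe u

open CategoryTheory AlgebraicGeometry TopologicalSpace

noncomputable section

namespace Groth.Agent.Omega.SmoothPoint

variable {X Y : Scheme.{u}} (f : X ⟶ Y)

theorem mem_smoothLocus_of_nhd [LocallyOfFinitePresentation f] {x : X}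
    (hx : ∃ U : X.Opens, x ∈ U ∧ Smooth (U.ι ≫ f)) : x ∈ f.smoothLocus := by
  obtain ⟨U, hxU, hU⟩ := hx
  have h : (⟨x, hxU⟩ : U.toScheme) ∈ U.ι ⁻¹ᵁ f.smoothLocus := by
    rw [Scheme.Hom.preimage_smoothLocus_eq, Scheme.Hom.smoothLocus_eq_top]
    trivial
  exact h

theorem flat_stalkMap [LocallyOfFinitePresentation f] {x : X} (hx : x ∈ f.smoothLocus) :
    (f.stalkMap x).hom.Flat := by
  obtain ⟨V, hV, U, hU, e, hxU, hs⟩ := exists_smooth_of_formallySmooth_stalk f x hx
  letI := (f.appLE V U e).hom.toAlgebra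
  haveI : Algebra.Smooth Γ(Y, V) Γ(X, U) := RingHom.smooth_algebraMap.mp hs
  haveI : Module.Flat Γ(Y, V) Γ(X, U) := inferInstance
  haveI : (hU.primeIdealOf ⟨x, hxU⟩).asIdeal.LiesOver (hV.primeIdealOf ⟨f x, e hxU⟩).asIdeal :=
    ⟨congr($(IsAffineOpen.comap_primeIdealOf_appLE V hV U hU e hxU).1).symm⟩
  letI := Localization.AtPrime.algebraOfLiesOver (hV.primeIdealOf ⟨f x, e hxU⟩).asIdeal
    (hU.primeIdealOf ⟨x, hxU⟩).asIdeal
  refine (RingHom.Flat.respectsIso.arrow_mk_iso_iff
    (IsAffineOpen.arrowStalkMapIso f V hV U hU e hxU)).mpr ?_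
  show RingHom.Flat (algebraMap (Localization.AtPrime (hV.primeIdealOf ⟨f x, e hxU⟩).asIdeal)
    (Localization.AtPrime (hU.primeIdealOf ⟨x, hxU⟩).asIdeal))
  rw [RingHom.flat_algebraMap_iff]
  infer_instance

theorem ringKrullDim_stalk [IsLocallyNoetherian Y] [LocallyOfFiniteType f] [LocallyOfFinitePresentation f]
    {x : X} (hx : x ∈ f.smoothLocus) :
    ringKrullDim ↑(X.presheaf.stalk x) =
      ringKrullDim ↑(Y.presheaf.stalk (f.base x)) +
        ringKrullDim (↑(X.presheaf.stalk x) ⧸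
          (IsLocalRing.maximalIdeal ↑(Y.presheaf.stalk (f.base x))).map (f.stalkMap x).hom) := by
  haveI : IsLocallyNoetherian X := LocallyOfFiniteType.isLocallyNoetherian f
  letI := (f.stalkMap x).hom.toAlgebra
  haveI : Module.Flat (Y.presheaf.stalk (f x)) (X.presheaf.stalk x) := flat_stalkMap f hx
  haveI : IsLocalHom (algebraMap (Y.presheaf.stalk (f x)) (X.presheaf.stalk x)) :=
    inferInstanceAs (IsLocalHom (f.stalkMap x).hom)
  exact Dim.ringKrullDim_eq_add_fibre (A := Y.presheaf.stalk (f x)) (B := X.presheaf.stalk x)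

theorem isRegular_iff [IsLocallyNoetherian Y] [LocallyOfFiniteType f] [LocallyOfFinitePresentation f]
    {x : X} (hx : x ∈ f.smoothLocus) :
    IsRegularLocalRing ↑(X.presheaf.stalk x) ↔ IsRegularLocalRing ↑(Y.presheaf.stalk (f.base x)) := by
  haveI : IsLocallyNoetherian X := LocallyOfFiniteType.isLocallyNoetherian f
  constructor
  · intro h
    letI := (f.stalkMap x).hom.toAlgebra
    haveI : Module.Flat (Y.presheaf.stalk (f x)) (X.presheaf.stalk x) := flat_stalkMap f hx
    haveI : IsLocalHom (algebraMap (Y.presheaf.stalk (f x)) (X.presheaf.stalk x)) :=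
      inferInstanceAs (IsLocalHom (f.stalkMap x).hom)
    exact S0565.result (Y.presheaf.stalk (f x)) (X.presheaf.stalk x)
  · intro h
    obtain ⟨V, hV, U, hU, e, hxU, hs⟩ := exists_smooth_of_formallySmooth_stalk f x hx
    letI := (f.appLE V U e).hom.toAlgebra
    haveI : Algebra.Smooth Γ(Y, V) Γ(X, U) := RingHom.smooth_algebraMap.mp hs
    haveI : IsNoetherianRing Γ(Y, V) := IsLocallyNoetherian.component_noetherian ⟨V, hV⟩
    have hc := IsAffineOpen.comap_primeIdealOf_appLE (f := f) V hV U hU e hxU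
    letI := Y.presheaf.algebra_section_stalk (⟨f x, e hxU⟩ : V)
    haveI := hV.isLocalization_stalk ⟨f x, e hxU⟩
    letI := X.presheaf.algebra_section_stalk (⟨x, hxU⟩ : U)
    haveI := hU.isLocalization_stalk ⟨x, hxU⟩
    haveI : IsRegularLocalRing (Y.presheaf.stalk ((⟨f x, e hxU⟩ : V) : Y)) := h
    have h1 : PrimeSpectrum.comap (algebraMap Γ(Y, V) Γ(X, U)) (hU.primeIdealOf ⟨x, hxU⟩) ∈ EGA4.regLocus Γ(Y, V) := by
      erw [hc]
      exact IsRegularLocalRing.of_ringEquiv (R := Y.presheaf.stalk ((⟨f x, e hxU⟩ : V) : Y))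
        (IsLocalization.algEquiv (hV.primeIdealOf ⟨f x, e hxU⟩).asIdeal.primeCompl _ _).toRingEquiv
    haveI : IsRegularLocalRing (Localization.AtPrime (hU.primeIdealOf ⟨x, hxU⟩).asIdeal) :=
      EGA4Lib.mem_regLocus_of_smooth (hU.primeIdealOf ⟨x, hxU⟩) h1
    exact IsRegularLocalRing.of_ringEquiv
      (IsLocalization.algEquiv (hU.primeIdealOf ⟨x, hxU⟩).asIdeal.primeCompl
        (Localization.AtPrime (hU.primeIdealOf ⟨x, hxU⟩).asIdeal) (X.presheaf.stalk x)).toRingEquiv

end Groth.Agent.Omega.SmoothPoint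

end
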