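import Groth.Prelude.Def_Omega4

/-!
# Derivations of the structure sheaf: functoriality

`push h hsq D`: for a commutative square `f' ≫ b = h ≫ f` a derivation `O_{X'} → F` over `Y'` gives a
derivation `O_X → h_* F` over `Y`.  A map `c : h^* Ω ⟶ Ω'` is compatible with the derivations iff its
adjoint carries `d` to `push d'`.  Universal derivations restrict to open immersions.
-/

set_option autoImplicit false

universe u

open CategoryTheory CategoryTheory.Limits AlgebraicGeometry TopologicalSpace Opposite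

namespace Groth.Agent.Omega.Basic

open OmegaSh

variable {X Y : Scheme.{u}} {f : X ⟶ Y}

theorem der_ext {F : X.Modules} {D D' : Der f F} (h : ∀ U s, D.app U s = D'.app U s) : D = D' := by
  apply PresheafOfModules.Derivation.ext
  ext U s
  exact h U.unop s

theorem der_mul {F : X.Modules} (D : Der f F) (U : X.Opens) (a b : Γ(X, U)) :
    D.app U (a * b) = a • D.app U b + b • D.app U a :=
  D.d_mul a b

theorem der_one {F : X.Modules} (D : Der f F) (U : X.Opens) : D.app U 1 = 0 :=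
  D.d_one (op U)

theorem der_map {F : X.Modules} (D : Der f F) {U V : X.Opens} (i : V ⟶ U) (s : Γ(X, U)) :
    D.app V (X.presheaf.map i.op s) = F.presheaf.map i.op (D.app U s) :=
  D.d_map i.op s

theorem der_app {F : X.Modules} (D : Der f F) (V : Y.Opens) (c : Γ(Y, V)) :
    D.app (f ⁻¹ᵁ V) (f.app V c) = 0 :=
  D.d_app (X := op V) c

theorem der_appLE {F : X.Modules} (D : Der f F) (V : Y.Opens) (U : X.Opens) (e : U ≤ f ⁻¹ᵁ V)
    (c : Γ(Y, V)) : D.app U (f.appLE V U e c) = 0 := by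
  change D.app U ((X.presheaf.map (homOfLE e).op) (f.app V c)) = 0
  rw [der_map, der_app, map_zero]

@[simp]
theorem postcomp_app {F G : X.Modules} (D : Der f F) (α : F ⟶ G) (U : X.Opens) (s : Γ(X, U)) :
    Der.app (D.postcomp α.val : Der f G) U s = α.app U (D.app U s) :=
  rfl

theorem postcomp_eq_iff {F G : X.Modules} (D : Der f F) (α : F ⟶ G) (E : Der f G) :
    D.postcomp α.val = E ↔ ∀ U s, α.app U (D.app U s) = E.app U s := by
  refine ⟨fun h U s => by rw [← postcomp_app D α U s, h], fun h => der_ext fun U s => ?_⟩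
  rw [postcomp_app]; exact h U s

theorem hom_ext_of_universal {Ω : X.Modules} {d : Der f Ω} (hd : IsUniversal d) {F : X.Modules}
    {α β : Ω ⟶ F} (h : ∀ U s, α.app U (d.app U s) = β.app U (d.app U s)) : α = β := by
  obtain ⟨γ, -, hγ⟩ := hd F (d.postcomp α.val)
  rw [hγ α rfl, hγ β ((postcomp_eq_iff _ _ _).mpr fun U s => by rw [postcomp_app]; exact (h U s).symm)]

/-- The map out of a universal derivation classifying `D`. -/
noncomputable def desc {Ω : X.Modules} {d : Der f Ω} (hd : IsUniversal d) {F : X.Modules}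
    (D : Der f F) : Ω ⟶ F :=
  (hd F D).exists.choose

theorem desc_app {Ω : X.Modules} {d : Der f Ω} (hd : IsUniversal d) {F : X.Modules}
    (D : Der f F) (U : X.Opens) (s : Γ(X, U)) : (desc hd D).app U (d.app U s) = D.app U s :=
  (postcomp_eq_iff _ _ _).mp (hd F D).exists.choose_spec U s

/-- The isomorphism between two receptacles of universal derivations. -/
noncomputable def uniqueIso {Ω Ω' : X.Modules} {d : Der f Ω} (hd : IsUniversal d) {d' : Der f Ω'}
    (hd' : IsUniversal d') : Ω ≅ Ω' where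
  hom := desc hd d'
  inv := desc hd' d
  hom_inv_id := hom_ext_of_universal hd fun U s => by simp [desc_app]
  inv_hom_id := hom_ext_of_universal hd' fun U s => by simp [desc_app]

theorem uniqueIso_hom_app {Ω Ω' : X.Modules} {d : Der f Ω} (hd : IsUniversal d) {d' : Der f Ω'}
    (hd' : IsUniversal d') (U : X.Opens) (s : Γ(X, U)) :
    (uniqueIso hd hd').hom.app U (d.app U s) = d'.app U s :=
  desc_app hd d' U s

/-! ## Pushing derivations forward -/

section Push

variable {X' Y' : Scheme.{u}} {f' : X' ⟶ Y'} (h : X' ⟶ X) {b : Y' ⟶ Y}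

theorem app_square (hsq : f' ≫ b = h ≫ f) (V : Y.Opens) (c : Γ(Y, V)) :
    h.app (f ⁻¹ᵁ V) (f.app V c) =
      f'.appLE (b ⁻¹ᵁ V) (h ⁻¹ᵁ (f ⁻¹ᵁ V))
        (le_of_eq (by rw [← Scheme.Hom.comp_preimage, ← hsq, Scheme.Hom.comp_preimage]))
        (b.app V c) := by
  have e1 : ∀ (e : h ⁻¹ᵁ (f ⁻¹ᵁ V) ≤ h ⁻¹ᵁ (f ⁻¹ᵁ V)) (e' : h ⁻¹ᵁ (f ⁻¹ᵁ V) ≤ (h ≫ f) ⁻¹ᵁ V),
      h.appLE (f ⁻¹ᵁ V) (h ⁻¹ᵁ (f ⁻¹ᵁ V)) e (f.app V c) = (h ≫ f).appLE V _ e' c :=
    fun e e' => congr($((Scheme.Hom.comp_appLE h f V _ e').symm) c)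
  have e2 : ∀ (e : h ⁻¹ᵁ (f ⁻¹ᵁ V) ≤ f' ⁻¹ᵁ (b ⁻¹ᵁ V)) (e' : h ⁻¹ᵁ (f ⁻¹ᵁ V) ≤ (f' ≫ b) ⁻¹ᵁ V),
      f'.appLE (b ⁻¹ᵁ V) (h ⁻¹ᵁ (f ⁻¹ᵁ V)) e (b.app V c) = (f' ≫ b).appLE V _ e' c :=
    fun e e' => congr($((Scheme.Hom.comp_appLE f' b V _ e').symm) c)
  rw [Scheme.Hom.app_eq_appLE, e1 _ le_rfl, e2]
  exacts [congr($(appLE_congr_hom (Y := Y) hsq.symm _ _) c),
    le_of_eq (by rw [hsq]; rfl)]

/-- A derivation of `O_{X'}` over `Y'` gives a derivation of `O_X` over `Y` into the direct image. -/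
noncomputable def push (hsq : f' ≫ b = h ≫ f) {F : X'.Modules} (D : Der f' F) :
    Der f ((Scheme.Modules.pushforward h).obj F) where
  d {U} := AddMonoidHom.mk' (fun s => (D.app (h ⁻¹ᵁ U.unop) (h.app U.unop s) :
      Γ((Scheme.Modules.pushforward h).obj F, U.unop))) (fun a b => by simp only [map_add]; rfl)
  d_mul {U} a c := by
    change D.app (h ⁻¹ᵁ U.unop) (h.app U.unop (a * c)) = _
    rw [map_mul, der_mul]
    rfl
  d_map {U V} i s := by
    change D.app (h ⁻¹ᵁ V.unop) (h.app V.unop (X.presheaf.map i s)) =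
      F.presheaf.map ((Opens.map h.base).map i.unop).op (D.app (h ⁻¹ᵁ U.unop) (h.app U.unop s))
    rw [← der_map]
    congr 1
    exact congr($(h.naturality i) s)
  d_app {V} c := by
    change D.app (h ⁻¹ᵁ (f ⁻¹ᵁ V.unop)) (h.app (f ⁻¹ᵁ V.unop) (f.app V.unop c)) = 0
    rw [app_square h hsq, der_appLE]

theorem push_app (hsq : f' ≫ b = h ≫ f) {F : X'.Modules} (D : Der f' F) (U : X.Opens) (s : Γ(X, U)) :
    (push h hsq D).app U s = D.app (h ⁻¹ᵁ U) (h.app U s) :=
  rfl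

theorem homEquiv_app {M : X.Modules} {N : X'.Modules} (c : (Scheme.Modules.pullback h).obj M ⟶ N)
    (U : X.Opens) (t : Γ(M, U)) :
    ((Scheme.Modules.pullbackPushforwardAdjunction h).homEquiv M N c).app U t =
      c.app (h ⁻¹ᵁ U) (pullSect h M U t) := by
  rw [Adjunction.homEquiv_unit]
  rfl

theorem isDiffCompat_iff (hsq : f' ≫ b = h ≫ f) {Ω₁ : X.Modules} {Ω₂ : X'.Modules} (d₁ : Der f Ω₁)
    (d₂ : Der f' Ω₂) (c : (Scheme.Modules.pullback h).obj Ω₁ ⟶ Ω₂) :
    IsDiffCompat h d₁ d₂ c ↔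
      d₁.postcomp ((Scheme.Modules.pullbackPushforwardAdjunction h).homEquiv _ _ c).val =
        push h hsq d₂ := by
  rw [postcomp_eq_iff]
  refine forall_congr' fun U => forall_congr' fun s => ?_
  rw [homEquiv_app, push_app]
  rfl

theorem existsUnique_diffCompat (hsq : f' ≫ b = h ≫ f) {Ω₁ : X.Modules} {d₁ : Der f Ω₁}
    (hd₁ : IsUniversal d₁) {Ω₂ : X'.Modules} (d₂ : Der f' Ω₂) :
    ∃! c : (Scheme.Modules.pullback h).obj Ω₁ ⟶ Ω₂, IsDiffCompat h d₁ d₂ c := by
  simp_rw [isDiffCompat_iff h hsq]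
  exact ((Scheme.Modules.pullbackPushforwardAdjunction h).homEquiv _ _).bijective.existsUnique_iff.mp
    (hd₁ _ (push h hsq d₂))

end Push

end Groth.Agent.Omega.Basic
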