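import Groth.Agent.PullStalk.Basic
import Groth.Agent.PullStalk.Exact
import Groth.Agent.Omega.Basic
import Mathlib.RingTheory.Kaehler.Basic
import Mathlib.CategoryTheory.Abelian.Basic

/-!
# Working with modules, derivations and ideals on stalks
-/

set_option autoImplicit false

universe u

open CategoryTheory CategoryTheory.Limits AlgebraicGeometry TopologicalSpace Opposite

noncomputable section

namespace Groth.Agent.Omega.Stalks

open OmegaSh Basic
open Groth.Agent.PullStalk.Sky Groth.Agent.PullStalk.Exact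

variable {X : Scheme.{u}} {M N P : X.Modules}

theorem stalkLin_comp (φ : M ⟶ N) (ψ : N ⟶ P) (x : X) (t : M.presheaf.stalk x) :
    stalkLin (φ ≫ ψ) x t = stalkLin ψ x (stalkLin φ x t) := by
  obtain ⟨U, hx, m, rfl⟩ := exists_germM_eq M x t
  rw [stalkLin_germ, stalkLin_germ, stalkLin_germ]
  rfl

theorem stalkLin_zero (x : X) (t : M.presheaf.stalk x) : stalkLin (0 : M ⟶ N) x t = 0 := by
  obtain ⟨U, hx, m, rfl⟩ := exists_germM_eq M x t
  rw [stalkLin_germ]
  exact map_zero (N.presheaf.germ U x hx).hom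

theorem hom_ext_stalk {φ ψ : M ⟶ N} (h : ∀ x, stalkLin φ x = stalkLin ψ x) : φ = ψ := by
  ext U m
  refine TopCat.Presheaf.section_ext (⟨N.presheaf, N.isSheaf⟩ : TopCat.Sheaf Ab X) U _ _ fun x hx => ?_
  change germM N U x hx (φ.app U m) = germM N U x hx (ψ.app U m)
  rw [← stalkLin_germ, ← stalkLin_germ, h x]

theorem mono_of_stalk {φ : M ⟶ N} (h : ∀ x, Function.Injective (stalkLin φ x)) : Mono φ :=
  Preadditive.mono_of_cancel_zero φ fun g hg => hom_ext_stalk fun x => LinearMap.ext fun t => by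
    refine h x ?_
    rw [← stalkLin_comp, hg, stalkLin_zero, stalkLin_zero, map_zero]

theorem epi_of_stalk {φ : M ⟶ N} (h : ∀ x, Function.Surjective (stalkLin φ x)) : Epi φ :=
  Preadditive.epi_of_cancel_zero φ fun g hg => hom_ext_stalk fun x => LinearMap.ext fun t => by
    obtain ⟨s, rfl⟩ := h x t
    rw [← stalkLin_comp, hg, stalkLin_zero, stalkLin_zero]

theorem isIso_of_stalk {φ : M ⟶ N} (h : ∀ x, Function.Bijective (stalkLin φ x)) : IsIso φ :=
  have := mono_of_stalk fun x => (h x).1
  have := epi_of_stalk fun x => (h x).2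
  isIso_of_mono_of_epi φ

theorem stalkLin_injective_of_mono (φ : M ⟶ N) [Mono φ] (x : X) :
    Function.Injective (stalkLin φ x) :=
  (stalk_exact (S := ShortComplex.mk φ (cokernel.π φ) (cokernel.condition φ))
    ⟨ShortComplex.exact_of_g_is_cokernel _ (cokernelIsCokernel φ)⟩ x).1

theorem exact_of_stalk (S : ShortComplex X.Modules)
    (h : ∀ x, LinearMap.ker (stalkLin S.g x) ≤ LinearMap.range (stalkLin S.f x)) : S.Exact := by
  rw [S.exact_iff_epi_kernel_lift]
  refine epi_of_stalk fun x t => ?_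
  have ht : stalkLin S.g x (stalkLin (kernel.ι S.g) x t) = 0 := by
    rw [← stalkLin_comp, kernel.condition, stalkLin_zero]
  obtain ⟨u, hu⟩ := h x ht
  refine ⟨u, stalkLin_injective_of_mono (kernel.ι S.g) x ?_⟩
  rw [← stalkLin_comp, kernel.lift_ι]
  exact hu

/-! ## Derivations on stalks -/

section Der

variable {Y : Scheme.{u}} {f : X ⟶ Y} {F : X.Modules}

/-- A derivation gives a derivation of stalks. -/
theorem exists_stalkDer (D : Der f F) (x : X) :
    ∃ δ : X.presheaf.stalk x →+ F.presheaf.stalk x,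
      (∀ a b, δ (a * b) = a • δ b + b • δ a) ∧ (∀ c, δ (f.stalkMap x c) = 0) ∧
        ∀ U (hx : x ∈ U) s, δ (X.presheaf.germ U x hx s) = germM F U x hx (D.app U s) := by
  have key : ∀ (a : X.presheaf.stalk x), ∃! t : F.presheaf.stalk x,
      ∀ U (hx : x ∈ U) s, X.presheaf.germ U x hx s = a → germM F U x hx (D.app U s) = t := by
    intro a
    obtain ⟨U, hx, s, rfl⟩ := X.presheaf.exists_germ_eq (x := x) a
    refine ⟨germM F U x hx (D.app U s), fun V hV s' hs => ?_, fun t ht => (ht U hx s rfl).symm⟩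
    obtain ⟨W, hW, iV, iU, e⟩ := X.presheaf.germ_eq x hV hx s' s hs
    change F.presheaf.germ V x hV (D.app V s') = F.presheaf.germ U x hx (D.app U s)
    rw [← F.presheaf.germ_res_apply iV x hW, ← F.presheaf.germ_res_apply iU x hW, ← der_map, ← der_map, e]
  choose δ hδ huniq using key
  have hgerm : ∀ U (hx : x ∈ U) s, δ (X.presheaf.germ U x hx s) = germM F U x hx (D.app U s) :=
    fun U hx s => (hδ _ U hx s rfl).symm
  have two : ∀ a b : X.presheaf.stalk x, ∃ (U : X.Opens) (hx : x ∈ U) (s t : Γ(X, U)),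
      X.presheaf.germ U x hx s = a ∧ X.presheaf.germ U x hx t = b := by
    intro a b
    obtain ⟨U, hU, s, rfl⟩ := X.presheaf.exists_germ_eq (x := x) a
    obtain ⟨V, hV, t, rfl⟩ := X.presheaf.exists_germ_eq (x := x) b
    exact ⟨U ⊓ V, ⟨hU, hV⟩, _, _, X.presheaf.germ_res_apply (homOfLE inf_le_left) x ⟨hU, hV⟩ s,
      X.presheaf.germ_res_apply (homOfLE inf_le_right) x ⟨hU, hV⟩ t⟩
  refine ⟨AddMonoidHom.mk' δ fun a b => ?_, fun a b => ?_, fun c => ?_, hgerm⟩
  · obtain ⟨U, hx, s, t, rfl, rfl⟩ := two a b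
    rw [← map_add, hgerm, hgerm, hgerm, map_add]
    exact map_add (F.presheaf.germ U x hx).hom _ _
  · obtain ⟨U, hx, s, t, rfl, rfl⟩ := two a b
    change δ _ = _ • δ _ + _ • δ _
    rw [← map_mul, hgerm, hgerm, hgerm, der_mul]
    exact (map_add (F.presheaf.germ U x hx).hom _ _).trans
      (congr_arg₂ (· + ·) (germM_smul F U x hx _ _) (germM_smul F U x hx _ _))
  · obtain ⟨V, hV, c, rfl⟩ := Y.presheaf.exists_germ_eq (x := f x) c
    change δ _ = 0
    rw [Scheme.Hom.germ_stalkMap_apply]
    refine (hgerm (f ⁻¹ᵁ V) hV (f.app V c)).trans ?_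
    rw [der_app]
    exact map_zero (F.presheaf.germ (f ⁻¹ᵁ V) x hV).hom

variable (f) in
/-- A derivation of the local ring gives a derivation into the skyscraper. -/
def derSky (x : X) (N : Type u) [AddCommGroup N] [Module (X.presheaf.stalk x) N]
    (δ : X.presheaf.stalk x →+ N) (hmul : ∀ a b, δ (a * b) = a • δ b + b • δ a)
    (hzero : ∀ c, δ (f.stalkMap x c) = 0) : Der f (sky x N) where
  d {U} := AddMonoidHom.mk' (fun (s : Γ(X, U.unop)) (h : PLift (x ∈ U.unop)) =>
      δ (X.presheaf.germ U.unop x h.down s)) fun a b => funext fun h => by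
        change δ (X.presheaf.germ U.unop x h.down (a + b)) =
          δ (X.presheaf.germ U.unop x h.down a) + δ (X.presheaf.germ U.unop x h.down b)
        simp only [map_add]
  d_mul {U} a b := funext fun h => by
    change δ (X.presheaf.germ U.unop x h.down (a * b)) =
      X.presheaf.germ U.unop x h.down a • δ (X.presheaf.germ U.unop x h.down b) +
        X.presheaf.germ U.unop x h.down b • δ (X.presheaf.germ U.unop x h.down a)
    rw [map_mul, hmul]
  d_map {U V} i s := funext fun h => congrArg δ (X.presheaf.germ_res_apply i.unop x h.down s)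
  d_app {V} c := funext fun h => by
    change δ (X.presheaf.germ (f ⁻¹ᵁ V.unop) x h.down (f.app V.unop c)) = 0
    rw [← Scheme.Hom.germ_stalkMap_apply f V.unop x h.down c]
    exact hzero _

/-- The stalk of a universal derivation is universal. -/
theorem exists_stalk_universal {Ω : X.Modules} {d : Der f Ω} (hd : IsUniversal d) (x : X) :
    ∃ δ : X.presheaf.stalk x →+ Ω.presheaf.stalk x,
      (∀ a b, δ (a * b) = a • δ b + b • δ a) ∧ (∀ c, δ (f.stalkMap x c) = 0) ∧
      (∀ U (hx : x ∈ U) s, δ (X.presheaf.germ U x hx s) = germM Ω U x hx (d.app U s)) ∧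
      ∀ (N : Type u) [AddCommGroup N] [Module (X.presheaf.stalk x) N] (e : X.presheaf.stalk x →+ N),
        (∀ a b, e (a * b) = a • e b + b • e a) → (∀ c, e (f.stalkMap x c) = 0) →
          ∃! l : Ω.presheaf.stalk x →ₗ[X.presheaf.stalk x] N, ∀ a, l (δ a) = e a := by
  obtain ⟨δ, h₁, h₂, h₃⟩ := exists_stalkDer d x
  refine ⟨δ, h₁, h₂, h₃, fun N _ _ e he₁ he₂ => ?_⟩
  refine ⟨ofSky (desc hd (derSky f x N e he₁ he₂)), fun a => ?_, fun l hl => ?_⟩
  · obtain ⟨U, hx, s, rfl⟩ := X.presheaf.exists_germ_eq (x := x) a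
    rw [h₃, ofSky_germ]
    exact congr_fun (desc_app hd (derSky f x N e he₁ he₂) U s) ⟨hx⟩
  · have : toSky l = desc hd (derSky f x N e he₁ he₂) := hom_ext_of_universal hd fun U s => by
      rw [desc_app]
      funext h
      refine (toSky_app l U (d.app U s) h).trans ?_
      rw [← h₃ U h.down s, hl]
      rfl
    refine LinearMap.ext fun t => ?_
    obtain ⟨U, hx, m, rfl⟩ := exists_germM_eq Ω x t
    rw [ofSky_germ, ← this]
    exact (toSky_app l U m ⟨hx⟩).symm

end Der

/-! ## The ideal sheaf on stalks -/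

section Ideal

variable {Z : Scheme.{u}} (i : Z ⟶ X)

theorem toSubscheme_eq_zero_iff [QuasiCompact i] (U : X.Opens) (t : Γ(X, U)) :
    i.ker.subschemeι.app U t = 0 ↔ i.app U t = 0 := by
  have hloc : ∀ (T : Scheme.{u}) (p : T ⟶ X), p.app U t = 0 ↔
      ∀ W : X.affineOpens, ∀ h : W.1 ≤ U, p.app W.1 (X.presheaf.map (homOfLE h).op t) = 0 := by
    intro T p
    have hnat : ∀ (W : X.affineOpens) (h : W.1 ≤ U), p.app W.1 (X.presheaf.map (homOfLE h).op t) =
        T.presheaf.map (homOfLE (p.preimage_mono h)).op (p.app U t) := fun W h =>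
      congr($(p.naturality (homOfLE h).op) t)
    refine ⟨fun h W hW => by rw [hnat, h, map_zero], fun h => ?_⟩
    refine TopCat.Sheaf.eq_of_locally_eq' T.sheaf (fun W : {W : X.affineOpens // W.1 ≤ U} => p ⁻¹ᵁ W.1.1)
      (p ⁻¹ᵁ U) (fun W => homOfLE (p.preimage_mono W.2)) (fun y hy => ?_) _ _ fun W => ?_
    · obtain ⟨_, ⟨W, hW, rfl⟩, hyW, hWU⟩ :=
        X.isBasis_affineOpens.exists_subset_of_mem_open (show p y ∈ U from hy) U.isOpen
      exact Opens.mem_iSup.mpr ⟨⟨⟨W, hW⟩, hWU⟩, hyW⟩
    · exact ((hnat W.1 W.2).symm.trans (h W.1 W.2)).trans (map_zero _).symm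
  rw [hloc, hloc]
  refine forall_congr' fun W => forall_congr' fun h => ?_
  rw [← RingHom.mem_ker, i.ker.ker_subschemeι_app, Scheme.Hom.ker_apply, RingHom.mem_ker]

theorem app_idealSect [QuasiCompact i] (U : X.Opens) (s : Γ(ClSub.idealMod i.ker, U)) :
    i.app U (idealSect i.ker U s) = 0 := by
  rw [← toSubscheme_eq_zero_iff]
  have := congrArg (fun φ => Scheme.Modules.Hom.app φ U s) (kernel.condition (ClSub.toSubscheme i.ker))
  exact this

theorem exists_idealSect_eq [QuasiCompact i] (U : X.Opens) (t : Γ(X, U)) (h : i.app U t = 0) :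
    ∃ s : Γ(ClSub.idealMod i.ker, U), idealSect i.ker U s = t := by
  refine ⟨kerLift (ClSub.toSubscheme i.ker) U (strSect X U t) ((toSubscheme_eq_zero_iff i U t).mpr h), ?_⟩
  exact congrArg (fnSect X U) (ι_kerLift _ U _ _)

theorem idealSect_injective (I : X.IdealSheafData) (U : X.Opens) :
    Function.Injective (idealSect I U) :=
  fun _ _ h => idealModι_app_injective U I h

theorem idealSect_smul (I : X.IdealSheafData) (U : X.Opens) (r : Γ(X, U)) (s : Γ(ClSub.idealMod I, U)) :
    idealSect I U (r • s) = r * idealSect I U s :=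
  congrArg (fnSect X U) (Scheme.Modules.Hom.app_smul (ClSub.idealModι I) r s)

theorem idealSect_map (I : X.IdealSheafData) {U V : X.Opens} (e : V ⟶ U) (s : Γ(ClSub.idealMod I, U)) :
    idealSect I V ((ClSub.idealMod I).presheaf.map e.op s) = X.presheaf.map e.op (idealSect I U s) :=
  congr($((Scheme.Modules.Hom.mapPresheaf (ClSub.idealModι I)).naturality e.op) s)

/-- The ideal sheaf at `x`, as germs of functions. -/
def idealStalk (I : X.IdealSheafData) (x : X) :
    (ClSub.idealMod I).presheaf.stalk x →ₗ[X.presheaf.stalk x] X.presheaf.stalk x :=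
  ofSky (⟨PresheafOfModules.homMk
    { app := fun U => AddCommGrpCat.ofHom (AddMonoidHom.mk' (G := PLift (x ∈ U.unop) → X.presheaf.stalk x)
        (fun (s : Γ(ClSub.idealMod I, U.unop)) h => X.presheaf.germ U.unop x h.down (idealSect I U.unop s))
        fun a b => funext fun h =>
          (congrArg _ (map_add (idealSect I U.unop) a b)).trans (map_add (X.presheaf.germ U.unop x h.down).hom _ _))
      naturality := fun {U V} e => by
        ext s
        funext h
        exact (congrArg _ (idealSect_map I e.unop s)).trans (X.presheaf.germ_res_apply e.unop x h.down _) }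
    (fun U r s => funext fun h =>
      (congrArg _ (idealSect_smul I U.unop r s)).trans
        (map_mul (X.presheaf.germ U.unop x h.down).hom r (idealSect I U.unop s)))⟩ :
    ClSub.idealMod I ⟶ sky x (X.presheaf.stalk x))

theorem idealStalk_germ (I : X.IdealSheafData) (x : X) (U : X.Opens) (hx : x ∈ U)
    (s : Γ(ClSub.idealMod I, U)) :
    idealStalk I x (germM _ U x hx s) = X.presheaf.germ U x hx (idealSect I U s) :=
  ofSky_germ _ U hx s

theorem idealStalk_injective (I : X.IdealSheafData) (x : X) : Function.Injective (idealStalk I x) := by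
  refine (injective_iff_map_eq_zero _).mpr fun t ht => ?_
  obtain ⟨U, hx, s, rfl⟩ := exists_germM_eq _ x t
  rw [idealStalk_germ] at ht
  obtain ⟨W, hW, iU, iU', e⟩ := X.presheaf.germ_eq x hx hx (idealSect I U s) 0 (ht.trans (map_zero _).symm)
  have : (ClSub.idealMod I).presheaf.map iU.op s = 0 := idealSect_injective I W (by
    rw [idealSect_map, e, map_zero, map_zero])
  refine (((ClSub.idealMod I).presheaf.germ_res_apply iU x hW s).symm.trans ?_)
  rw [this]
  exact map_zero _

/-- The stalk of the ideal sheaf of `i` at `i z` is the kernel of the map of local rings. -/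
theorem range_idealStalk [QuasiCompact i] (hi : Topology.IsInducing i) (z : Z) :
    Set.range (idealStalk i.ker (i z)) = {a | i.stalkMap z a = 0} := by
  refine Set.Subset.antisymm ?_ fun a ha => ?_
  · rintro _ ⟨t, rfl⟩
    obtain ⟨U, hx, s, rfl⟩ := exists_germM_eq _ (i z) t
    change i.stalkMap z _ = 0
    rw [idealStalk_germ, Scheme.Hom.germ_stalkMap_apply, app_idealSect, map_zero]
  · obtain ⟨U, hx, t, rfl⟩ := X.presheaf.exists_germ_eq (x := i z) a
    change i.stalkMap z _ = 0 at ha
    rw [Scheme.Hom.germ_stalkMap_apply] at ha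
    obtain ⟨V, hV, iV, iV', e⟩ := Z.presheaf.germ_eq z (show z ∈ i ⁻¹ᵁ U from hx) (show z ∈ i ⁻¹ᵁ U from hx) (i.app U t) 0 (ha.trans (map_zero _).symm)
    obtain ⟨O, hO, hOV⟩ := hi.isOpen_iff.mp V.isOpen
    let W : X.Opens := ⟨O, hO⟩ ⊓ U
    have hpre : i ⁻¹ᵁ W ≤ V := fun y hy => by
      have : y ∈ i ⁻¹' O := hy.1
      rwa [hOV] at this
    have hzW : i z ∈ W := ⟨(hOV.ge hV : z ∈ i ⁻¹' O), hx⟩
    have h0 : i.app W (X.presheaf.map (homOfLE (inf_le_right : W ≤ U)).op t) = 0 := by
      have hnat : i.app W (X.presheaf.map (homOfLE (inf_le_right : W ≤ U)).op t) =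
          Z.presheaf.map (homOfLE (i.preimage_mono (inf_le_right : W ≤ U))).op (i.app U t) :=
        congr($(i.naturality (homOfLE (inf_le_right : W ≤ U)).op) t)
      rw [hnat, show (homOfLE (i.preimage_mono (inf_le_right : W ≤ U))) = homOfLE hpre ≫ iV from rfl,
        op_comp, Functor.map_comp, ConcreteCategory.comp_apply, e, map_zero, map_zero]
    obtain ⟨s, hs⟩ := exists_idealSect_eq i W _ h0
    exact ⟨germM _ W (i z) hzW s, by
      rw [idealStalk_germ, hs, X.presheaf.germ_res_apply]⟩

end Ideal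

end Groth.Agent.Omega.Stalks

end
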