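import Groth.Agent.Omega.SpecDer
import Mathlib.AlgebraicGeometry.Morphisms.RingHomProperties

/-!
# Affine charts for universal derivations

On a chart `Spec B ⟶ X` over `Spec A ⟶ Y` a universal derivation restricts to `Ω[B⁄A]~`.
-/

set_option autoImplicit false

universe u

open CategoryTheory CategoryTheory.Limits AlgebraicGeometry TopologicalSpace Opposite

namespace Groth.Agent.Omega.Chart

open OmegaSh Basic

variable {X Y : Scheme.{u}} (f : X ⟶ Y)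

theorem fromSpec_comp {U : Y.Opens} (hU : IsAffineOpen U) {V : X.Opens} (hV : IsAffineOpen V)
    (e : V ≤ f ⁻¹ᵁ U) :
    letI := (f.appLE U V e).hom.toAlgebra
    hV.fromSpec ≫ f = SpecDer.π Γ(Y, U) Γ(X, V) ≫ hU.fromSpec :=
  (hU.SpecMap_appLE_fromSpec f hV e).symm

theorem exists_affine_pair (x : X) {W : X.Opens} (hx : x ∈ W) :
    ∃ (U : Y.Opens) (_ : IsAffineOpen U) (V : X.Opens) (_ : IsAffineOpen V),
      x ∈ V ∧ V ≤ W ∧ V ≤ f ⁻¹ᵁ U := by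
  obtain ⟨_, ⟨U, hU, rfl⟩, hxU, -⟩ :=
    Y.isBasis_affineOpens.exists_subset_of_mem_open (Set.mem_univ (f x)) isOpen_univ
  obtain ⟨_, ⟨V, hV, rfl⟩, hxV, hVW⟩ :=
    X.isBasis_affineOpens.exists_subset_of_mem_open (show x ∈ W ⊓ f ⁻¹ᵁ U from ⟨hx, hxU⟩)
      (W ⊓ f ⁻¹ᵁ U).isOpen
  exact ⟨U, hU, V, hV, hxV, fun y hy => (hVW hy).1, fun y hy => (hVW hy).2⟩

variable {f}
variable {A B : Type u} [CommRing A] [CommRing B] [Algebra A B]
  {j : Spec (CommRingCat.of B) ⟶ X} [IsOpenImmersion j]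
  {v : Spec (CommRingCat.of A) ⟶ Y} [IsOpenImmersion v]

theorem exists_universal_over_chart (hcomm : SpecDer.π A B ≫ v = j ≫ f) {Ω : X.Modules}
    {d : Der f Ω} (hd : IsUniversal d) :
    ∃ d₀ : Der (SpecDer.π A B) (Ω.restrict j),
      IsUniversal d₀ ∧ ∀ W s, d₀.app W s = (Restrict.resDer j d).app W s :=
  Restrict.isUniversal_of_mono_base v (SpecDer.π A B) hcomm (Restrict.isUniversal_resDer j hd)

theorem exists_iso_tilde (hcomm : SpecDer.π A B ≫ v = j ≫ f) {Ω : X.Modules} {d : Der f Ω}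
    (hd : IsUniversal d) :
    ∃ e : tilde (SpecDer.omegaMod A B) ≅ Ω.restrict j,
      ∀ b : B, e.hom.app ⊤ (SpecDer.sect A B (KaehlerDifferential.D A B b)) =
        (Restrict.resDer j d).app ⊤ (SpecDer.γ B b) := by
  obtain ⟨dt, hdt, hdt'⟩ := SpecDer.exists_isUniversal A B
  obtain ⟨d₀, hd₀, hd₀'⟩ := exists_universal_over_chart hcomm hd
  refine ⟨uniqueIso hdt hd₀, fun b => ?_⟩
  rw [← hdt', uniqueIso_hom_app, hd₀']

theorem isZero_of_forall_chart {Ω : X.Modules}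
    (h : ∀ x : X, ∃ (U : Scheme.{u}) (j : U ⟶ X) (_ : IsOpenImmersion j),
      x ∈ Set.range j ∧ IsZero (Ω.restrict j)) : IsZero Ω := by
  refine (IsZero.iff_id_eq_zero Ω).mpr (Scheme.Modules.hom_ext _ _ fun W => ?_)
  ext s
  choose U j hj hx hz using fun x : W => h x.1
  refine TopCat.Sheaf.eq_of_locally_eq' ⟨Ω.presheaf, Ω.isSheaf⟩
    (fun x : W => (j x) ''ᵁ ((j x) ⁻¹ᵁ W)) W (fun x => homOfLE ((j x).image_preimage_le W)) ?_ _ _
    fun x => ?_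
  · intro y hy
    obtain ⟨y', hy'⟩ := hx ⟨y, hy⟩
    exact Opens.mem_iSup.mpr ⟨⟨y, hy⟩, ⟨y', show (j ⟨y, hy⟩) y' ∈ W by rw [hy']; exact hy, hy'⟩⟩
  · have := hj x
    have h0 : ((𝟙 (Ω.restrict (j x)) : _ ⟶ _).app ((j x) ⁻¹ᵁ W)) = 0 := by
      rw [(hz x).eq_of_src (𝟙 (Ω.restrict (j x))) 0]
      rfl
    have key : ∀ t : Γ(Ω, (j x) ''ᵁ ((j x) ⁻¹ᵁ W)), t = 0 := fun t => congr($h0 t)
    rw [key (Ω.presheaf.map _ _), key (Ω.presheaf.map _ _)]

end Groth.Agent.Omega.Chart
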