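import Groth.Agent.Omega.SmoothHom
import Groth.Agent.Omega.Chart
import Mathlib.RingTheory.RingHom.Smooth

/-!
# Stalks of formally smooth morphisms are formally smooth
-/

set_option autoImplicit false

universe u

open CategoryTheory CategoryTheory.Limits AlgebraicGeometry TopologicalSpace Opposite

namespace Groth.Agent.Omega.StalkSmooth

variable {X Y : Scheme.{u}}

theorem formallySmooth_stalkMap {f : X ⟶ Y} (hf : MoreMor.IsFormallySmoothHom f) (x : X) :
    letI := (f.stalkMap x).hom.toAlgebra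
    Algebra.FormallySmooth (Y.presheaf.stalk (f x)) (X.presheaf.stalk x) := by
  let := (f.stalkMap x).hom.toAlgebra
  obtain ⟨U, hU, V, hV, hxV, -, e⟩ := Chart.exists_affine_pair f x (W := ⊤) (Set.mem_univ _)
  let := (f.appLE U V e).hom.toAlgebra
  have hfs : Algebra.FormallySmooth Γ(Y, U) Γ(X, V) :=
    SmoothHom.formallySmooth_of_hom hf (Chart.fromSpec_comp f hU hV e).symm
  let : Algebra Γ(X, V) (X.presheaf.stalk x) := TopCat.Presheaf.algebra_section_stalk X.presheaf ⟨x, hxV⟩
  let : Algebra Γ(Y, U) (Y.presheaf.stalk (f x)) :=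
    TopCat.Presheaf.algebra_section_stalk Y.presheaf ⟨f x, e hxV⟩
  let : Algebra Γ(Y, U) (X.presheaf.stalk x) :=
    ((algebraMap Γ(X, V) (X.presheaf.stalk x)).comp (f.appLE U V e).hom).toAlgebra
  have : IsScalarTower Γ(Y, U) Γ(X, V) (X.presheaf.stalk x) := IsScalarTower.of_algebraMap_eq fun _ => rfl
  have : IsScalarTower Γ(Y, U) (Y.presheaf.stalk (f x)) (X.presheaf.stalk x) :=
    IsScalarTower.of_algebraMap_eq fun a => by
      change X.presheaf.germ V x hxV (f.appLE U V e a) = f.stalkMap x (Y.presheaf.germ U (f x) (e hxV) a)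
      refine Eq.trans ?_ (Scheme.Hom.germ_stalkMap_apply f U x (e hxV) a).symm
      change X.presheaf.germ V x hxV (X.presheaf.map (homOfLE e).op (f.app U a)) = _
      exact X.presheaf.germ_res_apply (homOfLE e) x hxV _
  have : IsLocalization.AtPrime (X.presheaf.stalk x) (hV.primeIdealOf ⟨x, hxV⟩).asIdeal :=
    hV.isLocalization_stalk ⟨x, hxV⟩
  have : IsLocalization.AtPrime (Y.presheaf.stalk (f x)) (hU.primeIdealOf ⟨f x, e hxV⟩).asIdeal :=
    hU.isLocalization_stalk ⟨f x, e hxV⟩
  have : Algebra.FormallySmooth Γ(X, V) (X.presheaf.stalk x) :=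
    Algebra.FormallySmooth.of_isLocalization (hV.primeIdealOf ⟨x, hxV⟩).asIdeal.primeCompl
  have : Algebra.FormallySmooth Γ(Y, U) (X.presheaf.stalk x) :=
    Algebra.FormallySmooth.comp Γ(Y, U) Γ(X, V) (X.presheaf.stalk x)
  exact Algebra.FormallySmooth.localization_base (hU.primeIdealOf ⟨f x, e hxV⟩).asIdeal.primeCompl

theorem formallySmooth_stalkMap_of_smooth (f : X ⟶ Y) [Smooth f] (x : X) :
    letI := (f.stalkMap x).hom.toAlgebra
    Algebra.FormallySmooth (Y.presheaf.stalk (f x)) (X.presheaf.stalk x) :=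
  f.smoothLocus_eq_top.ge (Set.mem_univ x)

end Groth.Agent.Omega.StalkSmooth
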