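import Groth.Agent.Omega.Basic
import Mathlib.Algebra.Category.ModuleCat.Differentials.Presheaf
import Mathlib.Algebra.Category.ModuleCat.Presheaf.Sheafification

/-!
# Every morphism of schemes has a universal derivation

The presheaf of Kähler differentials of `Γ(X, U)` over the subring generated by the functions of the base is
universal among presheaves; its sheafification is universal among sheaves of modules.
-/

set_option autoImplicit false

universe u

open CategoryTheory CategoryTheory.Limits AlgebraicGeometry TopologicalSpace Opposite

namespace Groth.Agent.Omega.Exists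

open OmegaSh Basic

variable {X Y : Scheme.{u}} (f : X ⟶ Y)

/-- The subring of `Γ(X, U)` generated by the functions coming from `Y`. -/
noncomputable def base (U : X.Opens) : Subring Γ(X, U) :=
  Subring.closure {s | ∃ (V : Y.Opens) (e : U ≤ f ⁻¹ᵁ V) (c : Γ(Y, V)), f.appLE V U e c = s}

theorem map_mem_base {U U' : X.Opens} (i : U' ⟶ U) {s : Γ(X, U)} (hs : s ∈ base f U) :
    X.presheaf.map i.op s ∈ base f U' := by
  have h : base f U ≤ (base f U').comap (X.presheaf.map i.op).hom := by
    refine Subring.closure_le.mpr ?_
    rintro _ ⟨V, e, c, rfl⟩
    refine Subring.subset_closure ⟨V, i.le.trans e, c, ?_⟩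
    rw [← ConcreteCategory.comp_apply, Scheme.Hom.appLE_map]
  exact h hs

/-- The presheaf of rings of functions coming from `Y`. -/
noncomputable def basePresheaf : X.Opensᵒᵖ ⥤ CommRingCat.{u} where
  obj U := CommRingCat.of (base f U.unop)
  map {U V} i := CommRingCat.ofHom ((X.presheaf.map i).hom.restrict (base f U.unop) (base f V.unop)
    fun _ hs => map_mem_base f i.unop hs)
  map_id U := by
    ext s
    change X.presheaf.map (𝟙 U) s.1 = s.1
    simp
  map_comp i j := by
    ext s
    change X.presheaf.map (i ≫ j) s.1 = X.presheaf.map j (X.presheaf.map i s.1)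
    simp

/-- The inclusion into the structure presheaf. -/
noncomputable def baseι : basePresheaf f ⟶ X.presheaf where
  app U := CommRingCat.ofHom (base f U.unop).subtype

/-- The universal presheaf of differentials. -/
noncomputable abbrev pre : X.PresheafOfModules :=
  PresheafOfModules.DifferentialsConstruction.relativeDifferentials' (baseι f)

/-- The sheaf of differentials. -/
noncomputable def omega : X.Modules :=
  (PresheafOfModules.sheafification (𝟙 X.ringCatSheaf.obj)).obj (pre f)

/-- Sheafification as a bijection of Hom sets. -/
noncomputable def homEquiv (F : X.Modules) : (omega f ⟶ F) ≃ (pre f ⟶ F.val) :=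
  PresheafOfModules.sheafificationHomEquiv (𝟙 X.ringCatSheaf.obj)

/-- The unit. -/
noncomputable def unit : pre f ⟶ (omega f).val := homEquiv f (omega f) (𝟙 (omega f))

theorem homEquiv_app {F : X.Modules} (α : omega f ⟶ F) :
    homEquiv f F α = unit f ≫ α.val := by
  apply (PresheafOfModules.toPresheaf _).map_injective
  refine (PresheafOfModules.toPresheaf_map_sheafificationHomEquiv_def (𝟙 X.ringCatSheaf.obj) α).trans ?_
  rfl

variable {f}

theorem der_vanish {F : X.Modules} (D : Der f F) {U : X.Opens} {s : Γ(X, U)} (hs : s ∈ base f U) :
    D.app U s = 0 := by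
  induction hs using Subring.closure_induction with
  | mem x hx => obtain ⟨V, e, c, rfl⟩ := hx; exact der_appLE D V U e c
  | zero => simp
  | one => exact der_one D U
  | add a b _ _ ha hb => simp [ha, hb]
  | neg a _ ha => simp [ha]
  | mul a b _ _ ha hb => simp [der_mul, ha, hb]

/-- A derivation over `Y` is a derivation over the base presheaf. -/
noncomputable def toDer' {F : X.Modules} (D : Der f F) :
    F.val.Derivation' (baseι f) where
  d {U} := D.app U.unop
  d_mul {U} a b := der_mul D U.unop a b
  d_map i s := der_map D i.unop s
  d_app {U} c := der_vanish D c.2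

variable (f)

/-- A derivation over the base presheaf is a derivation over `Y`. -/
noncomputable def ofDer' {F : X.Modules} (D : F.val.Derivation' (baseι f)) : Der f F where
  d {U} := D.d (X := U)
  d_mul {U} a b := D.d_mul a b
  d_map i s := D.d_map i s
  d_app {V} c := by
    have hc : f.app V.unop c ∈ base f (f ⁻¹ᵁ V.unop) :=
      Subring.subset_closure ⟨V.unop, le_rfl, c, by rw [Scheme.Hom.app_eq_appLE]⟩
    exact D.d_app (X := op (f ⁻¹ᵁ V.unop)) ⟨f.app V.unop c, hc⟩

/-- The universal derivation. -/
noncomputable def d : Der f (omega f) :=
  ofDer' f ((PresheafOfModules.DifferentialsConstruction.derivation' (baseι f)).postcomp (unit f))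

theorem isUniversal_d : IsUniversal (d f) := by
  intro F D
  have hu := PresheafOfModules.DifferentialsConstruction.isUniversal' (baseι f)
  have he : ∀ α : omega f ⟶ F, (d f).postcomp α.val = D ↔ homEquiv f F α = hu.desc (toDer' D) := by
    intro α
    constructor
    · intro h
      refine hu.postcomp_injective _ _ (Eq.trans ?_ (hu.fac (toDer' D)).symm)
      rw [homEquiv_app]
      refine PresheafOfModules.Derivation.ext ?_
      ext U s
      exact congr(Der.app $h U.unop s)
    · intro h
      rw [homEquiv_app] at h
      refine der_ext fun U s => ?_
      have := congr(((PresheafOfModules.DifferentialsConstruction.derivation' (baseι f)).postcomp $h).d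
        (X := op U) s)
      exact this.trans (PresheafOfModules.Derivation.congr_d (hu.fac (toDer' D)) (X := op U) s)
  exact (existsUnique_congr he).mpr ((homEquiv f F).bijective.existsUnique _)

theorem exists_isUniversal : ∃ (Ω : X.Modules) (d : Der f Ω), IsUniversal d :=
  ⟨omega f, d f, isUniversal_d f⟩

end Groth.Agent.Omega.Exists
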