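import Groth.Agent.Omega.ThickSeq
import Groth.Agent.Omega.Exists
import Mathlib.Algebra.TrivSqZeroExt.Basic
import Mathlib.AlgebraicGeometry.Morphisms.Separated

/-!
# The conormal sheaf of the diagonal carries a universal derivation
-/

set_option autoImplicit false

universe u

open CategoryTheory CategoryTheory.Limits AlgebraicGeometry TopologicalSpace Opposite

noncomputable section

namespace Groth.Agent.Omega.DiagUniv

open OmegaSh Basic Stalks StalkConormal StalkSeq StalkAlg ThickSeq
open Groth.Agent.PullStalk.Sky Groth.Agent.PullStalk.Exact Groth.Agent.PullStalk.Basic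

variable {X Y : Scheme.{u}} (f : X ⟶ Y)

theorem square (p : pullback f f ⟶ X) (hp : pullback.diagonal f ≫ p = 𝟙 X) :
    (𝟙 X) ≫ (𝟙 X) = pullback.diagonal f ≫ p := by
  rw [hp, Category.id_comp]

/-- A projection on the local rings at a point of the diagonal. -/
abbrev pr (p : pullback f f ⟶ X) (hp : pullback.diagonal f ≫ p = 𝟙 X) (x : X) :
    X.presheaf.stalk x ⟶ (pullback f f).presheaf.stalk (pullback.diagonal f x) :=
  σ (square f p hp) x

theorem pr_comp (p : pullback f f ⟶ X) (hp : pullback.diagonal f ≫ p = 𝟙 X) (x : X) :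
    pr f p hp x ≫ (pullback.diagonal f).stalkMap x = 𝟙 _ := by
  refine hom_eq_of_fromSpecStalk ?_
  rw [Spec.map_comp, Category.assoc, show Spec.map (pr f p hp x) ≫ X.fromSpecStalk x = _ from
    SpecMap_σ_fromSpecStalk (square f p hp) x, Scheme.SpecMap_stalkMap_fromSpecStalk_assoc, hp, Spec.map_id,
    Category.id_comp, Category.comp_id]

/-- `pr₂♯ b - pr₁♯ b`. -/
def diff (x : X) (b : X.presheaf.stalk x) : (pullback f f).presheaf.stalk (pullback.diagonal f x) :=
  pr f _ (pullback.diagonal_snd f) x b - pr f _ (pullback.diagonal_fst f) x b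

theorem diff_mem (x : X) (b : X.presheaf.stalk x) :
    diff f x b ∈ RingHom.ker ((pullback.diagonal f).stalkMap x).hom := by
  rw [RingHom.mem_ker, diff, map_sub, sub_eq_zero]
  exact congr($(pr_comp f _ (pullback.diagonal_snd f) x) b).trans
    congr($(pr_comp f _ (pullback.diagonal_fst f) x) b).symm

theorem ker_eq_span (x : X) :
    RingHom.ker ((pullback.diagonal f).stalkMap x).hom = Ideal.span (Set.range (diff f x)) := by
  refine le_antisymm (fun a ha => ?_) (Ideal.span_le.mpr (by rintro _ ⟨b, rfl⟩; exact diff_mem f x b))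
  let L := Ideal.span (Set.range (diff f x))
  let R : CommRingCat.{u} := CommRingCat.of (_ ⧸ L)
  let mk : (pullback f f).presheaf.stalk (pullback.diagonal f x) ⟶ R :=
    CommRingCat.ofHom (Ideal.Quotient.mk L)
  let π := (pullback.diagonal f).stalkMap x
  let s₁ := pr f _ (pullback.diagonal_fst f) x
  let s₂ := pr f _ (pullback.diagonal_snd f) x
  have h₁₂ : s₂ ≫ mk = s₁ ≫ mk := CommRingCat.hom_ext (RingHom.ext fun b =>
    Ideal.Quotient.eq.mpr (Ideal.subset_span ⟨b, rfl⟩))
  let q : Spec R ⟶ pullback f f := Spec.map mk ≫ (pullback f f).fromSpecStalk _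
  have hq : ∀ (p : pullback f f ⟶ X) (hp : pullback.diagonal f ≫ p = 𝟙 X),
      q ≫ p = Spec.map (pr f p hp x ≫ mk) ≫ X.fromSpecStalk x := fun p hp => by
    rw [Category.assoc, ← SpecMap_σ_fromSpecStalk (square f p hp) x, Spec.map_comp, Category.assoc]
    rfl
  have hfac : mk = π ≫ s₁ ≫ mk := hom_eq_of_fromSpecStalk (by
    change q = _
    rw [Spec.map_comp, Category.assoc, Scheme.SpecMap_stalkMap_fromSpecStalk, ← Category.assoc]
    refine pullback.hom_ext ?_ ?_
    · refine (hq _ (pullback.diagonal_fst f)).trans ?_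
      exact ((Category.assoc _ _ _).trans ((congrArg _ (pullback.diagonal_fst f)).trans (Category.comp_id _))).symm
    · refine (hq _ (pullback.diagonal_snd f)).trans ((congrArg (fun g => Spec.map g ≫ X.fromSpecStalk x) h₁₂).trans ?_)
      exact ((Category.assoc _ _ _).trans ((congrArg _ (pullback.diagonal_snd f)).trans (Category.comp_id _))).symm)
  exact Ideal.Quotient.eq_zero_iff_mem.mp
    ((congr($hfac a)).trans ((congrArg (s₁ ≫ mk).hom ha).trans (map_zero _)))

/-- A derivation as a ring map. -/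
def derHom {C N : Type u} [CommRing C] [AddCommGroup N] [Module C N] [Module Cᵐᵒᵖ N] [IsCentralScalar C N]
    (e : C →+ N) (he : ∀ a b, e (a * b) = a • e b + b • e a) : C →+* TrivSqZeroExt C N where
  toFun a := TrivSqZeroExt.inl a + TrivSqZeroExt.inr (e a)
  map_one' := by
    have he1 : e 1 = 0 := by simpa using he 1 1
    ext <;> simp [he1]
  map_mul' a b := by ext <;> simp [he]
  map_zero' := by ext <;> simp
  map_add' a b := by ext <;> simp

theorem exists_universal_stalk [QuasiSeparated f] (x : X) :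
    ∃ δ : X.presheaf.stalk x →+ (Omega.sheaf f).presheaf.stalk x,
      (∀ a b, δ (a * b) = a • δ b + b • δ a) ∧ (∀ c, δ (f.stalkMap x c) = 0) ∧
      (∀ U (hx : x ∈ U) s, δ (X.presheaf.germ U x hx s) = germM _ U x hx ((dOmega f).app U s)) ∧
      ∀ (N : Type u) [AddCommGroup N] [Module (X.presheaf.stalk x) N] (e : X.presheaf.stalk x →+ N),
        (∀ a b, e (a * b) = a • e b + b • e a) → (∀ c, e (f.stalkMap x c) = 0) →
          ∃! l : (Omega.sheaf f).presheaf.stalk x →ₗ[X.presheaf.stalk x] N, ∀ a, l (δ a) = e a := by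
  obtain ⟨δ, hmul, hzero, hgerm⟩ := exists_stalkDer (dOmega f) x
  obtain ⟨κ, hκsmul, hκ, hP⟩ := exists_conormal (pullback.diagonal f) x
    (pullback.diagonal f).isEmbedding.isInducing
  have hδ : ∀ b, δ b = κ ⟨diff f x b, diff_mem f x b⟩ := fun b => by
    obtain ⟨U, hx, s, rfl⟩ := X.presheaf.exists_germ_eq (x := x) b
    have hxn : pullback.diagonal f x ∈ diagNbhd f U := le_preimage_diagNbhd f U hx
    have hg : ∀ (p : pullback f f ⟶ X) (hp : pullback.diagonal f ≫ p = 𝟙 X) (e : diagNbhd f U ≤ p ⁻¹ᵁ U),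
        pr f p hp x (X.presheaf.germ U x hx s) =
          (pullback f f).presheaf.germ (diagNbhd f U) _ hxn (p.appLE U (diagNbhd f U) e s) := fun p hp e => by
      refine (σ_germ (square f p hp) x U hx s).trans ?_
      exact ((pullback f f).presheaf.germ_res_apply (homOfLE e) _ hxn (p.app U s)).symm
    have hd : diff f x (X.presheaf.germ U x hx s) = (pullback f f).presheaf.germ (diagNbhd f U) _ hxn
        (idealSect (pullback.diagonal f).ker (diagNbhd f U) (idealLift f U s)) := by
      rw [diff, hg _ _ inf_le_right, hg _ _ inf_le_left, ← map_sub, idealSect_apply, ι_idealLift]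
      rfl
    rw [hgerm]
    refine Eq.trans ?_ ((congrArg κ (Subtype.ext hd : (⟨_, diff_mem f x _⟩ : RingHom.ker _) =
      ⟨_, hd ▸ diff_mem f x _⟩)).trans (hκ (diagNbhd f U) hxn (idealLift f U s) _)).symm
    exact TopCat.Presheaf.germ_res_apply
      ((Scheme.Modules.pullback (pullback.diagonal f)).obj (ClSub.idealMod (pullback.diagonal f).ker)).presheaf
      (homOfLE (le_preimage_diagNbhd f U)) x hx _
  refine ⟨δ, hmul, hzero, hgerm, fun N _ _ e he he₀ => ?_⟩
  -- uniqueness: the differences generate the kernel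
  have hext : ∀ l l' : (Omega.sheaf f).presheaf.stalk x →ₗ[X.presheaf.stalk x] N,
      (∀ a, l (δ a) = l' (δ a)) → l = l' := fun l l' h => IsKerUniv.hom_ext hP hκsmul fun a => by
    obtain ⟨a, ha⟩ := a
    have ha' := (ker_eq_span f x).le ha
    suffices H : ∀ h', l (κ ⟨a, h'⟩) = l' (κ ⟨a, h'⟩) from H ha
    clear ha
    induction ha' using Submodule.span_induction with
    | mem y hy =>
      intro h'
      obtain ⟨b, rfl⟩ := hy
      rw [← hδ]
      exact h b
    | zero =>
      intro h'
      rw [show (⟨0, h'⟩ : RingHom.ker ((pullback.diagonal f).stalkMap x).hom) = 0 from rfl, map_zero]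
      exact (map_zero l).trans (map_zero l').symm
    | add y₁ y₂ hy₁ hy₂ ih₁ ih₂ =>
      intro h'
      have h₁ := (ker_eq_span f x).ge hy₁
      have h₂ := (ker_eq_span f x).ge hy₂
      rw [show (⟨y₁ + y₂, h'⟩ : RingHom.ker ((pullback.diagonal f).stalkMap x).hom) = ⟨y₁, h₁⟩ + ⟨y₂, h₂⟩
        from rfl, map_add]
      exact (map_add l _ _).trans ((congr_arg₂ (· + ·) (ih₁ h₁) (ih₂ h₂)).trans (map_add l' _ _).symm)
    | smul r y hy ih =>
      intro h'
      rw [show (⟨r • y, h'⟩ : RingHom.ker ((pullback.diagonal f).stalkMap x).hom) =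
        r • ⟨y, (ker_eq_span f x).ge hy⟩ from rfl, hκsmul]
      exact (map_smul l _ _).trans ((congrArg _ (ih _)).trans (map_smul l' _ _).symm)
  -- existence
  let C := X.presheaf.stalk x
  let : Module Cᵐᵒᵖ N := Module.compHom _ ((RingHom.id C).fromOpposite mul_comm)
  have : IsCentralScalar C N := ⟨fun c m => rfl⟩
  let R := CommRingCat.of (TrivSqZeroExt C N)
  let ε : R ⟶ C := CommRingCat.ofHom (TrivSqZeroExt.fstHom C C N).toRingHom
  let φ₁ : C ⟶ R := CommRingCat.ofHom (TrivSqZeroExt.inlHom C N)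
  let φ₂ : C ⟶ R := CommRingCat.ofHom (derHom (C := X.presheaf.stalk x) (N := N) e he)
  have hφ₁ε : φ₁ ≫ ε = 𝟙 _ := CommRingCat.hom_ext (RingHom.ext fun a => by
    change TrivSqZeroExt.fst (TrivSqZeroExt.inl a : TrivSqZeroExt C N) = a
    simp)
  have hφ₂ε : φ₂ ≫ ε = 𝟙 _ := CommRingCat.hom_ext (RingHom.ext fun a => by
    change TrivSqZeroExt.fst (TrivSqZeroExt.inl a + TrivSqZeroExt.inr (e a)) = a
    simp)
  have hfφ : f.stalkMap x ≫ φ₁ = f.stalkMap x ≫ φ₂ := CommRingCat.hom_ext (RingHom.ext fun c => by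
    change (TrivSqZeroExt.inl (f.stalkMap x c) : TrivSqZeroExt C N) =
      TrivSqZeroExt.inl (f.stalkMap x c) + TrivSqZeroExt.inr (e (f.stalkMap x c))
    rw [he₀]
    simp)
  have hloc : IsLocalHom ε.hom := ⟨fun a ha => TrivSqZeroExt.isUnit_iff_isUnit_fst.mpr ha⟩
  have : IsLocalRing R := RingHom.domain_isLocalRing ε.hom
  let m : Spec R ⟶ pullback f f := pullback.lift (Spec.map φ₁ ≫ X.fromSpecStalk x)
    (Spec.map φ₂ ≫ X.fromSpecStalk x) (by
      rw [Category.assoc, Category.assoc, ← Scheme.SpecMap_stalkMap_fromSpecStalk, ← Category.assoc,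
        ← Category.assoc, ← Spec.map_comp, ← Spec.map_comp, hfφ])
  have hm : Spec.map ε ≫ m = X.fromSpecStalk x ≫ pullback.diagonal f := by
    refine pullback.hom_ext ?_ ?_
    · rw [Category.assoc, pullback.lift_fst, Category.assoc, pullback.diagonal_fst, ← Category.assoc,
        ← Spec.map_comp, hφ₁ε, Spec.map_id, Category.id_comp, Category.comp_id]
    · rw [Category.assoc, pullback.lift_snd, Category.assoc, pullback.diagonal_snd, ← Category.assoc,
        ← Spec.map_comp, hφ₂ε, Spec.map_id, Category.id_comp, Category.comp_id]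
  have hcp : m (IsLocalRing.closedPoint R) = pullback.diagonal f x := by
    have h₁ : m (Spec.map ε (IsLocalRing.closedPoint C)) =
        pullback.diagonal f (X.fromSpecStalk x (IsLocalRing.closedPoint C)) :=
      congr($hm (IsLocalRing.closedPoint C))
    rw [Scheme.fromSpecStalk_closedPoint] at h₁
    exact (congrArg m (IsLocalRing.comap_closedPoint ε.hom).symm).trans h₁
  let ψ : (pullback f f).presheaf.stalk (pullback.diagonal f x) ⟶ R :=
    (pullback f f).presheaf.stalkSpecializes (Specializes.of_eq hcp) ≫ Scheme.stalkClosedPointTo m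
  have hψ : Spec.map ψ ≫ (pullback f f).fromSpecStalk _ = m := by
    rw [Spec.map_comp, Category.assoc, Scheme.SpecMap_stalkSpecializes_fromSpecStalk]
    exact Scheme.Spec_stalkClosedPointTo_fromSpecStalk m
  have hψε : ψ ≫ ε = (pullback.diagonal f).stalkMap x := hom_eq_of_fromSpecStalk (by
    rw [Spec.map_comp, Category.assoc, hψ, hm, Scheme.SpecMap_stalkMap_fromSpecStalk])
  have hψp : ∀ (p : pullback f f ⟶ X) (hp : pullback.diagonal f ≫ p = 𝟙 X) (φ : C ⟶ R),
      m ≫ p = Spec.map φ ≫ X.fromSpecStalk x → pr f p hp x ≫ ψ = φ := fun p hp φ h => by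
    refine hom_eq_of_fromSpecStalk ?_
    rw [Spec.map_comp, Category.assoc, show Spec.map (pr f p hp x) ≫ X.fromSpecStalk x = _ from
      SpecMap_σ_fromSpecStalk (square f p hp) x, ← Category.assoc, hψ, h]
  have hfst : ∀ a, TrivSqZeroExt.fst (ψ a) = (pullback.diagonal f).stalkMap x a := fun a => congr($hψε a)
  let k : RingHom.ker ((pullback.diagonal f).stalkMap x).hom →+ N :=
    AddMonoidHom.mk' (fun a => TrivSqZeroExt.snd (ψ a.1)) fun a b =>
      (congrArg TrivSqZeroExt.snd (map_add ψ.hom a.1 b.1)).trans (TrivSqZeroExt.snd_add _ _)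
  have hk : ∀ b a, k (b • a) = (pullback.diagonal f).stalkMap x b • k a := fun b a => by
    change TrivSqZeroExt.snd (ψ (b * a.1)) = _ • TrivSqZeroExt.snd (ψ a.1)
    rw [map_mul]
    refine (TrivSqZeroExt.snd_mul _ _).trans ?_
    rw [hfst, hfst, op_smul_eq_smul, show (pullback.diagonal f).stalkMap x a.1 = 0 from a.2]
    exact (congrArg (_ + ·) (zero_smul C _)).trans (add_zero _)
  obtain ⟨l, hl, -⟩ := hP N k hk
  have hle : ∀ a, l (δ a) = e a := fun a => by
    rw [hδ, hl]
    change TrivSqZeroExt.snd (ψ (diff f x a)) = e a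
    rw [diff, map_sub]
    refine (TrivSqZeroExt.snd_sub _ _).trans ?_
    rw [show ψ (pr f _ (pullback.diagonal_snd f) x a) = φ₂ a from
        congr($(hψp _ (pullback.diagonal_snd f) φ₂ (pullback.lift_snd _ _ _)) a),
      show ψ (pr f _ (pullback.diagonal_fst f) x a) = φ₁ a from
        congr($(hψp _ (pullback.diagonal_fst f) φ₁ (pullback.lift_fst _ _ _)) a)]
    change TrivSqZeroExt.snd (TrivSqZeroExt.inl a + TrivSqZeroExt.inr (e a)) -
      TrivSqZeroExt.snd (TrivSqZeroExt.inl a : TrivSqZeroExt C N) = e a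
    simp
  exact ⟨l, hle, fun l' hl' => hext l' l fun a => (hl' a).trans (hle a).symm⟩

theorem isUniversal_dOmega [QuasiSeparated f] : IsUniversal (dOmega f) := by
  obtain ⟨Ω, d, hd⟩ := Exists.exists_isUniversal f
  let α := desc hd (dOmega f)
  have : IsIso α := isIso_of_stalk fun x => by
    obtain ⟨δ₁, hmul₁, hzero₁, hgerm₁, hu₁⟩ := exists_stalk_universal hd x
    obtain ⟨δ₂, hmul₂, hzero₂, hgerm₂, hu₂⟩ := exists_universal_stalk f x
    have hα : ∀ a, stalkLin α x (δ₁ a) = δ₂ a := fun a => by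
      obtain ⟨U, hx, s, rfl⟩ := X.presheaf.exists_germ_eq (x := x) a
      rw [hgerm₁, hgerm₂]
      exact (stalkLin_germ α U x hx _).trans (congrArg _ (desc_app hd (dOmega f) U s))
    obtain ⟨l, hl, -⟩ := hu₂ _ δ₁ hmul₁ hzero₁
    refine ⟨Function.LeftInverse.injective (g := l) fun t => ?_,
      Function.LeftInverse.surjective (g := l) fun t => ?_⟩
    · have e : l ∘ₗ stalkLin α x = LinearMap.id :=
        (hu₁ _ δ₁ hmul₁ hzero₁).unique (fun a => (congrArg l (hα a)).trans (hl a)) fun a => rfl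
      exact congr($e t)
    · have e : stalkLin α x ∘ₗ l = LinearMap.id :=
        (hu₂ _ δ₂ hmul₂ hzero₂).unique (fun a => (congrArg _ (hl a)).trans (hα a)) fun a => rfl
      exact congr($e t)
  intro F D
  refine ⟨inv α ≫ desc hd D, (postcomp_eq_iff _ _ _).mpr fun U s => ?_, fun β hβ => ?_⟩
  · rw [← desc_app hd (dOmega f) U s]
    change ((α ≫ inv α) ≫ desc hd D).app U (d.app U s) = _
    rw [IsIso.hom_inv_id, Category.id_comp, desc_app]
  · rw [← cancel_epi α, IsIso.hom_inv_id_assoc]
    refine hom_ext_of_universal hd fun U s => ?_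
    change β.app U (α.app U (d.app U s)) = _
    rw [desc_app, desc_app]
    exact (postcomp_eq_iff _ _ _).mp hβ U s

end Groth.Agent.Omega.DiagUniv

end
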