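import Groth.Agent.Omega.LiftAffine
import Groth.Prelude.Def_MoreMor
import Mathlib.RingTheory.Smooth.Basic
import Mathlib.RingTheory.Etale.Kaehler

/-!
# Formally smooth morphisms and extension of derivations
-/

set_option autoImplicit false

universe u

open CategoryTheory CategoryTheory.Limits AlgebraicGeometry TopologicalSpace Opposite

namespace Groth.Agent.Omega.SmoothHom

variable {X Y : Scheme.{u}} {f : X ⟶ Y} {A B : Type u} [CommRing A] [CommRing B] [Algebra A B]
  {j : Spec (CommRingCat.of B) ⟶ X} [IsOpenImmersion j] {v : Spec (CommRingCat.of A) ⟶ Y} [Mono v]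

/-- A chart of a formally smooth morphism is a formally smooth algebra. -/
theorem formallySmooth_of_hom (hf : MoreMor.IsFormallySmoothHom f)
    (hcomm : SpecDer.π A B ≫ v = j ≫ f) : Algebra.FormallySmooth A B := by
  refine Algebra.FormallySmooth.of_comp_surjective fun C _ _ I hI φ => ?_
  let q : Spec (CommRingCat.of (C ⧸ I)) ⟶ Spec (CommRingCat.of C) :=
    Spec.map (CommRingCat.ofHom (Ideal.Quotient.mk I))
  let a : Spec (CommRingCat.of (C ⧸ I)) ⟶ Spec (CommRingCat.of B) :=
    Spec.map (CommRingCat.ofHom φ.toRingHom)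
  let b : Spec (CommRingCat.of C) ⟶ Spec (CommRingCat.of A) :=
    Spec.map (CommRingCat.ofHom (algebraMap A C))
  have hab : a ≫ SpecDer.π A B = q ≫ b := by
    change Spec.map _ ≫ Spec.map _ = Spec.map _ ≫ Spec.map _
    rw [← Spec.map_comp, ← Spec.map_comp]
    congr 1
    ext x
    exact φ.commutes x
  obtain ⟨l, hl₁, hl₂⟩ := hf C I hI (a ≫ j) (b ≫ v)
    (by rw [Category.assoc, ← hcomm, ← Category.assoc a, hab, Category.assoc])
  have hsurj : Function.Surjective q := fun p => by
    have hp : I ≤ p.asIdeal := p.2.le_of_pow_le (n := 2) (hI ▸ bot_le)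
    have : p ∈ Set.range (PrimeSpectrum.comap (Ideal.Quotient.mk I)) := by
      rw [range_comap_of_surjective _ _ Ideal.Quotient.mk_surjective, Ideal.mk_ker]
      exact hp
    exact this
  have hrange : Set.range l ⊆ Set.range j := by
    rintro _ ⟨p, rfl⟩
    obtain ⟨r, rfl⟩ := hsurj p
    exact ⟨a r, by rw [← Scheme.Hom.comp_apply, ← Scheme.Hom.comp_apply, hl₁]⟩
  let m := IsOpenImmersion.lift j l hrange
  have hm₁ : q ≫ m = a := by rw [← cancel_mono j, Category.assoc, IsOpenImmersion.lift_fac, hl₁]
  have hm₂ : m ≫ SpecDer.π A B = b := by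
    rw [← cancel_mono v, Category.assoc, hcomm, IsOpenImmersion.lift_fac_assoc, hl₂]
  obtain ⟨ψ, hψ⟩ := Spec.map_surjective m
  have e₁ : ψ ≫ CommRingCat.ofHom (Ideal.Quotient.mk I) = CommRingCat.ofHom φ.toRingHom :=
    Spec.map_injective (by rw [Spec.map_comp, hψ]; exact hm₁)
  have e₂ : CommRingCat.ofHom (algebraMap A B) ≫ ψ = CommRingCat.ofHom (algebraMap A C) :=
    Spec.map_injective (by rw [Spec.map_comp, hψ]; exact hm₂)
  exact ⟨{ ψ.hom with commutes' := fun x => congr($(e₂).hom x) },
    AlgHom.ext fun x => congr($(e₁).hom x)⟩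

omit [Algebra A B] in
/-- Derivations extend along formally smooth algebras. -/
theorem derExt_of_formallySmooth {C : Type u} [CommRing C] [Algebra A B] [Algebra B C] [Algebra A C]
    [IsScalarTower A B C] [Algebra.FormallySmooth B C] : LiftAffine.DerExt A B A C := by
  intro M _ _ _ _ _ _ δ
  let : Module Cᵐᵒᵖ M := Module.compHom _ ((RingHom.id C).fromOpposite mul_comm)
  have : IsCentralScalar C M := ⟨fun c x => rfl⟩
  let φ : B →+* TrivSqZeroExt C M :=
    { toFun := fun b => TrivSqZeroExt.inl (algebraMap B C b) + TrivSqZeroExt.inr (δ b)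
      map_one' := by ext <;> simp
      map_mul' := fun x y => by
        ext
        · simp
        · simp
      map_zero' := by ext <;> simp
      map_add' := fun x y => by ext <;> simp }
  let : Algebra B (TrivSqZeroExt C M) := φ.toAlgebra
  let g : TrivSqZeroExt C M →ₐ[B] C :=
    { (TrivSqZeroExt.fstHom C C M).toRingHom with
      commutes' := fun b => by
        change TrivSqZeroExt.fst (TrivSqZeroExt.inl (algebraMap B C b) + TrivSqZeroExt.inr (δ b)) = _
        simp }
  have hg : Function.Surjective g := fun c => ⟨TrivSqZeroExt.inl c, by simp [g]⟩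
  have hker : IsNilpotent (RingHom.ker (g : TrivSqZeroExt C M →+* C)) := by
    refine ⟨2, ?_⟩
    rw [pow_two, Submodule.zero_eq_bot, eq_bot_iff, Ideal.mul_le]
    intro x hx y hy
    have hx' : x.fst = 0 := hx
    have hy' : y.fst = 0 := hy
    rw [Ideal.mem_bot]
    ext <;> simp [hx', hy']
  let s := Algebra.FormallySmooth.liftOfSurjective (AlgHom.id B C) g hg hker
  have hs : ∀ c, (s c).fst = c := fun c =>
    Algebra.FormallySmooth.liftOfSurjective_apply (AlgHom.id B C) g hg hker c
  have hB : ∀ b, s (algebraMap B C b) = φ b := fun b => s.commutes b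
  refine ⟨AddMonoidHom.mk' (fun c => (s c).snd) fun a b => by simp, fun x y => ?_, fun a => ?_, fun b => ?_⟩
  · change (s (x * y)).snd = x • (s y).snd + y • (s x).snd
    simp [TrivSqZeroExt.snd_mul, hs]
  · change (s (algebraMap A C a)).snd = 0
    rw [IsScalarTower.algebraMap_apply A B C, hB]
    simp [φ]
  · change (s (algebraMap B C b)).snd = δ b
    rw [hB]
    simp [φ]

end Groth.Agent.Omega.SmoothHom
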