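import Groth.Agent.Omega.Charts
import Groth.Agent.Omega.Chart
import Groth.Agent.Omega.SmoothHom
import Mathlib.RingTheory.Spectrum.Prime.FreeLocus
import Mathlib.RingTheory.Extension.Cotangent.Basic
import Mathlib.AlgebraicGeometry.Morphisms.FiniteType
import Mathlib.AlgebraicGeometry.Morphisms.FinitePresentation

/-!
# Local structure of the sheaf of differentials
-/

set_option autoImplicit false

universe u

open CategoryTheory CategoryTheory.Limits AlgebraicGeometry TopologicalSpace Opposite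

namespace Groth.Agent.Omega.LocalStructure

open OmegaSh

variable {X Y : Scheme.{u}} {f : X ⟶ Y} {Ω : X.Modules} {d : Der f Ω}

theorem exists_tilde_iso (hd : IsUniversal d) {U : Y.Opens} (hU : IsAffineOpen U) {V : X.Opens}
    (hV : IsAffineOpen V) (e : V ≤ f ⁻¹ᵁ U) :
    letI := (f.appLE U V e).hom.toAlgebra
    Nonempty (tilde (SpecDer.omegaMod Γ(Y, U) Γ(X, V)) ≅ Ω.restrict hV.fromSpec) := by
  let := (f.appLE U V e).hom.toAlgebra
  obtain ⟨i, -⟩ := Chart.exists_iso_tilde (Chart.fromSpec_comp f hU hV e).symm hd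
  exact ⟨i⟩

/-- A finite projective `Ω` on a given chart is free on a smaller basic open. -/
theorem exists_free_of_chart (hd : IsUniversal d) {U : Y.Opens} (hU : IsAffineOpen U) {V : X.Opens}
    (hV : IsAffineOpen V) (e : V ≤ f ⁻¹ᵁ U) {x : X} (hxV : x ∈ V)
    (H : letI := (f.appLE U V e).hom.toAlgebra
      Module.Finite Γ(X, V) (KaehlerDifferential Γ(Y, U) Γ(X, V)) ∧
        Module.Projective Γ(X, V) (KaehlerDifferential Γ(Y, U) Γ(X, V))) :
    ∃ (r : Γ(X, V)) (e' : X.basicOpen r ≤ f ⁻¹ᵁ U),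
      letI := (f.appLE U (X.basicOpen r) e').hom.toAlgebra
      x ∈ X.basicOpen r ∧ Nontrivial Γ(X, X.basicOpen r) ∧
      Module.Finite Γ(X, X.basicOpen r) (KaehlerDifferential Γ(Y, U) Γ(X, X.basicOpen r)) ∧
        Module.Free Γ(X, X.basicOpen r) (KaehlerDifferential Γ(Y, U) Γ(X, X.basicOpen r)) ∧
          Nonempty (Ω.restrict (X.basicOpen r).ι ≅
            FlatMod.freeMod (↑(X.basicOpen r)) (Module.finrank Γ(X, X.basicOpen r)
              (KaehlerDifferential Γ(Y, U) Γ(X, X.basicOpen r)))) := by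
  let := (f.appLE U V e).hom.toAlgebra
  obtain ⟨hfin, hproj⟩ := H
  have hfp : Module.FinitePresentation Γ(X, V) (KaehlerDifferential Γ(Y, U) Γ(X, V)) :=
    Module.finitePresentation_of_projective _ _
  let p := hV.primeIdealOf ⟨x, hxV⟩
  have hp : p ∈ Module.freeLocus Γ(X, V) (KaehlerDifferential Γ(Y, U) Γ(X, V)) := by
    rw [Module.freeLocus_eq_univ]
    trivial
  have hp' : Module.Free _ _ := hp
  obtain ⟨r, hpr, hloc, -⟩ := Module.FinitePresentation.exists_free_localizedModule_powers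
    p.asIdeal.primeCompl
    (LocalizedModule.mkLinearMap p.asIdeal.primeCompl (KaehlerDifferential Γ(Y, U) Γ(X, V)))
    (Localization.AtPrime p.asIdeal)
  have hxr : x ∈ X.basicOpen r := by
    have := hV.fromSpec_preimage_basicOpen r
    have h2 : hV.fromSpec p ∈ X.basicOpen r := by
      change p ∈ hV.fromSpec ⁻¹ᵁ X.basicOpen r
      rw [this]
      exact hpr
    rwa [hV.fromSpec_primeIdealOf] at h2
  have hVr : X.basicOpen r ≤ f ⁻¹ᵁ U := (X.basicOpen_le r).trans e
  let := (f.appLE U (X.basicOpen r) hVr).hom.toAlgebra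
  let : Algebra Γ(X, V) Γ(X, X.basicOpen r) := (X.presheaf.map (homOfLE (X.basicOpen_le r)).op).hom.toAlgebra
  have : IsScalarTower Γ(Y, U) Γ(X, V) Γ(X, X.basicOpen r) := IsScalarTower.of_algebraMap_eq fun a => by
    change f.appLE U (X.basicOpen r) hVr a = (f.appLE U V e ≫ X.presheaf.map (homOfLE (X.basicOpen_le r)).op) a
    rw [Scheme.Hom.appLE_map]
  have : IsLocalization.Away r Γ(X, X.basicOpen r) := hV.isLocalization_basicOpen r
  have : Algebra.FormallyEtale Γ(X, V) Γ(X, X.basicOpen r) :=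
    Algebra.FormallyEtale.of_isLocalization (Submonoid.powers r)
  have hb := KaehlerDifferential.isBaseChange_of_formallyEtale Γ(Y, U) Γ(X, V) Γ(X, X.basicOpen r)
  have hfree : Module.Free Γ(X, X.basicOpen r) (KaehlerDifferential Γ(Y, U) Γ(X, X.basicOpen r)) := by
    let eR := IsLocalization.algEquiv (Submonoid.powers r) (Localization.Away r) Γ(X, X.basicOpen r)
    let : Algebra (Localization.Away r) Γ(X, X.basicOpen r) := eR.toAlgHom.toRingHom.toAlgebra
    have : IsScalarTower Γ(X, V) (Localization.Away r) Γ(X, X.basicOpen r) :=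
      IsScalarTower.of_algebraMap_eq fun a => (eR.commutes a).symm
    exact Module.Free.of_equiv
      ((((LocalizedModule.equivTensorProduct (Submonoid.powers r)
            (KaehlerDifferential Γ(Y, U) Γ(X, V))).baseChange
          (Localization.Away r) Γ(X, X.basicOpen r) _ _) ≪≫ₗ
        TensorProduct.AlgebraTensorModule.cancelBaseChange Γ(X, V) (Localization.Away r)
          Γ(X, X.basicOpen r) Γ(X, X.basicOpen r) _) ≪≫ₗ (hb).equiv)
  have hfin' : Module.Finite Γ(X, X.basicOpen r) (KaehlerDifferential Γ(Y, U) Γ(X, X.basicOpen r)) :=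
    .equiv hb.equiv
  have hnt : Nontrivial Γ(X, X.basicOpen r) := by
    refine (X.presheaf.germ (X.basicOpen r) x hxr).hom.domain_nontrivial
  obtain ⟨i⟩ := exists_tilde_iso hd hU (hV.basicOpen r) hVr
  exact ⟨r, hVr, hxr, hnt, hfin', hfree, Charts.exists_free_restrict Ω (hV.basicOpen r) _ i⟩

/-- A finite projective `Ω` is free near every point. -/
theorem exists_free_chart (hd : IsUniversal d) (x : X)
    (H : ∀ {U : Y.Opens} (_ : IsAffineOpen U) {V : X.Opens} (_ : IsAffineOpen V) (e : V ≤ f ⁻¹ᵁ U),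
      letI := (f.appLE U V e).hom.toAlgebra
      Module.Finite Γ(X, V) (KaehlerDifferential Γ(Y, U) Γ(X, V)) ∧
        Module.Projective Γ(X, V) (KaehlerDifferential Γ(Y, U) Γ(X, V))) :
    ∃ (U : Y.Opens) (V : X.Opens) (hV : IsAffineOpen V) (e : V ≤ f ⁻¹ᵁ U),
      letI := (f.appLE U V e).hom.toAlgebra
      IsAffineOpen U ∧ x ∈ V ∧ Nontrivial Γ(X, V) ∧
      Module.Finite Γ(X, V) (KaehlerDifferential Γ(Y, U) Γ(X, V)) ∧
        Module.Free Γ(X, V) (KaehlerDifferential Γ(Y, U) Γ(X, V)) ∧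
          Nonempty (Ω.restrict V.ι ≅
            FlatMod.freeMod (↑V) (Module.finrank Γ(X, V) (KaehlerDifferential Γ(Y, U) Γ(X, V)))) := by
  obtain ⟨U, hU, V, hV, hxV, -, e⟩ := Chart.exists_affine_pair f x (W := ⊤) (Set.mem_univ _)
  obtain ⟨r, e', hxr, hnt, hfin, hfree, hiso⟩ := exists_free_of_chart hd hU hV e hxV (H hU hV e)
  exact ⟨U, X.basicOpen r, hV.basicOpen r, e', hU, hxr, hnt, hfin, hfree, hiso⟩

theorem isFinLocFree_of_smooth (hd : IsUniversal d)
    (H : ∀ {U : Y.Opens} (_ : IsAffineOpen U) {V : X.Opens} (_ : IsAffineOpen V) (e : V ≤ f ⁻¹ᵁ U),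
      letI := (f.appLE U V e).hom.toAlgebra
      Module.Finite Γ(X, V) (KaehlerDifferential Γ(Y, U) Γ(X, V)) ∧
        Module.Projective Γ(X, V) (KaehlerDifferential Γ(Y, U) Γ(X, V))) :
    FlatMod.IsFinLocFree Ω := fun x => by
  obtain ⟨U, V, hV, e, -, hx, -, -, -, hiso⟩ := exists_free_chart hd x H
  exact ⟨V, _, hx, hiso⟩

end Groth.Agent.Omega.LocalStructure
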