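import Groth.Agent.Omega.Basic

/-!
# Universal derivations restrict along open immersions
-/

set_option autoImplicit false

universe u

open CategoryTheory CategoryTheory.Limits AlgebraicGeometry TopologicalSpace Opposite

namespace Groth.Agent.Omega.Restrict

open OmegaSh Basic

variable {X Y : Scheme.{u}} {f : X ⟶ Y} {U : Scheme.{u}} (j : U ⟶ X) [IsOpenImmersion j]

theorem appIso_inv_app (V : X.Opens) (s : Γ(X, V)) :
    (j.appIso (j ⁻¹ᵁ V)).inv (j.app V s) =
      X.presheaf.map (homOfLE (j.image_preimage_le V)).op s :=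
  congr($(j.app_appIso_inv V) s)

theorem appIso_inv_map {W W' : U.Opens} (i : W' ⟶ W) (s : Γ(U, W)) :
    (j.appIso W').inv (U.presheaf.map i.op s) =
      X.presheaf.map (j.opensFunctor.map i).op ((j.appIso W).inv s) :=
  congr($(j.appIso_inv_naturality i.op) s)

/-- A derivation restricted along an open immersion. -/
noncomputable def resDer {M : X.Modules} (d : Der f M) : Der (j ≫ f) (M.restrict j) where
  d {W} := AddMonoidHom.mk' (fun s => (d.app (j ''ᵁ W.unop) ((j.appIso W.unop).inv s) :
      Γ(M.restrict j, W.unop))) (fun a b => by simp only [map_add]; rfl)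
  d_mul {W} a b := by
    change d.app (j ''ᵁ W.unop) ((j.appIso W.unop).inv (a * b)) = _
    rw [map_mul, der_mul]
    rfl
  d_map {W W'} i s := by
    change d.app (j ''ᵁ W'.unop) ((j.appIso W'.unop).inv (U.presheaf.map i.unop.op s)) =
      M.presheaf.map (j.opensFunctor.map i.unop).op (d.app (j ''ᵁ W.unop) ((j.appIso W.unop).inv s))
    rw [appIso_inv_map, der_map]
  d_app {V} c := by
    change d.app (j ''ᵁ (j ⁻¹ᵁ (f ⁻¹ᵁ V.unop)))
      ((j.appIso (j ⁻¹ᵁ (f ⁻¹ᵁ V.unop))).inv (j.app (f ⁻¹ᵁ V.unop) (f.app V.unop c))) = 0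
    rw [appIso_inv_app, der_map, der_app, map_zero]

theorem resDer_app {M : X.Modules} (d : Der f M) (W : U.Opens) (s : Γ(U, W)) :
    (resDer j d).app W s = d.app (j ''ᵁ W) ((j.appIso W).inv s) :=
  rfl

omit [IsOpenImmersion j] in
theorem sq : (j ≫ f) ≫ 𝟙 Y = j ≫ f := Category.comp_id _

theorem push_injective {F : U.Modules} :
    Function.Injective (push (f := f) (f' := j ≫ f) j (b := 𝟙 Y) (sq j) (F := F)) := by
  intro D D' h
  refine der_ext fun W s => ?_
  have key : ∀ (E : Der (j ≫ f) F), E.app W s = F.presheaf.map (eqToHom (j.preimage_image_eq W).symm).op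
      (E.app (j ⁻¹ᵁ (j ''ᵁ W)) (j.app (j ''ᵁ W) ((j.appIso W).inv s))) := by
    intro E
    rw [← der_map]
    congr 1
    have := congr($(j.appIso W |>.inv_hom_id) s)
    rw [j.appIso_hom] at this
    exact this.symm
  rw [key D, key D', ← push_app j (sq j) D, ← push_app j (sq j) D', h]

theorem isUniversal_resDer {Ω : X.Modules} {d : Der f Ω} (hd : IsUniversal d) :
    IsUniversal (resDer j d) := by
  intro F D
  let e := (Scheme.Modules.restrictAdjunction j).homEquiv Ω F
  have he : ∀ α, (resDer j d).postcomp α.val = D ↔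
      d.postcomp (e α).val = push j (sq j) D := by
    intro α
    rw [← (push_injective j).eq_iff, postcomp_eq_iff]
    constructor
    · intro h V s
      have h' := congr($(h).app V s)
      rw [push_app, push_app, postcomp_app, resDer_app, appIso_inv_app, der_map] at h'
      rw [push_app, ← h']
      simp only [e, Adjunction.homEquiv_unit]
      rfl
    · intro h
      refine der_ext fun V s => ?_
      have h' := h V s
      rw [push_app] at h'
      rw [push_app, push_app, postcomp_app, resDer_app, appIso_inv_app, der_map, ← h']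
      simp only [e, Adjunction.homEquiv_unit]
      rfl
  simp_rw [he]
  exact (e.bijective.existsUnique_iff (p := fun α => d.postcomp α.val = push j (sq j) D)).mp
    (hd _ (push j (sq j) D))

/-- A derivation over `Y` killing the functions of an open immersion's target: change of base. -/
theorem isUniversal_of_mono_base {Y₀ : Scheme.{u}} (v : Y₀ ⟶ Y) [IsOpenImmersion v] (g : X ⟶ Y₀)
    (hg : g ≫ v = f) {Ω : X.Modules} {d : Der f Ω} (hd : IsUniversal d) :
    ∃ d₀ : Der g Ω, IsUniversal d₀ ∧ ∀ W s, d₀.app W s = d.app W s := by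
  subst hg
  let toV : ∀ (F : X.Modules), Der g F → Der (g ≫ v) F := fun F D =>
    { d := fun {W} => D.app W.unop
      d_mul := fun {W} a b => der_mul D W.unop a b
      d_map := fun {W W'} i s => der_map D i.unop s
      d_app := fun {V} c => der_app D (v ⁻¹ᵁ V.unop) (v.app V.unop c) }
  let ofV : ∀ (F : X.Modules), Der (g ≫ v) F → Der g F := fun F D =>
    { d := fun {W} => D.app W.unop
      d_mul := fun {W} a b => der_mul D W.unop a b
      d_map := fun {W W'} i s => der_map D i.unop s
      d_app := fun {V} c => by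
        obtain ⟨c', rfl⟩ : ∃ c' : Γ(Y, v ''ᵁ V.unop), v.appLE _ V.unop (v.preimage_image_eq _).ge c' = c :=
          ⟨(v.appIso V.unop).inv c, by
            rw [← v.appIso_hom' V.unop]; exact congr($((v.appIso V.unop).inv_hom_id) c)⟩
        change D.app (g ⁻¹ᵁ V.unop) (g.app V.unop (v.appLE (v ''ᵁ V.unop) V.unop _ c')) = 0
        have e : g ⁻¹ᵁ V.unop ≤ (g ≫ v) ⁻¹ᵁ (v ''ᵁ V.unop) :=
          (g.preimage_mono (v.preimage_image_eq _).ge)
        have h2 : g.app V.unop (v.appLE (v ''ᵁ V.unop) V.unop (v.preimage_image_eq _).ge c') =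
            (g ≫ v).appLE (v ''ᵁ V.unop) (g ⁻¹ᵁ V.unop) e c' := by
          rw [Scheme.Hom.app_eq_appLE, ← ConcreteCategory.comp_apply, Scheme.Hom.appLE_comp_appLE]
        rw [h2, der_appLE] }
  refine ⟨ofV Ω d, fun F D => ?_, fun W s => rfl⟩
  refine (existsUnique_congr fun α => ?_).mp (hd F (toV F D))
  simp only [postcomp_eq_iff]
  rfl

end Groth.Agent.Omega.Restrict
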