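import Groth.Agent.Omega.Transitivity
import Groth.Agent.Omega.Restrict

/-!
# When is `h^*Ω_{X/Y} → Ω_{X'/Y'}` an isomorphism, or split injective?

`ExtSurj f f' h`: every derivation `O_X → h_*F` over `Y` extends to one `O_{X'} → F` over `Y'`;
`ExtInj f f' h`: it does so in at most one way.
-/

set_option autoImplicit false

universe u

open CategoryTheory CategoryTheory.Limits AlgebraicGeometry TopologicalSpace Opposite

namespace Groth.Agent.Omega.Lift

open OmegaSh Basic

variable {X Y X' Y' : Scheme.{u}} (f : X ⟶ Y) (f' : X' ⟶ Y') (h : X' ⟶ X)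

/-- Derivations of `X'` are determined by their values on functions coming from `X`. -/
def ExtInj : Prop :=
  ∀ (F : X'.Modules) (D D' : Der f' F),
    (∀ U s, D.app (h ⁻¹ᵁ U) (h.app U s) = D'.app (h ⁻¹ᵁ U) (h.app U s)) → D = D'

/-- Derivations of `X` into a direct image extend to `X'`. -/
def ExtSurj : Prop :=
  ∀ (F : X'.Modules) (E : Der f ((Scheme.Modules.pushforward h).obj F)),
    ∃ D : Der f' F, ∀ U s, D.app (h ⁻¹ᵁ U) (h.app U s) = (E.app U s : Γ(F, h ⁻¹ᵁ U))

variable {f f' h} {Ω : X.Modules} {d : Der f Ω} {Ω' : X'.Modules} {d' : Der f' Ω'}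
  {c : (Scheme.Modules.pullback h).obj Ω ⟶ Ω'}

theorem exists_retraction (hS : ExtSurj f f' h) (hd : IsUniversal d) (hd' : IsUniversal d')
    (hc : IsDiffCompat h d d' c) :
    ∃ r : Ω' ⟶ (Scheme.Modules.pullback h).obj Ω, c ≫ r = 𝟙 _ ∧
      ∀ U s, r.app (h ⁻¹ᵁ U) (d'.app (h ⁻¹ᵁ U) (h.app U s)) = pullSect h Ω U (d.app U s) := by
  obtain ⟨D, hD⟩ := hS _ (d.postcomp ((Scheme.Modules.pullbackPushforwardAdjunction h).unit.app Ω).val)
  refine ⟨desc hd' D, Transitivity.hom_ext_pullback hd fun U s => ?_, fun U s => ?_⟩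
  · change (desc hd' D).app _ (c.app _ _) = _
    rw [hc U s, desc_app, hD U s]
    rfl
  · rw [desc_app, hD U s]
    rfl

theorem isIso_of_ext (hS : ExtSurj f f' h) (hI : ExtInj f' h) (hd : IsUniversal d)
    (hd' : IsUniversal d') (hc : IsDiffCompat h d d' c) : IsIso c := by
  obtain ⟨r, hr, hr'⟩ := exists_retraction hS hd hd' hc
  refine ⟨r, hr, ?_⟩
  have hD : (d'.postcomp (r ≫ c).val : Der f' Ω') = d' := hI _ _ _ fun U s => by
    rw [postcomp_app]
    change c.app _ (r.app _ _) = _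
    rw [hr' U s, hc U s]
  exact hom_ext_of_universal hd' fun U s => congr(Der.app $hD U s)

/-- A split: `c` is a monomorphism as soon as derivations extend. -/
theorem mono_of_extSurj (hS : ExtSurj f f' h) (hd : IsUniversal d) (hd' : IsUniversal d')
    (hc : IsDiffCompat h d d' c) : Mono c := by
  obtain ⟨r, hr, -⟩ := exists_retraction hS hd hd' hc
  exact mono_of_mono_fac hr

section Restrict

variable {U : Scheme.{u}} (j : U ⟶ X') [IsOpenImmersion j]

/-- Restricting a pullback is pulling back along the composite. -/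
noncomputable def θ (Ω : X.Modules) :
    ((Scheme.Modules.pullback h).obj Ω).restrict j ≅ (Scheme.Modules.pullback (j ≫ h)).obj Ω :=
  (Scheme.Modules.restrictFunctorIsoPullback j).app _ ≪≫ (Scheme.Modules.pullbackComp j h).app Ω

omit [IsOpenImmersion j] in
theorem pullbackComp_inv_pullSect (V : X.Opens) (m : Γ(Ω, V)) :
    ((Scheme.Modules.pullbackComp j h).inv.app Ω).app ((j ≫ h) ⁻¹ᵁ V) (pullSect (j ≫ h) Ω V m) =
      pullSect j ((Scheme.Modules.pullback h).obj Ω) (h ⁻¹ᵁ V) (pullSect h Ω V m) := by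
  have := unit_conjugateEquiv ((Scheme.Modules.pullbackPushforwardAdjunction h).comp
      (Scheme.Modules.pullbackPushforwardAdjunction j))
    (Scheme.Modules.pullbackPushforwardAdjunction (j ≫ h)) (Scheme.Modules.pullbackComp j h).inv Ω
  rw [Scheme.Modules.conjugateEquiv_pullbackComp_inv] at this
  exact congr(Scheme.Modules.Hom.app $this.symm V m)

theorem restrictIso_inv_pullSect (M : X'.Modules) (W : X'.Opens) (t : Γ(M, W)) :
    ((Scheme.Modules.restrictFunctorIsoPullback j).inv.app M).app (j ⁻¹ᵁ W) (pullSect j M W t) =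
      M.presheaf.map (homOfLE (j.image_preimage_le W)).op t := by
  have hu := Adjunction.unit_leftAdjointUniq_hom_app (Scheme.Modules.restrictAdjunction j)
    (Scheme.Modules.pullbackPushforwardAdjunction j) M
  have hi : (Scheme.Modules.restrictFunctorIsoPullback j).hom.app M ≫
      (Scheme.Modules.restrictFunctorIsoPullback j).inv.app M = 𝟙 _ := by
    rw [← NatTrans.comp_app, Iso.hom_inv_id]; rfl
  have e : pullSect j M W t = ((Scheme.Modules.restrictFunctorIsoPullback j).hom.app M).app (j ⁻¹ᵁ W)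
      (M.presheaf.map (homOfLE (j.image_preimage_le W)).op t) :=
    congr(Scheme.Modules.Hom.app $hu.symm W t)
  rw [e]
  exact congr(Scheme.Modules.Hom.app $hi (j ⁻¹ᵁ W) (M.presheaf.map (homOfLE (j.image_preimage_le W)).op t))

theorem θ_inv_pullSect (V : X.Opens) (m : Γ(Ω, V)) :
    (θ (h := h) j Ω).inv.app ((j ≫ h) ⁻¹ᵁ V) (pullSect (j ≫ h) Ω V m) =
      ((Scheme.Modules.pullback h).obj Ω).presheaf.map (homOfLE (j.image_preimage_le _)).op
        (pullSect h Ω V m) :=
  (congrArg (((Scheme.Modules.restrictFunctorIsoPullback j).inv.app _).app _)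
    (pullbackComp_inv_pullSect (h := h) j V m)).trans
      (restrictIso_inv_pullSect j ((Scheme.Modules.pullback h).obj Ω) (h ⁻¹ᵁ V) (pullSect h Ω V m))

theorem isDiffCompat_restrict (hc : IsDiffCompat h d d' c) :
    IsDiffCompat (j ≫ h) d (Restrict.resDer j d')
      ((θ (h := h) j Ω).inv ≫ (Scheme.Modules.restrictFunctor j).map c) := by
  intro V s
  refine (congrArg (((Scheme.Modules.restrictFunctor j).map c).app _)
    (θ_inv_pullSect (h := h) j V (d.app V s))).trans ?_
  change c.app (j ''ᵁ ((j ≫ h) ⁻¹ᵁ V)) _ = d'.app (j ''ᵁ ((j ≫ h) ⁻¹ᵁ V)) ((j.appIso _).inv ((j ≫ h).app V s))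
  have e : ((j.appIso ((j ≫ h) ⁻¹ᵁ V)).inv ((j ≫ h).app V s)) =
      X'.presheaf.map (homOfLE (j.image_preimage_le (h ⁻¹ᵁ V))).op (h.app V s) :=
    Restrict.appIso_inv_app j (h ⁻¹ᵁ V) (h.app V s)
  rw [e]
  have hnat := congr($((Scheme.Modules.Hom.mapPresheaf c).naturality
    (homOfLE (j.image_preimage_le (h ⁻¹ᵁ V))).op) (pullSect h Ω V (d.app V s)))
  refine hnat.trans ?_
  refine (congrArg (Ω'.presheaf.map _) (hc V s)).trans ?_
  exact (der_map d' _ _).symm

theorem isIso_restrict_of_ext (hS : ExtSurj f (j ≫ f') (j ≫ h)) (hI : ExtInj (j ≫ f') (j ≫ h))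
    (hd : IsUniversal d) (hd' : IsUniversal d') (hc : IsDiffCompat h d d' c) :
    IsIso ((Scheme.Modules.restrictFunctor j).map c) :=
  have := isIso_of_ext hS hI hd (Restrict.isUniversal_resDer j hd') (isDiffCompat_restrict j hc)
  IsIso.of_isIso_comp_left (θ (h := h) j Ω).inv _

theorem mono_restrict_of_extSurj (hS : ExtSurj f (j ≫ f') (j ≫ h))
    (hd : IsUniversal d) (hd' : IsUniversal d') (hc : IsDiffCompat h d d' c) :
    Mono ((Scheme.Modules.restrictFunctor j).map c) := by
  have := mono_of_extSurj hS hd (Restrict.isUniversal_resDer j hd') (isDiffCompat_restrict j hc)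
  have e : (Scheme.Modules.restrictFunctor j).map c =
      (θ (h := h) j Ω).hom ≫ ((θ (h := h) j Ω).inv ≫ (Scheme.Modules.restrictFunctor j).map c) := by simp
  rw [e]
  infer_instance

end Restrict

/-- Monomorphisms of modules are detected on an open cover. -/
theorem mono_of_local {M N : X'.Modules} (φ : M ⟶ N)
    (H : ∀ x : X', ∃ (U : Scheme.{u}) (j : U ⟶ X') (_ : IsOpenImmersion j),
      x ∈ Set.range j ∧ Mono ((Scheme.Modules.restrictFunctor j).map φ)) : Mono φ := by
  refine Preadditive.mono_of_cancel_zero φ fun {P} g hg => Scheme.Modules.hom_ext _ _ fun W => ?_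
  ext s
  choose U j hj hx hm using fun x : W => H x.1
  refine TopCat.Sheaf.eq_of_locally_eq' ⟨M.presheaf, M.isSheaf⟩
    (fun x : W => (j x) ''ᵁ ((j x) ⁻¹ᵁ W)) W (fun x => homOfLE ((j x).image_preimage_le W)) ?_ _ _
    fun x => ?_
  · intro y hy
    obtain ⟨y', hy'⟩ := hx ⟨y, hy⟩
    exact Opens.mem_iSup.mpr ⟨⟨y, hy⟩, ⟨y', show (j ⟨y, hy⟩) y' ∈ W by rw [hy']; exact hy, hy'⟩⟩
  · have := hj x
    have := hm x
    have hg' : (Scheme.Modules.restrictFunctor (j x)).map g = 0 := by
      refine (cancel_mono ((Scheme.Modules.restrictFunctor (j x)).map φ)).mp ?_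
      rw [← Functor.map_comp, hg, zero_comp]
      rfl
    change M.presheaf.map _ (g.app W s) = M.presheaf.map _ ((0 : P ⟶ M).app W s)
    have h1 := congr($((Scheme.Modules.Hom.mapPresheaf g).naturality
      (homOfLE ((j x).image_preimage_le W)).op) s)
    refine h1.symm.trans ?_
    refine (congr(Scheme.Modules.Hom.app $hg' ((j x) ⁻¹ᵁ W)
      (P.presheaf.map (homOfLE ((j x).image_preimage_le W)).op s))).trans ?_
    exact (map_zero (M.presheaf.map (homOfLE ((j x).image_preimage_le W)).op).hom).symm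

/-- Isomorphisms of modules are detected on an open cover. -/
theorem isIso_of_local {M N : X'.Modules} (φ : M ⟶ N)
    (H : ∀ x : X', ∃ (U : Scheme.{u}) (j : U ⟶ X') (_ : IsOpenImmersion j),
      x ∈ Set.range j ∧ IsIso ((Scheme.Modules.restrictFunctor j).map φ)) : IsIso φ := by
  let φ' : (⟨M.presheaf, M.isSheaf⟩ : TopCat.Sheaf Ab X') ⟶ ⟨N.presheaf, N.isSheaf⟩ :=
    ⟨(Scheme.Modules.toPresheaf X').map φ⟩
  have hst : ∀ x : X', IsIso ((TopCat.Presheaf.stalkFunctor Ab x).map φ'.hom) := fun x => by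
    obtain ⟨U, j, _, ⟨y, rfl⟩, hiso⟩ := H x
    have hm : IsIso ((TopCat.Presheaf.stalkFunctor Ab y).map
        ((Scheme.Modules.toPresheaf U).map ((Scheme.Modules.restrictFunctor j).map φ))) := inferInstance
    exact ((MorphismProperty.isomorphisms Ab).arrow_mk_iso_iff
      (Arrow.isoMk ((Scheme.Modules.restrictStalkNatIso j y).app M)
        ((Scheme.Modules.restrictStalkNatIso j y).app N)
        ((Scheme.Modules.restrictStalkNatIso j y).hom.naturality φ).symm)).mp hm
  have hφ' : IsIso φ' := (TopCat.Presheaf.isIso_iff_stalkFunctor_map_iso φ').mpr hst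
  have : IsIso ((Scheme.Modules.toPresheaf X').map φ) :=
    @Functor.map_isIso _ _ _ _ _ _ (TopCat.Sheaf.forget Ab X'.carrier) φ' hφ' 
  exact isIso_of_reflects_iso φ (Scheme.Modules.toPresheaf X')

end Groth.Agent.Omega.Lift
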