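import Groth.Prelude.Def_Omega3
import Mathlib.RingTheory.Kaehler.Basic
import Mathlib.RingTheory.Derivation.ToSquareZero
import Mathlib.RingTheory.Unramified.Basic
import Mathlib.Algebra.Module.Torsion.Basic

/-!
# Universal first order thickenings of formally unramified algebras
-/

set_option autoImplicit false

universe u

open scoped TensorProduct

namespace Groth.Agent.Omega.ThickRing

variable {R S : Type u} [CommRing R] [CommRing S] [Algebra R S]

/-- Two lifts of a map to a square-zero quotient differ by something linear in `1 ⊗ D p`. -/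
theorem sub_eq_sub {P A : Type u} [CommRing P] [CommRing A] [Algebra R P] [Algebra R A] [Algebra P S]
    [IsScalarTower R P S] (I : Ideal A) (hI : I ^ 2 = ⊥) (a : S →ₐ[R] A ⧸ I) (φ ψ : P →ₐ[R] A)
    (hφ : ∀ p, Ideal.Quotient.mk I (φ p) = a (algebraMap P S p))
    (hψ : ∀ p, Ideal.Quotient.mk I (ψ p) = a (algebraMap P S p)) {p q : P}
    (h : (1 : S) ⊗ₜ[P] KaehlerDifferential.D R P p = (1 : S) ⊗ₜ[P] KaehlerDifferential.D R P q) :
    φ p - ψ p = φ q - ψ q := by
  let : Algebra P A := ψ.toRingHom.toAlgebra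
  have : IsScalarTower R P A := IsScalarTower.of_algebraMap_eq fun r => (ψ.commutes r).symm
  have e : (Ideal.Quotient.mkₐ R I).comp φ = IsScalarTower.toAlgHom R P (A ⧸ I) :=
    AlgHom.ext fun p => (hφ p).trans (hψ p).symm
  let d := derivationToSquareZeroOfLift I hI φ e
  have ht : Module.IsTorsionBySet A I I := fun x y => by
    ext
    change (y : A) * (x : A) = 0
    rw [← Ideal.mem_bot, ← hI, pow_two]
    exact Ideal.mul_mem_mul y.2 x.2
  let := ht.module
  let : Module S I := Module.compHom I a.toRingHom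
  have : IsScalarTower P S I := IsScalarTower.of_algebraMap_smul fun p x => by
    change a (algebraMap P S p) • x = p • x
    rw [← hψ]
    rfl
  have := congr((TensorProduct.isBaseChange P (KaehlerDifferential R P) S).lift d.liftKaehlerDifferential $h)
  have hL : ∀ z, (TensorProduct.isBaseChange P (KaehlerDifferential R P) S).lift d.liftKaehlerDifferential
      ((1 : S) ⊗ₜ[P] KaehlerDifferential.D R P z) = d z := fun z =>
    (IsBaseChange.lift_eq _ _ _).trans (d.liftKaehlerDifferential_comp_D z)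
  rw [hL, hL] at this
  exact congr(((↑) : I → A) $this)

theorem exists_isUnivThickeningRing [Algebra.FormallyUnramified R S] :
    ∃ (S' : Type u) (_ : CommRing S') (_ : Algebra R S') (π : S' →ₐ[R] S),
      OmegaSh.IsUnivThickeningRing R S S' π := by
  let π₀ : MvPolynomial S R →ₐ[R] S := MvPolynomial.aeval id
  let : Algebra (MvPolynomial S R) S := π₀.toRingHom.toAlgebra
  have : IsScalarTower R (MvPolynomial S R) S := IsScalarTower.of_algebraMap_eq fun r => (π₀.commutes r).symm
  have hπ₀ : Function.Surjective π₀ := fun s => ⟨MvPolynomial.X s, by simp [π₀]⟩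
  have hf : ∀ s : S, ∃ f : MvPolynomial S R, π₀ f = 0 ∧
      (1 : S) ⊗ₜ[MvPolynomial S R] KaehlerDifferential.D R (MvPolynomial S R) f =
        (1 : S) ⊗ₜ[MvPolynomial S R] KaehlerDifferential.D R (MvPolynomial S R) (MvPolynomial.X s) := by
    intro s
    obtain ⟨c, hc⟩ : (1 : S) ⊗ₜ[MvPolynomial S R] KaehlerDifferential.D R (MvPolynomial S R) (MvPolynomial.X s) ∈
        LinearMap.range (KaehlerDifferential.kerCotangentToTensor R (MvPolynomial S R) S) := by
      rw [KaehlerDifferential.range_kerCotangentToTensor _ _ _ hπ₀]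
      exact Subsingleton.elim _ _
    obtain ⟨c, rfl⟩ := Ideal.toCotangent_surjective _ c
    exact ⟨c.1, c.2, hc⟩
  choose f hf₀ hf₁ using hf
  let J := RingHom.ker π₀.toRingHom
  let K : Ideal (MvPolynomial S R) := J * J ⊔ Ideal.span (Set.range f)
  have hK : ∀ x ∈ K, π₀ x = 0 := fun x hx => by
    refine (show K ≤ J from sup_le Ideal.mul_le_left (Ideal.span_le.mpr ?_)) hx
    rintro _ ⟨s, rfl⟩
    exact hf₀ s
  let π : (MvPolynomial S R ⧸ K) →ₐ[R] S := Ideal.Quotient.liftₐ K π₀ hK
  refine ⟨MvPolynomial S R ⧸ K, inferInstance, inferInstance, π, ?_, ?_, ?_⟩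
  · exact fun s => ⟨Ideal.Quotient.mk K (MvPolynomial.X s), (show π₀ (MvPolynomial.X s) = s by simp [π₀])⟩
  · rw [pow_two, eq_bot_iff, Ideal.mul_le]
    intro x hx y hy
    obtain ⟨x, rfl⟩ := Ideal.Quotient.mk_surjective x
    obtain ⟨y, rfl⟩ := Ideal.Quotient.mk_surjective y
    rw [← map_mul, Ideal.mem_bot, Ideal.Quotient.eq_zero_iff_mem]
    exact Ideal.mem_sup_left (Ideal.mul_mem_mul hx hy)
  intro A _ _ I hI a
  let g : S → A := fun s => Function.surjInv Ideal.Quotient.mk_surjective (a s)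
  have hg : ∀ s, Ideal.Quotient.mk I (g s) = a s := fun s => Function.surjInv_eq _ _
  let φ₀ : MvPolynomial S R →ₐ[R] A := MvPolynomial.aeval g
  let φ : MvPolynomial S R →ₐ[R] A := MvPolynomial.aeval fun s => g s - φ₀ (f s)
  have hφ₀ : ∀ p, Ideal.Quotient.mk I (φ₀ p) = a (π₀ p) := by
    intro p
    exact congr($(MvPolynomial.algHom_ext (f := (Ideal.Quotient.mkₐ R I).comp φ₀) (g := a.comp π₀)
      (fun s => by simp [φ₀, π₀, hg])) p)
  have hφ : ∀ p, Ideal.Quotient.mk I (φ p) = a (π₀ p) := by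
    intro p
    exact congr($(MvPolynomial.algHom_ext (f := (Ideal.Quotient.mkₐ R I).comp φ) (g := a.comp π₀)
      (fun s => by simp [φ, π₀, hg, hφ₀, hf₀])) p)
  have hker : ∀ (ψ : MvPolynomial S R →ₐ[R] A), (∀ p, Ideal.Quotient.mk I (ψ p) = a (π₀ p)) →
      (∀ s, ψ (f s) = 0) → ∀ x ∈ K, ψ x = 0 := by
    intro ψ hψ hψf x hx
    refine (show K ≤ RingHom.ker ψ.toRingHom from sup_le ?_ (Ideal.span_le.mpr ?_)) hx
    · rw [Ideal.mul_le]
      intro u hu v hv
      have hmem : ∀ w ∈ J, ψ w ∈ I := fun w hw => by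
        rw [← Ideal.Quotient.eq_zero_iff_mem, hψ, show π₀ w = 0 from hw, map_zero]
      change ψ (u * v) = 0
      rw [map_mul, ← Ideal.mem_bot, ← hI, pow_two]
      exact Ideal.mul_mem_mul (hmem u hu) (hmem v hv)
    · rintro _ ⟨s, rfl⟩
      exact hψf s
  have hφf : ∀ s, φ (f s) = 0 := by
    intro s
    have := sub_eq_sub I hI a φ φ₀ hφ hφ₀ (hf₁ s)
    simp only [φ, φ₀, MvPolynomial.aeval_X] at this
    simp only [φ]
    linear_combination this
  refine ⟨Ideal.Quotient.liftₐ K φ (hker φ hφ hφf), ?_, fun ψ hψ => ?_⟩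
  · refine Ideal.Quotient.algHom_ext _ (AlgHom.ext fun p => ?_)
    exact hφ p
  · refine Ideal.Quotient.algHom_ext _ (MvPolynomial.algHom_ext fun s => ?_)
    let ψ₀ : MvPolynomial S R →ₐ[R] A := ψ.comp (Ideal.Quotient.mkₐ R K)
    have hψ₀ : ∀ p, Ideal.Quotient.mk I (ψ₀ p) = a (π₀ p) := fun p => congr($hψ (Ideal.Quotient.mk K p))
    have := sub_eq_sub I hI a ψ₀ φ hψ₀ hφ (hf₁ s)
    have h0 : ψ₀ (f s) = 0 := by
      change ψ (Ideal.Quotient.mk K (f s)) = 0
      rw [Ideal.Quotient.eq_zero_iff_mem.mpr (Ideal.mem_sup_right (Ideal.subset_span (Set.mem_range_self s))), map_zero]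
    rw [h0, hφf, sub_zero, eq_comm, sub_eq_zero] at this
    exact this

end Groth.Agent.Omega.ThickRing
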