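import Groth.Agent.Omega.ThickAffine
import Groth.Agent.Omega.ThickRing
import Mathlib.AlgebraicGeometry.Gluing

/-!
# Existence of universal first order thickenings
-/

set_option autoImplicit false

universe u

open CategoryTheory CategoryTheory.Limits AlgebraicGeometry TopologicalSpace Opposite

noncomputable section

namespace Groth.Agent.Omega.ThickExists

open OmegaSh

variable {Z Z' X : Scheme.{u}} {h : Z ⟶ X} {i : Z ⟶ Z'} {h' : Z' ⟶ X}

theorem of_precomp_iso (hu : IsUnivThickening h i h') {Z₀ : Scheme.{u}} (e : Z₀ ≅ Z) :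
    IsUnivThickening (e.hom ≫ h) (e.hom ≫ i) h' := by
  obtain ⟨hi, hih, huniv⟩ := hu
  refine ⟨Thick.isFOT_of_isPullback hi (IsPullback.of_vert_isIso (snd := e.hom) (f := 𝟙 Z')
    ⟨by simp⟩), by rw [Category.assoc, hih], fun T T' t b a ht w => ?_⟩
  simpa only [Category.assoc] using huniv T T' t b (a ≫ e.hom) ht (by rw [w, Category.assoc])

theorem of_comp_mono {U : Scheme.{u}} {g : Z ⟶ U} {g' : Z' ⟶ U} (j : U ⟶ X) [IsOpenImmersion j]
    (hu : IsUnivThickening g i g') : IsUnivThickening (g ≫ j) i (g' ≫ j) := by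
  obtain ⟨hi, hih, huniv⟩ := hu
  refine ⟨hi, by rw [← Category.assoc, hih], fun T T' t b a ht w => ?_⟩
  have hr : Set.range b ⊆ Set.range j := by
    rintro _ ⟨p, rfl⟩
    obtain ⟨q, rfl⟩ := ht.1.2.surj p
    rw [← Scheme.Hom.comp_apply, w, ← Category.assoc, Scheme.Hom.comp_apply]
    exact Set.mem_range_self _
  have w' : t ≫ IsOpenImmersion.lift j b hr = a ≫ g := by
    rw [← cancel_mono j, Category.assoc, IsOpenImmersion.lift_fac, w, Category.assoc]
  obtain ⟨l, ⟨h₁, h₂⟩, hun⟩ := huniv T T' t _ a ht w'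
  refine ⟨l, ⟨h₁, by rw [← Category.assoc, h₂, IsOpenImmersion.lift_fac]⟩, fun m hm => hun m ⟨hm.1, ?_⟩⟩
  rw [← cancel_mono j, Category.assoc, IsOpenImmersion.lift_fac, hm.2]

theorem restrict (hu : IsUnivThickening h i h') (V' : Z'.Opens) :
    IsUnivThickening ((i ⁻¹ᵁ V').ι ≫ h) (i ∣_ V') (V'.ι ≫ h') := by
  obtain ⟨hi, hih, huniv⟩ := hu
  refine ⟨ThickAffine.isFOT_morphismRestrict hi V', by rw [morphismRestrict_ι_assoc, hih],
    fun T T' t b a ht w => ?_⟩
  obtain ⟨a', ⟨h₁, h₂⟩, hun⟩ := huniv T T' t b (a ≫ (i ⁻¹ᵁ V').ι) ht (by rw [w, Category.assoc])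
  have hr : Set.range a' ⊆ Set.range V'.ι := by
    rintro _ ⟨p, rfl⟩
    obtain ⟨q, rfl⟩ := ht.1.2.surj p
    rw [Scheme.Opens.range_ι, ← Scheme.Hom.comp_apply, h₁]
    exact (a q).2
  refine ⟨IsOpenImmersion.lift V'.ι a' hr, ⟨?_, ?_⟩, fun m hm => ?_⟩
  · rw [← cancel_mono V'.ι, Category.assoc, IsOpenImmersion.lift_fac, h₁]
    simp only [Category.assoc, morphismRestrict_ι]
  · rw [IsOpenImmersion.lift_fac_assoc, h₂]
  · rw [← cancel_mono V'.ι, IsOpenImmersion.lift_fac]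
    refine hun _ ⟨?_, by rw [Category.assoc, hm.2]⟩
    rw [← Category.assoc, hm.1, Category.assoc, morphismRestrict_ι, Category.assoc]

theorem exists_unique_iso {Z'' : Scheme.{u}} {i' : Z ⟶ Z''} {h'' : Z'' ⟶ X}
    (hu : IsUnivThickening h i h') (hu' : IsUnivThickening h i' h'') :
    ∃ e : Z' ≅ Z'', i ≫ e.hom = i' ∧ e.hom ≫ h'' = h' := by
  obtain ⟨f, ⟨hf₁, hf₂⟩, -⟩ := hu'.2.2 Z Z' i h' (𝟙 Z) hu.1 (by rw [hu.2.1, Category.id_comp])
  obtain ⟨g, ⟨hg₁, hg₂⟩, -⟩ := hu.2.2 Z Z'' i' h'' (𝟙 Z) hu'.1 (by rw [hu'.2.1, Category.id_comp])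
  rw [Category.id_comp] at hf₁ hg₁
  obtain ⟨a, -, hun⟩ := hu.2.2 Z Z' i h' (𝟙 Z) hu.1 (by rw [hu.2.1, Category.id_comp])
  obtain ⟨b, -, hun'⟩ := hu'.2.2 Z Z'' i' h'' (𝟙 Z) hu'.1 (by rw [hu'.2.1, Category.id_comp])
  exact ⟨⟨f, g, (hun _ ⟨by rw [← Category.assoc, hf₁, hg₁, Category.id_comp], by rw [Category.assoc, hg₂, hf₂]⟩).trans
      (hun _ ⟨by simp, by simp⟩).symm,
    (hun' _ ⟨by rw [← Category.assoc, hg₁, hf₁, Category.id_comp], by rw [Category.assoc, hf₂, hg₂]⟩).trans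
      (hun' _ ⟨by simp, by simp⟩).symm⟩, hf₁, hf₂⟩

variable (h) [FormallyUnramified h]

/-- Affine opens of `Z` mapping into affine opens of `X`. -/
abbrev Chart : Type u := {V : Z.Opens // IsAffineOpen V ∧ ∃ U : X.Opens, IsAffineOpen U ∧ V ≤ h ⁻¹ᵁ U}

theorem exists_chart_le (z : Z) (W : Z.Opens) (hz : z ∈ W) : ∃ c : Chart h, z ∈ c.1 ∧ c.1 ≤ W := by
  obtain ⟨_, ⟨U, hU, rfl⟩, hzU, -⟩ :=
    X.isBasis_affineOpens.exists_subset_of_mem_open (Set.mem_univ (h z)) isOpen_univ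
  obtain ⟨_, ⟨V, hV, rfl⟩, hzV, hVW⟩ :=
    Z.isBasis_affineOpens.exists_subset_of_mem_open (show z ∈ W ⊓ h ⁻¹ᵁ U from ⟨hz, hzU⟩)
      (W ⊓ h ⁻¹ᵁ U).isOpen
  exact ⟨⟨V, hV, U, hU, fun y hy => (hVW hy).2⟩, hzV, fun y hy => (hVW hy).1⟩

theorem exists_chart_thickening (c : Chart h) :
    ∃ (Z' : Scheme.{u}) (i : (c.1 : Scheme.{u}) ⟶ Z') (h' : Z' ⟶ X),
      IsUnivThickening (c.1.ι ≫ h) i h' := by
  obtain ⟨V, hV, U, hU, hVU⟩ := c
  let := (h.appLE U V hVU).hom.toAlgebra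
  have : Algebra.FormallyUnramified Γ(X, U) Γ(Z, V) := h.formallyUnramified_appLE hU hV hVU
  obtain ⟨S', _, _, π, hπ⟩ := ThickRing.exists_isUnivThickeningRing (R := Γ(X, U)) (S := Γ(Z, V))
  have := of_precomp_iso (of_comp_mono hU.fromSpec (ThickAffine.isUnivThickening_spec hπ)) hV.isoSpec
  have e : hV.isoSpec.hom ≫ Spec.map (CommRingCat.ofHom (algebraMap Γ(X, U) Γ(Z, V))) ≫ hU.fromSpec =
      V.ι ≫ h := by
    rw [← IsAffineOpen.isoSpec_hom_fromSpec hV, Category.assoc, ← IsAffineOpen.SpecMap_appLE_fromSpec h hU hV hVU]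
    rfl
  rw [e] at this
  exact ⟨_, _, _, this⟩

/-- The thickening of a chart. -/
def obj (c : Chart h) : Scheme.{u} := (exists_chart_thickening h c).choose

/-- The inclusion into the thickening of a chart. -/
def inc (c : Chart h) : (c.1 : Scheme.{u}) ⟶ obj h c := (exists_chart_thickening h c).choose_spec.choose

/-- The structure map of the thickening of a chart. -/
def str (c : Chart h) : obj h c ⟶ X := (exists_chart_thickening h c).choose_spec.choose_spec.choose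

theorem univ (c : Chart h) : IsUnivThickening (c.1.ι ≫ h) (inc h c) (str h c) :=
  (exists_chart_thickening h c).choose_spec.choose_spec.choose_spec

theorem existsUnique_map {c d : Chart h} (hle : c.1 ≤ d.1) :
    ∃! m : obj h c ⟶ obj h d, inc h c ≫ m = Z.homOfLE hle ≫ inc h d ∧ m ≫ str h d = str h c :=
  (univ h d).2.2 _ _ (inc h c) (str h c) (Z.homOfLE hle) (univ h c).1
    (by rw [(univ h c).2.1, Scheme.homOfLE_ι_assoc])

/-- Transition maps. -/
def map {c d : Chart h} (hle : c.1 ≤ d.1) : obj h c ⟶ obj h d := (existsUnique_map h hle).choose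

theorem inc_map {c d : Chart h} (hle : c.1 ≤ d.1) : inc h c ≫ map h hle = Z.homOfLE hle ≫ inc h d :=
  (existsUnique_map h hle).choose_spec.1.1

theorem map_str {c d : Chart h} (hle : c.1 ≤ d.1) : map h hle ≫ str h d = str h c :=
  (existsUnique_map h hle).choose_spec.1.2

theorem inc_homeo (c : Chart h) : IsHomeomorph (inc h c) :=
  have := (univ h c).1.1.1
  have := (univ h c).1.1.2
  Thick.Topo.isHomeomorph _

instance isOpenImmersion_map {c d : Chart h} (hle : c.1 ≤ d.1) : IsOpenImmersion (map h hle) := by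
  let V' : (obj h d).Opens :=
    ⟨inc h d '' {p | p.1 ∈ c.1}, (inc_homeo h d).isOpenMap _ (c.1.isOpen.preimage continuous_subtype_val)⟩
  have hV' : inc h d ⁻¹ᵁ V' = d.1.ι ⁻¹ᵁ c.1 := Opens.ext (by
    ext p
    exact (inc_homeo h d).injective.mem_set_image)
  let e : (inc h d ⁻¹ᵁ V' : Scheme.{u}) ≅ (c.1 : Scheme.{u}) :=
    IsOpenImmersion.isoOfRangeEq ((inc h d ⁻¹ᵁ V').ι ≫ d.1.ι) c.1.ι (by
      rw [Scheme.Hom.comp_base, TopCat.coe_comp, Set.range_comp, Scheme.Opens.range_ι, hV', Scheme.Opens.range_ι]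
      exact (Set.image_preimage_eq_inter_range).trans
        (by rw [Scheme.Opens.range_ι]; exact Set.inter_eq_left.mpr hle))
  have he : e.inv ≫ (inc h d ⁻¹ᵁ V').ι = Z.homOfLE hle := by
    rw [← cancel_mono d.1.ι, Category.assoc, IsOpenImmersion.isoOfRangeEq_inv_fac, Scheme.homOfLE_ι]
  have hu := of_precomp_iso (restrict (univ h d) V') e.symm
  rw [Iso.symm_hom, reassoc_of% he, Scheme.homOfLE_ι_assoc] at hu
  obtain ⟨g, hg₁, hg₂⟩ := exists_unique_iso (univ h c) hu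
  have : map h hle = g.hom ≫ V'.ι := ((existsUnique_map h hle).choose_spec.2 _ ⟨?_, ?_⟩).symm
  · rw [this]; infer_instance
  · rw [← Category.assoc, hg₁, Category.assoc, morphismRestrict_ι, reassoc_of% he]
  · rw [Category.assoc, hg₂]

theorem map_comp {a b c : Chart h} (hab : a.1 ≤ b.1) (hbc : b.1 ≤ c.1) :
    map h hab ≫ map h hbc = map h (hab.trans hbc) := by
  refine (existsUnique_map h (hab.trans hbc)).choose_spec.2 _ ⟨?_, ?_⟩
  · rw [← Category.assoc, inc_map, Category.assoc, inc_map, Scheme.homOfLE_homOfLE_assoc]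
  · rw [Category.assoc, map_str, map_str]

/-- The diagram of thickened charts. -/
def diag : Chart h ⥤ Scheme.{u} where
  obj c := obj h c
  map {c d} f := map h (leOfHom f)
  map_id c := ((existsUnique_map h (le_refl c.1)).choose_spec.2 (𝟙 _) ⟨by simp, by simp⟩).symm
  map_comp {a b c} f g := (map_comp h (leOfHom f) (leOfHom g)).symm

instance {c d : Chart h} (f : c ⟶ d) : IsOpenImmersion ((diag h).map f) :=
  isOpenImmersion_map h (leOfHom f)

instance : ((diag h) ⋙ Scheme.forget).IsLocallyDirected := by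
  refine ⟨fun {a b c} fa fb (xa : obj h a) (xb : obj h b) hx => ?_⟩
  obtain ⟨p, rfl⟩ := (inc_homeo h a).surjective xa
  obtain ⟨q, rfl⟩ := (inc_homeo h b).surjective xb
  have hpq : inc h c (Z.homOfLE (leOfHom fa) p) = inc h c (Z.homOfLE (leOfHom fb) q) := by
    rw [← Scheme.Hom.comp_apply, ← Scheme.Hom.comp_apply, ← inc_map h (leOfHom fa), ← inc_map h (leOfHom fb)]
    exact hx
  have hval : p.1 = q.1 := by
    have := congrArg c.1.ι ((inc_homeo h c).injective hpq)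
    rwa [← Scheme.Hom.comp_apply, ← Scheme.Hom.comp_apply, Scheme.homOfLE_ι, Scheme.homOfLE_ι] at this
  obtain ⟨l, hl, hle⟩ := exists_chart_le h p.1 (a.1 ⊓ b.1) ⟨p.2, hval ▸ q.2⟩
  let pt : (l.1 : Scheme.{u}) := ⟨p.1, hl⟩
  refine ⟨l, homOfLE (hle.trans inf_le_left), homOfLE (hle.trans inf_le_right), inc h l pt, ?_, ?_⟩
  · refine (congr($(inc_map h (c := l) (d := a) (hle.trans inf_le_left)) pt)).trans ?_
    refine congrArg (inc h a) (Subtype.ext ?_)
    exact congr($(Scheme.homOfLE_ι Z (hle.trans inf_le_left)) pt)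
  · refine (congr($(inc_map h (c := l) (d := b) (hle.trans inf_le_right)) pt)).trans ?_
    refine congrArg (inc h b) (Subtype.ext ?_)
    exact (congr($(Scheme.homOfLE_ι Z (hle.trans inf_le_right)) pt)).trans hval

/-- The glued thickening. -/
abbrev glued : Scheme.{u} := colimit (diag h)

/-- The thickened charts inside the glued thickening. -/
def cι (c : Chart h) : obj h c ⟶ glued h := colimit.ι (diag h) c

instance (c : Chart h) : IsOpenImmersion (cι h c) :=
  inferInstanceAs (IsOpenImmersion (colimit.ι (diag h) c))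

/-- The structure map of the glued thickening. -/
def gluedStr : glued h ⟶ X :=
  colimit.desc (diag h) (Cocone.mk X ⟨str h,
    fun c d f => (map_str h (leOfHom f)).trans (Category.comp_id _).symm⟩)

theorem ι_gluedStr (c : Chart h) : cι h c ≫ gluedStr h = str h c :=
  colimit.ι_desc _ c

theorem map_ι {c d : Chart h} (hle : c.1 ≤ d.1) :
    map h hle ≫ cι h d = cι h c :=
  colimit.w (diag h) (homOfLE hle : c ⟶ d)

theorem exists_gluedInc : ∃ i : Z ⟶ glued h, ∀ c : Chart h, c.1.ι ≫ i = inc h c ≫ cι h c := by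
  let 𝒰 : Z.OpenCover := Z.openCoverOfIsOpenCover (fun c : Chart h => c.1)
    (IsOpenCover.mk <| eq_top_iff.mpr fun z _ => by
      obtain ⟨c, hc, -⟩ := exists_chart_le h z ⊤ trivial
      exact Opens.mem_iSup.mpr ⟨c, hc⟩)
  have hcompat : ∀ a b : Chart h, pullback.fst a.1.ι b.1.ι ≫ inc h a ≫ cι h a =
      pullback.snd a.1.ι b.1.ι ≫ inc h b ≫ cι h b := by
    intro a b
    let P := pullback a.1.ι b.1.ι
    let k : P ⟶ Z := pullback.fst a.1.ι b.1.ι ≫ a.1.ι
    refine Scheme.hom_ext_of_forall _ _ fun x => ?_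
    obtain ⟨l, hl, hle⟩ := exists_chart_le h (k x) (a.1 ⊓ b.1)
      ⟨(pullback.fst a.1.ι b.1.ι x).2, by
        have := congr($(pullback.condition (f := a.1.ι) (g := b.1.ι)) x)
        simp only [k]
        rw [this]
        exact (pullback.snd a.1.ι b.1.ι x).2⟩
    refine ⟨k ⁻¹ᵁ l.1, hl, ?_⟩
    have ea : (k ⁻¹ᵁ l.1).ι ≫ pullback.fst a.1.ι b.1.ι = (k ∣_ l.1) ≫ Z.homOfLE (hle.trans inf_le_left) := by
      rw [← cancel_mono a.1.ι, Category.assoc, Category.assoc, Scheme.homOfLE_ι, morphismRestrict_ι]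
    have eb : (k ⁻¹ᵁ l.1).ι ≫ pullback.snd a.1.ι b.1.ι = (k ∣_ l.1) ≫ Z.homOfLE (hle.trans inf_le_right) := by
      rw [← cancel_mono b.1.ι, Category.assoc, Category.assoc, Scheme.homOfLE_ι, morphismRestrict_ι,
        ← pullback.condition]
    rw [reassoc_of% ea, reassoc_of% eb, ← reassoc_of% (inc_map h (c := l) (d := a) (hle.trans inf_le_left)),
      ← reassoc_of% (inc_map h (c := l) (d := b) (hle.trans inf_le_right)), map_ι, map_ι]
  exact ⟨𝒰.glueMorphisms (fun c => inc h c ≫ cι h c) hcompat,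
    fun c => 𝒰.ι_glueMorphisms _ hcompat c⟩

/-- The inclusion into the glued thickening. -/
def gluedInc : Z ⟶ glued h := (exists_gluedInc h).choose

theorem ι_gluedInc (c : Chart h) : c.1.ι ≫ gluedInc h = inc h c ≫ cι h c :=
  (exists_gluedInc h).choose_spec c

theorem gluedInc_apply {c : Chart h} {z : Z} (hz : z ∈ c.1) :
    gluedInc h z = cι h c (inc h c ⟨z, hz⟩) :=
  congr($(ι_gluedInc h c) ⟨z, hz⟩)

theorem preimage_range (c : Chart h) : gluedInc h ⁻¹ᵁ (cι h c).opensRange = c.1 := by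
  refine Opens.ext (Set.ext fun z => ⟨fun ⟨y, hy⟩ => ?_, fun hz => ⟨_, (gluedInc_apply h hz).symm⟩⟩)
  obtain ⟨d, hd, -⟩ := exists_chart_le h z ⊤ trivial
  obtain ⟨p, rfl⟩ := (inc_homeo h c).surjective y
  rw [gluedInc_apply h hd] at hy
  obtain ⟨k, fc, fd, x, hxc, hxd⟩ := (Scheme.IsLocallyDirected.ι_eq_ι_iff (diag h)).mp hy
  obtain ⟨q, rfl⟩ := (inc_homeo h k).surjective x
  change map h (leOfHom fc) (inc h k q) = _ at hxc
  change map h (leOfHom fd) (inc h k q) = _ at hxd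
  rw [← Scheme.Hom.comp_apply, inc_map, Scheme.Hom.comp_apply] at hxc hxd
  have hc := congrArg c.1.ι ((inc_homeo h c).injective hxc)
  have hd' := congrArg d.1.ι ((inc_homeo h d).injective hxd)
  rw [← Scheme.Hom.comp_apply, Scheme.homOfLE_ι] at hc hd'
  have : z = p.1 := hd'.symm.trans hc
  rw [this]
  exact p.2

theorem isPullback_ι (c : Chart h) :
    IsPullback (inc h c) c.1.ι (cι h c) (gluedInc h) := by
  refine (IsPullback.of_iso (isPullback_morphismRestrict (gluedInc h) (cι h c).opensRange)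
    (Z.isoOfEq (preimage_range h c)) (cι h c).isoOpensRange.symm (Iso.refl Z) (Iso.refl _)
    ?_ ?_ ?_ ?_)
  · rw [← cancel_mono (cι h c)]
    simp [← ι_gluedInc]
  · simp
  · simp
  · simp

theorem isUnivThickening : IsUnivThickening h (gluedInc h) (gluedStr h) := by
  have hih : gluedInc h ≫ gluedStr h = h := by
    refine (Z.openCoverOfIsOpenCover (fun c : Chart h => c.1)
      (IsOpenCover.mk <| eq_top_iff.mpr fun z _ => by
        obtain ⟨c, hc, -⟩ := exists_chart_le h z ⊤ trivial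
        exact Opens.mem_iSup.mpr ⟨c, hc⟩)).hom_ext _ _ fun c => ?_
    revert c; intro (c : Chart h)
    change c.1.ι ≫ gluedInc h ≫ gluedStr h = c.1.ι ≫ h
    rw [reassoc_of% (ι_gluedInc h c), ι_gluedStr, (univ h c).2.1]
  have hcl : IsClosedImmersion (gluedInc h) := by
    rw [IsZariskiLocalAtTarget.iff_of_openCover (P := @IsClosedImmersion)
      (Scheme.IsLocallyDirected.openCover (diag h))]
    intro (c : Chart h)
    have := (univ h c).1.1.1
    change IsClosedImmersion (pullback.snd (gluedInc h) (cι h c))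
    rw [← (isPullback_ι h c).flip.isoPullback_inv_snd]
    infer_instance
  have hsurj : Function.Surjective (gluedInc h) := fun y => by
    obtain ⟨c, x, rfl⟩ := Scheme.IsLocallyDirected.ι_jointly_surjective (diag h) y
    obtain ⟨p, rfl⟩ := (inc_homeo h c).surjective x
    exact ⟨p.1, gluedInc_apply h p.2⟩
  refine ⟨⟨⟨hcl, ⟨hsurj⟩⟩, ?_⟩, hih, fun T T' t b a ht w => ?_⟩
  · let U : (Σ c : Chart h, (obj h c).affineOpens) → (glued h).affineOpens := fun p =>
      ⟨cι h p.1 ''ᵁ p.2.1, p.2.2.image_of_isOpenImmersion _⟩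
    refine Scheme.IdealSheafData.ext_of_iSup_eq_top U (top_le_iff.mp fun y _ => ?_) fun ⟨c, W⟩ => ?_
    · obtain ⟨c, x, rfl⟩ := Scheme.IsLocallyDirected.ι_jointly_surjective (diag h) y
      obtain ⟨_, ⟨W, hW, rfl⟩, hxW, -⟩ :=
        (obj h c).isBasis_affineOpens.exists_subset_of_mem_open (Set.mem_univ x) isOpen_univ
      exact Opens.mem_iSup.mpr ⟨⟨c, ⟨W, hW⟩⟩, ⟨x, hxW, rfl⟩⟩
    have := (univ h c).1.1.1
    have hk := Scheme.ker_ideal_of_isPullback_of_isOpenImmersion (gluedInc h) (inc h c) c.1.ι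
      (cι h c) (isPullback_ι h c) W
    simp only [Scheme.IdealSheafData.ideal_mul, Pi.mul_apply, Scheme.IdealSheafData.ideal_bot,
      Pi.bot_apply]
    have hsq := congr_fun (congr_arg Scheme.IdealSheafData.ideal (univ h c).1.2) W
    simp only [Scheme.IdealSheafData.ideal_mul, Pi.mul_apply, Scheme.IdealSheafData.ideal_bot,
      Pi.bot_apply, hk] at hsq
    refine eq_bot_iff.mpr (Ideal.mul_le.mpr fun x hx y hy => ?_)
    obtain ⟨x, rfl⟩ := (ConcreteCategory.bijective_of_isIso ((cι h c).appIso W).inv).2 x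
    obtain ⟨y, rfl⟩ := (ConcreteCategory.bijective_of_isIso ((cι h c).appIso W).inv).2 y
    have := Ideal.mul_mem_mul (Ideal.mem_comap.mpr hx) (Ideal.mem_comap.mpr hy)
    rw [hsq, Ideal.mem_bot] at this
    rw [Ideal.mem_bot, ← map_mul, this, map_zero]
  have hta := ht.1.2
  refine InfLift.Glue.existsUnique_lift_of_local (f := gluedStr h) (a := a ≫ gluedInc h)
    (by rw [w, Category.assoc, hih]) (fun W => ∃ c : Chart h, t ⁻¹ᵁ W ≤ a ⁻¹ᵁ c.1)
    (fun W W' hle ⟨c, hc⟩ => ⟨c, (t.preimage_mono hle).trans hc⟩) (fun p => ?_) fun W hW hc => ?_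
  · obtain ⟨q, rfl⟩ := hta.surj p
    obtain ⟨c, hc, -⟩ := exists_chart_le h (a q) ⊤ trivial
    have := ht.1.1
    let O : T'.Opens := ⟨t '' (a ⁻¹ᵁ c.1 : Set T), (Thick.Topo.isHomeomorph t).isOpenMap _ (a ⁻¹ᵁ c.1).isOpen⟩
    obtain ⟨_, ⟨W, hW, rfl⟩, hqW, hWO⟩ :=
      T'.isBasis_affineOpens.exists_subset_of_mem_open (show t q ∈ O from ⟨q, hc, rfl⟩) O.isOpen
    refine ⟨W, hW, hqW, c, fun z hz => ?_⟩
    obtain ⟨z', hz', he⟩ := hWO hz
    have := ht.1.1
    exact t.isClosedEmbedding.injective he ▸ hz'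
  obtain ⟨c, hc⟩ := hc
  have htW := ThickAffine.isFOT_morphismRestrict ht W
  let aW : (t ⁻¹ᵁ W : Scheme.{u}) ⟶ c.1 :=
    IsOpenImmersion.lift c.1.ι ((t ⁻¹ᵁ W).ι ≫ a) (by
      rintro _ ⟨z, rfl⟩
      rw [Scheme.Opens.range_ι]
      exact hc z.2)
  have haW : aW ≫ c.1.ι = (t ⁻¹ᵁ W).ι ≫ a := IsOpenImmersion.lift_fac _ _ _
  obtain ⟨l, ⟨hl₁, hl₂⟩, hun⟩ := (univ h c).2.2 _ _ (t ∣_ W) (W.ι ≫ b) aW htW
    (by rw [← Category.assoc, morphismRestrict_ι, Category.assoc, w, reassoc_of% haW])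
  refine ⟨l ≫ cι h c, ⟨?_, ?_⟩, fun m hm => ?_⟩
  · rw [reassoc_of% hl₁, ← ι_gluedInc, reassoc_of% haW]
  · rw [Category.assoc, ι_gluedStr, hl₂]
  obtain ⟨hm₁, hm₂⟩ := hm
  have hr : Set.range m ⊆ Set.range (cι h c) := by
    rintro _ ⟨p, rfl⟩
    obtain ⟨q, rfl⟩ := htW.1.2.surj p
    rw [← Scheme.Hom.comp_apply, hm₁, ← reassoc_of% haW, ι_gluedInc, ← Category.assoc, Scheme.Hom.comp_apply]
    exact Set.mem_range_self _
  have hm' := IsOpenImmersion.lift_fac (cι h c) m hr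
  rw [← hm', hun (IsOpenImmersion.lift (cι h c) m hr) ⟨?_, ?_⟩]
  · rw [← cancel_mono (cι h c), Category.assoc, hm', hm₁, Category.assoc, ← ι_gluedInc,
      reassoc_of% haW]
  · rw [← ι_gluedStr, ← Category.assoc, hm', hm₂]

end Groth.Agent.Omega.ThickExists

end
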