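import Groth.Agent.UnramFib.Basic
import Mathlib.AlgebraicGeometry.Morphisms.FinitePresentation

/-!
# Unramifiedness is detected after base change to anything containing the fibre
-/

set_option autoImplicit false
set_option backward.isDefEq.respectTransparency.types false

universe u

open CategoryTheory CategoryTheory.Limits AlgebraicGeometry

namespace Groth.Agent.Omega.UnramBC

/-- The point of the fibre `g.fiber (g y)` given by the residue field of `y`. -/
noncomputable def toFiber {Y S : Scheme.{u}} (g : Y ⟶ S) (y : Y) (s : S) (hs : g y = s) :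
    Spec (Y.residueField y) ⟶ g.fiber s :=
  pullback.lift (Y.fromSpecResidueField y)
    (Spec.map ((S.residueFieldCongr hs.symm).hom ≫ g.residueFieldMap y))
    (by
      subst hs
      simp [Scheme.Hom.SpecMap_residueFieldMap_fromSpecResidueField])

theorem toFiber_fiberι {Y S : Scheme.{u}} (g : Y ⟶ S) (y : Y) (s : S) (hs : g y = s) :
    toFiber g y s hs ≫ g.fiberι s = Y.fromSpecResidueField y :=
  pullback.lift_fst _ _ _

/-- If a base change of `f` along a morphism through which the fibre over `f x` factors is unramified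
near all points over `x`, then `f` is unramified near `x`. -/
theorem exists_nhd_of_isPullback {X Y Y' P : Scheme.{u}} (f : X ⟶ Y) [LocallyOfFiniteType f]
    {a : Y' ⟶ Y} {p : P ⟶ X} {F : P ⟶ Y'} (sq : IsPullback p F f a) (x : X)
    (j : Spec (Y.residueField (f x)) ⟶ Y') (hj : j ≫ a = Y.fromSpecResidueField (f x))
    (V : P.Opens) (hV : ∀ x' : P, p x' = x → x' ∈ V) (hVF : FormallyUnramified (V.ι ≫ F)) :
    ∃ U : X.Opens, x ∈ U ∧ FormallyUnramified (U.ι ≫ f) := by
  let k : f.fiber (f x) ⟶ P :=
    sq.lift (f.fiberι (f x)) (f.fiberToSpecResidueField (f x) ≫ j)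
      (by rw [Category.assoc, hj]; exact pullback.condition)
  have hk : k ≫ p = f.fiberι (f x) := sq.lift_fst _ _ _
  have hkF : k ≫ F = f.fiberToSpecResidueField (f x) ≫ j := sq.lift_snd _ _ _
  have hsq : IsPullback k (f.fiberToSpecResidueField (f x)) F j := by
    refine IsPullback.of_right ?_ hkF sq
    rw [hk, hj]
    exact IsPullback.of_hasPullback f (Y.fromSpecResidueField (f x))
  have hW : f.asFiber x ∈ k ⁻¹ᵁ V := hV _ (by
    rw [← Scheme.Hom.comp_apply, hk, f.fiberι_asFiber])
  have hWF : FormallyUnramified ((k ⁻¹ᵁ V).ι ≫ f.fiberToSpecResidueField (f x)) :=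
    MorphismProperty.of_isPullback ((isPullback_morphismRestrict k V).paste_vert hsq) hVF
  exact (EtStruct.formallyUnramified_nhd_iff f x).mpr
    (UnramFib.stalkMap_formallyUnramified_of_fiber_nhd f x _ hW hWF)

/-- Conversely, the base change of an unramified morphism is unramified near the points over it. -/
theorem exists_nhd_baseChange {X Y Y' P : Scheme.{u}} (f : X ⟶ Y) {a : Y' ⟶ Y} {p : P ⟶ X}
    {F : P ⟶ Y'} (sq : IsPullback p F f a) (x' : P)
    (U : X.Opens) (hx : p x' ∈ U) (hU : FormallyUnramified (U.ι ≫ f)) :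
    ∃ V : P.Opens, x' ∈ V ∧ FormallyUnramified (V.ι ≫ F) :=
  ⟨p ⁻¹ᵁ U, hx, MorphismProperty.of_isPullback ((isPullback_morphismRestrict p U).paste_vert sq) hU⟩

end Groth.Agent.Omega.UnramBC
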