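import Groth.Agent.Omega.RegularSmooth
import Groth.Agent.S11311
import Mathlib.RingTheory.Kaehler.TensorProduct
import Mathlib.RingTheory.Smooth.Fiber

/-!
# Smooth = geometrically regular for algebras of finite type over a field
-/

set_option autoImplicit false

universe u

open TensorProduct

noncomputable section

namespace Groth.Agent.Omega.GeomRegular

attribute [local instance] Algebra.TensorProduct.rightAlgebra

variable (k : Type u) [Field k]

theorem rank_le_localDim_of_rational {B : Type u} [CommRing B] [Algebra k B] [Algebra.FiniteType k B]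
    (M : Ideal B) [M.IsMaximal] (hres : Function.Bijective (algebraMap k M.ResidueField))
    (hreg : IsRegularLocalRing (Localization.AtPrime M)) :
    (RankDim.rank k M : WithBot ℕ∞) ≤ FlatMor.localDim (PrimeSpectrum B) ⟨M, inferInstance⟩ := by
  haveI : Algebra.FormallyEtale B (Localization.AtPrime M) :=
    Algebra.FormallyEtale.of_isLocalization M.primeCompl
  have h1 := S11311.finrank_cotangent_eq k (Localization.AtPrime M) hres
  have h2 : Module.finrank (IsLocalRing.ResidueField (Localization.AtPrime M))
      (IsLocalRing.ResidueField (Localization.AtPrime M) ⊗[Localization.AtPrime M]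
        Ω[Localization.AtPrime M⁄k]) = RankDim.rank k M :=
    LinearEquiv.finrank_eq
      ((AlgebraTensorModule.congr (LinearEquiv.refl M.ResidueField M.ResidueField)
          (KaehlerDifferential.isBaseChange_of_formallyEtale k B (Localization.AtPrime M)).equiv.symm).trans
        (AlgebraTensorModule.cancelBaseChange B (Localization.AtPrime M) M.ResidueField M.ResidueField Ω[B⁄k]))
  rw [CAlgLib.LocalDimSpec.localDim_of_isMaximal k M,
    ← (IsRegularLocalRing.iff_finrank_cotangentSpace (Localization.AtPrime M)).mp hreg]
  exact le_of_eq (congrArg Nat.cast (h2.symm.trans h1.symm))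

theorem formallySmooth_of_isGeometricallyRegular {S : Type u} [CommRing S] [Algebra k S]
    [Algebra.FiniteType k S] (h : CAlg.IsGeometricallyRegular k S) : Algebra.FormallySmooth k S := by
  haveI : Algebra.FinitePresentation k S := Algebra.FinitePresentation.of_finiteType.mp inferInstance
  haveI : IsNoetherianRing S := Algebra.FiniteType.isNoetherianRing k S
  haveI : IsJacobsonRing S := isJacobsonRing_of_finiteType (A := k)
  refine Algebra.smoothLocus_eq_univ_iff.mp (Set.eq_univ_of_forall fun q => ?_)
  obtain ⟨m, hm, hqm⟩ := q.asIdeal.exists_le_maximal q.2.ne_top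
  haveI := hm
  refine ((PrimeSpectrum.le_iff_specializes q ⟨m, hm.isPrime⟩).mp hqm).mem_open
    Algebra.isOpen_smoothLocus ?_
  let L := m.ResidueField
  letI := Ideal.Quotient.field m
  haveI : Algebra.FiniteType k L :=
    Algebra.FiniteType.of_surjective (IsScalarTower.toAlgHom k (S ⧸ m) L)
      (Ideal.bijective_algebraMap_quotient_residueField m).2
  haveI : Module.Finite k L := finite_of_finite_type_of_isJacobsonRing k L
  haveI hreg := h L inferInstance
  let B := L ⊗[k] S
  let φ : B →ₐ[L] L := Algebra.TensorProduct.lift (Algebra.ofId L L) (IsScalarTower.toAlgHom k S L)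
    fun _ _ => Commute.all _ _
  have hφS : ∀ s : S, φ (algebraMap S B s) = algebraMap S L s := fun s => by
    simp [φ, B, Algebra.TensorProduct.right_algebraMap_apply]
  have hφ : Function.Surjective φ := fun x => ⟨algebraMap L B x, φ.commutes x⟩
  let M : Ideal B := RingHom.ker φ.toRingHom
  haveI : M.IsMaximal := RingHom.ker_isMaximal_of_surjective φ.toRingHom hφ
  have hcomap : M.comap (algebraMap S B) = m := by
    ext s
    rw [Ideal.mem_comap, RingHom.mem_ker]
    change φ (algebraMap S B s) = 0 ↔ _
    rw [hφS]
    exact Ideal.algebraMap_residueField_eq_zero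
  have hres : Function.Bijective (algebraMap L M.ResidueField) := by
    refine ⟨(algebraMap L M.ResidueField).injective, fun x => ?_⟩
    obtain ⟨y, rfl⟩ := (Ideal.bijective_algebraMap_quotient_residueField M).2 x
    obtain ⟨b, rfl⟩ := Ideal.Quotient.mk_surjective y
    refine ⟨φ b, ?_⟩
    rw [IsScalarTower.algebraMap_apply L B M.ResidueField]
    change algebraMap B M.ResidueField (algebraMap L B (φ b)) = algebraMap B M.ResidueField b
    rw [← sub_eq_zero, ← map_sub]
    refine Ideal.algebraMap_residueField_eq_zero.mpr ?_
    rw [RingHom.mem_ker]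
    change φ (algebraMap L B (φ b) - b) = 0
    rw [map_sub, φ.commutes]
    exact sub_self _
  have hle := rank_le_localDim_of_rational L M hres (hreg.isRegularLocalRing_localization M)
  rw [CAlgLib.LocalDimSpec.localDim_baseChange k L M m hcomap] at hle
  refine RankDim.formallySmooth_of_rank_le k m (le_trans ?_ hle)
  refine Nat.cast_le.mpr (le_of_eq ?_)
  let ι : m.ResidueField →+* M.ResidueField := Ideal.ResidueField.map m M (algebraMap S B) hcomap.symm
  letI : Algebra m.ResidueField M.ResidueField := ι.toAlgebra
  haveI : IsScalarTower S m.ResidueField M.ResidueField := IsScalarTower.of_algebraMap_eq fun s =>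
    ((Ideal.ResidueField.map_algebraMap m M (algebraMap S B) hcomap.symm s).trans
      (IsScalarTower.algebraMap_apply S B M.ResidueField s).symm).symm
  change Module.finrank m.ResidueField (m.ResidueField ⊗[S] Ω[S⁄k]) = RankDim.rank L M
  rw [← RankDim.finrank_fibre_eq Ω[S⁄k] m M.ResidueField]
  exact LinearEquiv.finrank_eq
    ((AlgebraTensorModule.cancelBaseChange S B M.ResidueField M.ResidueField Ω[S⁄k]).symm.trans
      (AlgebraTensorModule.congr (LinearEquiv.refl M.ResidueField M.ResidueField)
        (KaehlerDifferential.tensorKaehlerEquiv k L S B)))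

theorem isGeometricallyRegular_of_formallySmooth {S : Type u} [CommRing S] [Algebra k S]
    [Algebra.FiniteType k S] [Algebra.FormallySmooth k S] : CAlg.IsGeometricallyRegular k S := by
  intro L _ _ _
  haveI : IsNoetherianRing (L ⊗[k] S) := Algebra.FiniteType.isNoetherianRing L _
  refine isRegularRing_iff.mpr fun p _ => ?_
  haveI : Algebra.FormallySmooth (L ⊗[k] S) (Localization.AtPrime p) :=
    Algebra.FormallySmooth.of_isLocalization p.primeCompl
  exact RankDim.isRegularLocalRing_of_isSmoothAt L (L ⊗[k] S) p
    (Algebra.FormallySmooth.comp L (L ⊗[k] S) _)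

theorem smooth_iff (A B : Type u) [CommRing A] [CommRing B] [Algebra A B] [Algebra.FinitePresentation A B] :
    Algebra.Smooth A B ↔
      Module.Flat A B ∧ ∀ (p : Ideal A) [p.IsPrime], CAlg.IsGeometricallyRegular p.ResidueField (p.Fiber B) := by
  constructor
  · intro h
    exact ⟨inferInstance, fun p _ => isGeometricallyRegular_of_formallySmooth p.ResidueField⟩
  · rintro ⟨hflat, h⟩
    exact Algebra.Smooth.of_formallySmooth_fiber fun p _ =>
      formallySmooth_of_isGeometricallyRegular p.ResidueField (h p)

end Groth.Agent.Omega.GeomRegular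

end
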