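import Groth.Agent.Omega.SmoothNormal
import Groth.Agent.Omega.SmoothPoint

/-!
# Reduced and normal stalks along smooth morphisms
-/

set_option autoImplicit false
set_option linter.style.haveILetI false

universe u

open CategoryTheory AlgebraicGeometry TopologicalSpace

namespace Groth.Agent.Omega.SmoothNormal

/-- A property of local rings ascends along smooth morphisms if it ascends along smooth algebras. -/
theorem stalk_ascend (P : ∀ (R : Type u) [CommRing R], Prop)
    (hP : ∀ {R S : Type u} [CommRing R] [CommRing S], (R ≃+* S) → P R → P S)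
    (hA : ∀ {A B : Type u} [CommRing A] [CommRing B] [Algebra A B] [Algebra.Smooth A B]
      (p : Ideal A) [p.IsPrime] (q : Ideal B) [q.IsPrime], q.comap (algebraMap A B) = p →
      P (Localization.AtPrime p) → P (Localization.AtPrime q))
    {X Y : Scheme.{u}} (f : X ⟶ Y) [LocallyOfFinitePresentation f] {x : X} (hx : x ∈ f.smoothLocus)
    (hy : P (Y.presheaf.stalk (f.base x))) : P (X.presheaf.stalk x) := by
  obtain ⟨V, hV, U, hU, e, hxU, hs⟩ := exists_smooth_of_formallySmooth_stalk f x hx
  letI := (f.appLE V U e).hom.toAlgebra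
  haveI : Algebra.Smooth Γ(Y, V) Γ(X, U) := RingHom.smooth_algebraMap.mp hs
  letI := Y.presheaf.algebra_section_stalk ⟨f x, e hxU⟩
  haveI := hV.isLocalization_stalk ⟨f x, e hxU⟩
  letI := X.presheaf.algebra_section_stalk ⟨x, hxU⟩
  haveI := hU.isLocalization_stalk ⟨x, hxU⟩
  let p := (hV.primeIdealOf ⟨f x, e hxU⟩).asIdeal
  let q := (hU.primeIdealOf ⟨x, hxU⟩).asIdeal
  let ey := (IsLocalization.algEquiv p.primeCompl (Y.presheaf.stalk (f x)) (Localization.AtPrime p)).toRingEquiv
  let ex := (IsLocalization.algEquiv q.primeCompl (Localization.AtPrime q) (X.presheaf.stalk x)).toRingEquiv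
  exact hP ex (hA p q (congrArg PrimeSpectrum.asIdeal (IsAffineOpen.comap_primeIdealOf_appLE V hV U hU e hxU)) (hP ey hy))

theorem stalk_isReduced_iff {X Y : Scheme.{u}} (f : X ⟶ Y) [LocallyOfFinitePresentation f] {x : X}
    (hx : x ∈ f.smoothLocus) :
    _root_.IsReduced ↑(X.presheaf.stalk x) ↔ _root_.IsReduced ↑(Y.presheaf.stalk (f.base x)) := by
  refine ⟨fun h => ?_, stalk_ascend (fun R _ => _root_.IsReduced R)
    (fun e h => haveI := h; isReduced_of_injective e.symm e.symm.injective)
    (fun p _ q _ hq h => haveI := h; isReduced_localization p q hq) f hx⟩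
  haveI := h
  letI := (f.stalkMap x).hom.toAlgebra
  haveI : Module.Flat (Y.presheaf.stalk (f x)) (X.presheaf.stalk x) := SmoothPoint.flat_stalkMap f hx
  haveI : IsLocalHom (algebraMap (Y.presheaf.stalk (f x)) (X.presheaf.stalk x)) :=
    inferInstanceAs (IsLocalHom (f.stalkMap x).hom)
  haveI := Module.FaithfullyFlat.of_flat_of_isLocalHom (A := Y.presheaf.stalk (f x)) (B := X.presheaf.stalk x)
  exact isReduced_descend (A := Y.presheaf.stalk (f x)) (B := X.presheaf.stalk x)

theorem stalk_isNormal_iff {X Y : Scheme.{u}} (f : X ⟶ Y) [LocallyOfFinitePresentation f] {x : X}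
    (hx : x ∈ f.smoothLocus) :
    (IsDomain ↑(X.presheaf.stalk x) ∧ IsIntegrallyClosed ↑(X.presheaf.stalk x)) ↔
      (IsDomain ↑(Y.presheaf.stalk (f.base x)) ∧ IsIntegrallyClosed ↑(Y.presheaf.stalk (f.base x))) := by
  refine ⟨fun h => ?_, stalk_ascend (fun R _ => IsDomain R ∧ IsIntegrallyClosed R)
    (fun {R S} _ _ e h => by
      haveI := h.1; haveI := h.2
      exact ⟨MulEquiv.isDomain R e.symm.toMulEquiv, IsIntegrallyClosed.of_equiv e⟩)
    (fun p _ q _ hq h => haveI := h.1; haveI := h.2; isNormal_localization p q hq) f hx⟩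
  haveI := h.1
  haveI := h.2
  letI := (f.stalkMap x).hom.toAlgebra
  haveI : Module.Flat (Y.presheaf.stalk (f x)) (X.presheaf.stalk x) := SmoothPoint.flat_stalkMap f hx
  haveI : IsLocalHom (algebraMap (Y.presheaf.stalk (f x)) (X.presheaf.stalk x)) :=
    inferInstanceAs (IsLocalHom (f.stalkMap x).hom)
  haveI := Module.FaithfullyFlat.of_flat_of_isLocalHom (A := Y.presheaf.stalk (f x)) (B := X.presheaf.stalk x)
  exact isIntegrallyClosed_descend (A := Y.presheaf.stalk (f x)) (B := X.presheaf.stalk x)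

end Groth.Agent.Omega.SmoothNormal
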