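import Groth.Agent.QCoh.FiniteType
import Groth.Prelude.Def_CohB1
import Groth.Prelude.Def_FlatMod2
import Mathlib.RingTheory.Finiteness.ModuleFinitePresentation

/-!
# Finite type, finite presentation and local freeness from affine charts
-/

set_option autoImplicit false

universe u

open CategoryTheory CategoryTheory.Limits AlgebraicGeometry TopologicalSpace Opposite

noncomputable section

namespace Groth.Agent.Omega.Charts

variable {X : Scheme.{u}}

/-- `fromSpec` composed with the chart isomorphism. -/
def restrictIso {U : X.Opens} (hU : IsAffineOpen U) (M : X.Modules) :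
    (M.restrict hU.fromSpec).restrict hU.isoSpec.hom ≅ M.restrict U.ι :=
  ((Scheme.Modules.restrictFunctorComp _ _).symm ≪≫
    Scheme.Modules.restrictFunctorCongr hU.isoSpec_hom_fromSpec).app M

/-- Transport presentations along an isomorphism. -/
def presOfIso {Z : Scheme.{u}} {M N : Z.Modules} (e : M ≅ N) (P : M.Presentation) : N.Presentation :=
  letI e' : @Iso (SheafOfModules.{u} Z.ringCatSheaf) _ M N := e
  haveI : IsIso e'.hom := Iso.isIso_hom e'
  SheafOfModules.Presentation.ofIsIso.{u, u, u} e'.hom P

/-- A presentation on an affine chart gives one of `M.over U`. -/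
def presentationOver {U : X.Opens} (hU : IsAffineOpen U) (M : X.Modules)
    (P : (M.restrict hU.fromSpec).Presentation) : (M.over U).Presentation :=
  let E := Scheme.Modules.overEquiv U
  let η : SheafOfModules.unit.{u} _ ≅ E.inverse.obj (SheafOfModules.unit.{u} _) :=
    (U.sheafOfModulesEquivOverInverseUnit X.ringCatSheaf).symm
  let F : SheafOfModules.{u} U.toScheme.ringCatSheaf ⥤ SheafOfModules.{u} (X.ringCatSheaf.over U) :=
    E.inverse
  have : PreservesColimitsOfSize.{u, u} F := E.symm.toAdjunction.leftAdjoint_preservesColimits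
  let e : F.obj (M.restrict U.ι) ≅ M.over U :=
    E.inverse.mapIso ((Scheme.Modules.overFunctorEquiv U).app M).symm ≪≫
      (E.unitIso.app (M.over U)).symm
  let P₁ : (M.restrict U.ι).Presentation :=
    presOfIso (restrictIso hU M) (Scheme.Modules.presentationRestrict hU.isoSpec.hom P)
  SheafOfModules.Presentation.ofIsIso.{u, u, u} e.hom (P₁.map F η)

theorem presentationOver_generators {U : X.Opens} (hU : IsAffineOpen U) (M : X.Modules)
    (P : (M.restrict hU.fromSpec).Presentation) :
    (presentationOver hU M P).generators.I = P.generators.I := rfl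

theorem presentationOver_relations {U : X.Opens} (hU : IsAffineOpen U) (M : X.Modules)
    (P : (M.restrict hU.fromSpec).Presentation) :
    (presentationOver hU M P).relations.I = P.relations.I := rfl

set_option maxHeartbeats 800000 in
/-- The quasi-coherent data given by charts. -/
def qcData (M : X.Modules) (U : X → X.Opens) (hU : ∀ x, IsAffineOpen (U x)) (hx : ∀ x, x ∈ U x)
    (N : ∀ x, ModuleCat.{u} Γ(X, U x)) (s : ∀ x, Set (N x))
    (hs : ∀ x, Submodule.span Γ(X, U x) (s x) = ⊤) (t : ∀ x, Set (s x →₀ Γ(X, U x)))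
    (ht : ∀ x, Submodule.span Γ(X, U x) (t x) =
      LinearMap.ker (Finsupp.linearCombination Γ(X, U x) ((↑) : s x → N x)))
    (e : ∀ x, tilde (N x) ≅ M.restrict (hU x).fromSpec) :
    SheafOfModules.QuasicoherentData.{u} (R := X.ringCatSheaf) M where
  I := X
  X := U
  coversTop := (Opens.coversTop_iff (U := U)).mpr (top_le_iff.mp fun x _ ↦ Opens.mem_iSup.mpr ⟨x, hx x⟩)
  presentation x := presentationOver (hU x) M
    (presOfIso (e x) (presentationTilde (N x) (s x) (hs x) (t x) (ht x)))

theorem isFT_of_charts (M : X.Modules)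
    (H : ∀ x : X, ∃ (U : X.Opens) (hU : IsAffineOpen U) (N : ModuleCat.{u} Γ(X, U)),
      x ∈ U ∧ Module.Finite Γ(X, U) N ∧ Nonempty (tilde N ≅ M.restrict hU.fromSpec)) :
    CohB1.IsFT M := by
  choose U hU N hx hfin he using H
  choose s hs using fun x => (hfin x).fg_top
  let q := qcData M U hU hx N (fun x => ↑(s x)) hs (fun x => LinearMap.ker (Finsupp.linearCombination Γ(X, U x) (Subtype.val : ↥(↑(s x) : Set (N x)) → N x)))
    (fun x => Submodule.span_eq _) (fun x => (he x).some)
  let σ : SheafOfModules.LocalGeneratorsData.{u} (R := X.ringCatSheaf) M := q.localGeneratorsData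
  have hσ : SheafOfModules.LocalGeneratorsData.IsFiniteType.{u} σ :=
    { isFiniteType := fun x => { finite := inferInstanceAs (Finite ↥(↑(s x) : Set (N x))) } }
  constructor
  exact ⟨σ, hσ⟩

theorem isFP_of_charts (M : X.Modules)
    (H : ∀ x : X, ∃ (U : X.Opens) (hU : IsAffineOpen U) (N : ModuleCat.{u} Γ(X, U)),
      x ∈ U ∧ Module.FinitePresentation Γ(X, U) N ∧ Nonempty (tilde N ≅ M.restrict hU.fromSpec)) :
    CohB1.IsFP M := by
  choose U hU N hx hfp he using H
  choose s hs hker using fun x => (hfp x).out
  choose t ht using hker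
  let q := qcData M U hU hx N (fun x => ↑(s x)) hs (fun x => ↑(t x)) ht (fun x => (he x).some)
  have hq : SheafOfModules.QuasicoherentData.IsFinitePresentation.{u} q :=
    { isFinite_presentation := fun x =>
        { isFiniteType_generators := { finite := inferInstanceAs (Finite ↥(↑(s x) : Set (N x))) }
          isFiniteType_relations := { finite := inferInstanceAs (Finite {a // a ∈ t x}) } } }
  constructor
  exact ⟨q, hq⟩

/-- The free sheaf on a finite type is the standard free module. -/
def freeIso {Z : Scheme.{u}} {ι : Type u} {n : ℕ} (e : ι ≃ Fin n) :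
    (SheafOfModules.free.{u} ι : Z.Modules) ≅ FlatMod.freeMod Z n :=
  Sigma.whiskerEquiv e fun _ => Iso.refl (Coh.structureModule Z)

theorem exists_free_restrict (M : X.Modules) {U : X.Opens} (hU : IsAffineOpen U)
    (N : ModuleCat.{u} Γ(X, U)) [Module.Finite Γ(X, U) N] [Module.Free Γ(X, U) N]
    [Nontrivial Γ(X, U)] (e : tilde N ≅ M.restrict hU.fromSpec) :
    Nonempty (M.restrict U.ι ≅ FlatMod.freeMod (↑U) (Module.finrank Γ(X, U) N)) := by
  let b := Module.Free.chooseBasis Γ(X, U) N
  let ι := Module.Free.ChooseBasisIndex Γ(X, U) N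
  have hcard : Fintype.card ι = Module.finrank Γ(X, U) N :=
    (Module.finrank_eq_card_chooseBasisIndex _ _).symm
  let F : X.Modules := M
  let G : SheafOfModules.{u} (Spec Γ(X, U)).ringCatSheaf ⥤ SheafOfModules.{u} U.toScheme.ringCatSheaf :=
    Scheme.Modules.restrictFunctor hU.isoSpec.hom
  have : PreservesColimitsOfSize.{u, u} G :=
    (Scheme.Modules.restrictAdjunction hU.isoSpec.hom).leftAdjoint_preservesColimits
  let e₁ : (SheafOfModules.free.{u} ι : (Spec Γ(X, U)).Modules) ≅ M.restrict hU.fromSpec :=
    (tildeFinsupp ι).symm ≪≫ (tilde.functor Γ(X, U)).mapIso b.repr.symm.toModuleIso ≪≫ e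
  let e₂ : G.obj (SheafOfModules.free.{u} ι) ≅ SheafOfModules.free.{u} ι :=
    (SheafOfModules.mapFreeIso G ι (Scheme.Modules.restrictUnitIso hU.isoSpec.hom).symm).symm
  exact ⟨(restrictIso hU M).symm ≪≫ (Scheme.Modules.restrictFunctor hU.isoSpec.hom).mapIso e₁.symm ≪≫
    e₂ ≪≫ freeIso (Fintype.equivFinOfCardEq hcard)⟩

end Groth.Agent.Omega.Charts

end
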