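import Groth.Agent.Omega.Stalks

/-!
# Stalks of conormal sheaves and of pulled back differentials
-/

set_option autoImplicit false

universe u

open CategoryTheory CategoryTheory.Limits AlgebraicGeometry TopologicalSpace Opposite

noncomputable section

namespace Groth.Agent.Omega.StalkConormal

open OmegaSh Basic Stalks
open Groth.Agent.PullStalk.Sky Groth.Agent.PullStalk.Exact Groth.Agent.PullStalk.Basic

variable {X Z : Scheme.{u}} (i : Z ⟶ X) (z : Z)

/-- Universality of the unit on stalks. -/
theorem existsUnique_unitStalk (M : X.Modules) (N : Type u) [AddCommGroup N]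
    [Module (Z.presheaf.stalk z) N] (k : M.presheaf.stalk (i z) →+ N)
    (hk : ∀ b m, k (b • m) = i.stalkMap z b • k m) :
    ∃! l : ((Scheme.Modules.pullback i).obj M).presheaf.stalk z →ₗ[Z.presheaf.stalk z] N,
      ∀ m, l (unitStalkHom i M z m) = k m := by
  let := (i.stalkMap z).hom.toAlgebra
  let := moduleOver i M z
  have : IsScalarTower (X.presheaf.stalk (i z)) (Z.presheaf.stalk z)
        (((Scheme.Modules.pullback i).obj M).presheaf.stalk z) :=
      IsScalarTower.of_algebraMap_smul fun _ _ => rfl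
  let : Module (X.presheaf.stalk (i z)) N := Module.compHom N (i.stalkMap z).hom
  have : IsScalarTower (X.presheaf.stalk (i z)) (Z.presheaf.stalk z) N :=
    IsScalarTower.of_algebraMap_smul fun _ _ => rfl
  have hb := isBaseChange_unitStalk i M z
  let kl : M.presheaf.stalk (i z) →ₗ[X.presheaf.stalk (i z)] N :=
    { toFun := k, map_add' := map_add k, map_smul' := hk }
  exact ⟨hb.lift kl, fun m => hb.lift_eq kl m,
    fun l hl => hom_eq_of_unitStalk i l _ fun m => (hl m).trans (hb.lift_eq kl m).symm⟩

/-- The pullback of a universal derivation, on stalks. -/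
theorem exists_pullDer {Y : Scheme.{u}} {f : X ⟶ Y} {Ω : X.Modules} {d : Der f Ω} (hd : IsUniversal d) :
    ∃ δ : X.presheaf.stalk (i z) →+ ((Scheme.Modules.pullback i).obj Ω).presheaf.stalk z,
      (∀ a b, δ (a * b) = i.stalkMap z a • δ b + i.stalkMap z b • δ a) ∧
      (∀ c, δ (f.stalkMap (i z) c) = 0) ∧
      (∀ U (hx : i z ∈ U) s, δ (X.presheaf.germ U (i z) hx s) =
        germM _ (i ⁻¹ᵁ U) z hx (pullSect i Ω U (d.app U s))) ∧
      ∀ (N : Type u) [AddCommGroup N] [Module (Z.presheaf.stalk z) N] (e : X.presheaf.stalk (i z) →+ N),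
        (∀ a b, e (a * b) = i.stalkMap z a • e b + i.stalkMap z b • e a) →
        (∀ c, e (f.stalkMap (i z) c) = 0) →
          ∃! l : ((Scheme.Modules.pullback i).obj Ω).presheaf.stalk z →ₗ[Z.presheaf.stalk z] N,
            ∀ a, l (δ a) = e a := by
  obtain ⟨δ, h₁, h₂, h₃, h₄⟩ := exists_stalk_universal hd (i z)
  let u := (unitStalkHom i Ω z).hom
  refine ⟨u.comp δ, fun a b => ?_, fun c => ?_, fun U hx s => ?_, fun N _ _ e he₁ he₂ => ?_⟩
  · change u (δ (a * b)) = _
    rw [h₁, map_add]
    exact congr_arg₂ (· + ·) (unitStalkHom_smul i Ω z a (δ b)) (unitStalkHom_smul i Ω z b (δ a))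
  · change u (δ _) = 0
    rw [h₂, map_zero]
  · change u (δ _) = _
    rw [h₃]
    exact unitStalkHom_germ i Ω z U hx _
  let : Module (X.presheaf.stalk (i z)) N := Module.compHom N (i.stalkMap z).hom
  obtain ⟨k, hk, hkuniq⟩ := h₄ N e he₁ he₂
  obtain ⟨l, hl, hluniq⟩ := existsUnique_unitStalk i z Ω N k.toAddMonoidHom fun b m => map_smul k b m
  refine ⟨l, fun a => (hl (δ a)).trans (hk a), fun l' hl' => hluniq l' fun m => ?_⟩
  let k' : Ω.presheaf.stalk (i z) →ₗ[X.presheaf.stalk (i z)] N :=
    { toFun := fun m => l' (u m)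
      map_add' := fun a b => by simp
      map_smul' := fun b m => by
        rw [RingHom.id_apply]
        exact (congrArg l' (unitStalkHom_smul i Ω z b m)).trans (map_smul l' _ _) }
  exact congr($(hkuniq k' hl') m)

/-- The conormal sheaf on stalks is the base change of the kernel of the map of local rings. -/
theorem exists_conormal [QuasiCompact i] (hi : Topology.IsInducing i) :
    ∃ κ : RingHom.ker (i.stalkMap z).hom →+ (Omega.conormal i).presheaf.stalk z,
      (∀ b a, κ (b • a) = i.stalkMap z b • κ a) ∧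
      (∀ U (hx : i z ∈ U) s (h : X.presheaf.germ U (i z) hx (idealSect i.ker U s) ∈
          RingHom.ker (i.stalkMap z).hom),
        κ ⟨_, h⟩ = germM _ (i ⁻¹ᵁ U) z hx (conormalSect i U s)) ∧
      ∀ (N : Type u) [AddCommGroup N] [Module (Z.presheaf.stalk z) N]
        (k : RingHom.ker (i.stalkMap z).hom →+ N),
        (∀ b a, k (b • a) = i.stalkMap z b • k a) →
          ∃! l : (Omega.conormal i).presheaf.stalk z →ₗ[Z.presheaf.stalk z] N, ∀ a, l (κ a) = k a := by
  let j : (ClSub.idealMod i.ker).presheaf.stalk (i z) →ₗ[X.presheaf.stalk (i z)]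
      RingHom.ker (i.stalkMap z).hom :=
    LinearMap.codRestrict _ (idealStalk i.ker (i z)) fun t =>
      (range_idealStalk i hi z).le (Set.mem_range_self t)
  have hj : Function.Bijective j := by
    refine ⟨fun a b h => idealStalk_injective i.ker (i z) congr(Subtype.val $h), fun a => ?_⟩
    obtain ⟨t, ht⟩ := (range_idealStalk i hi z).ge a.2
    exact ⟨t, Subtype.ext ht⟩
  let J := LinearEquiv.ofBijective j hj
  let u := (unitStalkHom i (ClSub.idealMod i.ker) z).hom
  refine ⟨u.comp J.symm.toLinearMap.toAddMonoidHom, fun b a => ?_, fun U hx s h => ?_, fun N _ _ k hk => ?_⟩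
  · change u (J.symm (b • a)) = _ • u (J.symm a)
    rw [map_smul]
    exact unitStalkHom_smul i _ z b _
  · change u (J.symm ⟨_, h⟩) = _
    have : J.symm ⟨_, h⟩ = germM _ U (i z) hx s :=
      J.symm_apply_eq.mpr (Subtype.ext (idealStalk_germ i.ker (i z) U hx s).symm)
    rw [this]
    exact unitStalkHom_germ i _ z U hx s
  obtain ⟨l, hl, hluniq⟩ := existsUnique_unitStalk i z (ClSub.idealMod i.ker) N
    (k.comp J.toLinearMap.toAddMonoidHom) fun b m => (congrArg k (map_smul J b m)).trans (hk b (J m))
  refine ⟨l, fun a => (hl (J.symm a)).trans (congrArg k (J.apply_symm_apply a)), fun l' hl' => hluniq l' fun m => ?_⟩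
  have := hl' (J m)
  change l' (u (J.symm (J m))) = _ at this
  rw [J.symm_apply_apply] at this
  exact this

end Groth.Agent.Omega.StalkConormal

end
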