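import Groth.Agent.Omega.DerLift
import Groth.Agent.Omega.StalkConormal

/-!
# Differentials of a fibre product
-/

set_option autoImplicit false

universe u

open CategoryTheory CategoryTheory.Limits AlgebraicGeometry TopologicalSpace Opposite

noncomputable section

namespace Groth.Agent.Omega.ProdDiff

open OmegaSh Basic Stalks StalkConormal
open Groth.Agent.PullStalk.Sky Groth.Agent.PullStalk.Exact Groth.Agent.PullStalk.Basic

theorem stalkLin_id {X : Scheme.{u}} {M : X.Modules} (x : X) (t : M.presheaf.stalk x) :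
    stalkLin (𝟙 M) x t = t := by
  obtain ⟨U, hx, m, rfl⟩ := exists_germM_eq M x t
  rw [stalkLin_germ]
  rfl

theorem stalkLin_add {X : Scheme.{u}} {M N : X.Modules} (φ ψ : M ⟶ N) (x : X) (t : M.presheaf.stalk x) :
    stalkLin (φ + ψ) x t = stalkLin φ x t + stalkLin ψ x t := by
  obtain ⟨U, hx, m, rfl⟩ := exists_germM_eq M x t
  rw [stalkLin_germ, stalkLin_germ, stalkLin_germ]
  exact map_add (N.presheaf.germ U x hx).hom _ _

variable {X Y S Z : Scheme.{u}} {a : X ⟶ S} {b : Y ⟶ S} {p : Z ⟶ X} {q : Z ⟶ Y} {h : Z ⟶ S}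

theorem isIso_desc (wp : p ≫ a = h) (hZ : IsPullback p q a b)
    {ΩX : X.Modules} {dX : Der a ΩX} (hX : IsUniversal dX)
    {ΩY : Y.Modules} {dY : Der b ΩY} (hY : IsUniversal dY)
    {ΩZ : Z.Modules} {dZ : Der h ΩZ} (hZu : IsUniversal dZ)
    {c₁ : (Scheme.Modules.pullback p).obj ΩX ⟶ ΩZ} (hc₁ : IsDiffCompat p dX dZ c₁)
    {c₂ : (Scheme.Modules.pullback q).obj ΩY ⟶ ΩZ} (hc₂ : IsDiffCompat q dY dZ c₂) :
    IsIso (coprod.desc c₁ c₂) := by
  refine isIso_of_stalk fun z => ?_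
  let P := (Scheme.Modules.pullback p).obj ΩX
  let Q := (Scheme.Modules.pullback q).obj ΩY
  let i₁ := stalkLin (coprod.inl : P ⟶ P ⨿ Q) z
  let i₂ := stalkLin (coprod.inr : Q ⟶ P ⨿ Q) z
  let c := stalkLin (coprod.desc c₁ c₂) z
  obtain ⟨δ₁, hmul₁, hzero₁, hgerm₁, hu₁⟩ := exists_pullDer p z hX
  obtain ⟨δ₂, hmul₂, hzero₂, hgerm₂, hu₂⟩ := exists_pullDer q z hY
  obtain ⟨δ, hmul, hzero, hgerm, hu⟩ := exists_stalk_universal hZu z
  have hc₁' : ∀ x, c (i₁ (δ₁ x)) = δ (p.stalkMap z x) := fun x => by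
    obtain ⟨U, hx, s, rfl⟩ := X.presheaf.exists_germ_eq (x := p z) x
    refine (stalkLin_comp _ _ z _).symm.trans ?_
    rw [coprod.inl_desc, hgerm₁ U hx s, Scheme.Hom.germ_stalkMap_apply]
    exact (stalkLin_germ c₁ _ _ _ _).trans ((congrArg _ (hc₁ U s)).trans (hgerm (p ⁻¹ᵁ U) hx _).symm)
  have hc₂' : ∀ x, c (i₂ (δ₂ x)) = δ (q.stalkMap z x) := fun x => by
    obtain ⟨U, hx, s, rfl⟩ := Y.presheaf.exists_germ_eq (x := q z) x
    refine (stalkLin_comp _ _ z _).symm.trans ?_
    rw [coprod.inr_desc, hgerm₂ U hx s, Scheme.Hom.germ_stalkMap_apply]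
    exact (stalkLin_germ c₂ _ _ _ _).trans ((congrArg _ (hc₂ U s)).trans (hgerm (q ⁻¹ᵁ U) hx _).symm)
  obtain ⟨D, ⟨hD, hD₁, hD₂⟩, -⟩ := DerLift.existsUnique_der_pullback hZ z _
    (i₁.toAddMonoidHom.comp δ₁) (fun x y => by
      change i₁ (δ₁ (x * y)) = _
      rw [hmul₁, map_add, map_smul, map_smul]
      rfl) (fun s => (congrArg i₁ (hzero₁ s)).trans (map_zero i₁))
    (i₂.toAddMonoidHom.comp δ₂) (fun x y => by
      change i₂ (δ₂ (x * y)) = _
      rw [hmul₂, map_add, map_smul, map_smul]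
      rfl) (fun s => (congrArg i₂ (hzero₂ s)).trans (map_zero i₂))
  have hD₀ : ∀ s, D (h.stalkMap z s) = 0 := fun s => by
    subst wp
    rw [Scheme.Hom.stalkMap_comp]
    change D (p.stalkMap z (a.stalkMap (p z) s)) = 0
    rw [hD₁]
    exact (congrArg i₁ (hzero₁ s)).trans (map_zero i₁)
  obtain ⟨l, hl, -⟩ := hu _ D hD hD₀
  have hl₁ : ∀ t, l (c (i₁ t)) = i₁ t := by
    have e : (l ∘ₗ c) ∘ₗ i₁ = i₁ :=
      (hu₁ _ (i₁.toAddMonoidHom.comp δ₁) (fun x y => by
        change i₁ (δ₁ (x * y)) = _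
        rw [hmul₁, map_add, map_smul, map_smul]
        rfl) (fun s => (congrArg i₁ (hzero₁ s)).trans (map_zero i₁))).unique
        (fun x => (congrArg l (hc₁' x)).trans ((hl _).trans (hD₁ x))) fun x => rfl
    exact fun t => congr($e t)
  have hl₂ : ∀ t, l (c (i₂ t)) = i₂ t := by
    have e : (l ∘ₗ c) ∘ₗ i₂ = i₂ :=
      (hu₂ _ (i₂.toAddMonoidHom.comp δ₂) (fun x y => by
        change i₂ (δ₂ (x * y)) = _
        rw [hmul₂, map_add, map_smul, map_smul]
        rfl) (fun s => (congrArg i₂ (hzero₂ s)).trans (map_zero i₂))).unique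
        (fun x => (congrArg l (hc₂' x)).trans ((hl _).trans (hD₂ x))) fun x => rfl
    exact fun t => congr($e t)
  have hsum : (coprod.desc (𝟙 P) 0 : P ⨿ Q ⟶ P) ≫ coprod.inl + coprod.desc 0 (𝟙 Q) ≫ coprod.inr = 𝟙 _ :=
    coprod.hom_ext
      (by rw [Preadditive.comp_add, ← Category.assoc, ← Category.assoc, coprod.inl_desc, coprod.inl_desc,
        zero_comp, add_zero, Category.id_comp, Category.comp_id])
      (by rw [Preadditive.comp_add, ← Category.assoc, ← Category.assoc, coprod.inr_desc, coprod.inr_desc,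
        zero_comp, zero_add, Category.id_comp, Category.comp_id])
  refine ⟨Function.LeftInverse.injective (g := l) fun t => ?_,
    Function.LeftInverse.surjective (g := l) fun t => ?_⟩
  · obtain ⟨u, v, rfl⟩ : ∃ u v, t = i₁ u + i₂ v := by
      refine ⟨stalkLin (coprod.desc (𝟙 P) 0) z t, stalkLin (coprod.desc 0 (𝟙 Q)) z t, ?_⟩
      rw [← stalkLin_comp, ← stalkLin_comp, ← stalkLin_add, hsum, stalkLin_id]
    exact (congrArg l (map_add c _ _)).trans ((map_add l _ _).trans (congr_arg₂ _ (hl₁ u) (hl₂ v)))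
  · have e : c ∘ₗ l = LinearMap.id := by
      refine (hu _ δ hmul hzero).unique (fun x => ?_) fun x => rfl
      change c (l (δ x)) = δ x
      rw [hl]
      have key := (DerLift.existsUnique_der_pullback hZ z _ (δ.comp (p.stalkMap z).hom.toAddMonoidHom)
        (fun x y => (congrArg δ (map_mul (p.stalkMap z).hom x y)).trans (hmul _ _))
        (fun s => by
          subst wp
          exact (congrArg δ (congr($(Scheme.Hom.stalkMap_comp p a z) s)).symm).trans (hzero s))
        (δ.comp (q.stalkMap z).hom.toAddMonoidHom)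
        (fun x y => (congrArg δ (map_mul (q.stalkMap z).hom x y)).trans (hmul _ _))
        (fun s => by
          obtain rfl : h = q ≫ b := wp.symm.trans hZ.w
          exact (congrArg δ (congr($(Scheme.Hom.stalkMap_comp q b z) s)).symm).trans (hzero s))).unique
        (y₁ := c.toAddMonoidHom.comp D) (y₂ := δ) ⟨fun x y => ?_, fun x => ?_, fun x => ?_⟩
        ⟨hmul, fun x => rfl, fun x => rfl⟩
      · exact congr($key x)
      · change c (D (x * y)) = _
        rw [hD, map_add, map_smul, map_smul]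
        rfl
      · exact (congrArg c (hD₁ x)).trans (hc₁' x)
      · exact (congrArg c (hD₂ x)).trans (hc₂' x)
    exact congr($e t)

end Groth.Agent.Omega.ProdDiff

end
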