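import Groth.Agent.CAlgLib.LocalDimSpec
import Groth.Agent.FieldSep.Cartier
import Groth.Agent.FieldSep.MacLane
import Groth.Agent.JacCrit.Quotient
import Groth.Agent.CotTLib.Smooth
import Groth.Agent.TrdegDim.Basic

/-!
# The rank of differentials, the local dimension and smoothness over a field
-/

set_option autoImplicit false

universe u

open TensorProduct

noncomputable section

namespace Groth.Agent.Omega.RankDim

section Fibre

variable {A : Type u} [CommRing A] (M : Type u) [AddCommGroup M] [Module A M]

/-- The fibre rank over any field receiving the residue field. -/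
theorem finrank_fibre_eq (p : Ideal A) [p.IsPrime] (κ : Type u) [Field κ] [Algebra A κ]
    [Algebra p.ResidueField κ] [IsScalarTower A p.ResidueField κ] :
    Module.finrank κ (κ ⊗[A] M) = Module.finrank p.ResidueField (p.ResidueField ⊗[A] M) := by
  rw [← (AlgebraTensorModule.cancelBaseChange A p.ResidueField κ κ M).finrank_eq,
    Module.finrank_baseChange]

/-- Semicontinuity of the fibre rank. -/
theorem finrank_fibre_mono [Module.Finite A M] {p P : Ideal A} [p.IsPrime] [P.IsPrime] (h : p ≤ P) :
    Module.finrank p.ResidueField (p.ResidueField ⊗[A] M) ≤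
      Module.finrank P.ResidueField (P.ResidueField ⊗[A] M) := by
  obtain ⟨b, hb⟩ : ∃ b : Fin (Module.finrank P.ResidueField (P.ResidueField ⊗[A] M)) → M,
      Submodule.span P.ResidueField (Set.range fun i => (1 : P.ResidueField) ⊗ₜ[A] b i) = ⊤ := by
    have hspan : Submodule.span P.ResidueField (Set.range fun m : M => (1 : P.ResidueField) ⊗ₜ[A] m) = ⊤ := by
      refine top_le_iff.mp fun t _ => ?_
      induction t using TensorProduct.induction_on with
      | zero => exact zero_mem _
      | add x y hx hy => exact add_mem (hx Submodule.mem_top) (hy Submodule.mem_top)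
      | tmul a m =>
        rw [show (a ⊗ₜ[A] m : P.ResidueField ⊗[A] M) = a • (1 : P.ResidueField) ⊗ₜ m by
          rw [smul_tmul', smul_eq_mul, mul_one]]
        exact Submodule.smul_mem _ _ (Submodule.subset_span ⟨m, rfl⟩)
    obtain ⟨f, hf, hspan', -⟩ := Submodule.exists_fun_fin_finrank_span_eq P.ResidueField
      (Set.range fun m : M => (1 : P.ResidueField) ⊗ₜ[A] m)
    have hfin : Module.finrank P.ResidueField
        (Submodule.span P.ResidueField (Set.range fun m : M => (1 : P.ResidueField) ⊗ₜ[A] m)) =
        Module.finrank P.ResidueField (P.ResidueField ⊗[A] M) := by rw [hspan, finrank_top]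
    choose b hb using hf
    refine ⟨fun i => b (Fin.cast hfin.symm i), eq_top_iff.mpr (hspan.ge.trans (hspan'.ge.trans
      (Submodule.span_mono ?_)))⟩
    rintro x ⟨i, rfl⟩
    exact ⟨Fin.cast hfin i, by simpa using hb i⟩
  let L : Submodule A M := Submodule.span A (Set.range b)
  have hexact : ∀ (q : Ideal A) [q.IsPrime],
      Function.Exact (L.subtype.baseChange q.ResidueField) (L.mkQ.baseChange q.ResidueField) := fun q _ =>
    lTensor_exact q.ResidueField (LinearMap.exact_subtype_mkQ L) L.mkQ_surjective
  have hrange : ∀ (q : Ideal A) [q.IsPrime], LinearMap.range (L.subtype.baseChange q.ResidueField) =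
      Submodule.span q.ResidueField (Set.range fun i => (1 : q.ResidueField) ⊗ₜ[A] b i) := fun q _ => by
    refine le_antisymm ?_ (Submodule.span_le.mpr ?_)
    · rintro _ ⟨t, rfl⟩
      induction t using TensorProduct.induction_on with
      | zero => simp
      | add x y hx hy => rw [map_add]; exact add_mem hx hy
      | tmul a m =>
        obtain ⟨m, hm⟩ := m
        rw [LinearMap.baseChange_tmul, Submodule.subtype_apply]
        show a ⊗ₜ[A] m ∈ _
        induction hm using Submodule.span_induction with
        | mem x hx =>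
          obtain ⟨i, rfl⟩ := hx
          rw [show (a ⊗ₜ[A] b i : q.ResidueField ⊗[A] M) = a • (1 : q.ResidueField) ⊗ₜ b i by
            rw [smul_tmul', smul_eq_mul, mul_one]]
          exact Submodule.smul_mem _ _ (Submodule.subset_span ⟨i, rfl⟩)
        | zero => simp
        | add x y _ _ hx hy => rw [tmul_add]; exact add_mem hx hy
        | smul r x _ hx =>
          rw [tmul_smul, ← algebraMap_smul q.ResidueField r]
          exact Submodule.smul_mem _ _ hx
    · rintro _ ⟨i, rfl⟩
      exact ⟨1 ⊗ₜ ⟨b i, Submodule.subset_span ⟨i, rfl⟩⟩, rfl⟩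
  have hP : Subsingleton (P.ResidueField ⊗[A] (M ⧸ L)) := by
    refine subsingleton_of_forall_eq 0 fun t => ?_
    obtain ⟨s, rfl⟩ := LinearMap.lTensor_surjective P.ResidueField L.mkQ_surjective t
    exact (hexact P s).mpr ((hrange P).ge (by rw [hb]; trivial))
  have hp : Subsingleton (p.ResidueField ⊗[A] (M ⧸ L)) := by
    by_contra hne
    rw [not_subsingleton_iff_nontrivial] at hne
    have := Module.mem_support_mono (R := A) (M := M ⧸ L) (p := ⟨p, inferInstance⟩)
      (q := ⟨P, inferInstance⟩) h (((Module.mem_support_iff_nontrivial_residueField_tensorProduct ⟨p, inferInstance⟩).mpr hne))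
    rw [Module.mem_support_iff_nontrivial_residueField_tensorProduct] at this
    exact not_nontrivial_iff_subsingleton.mpr hP this
  have htop : Submodule.span p.ResidueField (Set.range fun i => (1 : p.ResidueField) ⊗ₜ[A] b i) = ⊤ := by
    rw [← hrange p, ← LinearMap.exact_iff.mp (hexact p)]
    exact eq_top_iff.mpr fun t _ => LinearMap.mem_ker.mpr (Subsingleton.elim _ _)
  calc Module.finrank p.ResidueField (p.ResidueField ⊗[A] M)
      = Module.finrank p.ResidueField (⊤ : Submodule p.ResidueField (p.ResidueField ⊗[A] M)) :=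
        (finrank_top _ _).symm
    _ ≤ _ := by
      rw [← htop]
      exact (finrank_range_le_card _).trans_eq (Fintype.card_fin _)

end Fibre

variable (k : Type u) [Field k] {A : Type u} [CommRing A] [Algebra k A] [Algebra.FiniteType k A]

/-- The fibre rank of `Ω` at a prime. -/
abbrev rank (q : Ideal A) [q.IsPrime] : ℕ :=
  Module.finrank q.ResidueField (q.ResidueField ⊗[A] Ω[A⁄k])

theorem exists_trdeg_eq (q : Ideal A) [q.IsPrime] : ∃ t : ℕ, Algebra.trdeg k q.ResidueField = t := by
  obtain ⟨t, -, ht, -⟩ := VarDim.exists_ringKrullDim_eq_trdeg (k := k) (A := A ⧸ q)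
  haveI : Algebra.IsAlgebraic (A ⧸ q) q.ResidueField :=
    IsLocalization.isAlgebraic q.ResidueField (nonZeroDivisors (A ⧸ q))
  refine ⟨t, ?_⟩
  rw [← trdeg_add_eq k (A ⧸ q), trdeg_eq_zero (R := A ⧸ q), add_zero, ht]

theorem finrank_residueField_le_rank (q : Ideal A) [q.IsPrime] :
    Module.finrank q.ResidueField Ω[q.ResidueField⁄k] ≤ rank k q := by
  haveI : Module.Finite A Ω[A⁄k] := inferInstance
  refine LinearMap.finrank_le_finrank_of_surjective (f := KaehlerDifferential.mapBaseChange k A q.ResidueField) ?_
  have hex := KaehlerDifferential.exact_mapBaseChange_map k A q.ResidueField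
  have : Subsingleton Ω[q.ResidueField⁄A] := by
    haveI : Algebra.FormallyUnramified (A ⧸ q) q.ResidueField :=
      Algebra.FormallyUnramified.of_isLocalization (Rₘ := q.ResidueField) (nonZeroDivisors (A ⧸ q))
    haveI : Algebra.FormallyUnramified A q.ResidueField := Algebra.FormallyUnramified.comp A (A ⧸ q) _
    infer_instance
  intro x
  exact (hex x).mp (Subsingleton.elim _ _)

theorem trdeg_le_rank (q : Ideal A) [q.IsPrime] (t : ℕ) (ht : Algebra.trdeg k q.ResidueField = t) :
    t ≤ rank k q := by
  haveI : Algebra.EssFiniteType A q.ResidueField := inferInstance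
  haveI : Algebra.EssFiniteType k q.ResidueField := Algebra.EssFiniteType.comp k A q.ResidueField
  have h := FieldSep.Cartier.finrank_sub_finrank_eq_trdeg k q.ResidueField
  rw [ht, Cardinal.toNat_natCast] at h
  have := finrank_residueField_le_rank k q
  omega

/-- The fibre rank bounds the dimension of every component through the point. -/
theorem ringKrullDim_quotient_le_rank {p P : Ideal A} [p.IsPrime] [P.IsPrime] (h : p ≤ P) :
    ringKrullDim (A ⧸ p) ≤ (rank k P : WithBot ℕ∞) := by
  obtain ⟨t, ht⟩ := exists_trdeg_eq k p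
  rw [TrdegDim.ringKrullDim_quotient_eq p t ht]
  exact_mod_cast (trdeg_le_rank k p t ht).trans (finrank_fibre_mono Ω[A⁄k] h)

theorem localDim_le_rank (q : Ideal A) [q.IsPrime] :
    FlatMor.localDim (PrimeSpectrum A) ⟨q, inferInstance⟩ ≤ (rank k q : WithBot ℕ∞) := by
  rw [CAlgLib.LocalDimSpec.localDim_eq k q]
  exact iSup_le fun p => by
    haveI := Ideal.minimalPrimes_isPrime p.2.1
    exact ringKrullDim_quotient_le_rank k p.2.2

/-- Cutting a quotient of a polynomial ring by equations with independent differentials. -/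
theorem exists_smooth_cover (n : ℕ) [Algebra (MvPolynomial (Fin n) k) A]
    [IsScalarTower k (MvPolynomial (Fin n) k) A]
    (hsurj : Function.Surjective (algebraMap (MvPolynomial (Fin n) k) A)) (q : Ideal A) [q.IsPrime] :
    ∃ (D : Type u) (_ : CommRing D) (_ : Algebra k D) (_ : Algebra.FiniteType k D) (π : D →ₐ[k] A)
      (_ : Function.Surjective π),
      Algebra.FormallySmooth k (Localization.AtPrime (q.comap π.toRingHom)) ∧
      rank k (q.comap π.toRingHom) ≤ rank k q := by
  classical
  let P := MvPolynomial (Fin n) k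
  let κ := q.ResidueField
  let J := RingHom.ker (algebraMap P A)
  let V := κ ⊗[P] Ω[P⁄k]
  let dV : P → V := fun f => 1 ⊗ₜ KaehlerDifferential.D k P f
  let W : Submodule κ V := Submodule.span κ (Set.range fun f : J => dV f.1)
  haveI : Module.Finite P Ω[P⁄k] := inferInstance
  obtain ⟨f, hf, hfspan, hfli⟩ := Submodule.exists_fun_fin_finrank_span_eq κ (Set.range fun f : J => dV f.1)
  choose g hg using hf
  let I : Ideal P := Ideal.span (Set.range fun i => (g i).1)
  have hIJ : I ≤ J := Ideal.span_le.mpr (Set.range_subset_iff.mpr fun i => (g i).2)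
  let D := P ⧸ I
  let π : D →ₐ[k] A := Ideal.Quotient.liftₐ I (IsScalarTower.toAlgHom k P A) fun a ha => hIJ ha
  have hπ : Function.Surjective π := fun a => by
    obtain ⟨b, rfl⟩ := hsurj a
    exact ⟨Ideal.Quotient.mk I b, rfl⟩
  refine ⟨D, inferInstance, inferInstance, inferInstance, π, hπ, ?_, ?_⟩
  · let qD := q.comap π.toRingHom
    let κD := qD.ResidueField
    haveI : qD.IsPrime := inferInstance
    have hsurjD : Function.Surjective (algebraMap P D) := Ideal.Quotient.mk_surjective
    haveI : Module.Finite P (RingHom.ker (algebraMap P D)).Cotangent :=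
      Module.Finite.of_surjective _ (RingHom.ker (algebraMap P D)).toCotangent_surjective
    rw [JacCrit.Quotient.formallySmooth_atPrime_iff (A := k) hsurjD qD,
      ← JacCrit.Quotient.injective_iff_kerCotangentToTensor (A := k) hsurjD]
    let ι : κD →+* κ := Ideal.ResidueField.map qD q π.toRingHom rfl
    have hι : ∀ d : D, ι (algebraMap D κD d) = algebraMap A κ (π d) := fun d =>
      Ideal.ResidueField.map_algebraMap _ _ _ _ d
    have hιP : ∀ a : P, ι (algebraMap P κD a) = algebraMap P κ a := fun a => by
      rw [IsScalarTower.algebraMap_apply P D κD, hι, IsScalarTower.algebraMap_apply P A κ]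
      rfl
    let lD : D ⊗[P] Ω[P⁄k] →ₗ[P] V :=
      LinearMap.rTensor _ (AlgHom.toLinearMap
        ((IsScalarTower.toAlgHom P A κ).comp (AlgHom.mk π.toRingHom fun a => rfl : D →ₐ[P] A)))
    let G : κD ⊗[P] (D ⊗[P] Ω[P⁄k]) →ₗ[P] V :=
      TensorProduct.lift (LinearMap.mk₂ P (fun a t => ι a • lD t)
        (fun a b t => by rw [map_add, add_smul])
        (fun c a t => by rw [Algebra.smul_def, map_mul, hιP, mul_smul, algebraMap_smul])
        (fun a s t => by rw [map_add, smul_add])
        (fun c a t => by rw [map_smul, smul_comm]))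
    let C := (RingHom.ker (algebraMap P D)).Cotangent
    have hgker : ∀ i, (g i).1 ∈ RingHom.ker (algebraMap P D) := fun i =>
      Ideal.Quotient.eq_zero_iff_mem.mpr (Ideal.subset_span ⟨i, rfl⟩)
    let e : Fin _ → C := fun i => (RingHom.ker (algebraMap P D)).toCotangent ⟨_, hgker i⟩
    have he : Submodule.span κD (Set.range fun i => (1 : κD) ⊗ₜ[P] e i) = ⊤ := by
      refine top_le_iff.mp fun t _ => ?_
      induction t using TensorProduct.induction_on with
      | zero => exact zero_mem _
      | add x y hx hy => exact add_mem (hx Submodule.mem_top) (hy Submodule.mem_top)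
      | tmul a c =>
        obtain ⟨⟨c, hc⟩, rfl⟩ := (RingHom.ker (algebraMap P D)).toCotangent_surjective c
        have hcI : c ∈ Submodule.span P (Set.range fun i => (g i).1) :=
          Ideal.Quotient.eq_zero_iff_mem.mp hc
        obtain ⟨c', rfl⟩ := (Submodule.mem_span_range_iff_exists_fun P).mp hcI
        have : (⟨∑ i, c' i • (g i).1, hc⟩ : RingHom.ker (algebraMap P D)) =
            ∑ i, c' i • ⟨(g i).1, hgker i⟩ := Subtype.ext (by simp)
        rw [this, map_sum, tmul_sum]
        refine Submodule.sum_mem _ fun i _ => ?_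
        rw [map_smul, tmul_smul]
        refine Submodule.smul_of_tower_mem _ _ ?_
        rw [show (a ⊗ₜ[P] e i : κD ⊗[P] C) = a • (1 : κD) ⊗ₜ[P] e i by
          rw [smul_tmul', smul_eq_mul, mul_one]]
        exact Submodule.smul_mem _ _ (Submodule.subset_span ⟨i, rfl⟩)
    rw [injective_iff_map_eq_zero]
    intro t ht
    obtain ⟨c, rfl⟩ := (Submodule.mem_span_range_iff_exists_fun κD).mp (he ▸ Submodule.mem_top (x := t))
    have hG : ∑ i, ι (c i) • f i = 0 := by
      have := congrArg G ht
      rw [map_zero, map_sum, map_sum] at this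
      rw [← this]
      refine Finset.sum_congr rfl fun i _ => ?_
      rw [← hg i, show c i • (1 : κD) ⊗ₜ[P] e i = c i ⊗ₜ[P] e i by rw [smul_tmul', smul_eq_mul, mul_one],
        LinearMap.lTensor_tmul]
      simp [G, lD, e, dV, KaehlerDifferential.kerCotangentToTensor_toCotangent]
      exact congrArg (fun w => ι (c i) • w) (congrArg (fun w => w ⊗ₜ[P] KaehlerDifferential.D k P (g i).1)
        (map_one ((algebraMap A κ).comp π.toRingHom)).symm)
    have hc0 := Fintype.linearIndependent_iff.mp hfli _ hG
    refine Finset.sum_eq_zero fun i _ => ?_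
    rw [ι.injective ((hc0 i).trans (map_zero ι).symm), zero_smul]
  · let qD := q.comap π.toRingHom
    letI : Algebra D A := π.toRingHom.toAlgebra
    haveI : IsScalarTower k D A := IsScalarTower.of_algebraMap_eq fun x => (π.commutes x).symm
    let ι : qD.ResidueField →+* κ := Ideal.ResidueField.map qD q π.toRingHom rfl
    letI : Algebra qD.ResidueField κ := ι.toAlgebra
    haveI : IsScalarTower D qD.ResidueField κ := IsScalarTower.of_algebraMap_eq fun d =>
      (IsScalarTower.algebraMap_apply D A κ d).trans (Ideal.ResidueField.map_algebraMap _ _ _ _ d).symm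
    change Module.finrank qD.ResidueField (qD.ResidueField ⊗[D] Ω[D⁄k]) ≤ _
    rw [← finrank_fibre_eq Ω[D⁄k] qD κ]
    let N := κ ⊗[D] Ω[D⁄k]
    let μ : P → N := fun a => 1 ⊗ₜ KaehlerDifferential.D k D (Ideal.Quotient.mk I a)
    have hsmul : ∀ (a : P) (x : Ω[D⁄k]), (1 : κ) ⊗ₜ[D] (Ideal.Quotient.mk I a • x) = algebraMap P κ a • ((1 : κ) ⊗ₜ[D] x) := fun a x => by
      refine (TensorProduct.tmul_smul (Ideal.Quotient.mk I a : D) (1 : κ) x).trans
        ((algebraMap_smul κ (Ideal.Quotient.mk I a : D) ((1 : κ) ⊗ₜ[D] x)).symm.trans ?_)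
      refine congrArg (fun w : κ => w • ((1 : κ) ⊗ₜ[D] x)) ?_
      rw [IsScalarTower.algebraMap_apply P A κ, IsScalarTower.algebraMap_apply D A κ]
      rfl
    let lin : P →ₗ[k] N :=
      { toFun := μ
        map_add' := fun a b => by simp only [μ, map_add, tmul_add]
        map_smul' := fun r a => by
          simp only [μ, RingHom.id_apply]
          rw [Algebra.smul_def, map_mul, Derivation.leibniz, Ideal.Quotient.mk_algebraMap,
            Derivation.map_algebraMap, smul_zero, add_zero, ← Ideal.Quotient.mk_algebraMap, hsmul,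
            ← IsScalarTower.algebraMap_apply, algebraMap_smul] }
    let δ : Derivation k P N := Derivation.mk' lin fun a b => by
      rw [← algebraMap_smul κ a, ← algebraMap_smul κ b]
      change μ (a * b) = algebraMap P κ a • μ b + algebraMap P κ b • μ a
      simp only [μ, map_mul, Derivation.leibniz, tmul_add, hsmul]
    let L : V →ₗ[κ] N := δ.liftKaehlerDifferential.liftBaseChange κ
    have hL : ∀ a, L (dV a) = μ a := fun a => by
      change δ.liftKaehlerDifferential.liftBaseChange κ (1 ⊗ₜ KaehlerDifferential.D k P a) = _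
      rw [LinearMap.liftBaseChange_tmul, one_smul, Derivation.liftKaehlerDifferential_comp_D]
      rfl
    have hW : W ≤ LinearMap.ker L := by
      rw [show W = Submodule.span κ (Set.range f) from hfspan.symm, Submodule.span_le]
      rintro _ ⟨i, rfl⟩
      rw [SetLike.mem_coe, LinearMap.mem_ker, ← hg i, hL]
      change (1 : κ) ⊗ₜ[D] KaehlerDifferential.D k D (Ideal.Quotient.mk I (g i).1) = 0
      rw [show Ideal.Quotient.mk I (g i).1 = 0 from
        Ideal.Quotient.eq_zero_iff_mem.mpr (Ideal.subset_span ⟨i, rfl⟩), map_zero, tmul_zero]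
    have hJ : ∀ a ∈ J, μ a = 0 := fun a ha => by
      rw [← hL]
      exact hW (Submodule.subset_span ⟨⟨a, ha⟩, rfl⟩)
    have hwd : ∀ a b : P, algebraMap P A a = algebraMap P A b → μ a = μ b := fun a b h => by
      have := hJ (a - b) (by rw [RingHom.mem_ker, map_sub, h, sub_self])
      change δ (a - b) = 0 at this
      rwa [map_sub, sub_eq_zero] at this
    let s := Function.surjInv hsurj
    have hs : ∀ x, algebraMap P A (s x) = x := Function.surjInv_eq hsurj
    let δA : Derivation k A N := Derivation.mk'
      { toFun := fun x => μ (s x)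
        map_add' := fun x y => (hwd _ (s x + s y) (by rw [map_add, hs, hs, hs])).trans (map_add lin _ _)
        map_smul' := fun r x => (hwd _ (r • s x) (by
          rw [hs, Algebra.smul_def, Algebra.smul_def, map_mul, hs, ← IsScalarTower.algebraMap_apply])).trans
            (map_smul lin r _) }
      fun x y => by
        refine (hwd _ (s x * s y) (by rw [map_mul, hs, hs, hs])).trans ?_
        refine (δ.leibniz (s x) (s y)).trans ?_
        rw [← algebraMap_smul κ x, ← algebraMap_smul κ y, ← algebraMap_smul κ (s x), ← algebraMap_smul κ (s y)]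
        change algebraMap P κ (s x) • μ (s y) + algebraMap P κ (s y) • μ (s x) =
          algebraMap A κ x • μ (s y) + algebraMap A κ y • μ (s x)
        rw [IsScalarTower.algebraMap_apply P A κ, hs, IsScalarTower.algebraMap_apply P A κ, hs]
    haveI : Module.Finite A Ω[A⁄k] := inferInstance
    refine LinearMap.finrank_le_finrank_of_surjective
      (f := δA.liftKaehlerDifferential.liftBaseChange κ) ?_
    rw [← LinearMap.range_eq_top, ← top_le_iff]
    rintro t -
    induction t using TensorProduct.induction_on with
    | zero => exact zero_mem _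
    | add x y hx hy => exact add_mem hx hy
    | tmul a x =>
      rw [show (a ⊗ₜ[D] x : N) = a • ((1 : κ) ⊗ₜ[D] x) by rw [smul_tmul', smul_eq_mul, mul_one]]
      refine Submodule.smul_mem _ _ ?_
      have hx : x ∈ Submodule.span D (Set.range (KaehlerDifferential.D k D)) := by
        rw [KaehlerDifferential.span_range_derivation]; trivial
      induction hx using Submodule.span_induction with
      | mem x hx =>
        obtain ⟨d, rfl⟩ := hx
        obtain ⟨d, rfl⟩ := Ideal.Quotient.mk_surjective d
        refine ⟨1 ⊗ₜ KaehlerDifferential.D k A (algebraMap P A d), ?_⟩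
        rw [LinearMap.liftBaseChange_tmul, one_smul, Derivation.liftKaehlerDifferential_comp_D]
        exact hwd _ _ (hs _)
      | zero => rw [tmul_zero]; exact zero_mem _
      | add x y _ _ hx hy => rw [tmul_add]; exact add_mem hx hy
      | smul r x _ hx =>
        obtain ⟨r, rfl⟩ := Ideal.Quotient.mk_surjective r
        rw [hsmul]
        exact Submodule.smul_mem _ _ hx

/-- Smooth at a prime ⇒ regular there. -/
theorem isRegularLocalRing_of_isSmoothAt (k : Type u) [Field k] (S : Type u) [CommRing S] [Algebra k S]
    [Algebra.FiniteType k S] (q : Ideal S) [q.IsPrime] (h : Algebra.IsSmoothAt k q) :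
    IsRegularLocalRing (Localization.AtPrime q) := by
  haveI := h
  haveI : Algebra.FinitePresentation k S := Algebra.FinitePresentation.of_finiteType.mp inferInstance
  obtain ⟨f, hf, hstd⟩ := Algebra.IsSmoothAt.exists_notMem_isStandardSmooth k (S := S) q
  haveI := hstd
  let Sf := Localization.Away f
  have hdisj : Disjoint (Submonoid.powers f : Set S) (q : Set S) :=
    (Ideal.disjoint_powers_iff_notMem_of_isPrime _).mpr hf
  haveI hQ : (q.map (algebraMap S Sf)).IsPrime :=
    IsLocalization.isPrime_of_isPrime_disjoint (Submonoid.powers f) _ _ ‹q.IsPrime› hdisj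
  have hk : PrimeSpectrum.comap (algebraMap k Sf) ⟨q.map (algebraMap S Sf), hQ⟩ ∈ EGA4.regLocus k := by
    show IsRegularLocalRing _
    haveI : IsDomain k := inferInstance
    set P := (PrimeSpectrum.comap (algebraMap k Sf) ⟨q.map (algebraMap S Sf), hQ⟩).asIdeal
    have hbot : P = ⊥ := (Ideal.eq_bot_or_top P).resolve_right (PrimeSpectrum.comap (algebraMap k Sf) ⟨q.map (algebraMap S Sf), hQ⟩).2.ne_top
    haveI := IsRegularRing.isRegularLocalRing_localization (R := k) P
    infer_instance
  haveI : IsRegularLocalRing (Localization.AtPrime (q.map (algebraMap S Sf))) :=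
    EGA4Lib.mem_regLocus_of_smooth (R := k) ⟨q.map (algebraMap S Sf), hQ⟩ hk
  haveI h1 := IsLocalization.isLocalization_isLocalization_atPrime_isLocalization (Submonoid.powers f)
    (Localization.AtPrime (q.map (algebraMap S Sf))) (q.map (algebraMap S Sf))
  have hq : (q.map (algebraMap S Sf)).under S = q :=
    IsLocalization.under_map_of_isPrime_disjoint (Submonoid.powers f) _ ‹q.IsPrime› hdisj
  haveI : IsLocalization q.primeCompl (Localization.AtPrime (q.map (algebraMap S Sf))) := by
    have : ((q.map (algebraMap S Sf)).under S).primeCompl = q.primeCompl := by ext; simp [hq]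
    exact this ▸ h1
  exact IsRegularLocalRing.of_ringEquiv (R := Localization.AtPrime (q.map (algebraMap S Sf)))
    (IsLocalization.algEquiv q.primeCompl _ (Localization.AtPrime q)).toRingEquiv

/-- **Rank criterion**: the fibre of `Ω` has dimension at most the local dimension ⇒ smooth. -/
theorem formallySmooth_of_rank_le (q : Ideal A) [q.IsPrime]
    (h : (rank k q : WithBot ℕ∞) ≤ FlatMor.localDim (PrimeSpectrum A) ⟨q, inferInstance⟩) :
    Algebra.FormallySmooth k (Localization.AtPrime q) := by
  obtain ⟨n, φ, hφ⟩ := Algebra.FiniteType.iff_quotient_mvPolynomial''.mp ‹Algebra.FiniteType k A›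
  letI : Algebra (MvPolynomial (Fin n) k) A := φ.toRingHom.toAlgebra
  haveI : IsScalarTower k (MvPolynomial (Fin n) k) A := IsScalarTower.of_algebraMap_eq fun x => (φ.commutes x).symm
  obtain ⟨D, _, _, _, π, hπ, hFS, hrank⟩ := exists_smooth_cover k n hφ q
  let qD := q.comap π.toRingHom
  obtain ⟨t, ht⟩ := exists_trdeg_eq k qD
  have ht' : Algebra.trdeg k q.ResidueField = t := by
    let ιr : qD.ResidueField →+* q.ResidueField := Ideal.ResidueField.map qD q π.toRingHom rfl
    let ι : qD.ResidueField →ₐ[k] q.ResidueField := AlgHom.mk ιr fun r => by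
      change ιr _ = _
      rw [IsScalarTower.algebraMap_apply k D qD.ResidueField, Ideal.ResidueField.map_algebraMap,
        IsScalarTower.algebraMap_apply k A q.ResidueField]
      exact congrArg _ (π.commutes r)
    have hι : Function.Surjective ι := fun x => by
      obtain ⟨a, b, hb, rfl⟩ := IsFractionRing.div_surjective (A := A ⧸ q) x
      obtain ⟨a, rfl⟩ := Ideal.Quotient.mk_surjective a
      obtain ⟨b, rfl⟩ := Ideal.Quotient.mk_surjective b
      obtain ⟨a, rfl⟩ := hπ a
      obtain ⟨b, rfl⟩ := hπ b
      refine ⟨algebraMap D qD.ResidueField a / algebraMap D qD.ResidueField b, ?_⟩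
      change ιr _ = _
      rw [map_div₀, Ideal.ResidueField.map_algebraMap, Ideal.ResidueField.map_algebraMap]
      rfl
    rw [← (AlgEquiv.ofBijective ι ⟨ι.toRingHom.injective, hι⟩).trdeg_eq, ht]
  haveI : IsNoetherianRing D := Algebra.FiniteType.isNoetherianRing k D
  haveI : Algebra.EssFiniteType D (Localization.AtPrime qD) := Algebra.EssFiniteType.of_isLocalization _ qD.primeCompl
  haveI hregD : IsRegularLocalRing (Localization.AtPrime qD) := isRegularLocalRing_of_isSmoothAt k D qD hFS
  let ψ : Localization.AtPrime qD →+* Localization.AtPrime q := Localization.localRingHom qD q π.toRingHom rfl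
  have hψ : Function.Surjective ψ := fun x => by
    obtain ⟨a, ⟨b, hb⟩, rfl⟩ := IsLocalization.exists_mk'_eq q.primeCompl x
    obtain ⟨a, rfl⟩ := hπ a
    obtain ⟨b, rfl⟩ := hπ b
    exact ⟨IsLocalization.mk' _ a (⟨b, hb⟩ : qD.primeCompl), Localization.localRingHom_mk' _ _ _ _ _ _⟩
  have hle : ringKrullDim (Localization.AtPrime qD) ≤ ringKrullDim (Localization.AtPrime q) := by
    have h1 := (localDim_le_rank k qD).trans ((Nat.cast_le.mpr hrank).trans h)
    rw [CAlgLib.LocalDimSpec.localDim_eq_add_trdeg k qD t ht,
      CAlgLib.LocalDimSpec.localDim_eq_add_trdeg k q t ht'] at h1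
    exact ENat.WithBot.add_le_add_natCast_right_iff.mp h1
  have hker : RingHom.ker ψ = ⊥ := by
    haveI := RegLoc.isDomain (Localization.AtPrime qD)
    by_contra hne
    obtain ⟨x, hx, hx0⟩ := Submodule.exists_mem_ne_zero_of_ne_bot hne
    have h1 := ringKrullDim_quotient_succ_le_of_nonZeroDivisor (mem_nonZeroDivisors_of_ne_zero hx0)
    have h2 : ringKrullDim (Localization.AtPrime q) ≤
        ringKrullDim (Localization.AtPrime qD ⧸ Ideal.span {x}) := by
      refine ringKrullDim_le_of_surjective (Ideal.Quotient.lift (Ideal.span {x}) ψ fun a ha => ?_) ?_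
      · obtain ⟨c, rfl⟩ := Ideal.mem_span_singleton'.mp ha
        rw [map_mul, RingHom.mem_ker.mp hx, mul_zero]
      · exact Ideal.Quotient.lift_surjective_of_surjective _ _ hψ
    obtain ⟨e, he⟩ : ∃ e : ℕ, ringKrullDim (Localization.AtPrime qD) = e :=
      ⟨_, IsRegularLocalRing.spanFinrank_maximalIdeal.symm⟩
    have h3 := (add_le_add_left (hle.trans h2) 1).trans h1
    rw [he] at h3
    exact absurd (by exact_mod_cast h3 : e + 1 ≤ e) (by omega)
  have hbij : Function.Bijective ψ := ⟨(RingHom.injective_iff_ker_eq_bot ψ).mpr hker, hψ⟩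
  let ψ' : Localization.AtPrime qD →ₐ[k] Localization.AtPrime q := AlgHom.mk ψ fun r => by
    change ψ _ = _
    rw [IsScalarTower.algebraMap_apply k D (Localization.AtPrime qD), Localization.localRingHom_to_map,
      IsScalarTower.algebraMap_apply k A (Localization.AtPrime q)]
    exact congrArg _ (π.commutes r)
  exact Algebra.FormallySmooth.of_equiv (AlgEquiv.ofBijective ψ' hbij)

end Groth.Agent.Omega.RankDim

end
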