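import Groth.Agent.Omega.PPFinite
import Groth.Agent.LimLib.ClosedApprox
import Groth.Agent.LimLib.Props
import Groth.Agent.Props.QFP
import Groth.Agent.ConsPairLib.ModLoci

/-!
# Finite presentation of the neighbourhoods of the diagonal and of principal parts
-/

set_option autoImplicit false

universe u

open CategoryTheory CategoryTheory.Limits AlgebraicGeometry TopologicalSpace Opposite

noncomputable section

namespace Groth.Agent.Omega.PPFP

open PrinPart

theorem lfp_infNbhdι {Y X : Scheme.{u}} (i : Y ⟶ X) [IsClosedImmersion i]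
    [LocallyOfFinitePresentation i] (n : ℕ) : LocallyOfFinitePresentation (infNbhdι i n) := by
  refine (LimLib.lfp_subschemeι_iff (i.ker ^ (n + 1))).mpr fun U => ?_
  rw [Scheme.IdealSheafData.ideal_pow]
  exact (LimLib.fg_ker_ideal i U).pow

variable {X S : Scheme.{u}} (f : X ⟶ S) (n : ℕ)

theorem lfp_diagCl [LocallyOfFiniteType f] : LocallyOfFinitePresentation (diagCl f) := by
  have := LimLib.locallyOfFinitePresentation_diagonal f
  refine MorphismProperty.of_postcomp (W := @LocallyOfFinitePresentation.{u})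
    (W' := @LocallyOfFiniteType.{u}) (diagCl f) (pullback.diagonal f).coborderRange.ι inferInstance ?_
  rwa [Scheme.Hom.liftCoborder_ι]

theorem lfp_pr1 [LocallyOfFinitePresentation f] : LocallyOfFinitePresentation (pr1 f n) := by
  have := lfp_diagCl f
  have := lfp_infNbhdι (diagCl f) n
  unfold pr1 nbhdι
  infer_instance

/-- Pushforward along a finite morphism of finite presentation preserves finite presentation. -/
theorem isFP_push {Z Y : Scheme.{u}} (π : Z ⟶ Y) [IsFinite π] [LocallyOfFinitePresentation π]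
    (M : Z.Modules) [M.IsQuasicoherent] (hM : CohB1.IsFP M) :
    CohB1.IsFP ((Scheme.Modules.pushforward π).obj M) := by
  have : SheafOfModules.IsFinitePresentation.{u} M := hM
  have := QCoh.isQuasicoherent_pushforward π M
  refine (Props.QFP.isFP_iff _).2 fun V hV => ?_
  let φ : Γ(Y, V) →+* Γ(Z, π ⁻¹ᵁ V) := (π.app V).hom
  algebraize [φ]
  have : Module.Finite Γ(Y, V) Γ(Z, π ⁻¹ᵁ V) := IsFinite.finite_app π V hV
  have hfp := π.finitePresentation_appLE hV (hV.preimage π) le_rfl
  rw [← Scheme.Hom.app_eq_appLE] at hfp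
  have : Algebra.FinitePresentation Γ(Y, V) Γ(Z, π ⁻¹ᵁ V) := hfp
  have : Module.FinitePresentation Γ(Y, V) Γ(Z, π ⁻¹ᵁ V) :=
    Module.FinitePresentation.of_finite_of_finitePresentation _ _
  have := Props.QFP.finitePresentation_sections_of_isFP M (hV.preimage π)
  letI : Module Γ(Y, V) Γ(M, π ⁻¹ᵁ V) :=
    show Module Γ(Y, V) Γ((Scheme.Modules.pushforward π).obj M, V) from inferInstance
  have : IsScalarTower Γ(Y, V) Γ(Z, π ⁻¹ᵁ V) Γ(M, π ⁻¹ᵁ V) :=
    ⟨fun a b m => mul_smul (φ a) b m⟩
  exact Module.FinitePresentation.trans (R := Γ(Y, V)) Γ(M, π ⁻¹ᵁ V) Γ(Z, π ⁻¹ᵁ V)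

theorem isFP_PMod [LocallyOfFinitePresentation f] (F : X.Modules) (hF : CohB1.IsFP F) :
    CohB1.IsFP (PMod f n F) := by
  have : SheafOfModules.IsFinitePresentation.{u} F := hF
  have : Coh.IsQCoh F := inferInstance
  obtain ⟨h, h'⟩ := ConsPairLib.isFP_pullback (pr2 f n) F hF
  have : ((Scheme.Modules.pullback (pr2 f n)).obj F).IsQuasicoherent := h
  have := PPFinite.isFinite_pr1 f n
  have := lfp_pr1 f n
  exact isFP_push (pr1 f n) _ h'

end Groth.Agent.Omega.PPFP

end
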