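import Mathlib.RingTheory.Ideal.Maps
import Mathlib.LinearAlgebra.Quotient.Basic
import Mathlib.RingTheory.Smooth.Basic

/-!
# The conormal sequence of local rings, from universal properties alone
-/

set_option autoImplicit false

universe u

noncomputable section

namespace Groth.Agent.Omega.StalkAlg

variable {A B C : Type u} [CommRing A] [CommRing B] [CommRing C] (π : B →+* C) (σ : A →+* B)
  {P Q : Type u} [AddCommGroup P] [Module C P] [AddCommGroup Q] [Module C Q]

/-- `κ` exhibits `P` as `C ⊗ ker π`. -/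
def IsKerUniv (κ : RingHom.ker π →+ P) : Prop :=
  ∀ (N : Type u) [AddCommGroup N] [Module C N] (k : RingHom.ker π →+ N),
    (∀ b a, k (b • a) = π b • k a) → ∃! l : P →ₗ[C] N, ∀ a, l (κ a) = k a

/-- `δ` exhibits `Q` as `C ⊗ Ω_{B/A}`. -/
def IsDerUniv (δ : B →+ Q) : Prop :=
  ∀ (N : Type u) [AddCommGroup N] [Module C N] (e : B →+ N),
    (∀ a b, e (a * b) = π a • e b + π b • e a) → (∀ a, e (σ a) = 0) →
      ∃! l : Q →ₗ[C] N, ∀ b, l (δ b) = e b

variable {π σ} {κ : RingHom.ker π →+ P} {δ : B →+ Q}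

theorem IsDerUniv.hom_ext (hu : IsDerUniv π σ δ) (hmul : ∀ a b, δ (a * b) = π a • δ b + π b • δ a)
    (hzero : ∀ a, δ (σ a) = 0) {N : Type u} [AddCommGroup N] [Module C N] {l l' : Q →ₗ[C] N}
    (h : ∀ b, l (δ b) = l' (δ b)) : l = l' := by
  obtain ⟨m, -, hm⟩ := hu N (l.toAddMonoidHom.comp δ) (fun a b => by simp [hmul])
    (fun a => by simp [hzero])
  rw [hm l fun _ => rfl, hm l' fun b => (h b).symm]

theorem IsKerUniv.hom_ext (hu : IsKerUniv π κ) (hκ : ∀ b a, κ (b • a) = π b • κ a) {N : Type u}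
    [AddCommGroup N] [Module C N] {l l' : P →ₗ[C] N} (h : ∀ a, l (κ a) = l' (κ a)) : l = l' := by
  obtain ⟨m, -, hm⟩ := hu N (l.toAddMonoidHom.comp κ) (fun b a => by simp [hκ])
  rw [hm l fun _ => rfl, hm l' fun a => (h a).symm]

/-- When `A → C` is surjective, derivations over `A` into `C`-modules are given by `ker π`. -/
theorem exact_of_surjective (hA : Function.Surjective (π.comp σ))
    (hκ : ∀ b a, κ (b • a) = π b • κ a) (hmul : ∀ a b, δ (a * b) = π a • δ b + π b • δ a)
    (hzero : ∀ a, δ (σ a) = 0) (hu : IsDerUniv π σ δ) (hP : IsKerUniv π κ) {φ : P →ₗ[C] Q} (hφ : ∀ a, φ (κ a) = δ a.1)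
    {K : Submodule C P} (hK : ∀ a (ha : σ a ∈ RingHom.ker π), κ ⟨σ a, ha⟩ ∈ K) :
    Function.Surjective φ ∧ LinearMap.ker φ ≤ K := by
  refine ⟨?_, ?_⟩
  · rw [← LinearMap.range_eq_top]
    have hmk : (LinearMap.range φ).mkQ = 0 := hu.hom_ext hmul hzero fun b => by
      obtain ⟨a, ha⟩ := hA (π b)
      have hmem : b - σ a ∈ RingHom.ker π := by
        rw [RingHom.mem_ker, map_sub, show π (σ a) = π b from ha, sub_self]
      refine (Submodule.Quotient.mk_eq_zero _).mpr ⟨κ ⟨_, hmem⟩, ?_⟩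
      rw [hφ, map_sub, hzero, sub_zero]
    rw [← Submodule.ker_mkQ (LinearMap.range φ), hmk, LinearMap.ker_zero]
  -- a derivation `B → P ⧸ K` extending `κ`
  let q : RingHom.ker π →+ P ⧸ K := K.mkQ.toAddMonoidHom.comp κ
  have hq : ∀ b a, q (b • a) = π b • q a := fun b a => by simp [q, hκ]
  choose s hs using hA
  let t : B → RingHom.ker π := fun b => ⟨b - σ (s (π b)), by
    rw [RingHom.mem_ker, map_sub, show π (σ (s (π b))) = π b from hs (π b), sub_self]⟩
  have key : ∀ b a, π (σ a) = π b → ∀ h : b - σ a ∈ RingHom.ker π, q (t b) = q ⟨b - σ a, h⟩ := by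
    intro b a hab h
    have hd : σ (a - s (π b)) ∈ RingHom.ker π := by
      rw [RingHom.mem_ker, map_sub, map_sub, hab, show π (σ (s (π b))) = π b from hs (π b), sub_self]
    have : t b = ⟨b - σ a, h⟩ + ⟨σ (a - s (π b)), hd⟩ := Subtype.ext (by simp [t])
    rw [this, map_add, show q ⟨σ (a - s (π b)), hd⟩ = 0 from
      (Submodule.Quotient.mk_eq_zero _).mpr (hK _ hd), add_zero]
  have hπs : ∀ b, π (σ (s (π b))) = π b := fun b => hs (π b)
  let e : B →+ P ⧸ K := AddMonoidHom.mk' (fun b => q (t b)) fun x y => by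
    refine (key (x + y) (s (π x) + s (π y)) (by simp [hπs]) (by simp [RingHom.mem_ker, hπs])).trans
      (Eq.trans ?_ (map_add q (t x) (t y)))
    congr 1
    exact Subtype.ext (by simp [t]; ring)
  have he : ∀ x y, e (x * y) = π x • e y + π y • e x := fun x y => by
    change q (t (x * y)) = π x • q (t y) + π y • q (t x)
    have h1 : π x • q (t y) = q (x • t y) := (hq x (t y)).symm
    have h2 : π y • q (t x) = q (σ (s (π y)) • t x) := by rw [hq, hπs]
    rw [h1, h2, ← map_add]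
    refine (key (x * y) (s (π x) * s (π y)) (by simp [hπs]) (by simp [RingHom.mem_ker, hπs])).trans ?_
    congr 1
    exact Subtype.ext (by simp [t, hπs]; ring)
  have he₀ : ∀ a, e (σ a) = 0 := fun a => by
    change q (t (σ a)) = 0
    rw [key (σ a) a rfl (by simp)]
    exact (congrArg q (Subtype.ext (sub_self (σ a)) : _ = (0 : RingHom.ker π))).trans (map_zero q)
  obtain ⟨r, hr, -⟩ := hu _ e he he₀
  have hrφ : r.comp φ = K.mkQ := hP.hom_ext hκ fun a => by
    change r (φ (κ a)) = _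
    rw [hφ, hr]
    change q (t a.1) = _
    rw [key a.1 0 (by rw [map_zero, map_zero]; exact a.2.symm) (by simp)]
    exact congrArg q (Subtype.ext (by simp))
  intro p hp
  rw [← K.ker_mkQ, LinearMap.mem_ker, ← hrφ]
  simp [LinearMap.mem_ker.mp hp]

end Groth.Agent.Omega.StalkAlg

end
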