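import Groth.Agent.Omega.StalkSeq
import Groth.Agent.Omega.StalkAlg
import Mathlib.AlgebraicGeometry.Morphisms.Immersion
import Mathlib.AlgebraicGeometry.Morphisms.FinitePresentation
import Mathlib.RingTheory.Nakayama
import Groth.Prelude.Def_SchLoc

/-!
# Where the conormal sheaf vanishes
-/

set_option autoImplicit false

universe u

open CategoryTheory CategoryTheory.Limits AlgebraicGeometry TopologicalSpace Opposite

noncomputable section

namespace Groth.Agent.Omega.ConormalZero

open OmegaSh Basic Stalks StalkConormal StalkSeq StalkAlg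

variable {Y X : Scheme.{u}} (j : Y ⟶ X) [IsImmersion j]

theorem isClosedImmersion_morphismRestrict {W : X.Opens} (hW : W ≤ j.coborderRange) :
    IsClosedImmersion (j ∣_ W) := by
  refine IsClosedImmersion.of_isPreimmersion _ ?_
  have hc : IsClosed (Subtype.val ⁻¹' Set.range j : Set (W : Set X)) :=
    (isClosed_preimage_val_coborder (s := Set.range j)).preimage
      (continuous_inclusion (fun z hz => hW hz))
  have hrange : Set.range (j ∣_ W) = (Subtype.val ⁻¹' Set.range j : Set (W : Set X)) := by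
    rw [morphismRestrict_base]
    exact Set.range_restrictPreimage _ j
  rw [hrange]
  exact hc

/-- An affine neighbourhood in which the immersion is closed. -/
theorem exists_chart (y : Y) : ∃ W : X.Opens, IsAffineOpen W ∧ IsAffineOpen (j ⁻¹ᵁ W) ∧ j y ∈ W ∧
    W ≤ j.coborderRange ∧ Function.Surjective (j.app W) := by
  obtain ⟨_, ⟨W, hW, rfl⟩, hyW, hWc⟩ := X.isBasis_affineOpens.exists_subset_of_mem_open
    (show j y ∈ j.coborderRange from subset_coborder (Set.mem_range_self y)) j.coborderRange.isOpen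
  have := isClosedImmersion_morphismRestrict j (W := W) hWc
  have : IsAffine (Scheme.Opens.toScheme (X := X) W) := hW
  obtain ⟨hV, hsurj⟩ := IsClosedImmersion.isAffine_surjective_of_isAffine (f := j ∣_ W)
  refine ⟨W, hW, hV, hyW, hWc, ?_⟩
  rw [Scheme.Hom.app_eq_appLE]
  rw [← Scheme.Hom.resLE_eq_morphismRestrict] at hsurj
  exact ((MorphismProperty.surjective CommRingCat).arrow_mk_iso_iff
    (arrowResLEAppIso j W (j ⁻¹ᵁ W) le_rfl)).1 hsurj

/-- The kernel of an immersion on local rings is generated by the kernel on an affine chart. -/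
theorem ker_stalkMap_eq {y : Y} {W : X.Opens} (hW : IsAffineOpen W) (hV : IsAffineOpen (j ⁻¹ᵁ W))
    (hy : j y ∈ W) (hsurj : Function.Surjective (j.app W)) :
    RingHom.ker (j.stalkMap y).hom =
      (RingHom.ker (j.app W).hom).map (X.presheaf.germ W (j y) hy).hom := by
  refine le_antisymm (fun a ha => ?_) (Ideal.map_le_iff_le_comap.mpr fun t ht => ?_)
  swap
  · rw [Ideal.mem_comap, RingHom.mem_ker]
    exact (Scheme.Hom.germ_stalkMap_apply j W y hy t).trans ((congrArg _ ht).trans (map_zero _))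
  let := TopCat.Presheaf.algebra_section_stalk X.presheaf (⟨j y, hy⟩ : W)
  let := TopCat.Presheaf.algebra_section_stalk Y.presheaf (⟨y, hy⟩ : (j ⁻¹ᵁ W))
  have : IsLocalization.AtPrime (X.presheaf.stalk (j y)) (hW.primeIdealOf ⟨j y, hy⟩).asIdeal :=
    hW.isLocalization_stalk ⟨j y, hy⟩
  have : IsLocalization.AtPrime (Y.presheaf.stalk y) (hV.primeIdealOf ⟨y, hy⟩).asIdeal :=
    hV.isLocalization_stalk ⟨y, hy⟩
  obtain ⟨⟨t, s⟩, hts⟩ := IsLocalization.surj (hW.primeIdealOf ⟨j y, hy⟩).asIdeal.primeCompl a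
  have h0 : algebraMap Γ(Y, j ⁻¹ᵁ W) (Y.presheaf.stalk y) (j.app W t) = 0 := by
    refine (Scheme.Hom.germ_stalkMap_apply j W y hy t).symm.trans ?_
    change j.stalkMap y (algebraMap Γ(X, W) (X.presheaf.stalk (j y)) t) = 0
    rw [← hts, map_mul, show j.stalkMap y a = 0 from ha, zero_mul]
  obtain ⟨u, hu⟩ := (IsLocalization.map_eq_zero_iff (hV.primeIdealOf ⟨y, hy⟩).asIdeal.primeCompl _ _).1 h0
  obtain ⟨u', hu'⟩ := hsurj u.1
  have hu'unit : IsUnit (X.presheaf.germ W (j y) hy u') := by
    refine (isUnit_map_iff (j.stalkMap y).hom _).1 ?_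
    rw [show j.stalkMap y (X.presheaf.germ W (j y) hy u') = Y.presheaf.germ (j ⁻¹ᵁ W) y hy u.1 from
      (Scheme.Hom.germ_stalkMap_apply j W y hy u').trans (congrArg _ hu')]
    exact IsLocalization.map_units (Y.presheaf.stalk y) u
  have hmem : u' * t ∈ RingHom.ker (j.app W).hom := by
    rw [RingHom.mem_ker, map_mul, hu']
    exact hu
  have hsu : IsUnit (algebraMap Γ(X, W) (X.presheaf.stalk (j y)) s) := IsLocalization.map_units _ s
  have key := Ideal.mem_map_of_mem (X.presheaf.germ W (j y) hy).hom hmem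
  rw [map_mul, Ideal.unit_mul_mem_iff_mem _ hu'unit] at key
  have key' : a * algebraMap Γ(X, W) (X.presheaf.stalk (j y)) s ∈
      (RingHom.ker (j.app W).hom).map (X.presheaf.germ W (j y) hy).hom := hts ▸ key
  rwa [mul_comm, Ideal.unit_mul_mem_iff_mem _ hsu] at key'

theorem fg_ker_app [LocallyOfFinitePresentation j] {W : X.Opens} (hW : IsAffineOpen W)
    (hV : IsAffineOpen (j ⁻¹ᵁ W)) (hsurj : Function.Surjective (j.app W)) :
    (RingHom.ker (j.app W).hom).FG := by
  have hfp := j.finitePresentation_appLE hW hV le_rfl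
  rw [← Scheme.Hom.app_eq_appLE] at hfp
  algebraize [(j.app W).hom]
  have : Algebra.FinitePresentation Γ(X, W) Γ(Y, j ⁻¹ᵁ W) := hfp
  exact Algebra.FinitePresentation.ker_fG_of_surjective (Algebra.ofId Γ(X, W) Γ(Y, j ⁻¹ᵁ W)) hsurj

/-- An immersion of finite presentation which is injective on a local ring is a local isomorphism there. -/
theorem isLocalIsoAt_of_injective [LocallyOfFinitePresentation j] (y : Y)
    (hinj : Function.Injective (j.stalkMap y)) : SchLoc.IsLocalIsoAt j y := by
  classical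
  obtain ⟨W, hW, hV, hy, hWc, hsurj⟩ := exists_chart j y
  obtain ⟨G, hG⟩ := fg_ker_app j hW hV hsurj
  let := TopCat.Presheaf.algebra_section_stalk X.presheaf (⟨j y, hy⟩ : W)
  have : IsLocalization.AtPrime (X.presheaf.stalk (j y)) (hW.primeIdealOf ⟨j y, hy⟩).asIdeal :=
    hW.isLocalization_stalk ⟨j y, hy⟩
  have hann : ∀ t ∈ G, ∃ f : (hW.primeIdealOf ⟨j y, hy⟩).asIdeal.primeCompl, (f : Γ(X, W)) * t = 0 := by
    intro t ht
    refine (IsLocalization.map_eq_zero_iff _ (X.presheaf.stalk (j y)) t).1 (hinj ?_)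
    rw [map_zero]
    refine RingHom.mem_ker.1 ((ker_stalkMap_eq j hW hV hy hsurj).ge (Ideal.mem_map_of_mem _ ?_))
    exact hG ▸ Ideal.subset_span ht
  choose F hF using hann
  let f : Γ(X, W) := ∏ t ∈ G.attach, (F t.1 t.2).1
  have hf : f ∉ (hW.primeIdealOf ⟨j y, hy⟩).asIdeal :=
    (hW.primeIdealOf ⟨j y, hy⟩).2.prod_mem_iff.not.2 (by rintro ⟨t, -, ht⟩; exact (F t.1 t.2).2 ht)
  have hK : ∀ a ∈ RingHom.ker (j.app W).hom, f * a = 0 := by
    intro a ha
    rw [← hG] at ha
    induction ha using Submodule.span_induction with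
    | mem t ht =>
      obtain ⟨c, hc⟩ := Finset.dvd_prod_of_mem (fun t : {x // x ∈ G} => (F t.1 t.2).1)
        (Finset.mem_attach G ⟨t, ht⟩)
      rw [show f = (F t ht).1 * c from hc, mul_right_comm, hF t ht, zero_mul]
    | zero => exact mul_zero _
    | add a b _ _ ha hb => rw [mul_add, ha, hb, add_zero]
    | smul r a _ ha => rw [smul_eq_mul, mul_left_comm, ha, mul_zero]
  let D : X.Opens := X.basicOpen f
  have hDW : D ≤ W := X.basicOpen_le f
  have hyD : j y ∈ D := by
    rw [Scheme.mem_basicOpen _ _ _ hy]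
    exact (IsLocalization.AtPrime.isUnit_to_map_iff (X.presheaf.stalk (j y))
      (hW.primeIdealOf ⟨j y, hy⟩).asIdeal f).2 hf
  have hinjD : Function.Injective (j.app D) := by
    rw [injective_iff_map_eq_zero]
    intro a ha
    let := (hW.isLocalization_basicOpen f)
    obtain ⟨⟨a₀, ⟨_, n, rfl⟩⟩, ha₀⟩ := IsLocalization.surj (Submonoid.powers f) a
    have h0 : j.app D (algebraMap Γ(X, W) Γ(X, D) a₀) = 0 := by
      rw [← ha₀, map_mul, ha, zero_mul]
    have h1 : Y.presheaf.map (homOfLE (j.preimage_mono hDW)).op (j.app W a₀) = 0 :=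
      (congr($(j.naturality (homOfLE hDW).op) a₀)).symm.trans h0
    have key : ∀ (O : Y.Opens) (_ : O = Y.basicOpen (j.app W f)) (le : O ≤ j ⁻¹ᵁ W),
        Y.presheaf.map (homOfLE le).op (j.app W a₀) = 0 → ∃ m : ℕ, j.app W f ^ m * j.app W a₀ = 0 := by
      rintro _ rfl le h
      let := hV.isLocalization_basicOpen (j.app W f)
      obtain ⟨⟨_, m, rfl⟩, hm⟩ := (IsLocalization.map_eq_zero_iff (Submonoid.powers (j.app W f))
        Γ(Y, Y.basicOpen (j.app W f)) (j.app W a₀)).1 h
      exact ⟨m, hm⟩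
    obtain ⟨m, hm⟩ := key _ (Scheme.Hom.preimage_basicOpen j f) _ h1
    have hfa : f * (f ^ m * a₀) = 0 := hK _ (by rw [RingHom.mem_ker, map_mul, map_pow]; exact hm)
    have hz : algebraMap Γ(X, W) Γ(X, D) a₀ = 0 :=
      (IsLocalization.map_eq_zero_iff (Submonoid.powers f) _ _).2
        ⟨⟨f ^ (m + 1), m + 1, rfl⟩, by change f ^ (m + 1) * a₀ = 0; rw [pow_succ', mul_assoc]; exact hfa⟩
    have hu : IsUnit (algebraMap Γ(X, W) Γ(X, D) (f ^ n)) :=
      IsLocalization.map_units Γ(X, D) (⟨f ^ n, n, rfl⟩ : Submonoid.powers f)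
    exact hu.mul_left_eq_zero.1 (ha₀.trans hz)
  have hDaff : IsAffine (Scheme.Opens.toScheme (X := X) D) := hW.basicOpen f
  have := isClosedImmersion_morphismRestrict j (W := D) (hDW.trans hWc)
  have : IsIso (j ∣_ D) := by
    refine IsClosedImmersion.isIso_of_injective_of_isAffine ?_
    rw [← Scheme.Hom.resLE_eq_morphismRestrict]
    rw [Scheme.Hom.app_eq_appLE] at hinjD
    exact ((MorphismProperty.injective CommRingCat).arrow_mk_iso_iff
      (arrowResLEAppIso j D (j ⁻¹ᵁ D) le_rfl)).2 hinjD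
  refine ⟨j ⁻¹ᵁ D, hyD, ?_⟩
  rw [← morphismRestrict_ι]
  infer_instance

theorem subsingleton_iff [QuasiCompact j] [LocallyOfFinitePresentation j] (y : Y) :
    (∃ U : Y.Opens, y ∈ U ∧ IsOpenImmersion (U.ι ≫ j)) ↔
      Subsingleton ((Omega.conormal j).presheaf.stalk y) := by
  obtain ⟨κ, hκ, -, hP⟩ := exists_conormal j y j.isEmbedding.isInducing
  constructor
  · rintro ⟨U, hyU, hU⟩
    have h2 : IsIso ((U.ι ≫ j).stalkMap ⟨y, hyU⟩) := inferInstance
    rw [Scheme.Hom.stalkMap_comp] at h2
    have : IsIso (U.ι.stalkMap ⟨y, hyU⟩) := inferInstance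
    have h3 : IsIso (j.stalkMap y) :=
      @IsIso.of_isIso_comp_right _ _ _ _ _ (j.stalkMap y) (U.ι.stalkMap ⟨y, hyU⟩) this h2
    have hinj : Function.Injective (j.stalkMap y) := (ConcreteCategory.bijective_of_isIso _).1
    have hid : (LinearMap.id : (Omega.conormal j).presheaf.stalk y →ₗ[Y.presheaf.stalk y] _) = 0 :=
      IsKerUniv.hom_ext hP hκ fun a => by
        have ha : a = 0 := Subtype.ext (hinj ((a.2 : j.stalkMap y a.1 = 0).trans (map_zero _).symm))
        rw [ha, map_zero, map_zero, map_zero]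
    exact ⟨fun s t => by rw [← LinearMap.id_apply (R := Y.presheaf.stalk y) s,
      ← LinearMap.id_apply (R := Y.presheaf.stalk y) t, hid]; rfl⟩
  · intro hss
    refine isLocalIsoAt_of_injective j y ?_
    let π := (j.stalkMap y).hom
    let I := RingHom.ker π
    let N := I ⧸ (I • ⊤ : Submodule (X.presheaf.stalk (j y)) I)
    have htor : Module.IsTorsionBySet (X.presheaf.stalk (j y)) N (I : Set (X.presheaf.stalk (j y))) :=
      fun x r => by
        induction x using Submodule.Quotient.induction_on with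
        | _ x => exact (Submodule.Quotient.mk_eq_zero _).mpr (Submodule.smul_mem_smul r.2 Submodule.mem_top)
    let := htor.module
    let e := RingHom.quotientKerEquivOfSurjective (f := π) (j.stalkMap_surjective y)
    let : Module (Y.presheaf.stalk y) N := Module.compHom N e.symm.toRingHom
    obtain ⟨l, hl, -⟩ := hP N (Submodule.mkQ _).toAddMonoidHom fun b a => by
      change Submodule.Quotient.mk (b • a) = e.symm (π b) • (Submodule.Quotient.mk a : N)
      rw [show e.symm (π b) = Ideal.Quotient.mk I b from e.symm_apply_eq.mpr rfl]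
      rfl
    have htop : (⊤ : Submodule (X.presheaf.stalk (j y)) I) ≤ I • ⊤ := fun a _ => by
      have h : (Submodule.Quotient.mk a : N) = 0 :=
        ((hl a).symm.trans (congrArg l (Subsingleton.elim (κ a) 0))).trans (map_zero l)
      exact (Submodule.Quotient.mk_eq_zero _).mp h
    obtain ⟨W, hW, hV, hy, -, hsurj⟩ := exists_chart j y
    have hfg : I.FG := by
      rw [show I = _ from ker_stalkMap_eq j hW hV hy hsurj]
      exact (fg_ker_app j hW hV hsurj).map _
    have hne : I ≠ ⊤ := RingHom.ker_ne_top π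
    have hjac : I ≤ Ideal.jacobson (⊥ : Ideal (X.presheaf.stalk (j y))) := by
      rw [IsLocalRing.jacobson_eq_maximalIdeal ⊥ bot_ne_top]
      exact IsLocalRing.le_maximalIdeal hne
    have h0 := Submodule.eq_bot_of_le_smul_of_le_jacobson_bot I (⊤ : Submodule (X.presheaf.stalk (j y)) I)
      ((Submodule.fg_top _).mpr hfg) htop hjac
    refine (injective_iff_map_eq_zero _).mpr fun a ha => ?_
    exact congr(Subtype.val $((Submodule.mem_bot (X.presheaf.stalk (j y))).mp (h0.le (Submodule.mem_top (x := (⟨a, ha⟩ : I))))))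

end Groth.Agent.Omega.ConormalZero

end
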