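import Groth.Agent.GeomLoc.Reduced
import Groth.Agent.FieldSep.MacLane
import Groth.Prelude.Def_CurvBase
import Mathlib.AlgebraicGeometry.FunctionField
import Mathlib.AlgebraicGeometry.ResidueField

/-!
# The residue field extension at a generic point with geometrically reduced fibre is separable
-/

set_option autoImplicit false
set_option linter.style.haveILetI false

universe u

open CategoryTheory CategoryTheory.Limits AlgebraicGeometry TopologicalSpace

noncomputable section

namespace Groth.Agent.Omega.GenericSep

theorem fromSpecStalk_comp (K : Type u) [Field K] (F : Scheme.{u}) [F.Over (Spec (CommRingCat.of K))] (x : F) :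
    F.fromSpecStalk x ≫ (F ↘ Spec (CommRingCat.of K)) =
      Spec.map (CommRingCat.ofHom (Curv2.stalkMap K F x)) := by
  let p := F ↘ Spec (CommRingCat.of K)
  have hp : p = F.toSpecΓ ≫ Spec.map p.appTop ≫ Spec.map (Scheme.ΓSpecIso (CommRingCat.of K)).inv := by
    rw [← Category.assoc, ← Scheme.toSpecΓ_naturality, Category.assoc,
      toSpecΓ_SpecMap_ΓSpecIso_inv, Category.comp_id]
  change F.fromSpecStalk x ≫ p = _
  rw [hp, Scheme.fromSpecStalk_toSpecΓ_assoc, ← Spec.map_comp, ← Spec.map_comp]
  rfl

/-- Geometrically reduced generic fibre gives a formally smooth residue extension. -/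
theorem formallySmooth_residueField {X Z : Scheme.{u}} [IsIntegral X] (f : X ⟶ Z) (ζ : Z)
    (hζ : f (genericPoint X) = ζ)
    (h : GeometricallyReduced (pullback.snd f (Z.fromSpecResidueField ζ))) :
    letI := (f.residueFieldMap (genericPoint X)).hom.toAlgebra
    Algebra.FormallySmooth (Z.residueField (f (genericPoint X))) (X.residueField (genericPoint X)) := by
  subst hζ
  let η := genericPoint X
  let K := Z.residueField (f η)
  let q := Z.fromSpecResidueField (f η)
  let F := pullback f q
  letI : F.Over (Spec (CommRingCat.of K)) := ⟨pullback.snd f q⟩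
  haveI : GeometricallyReduced (F ↘ Spec (CommRingCat.of K)) := h
  obtain ⟨x, hx, -⟩ := Scheme.Pullback.exists_preimage_pullback (f := f) (g := q) η
    (IsLocalRing.closedPoint K) (Scheme.fromSpecResidueField_apply _ _).symm
  letI := Curv2.stalkAlgebra K F x
  haveI : Algebra.IsGeometricallyReduced K (F.presheaf.stalk x) :=
    (GeomLoc.isGeomReducedAt_iff_stalk x).1 (GeomLoc.geometricallyReduced_iff_forall.1 inferInstance x)
  let ρ := (X.residue η).hom
  have hρ : Function.Bijective ρ :=
    ⟨RingHom.injective (ρ : X.functionField →+* X.residueField η), X.residue_surjective η⟩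
  let ρi : X.residueField η ⟶ X.presheaf.stalk η :=
    CommRingCat.ofHom (RingEquiv.ofBijective ρ hρ).symm.toRingHom
  have hρi : X.residue η ≫ ρi = 𝟙 _ := by
    ext a
    exact (RingEquiv.ofBijective ρ hρ).symm_apply_apply a
  haveI : IsPreimmersion (pullback.fst f q) := MorphismProperty.pullback_fst _ _ inferInstance
  let e : (pullback.fst f q) x = η := hx
  let ψ : X.presheaf.stalk η ⟶ F.presheaf.stalk x :=
    X.presheaf.stalkSpecializes (specializes_of_eq e) ≫ (pullback.fst f q).stalkMap x
  let θ : X.residueField η ⟶ F.presheaf.stalk x := ρi ≫ ψ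
  letI : Algebra K (X.residueField η) := (f.residueFieldMap η).hom.toAlgebra
  have hcomp : f.residueFieldMap η ≫ θ = CommRingCat.ofHom (Curv2.stalkMap K F x) := by
    refine Spec.map_injective ((cancel_mono q).mp ?_)
    rw [← fromSpecStalk_comp K F x, Spec.map_comp, Category.assoc,
      Scheme.Hom.SpecMap_residueFieldMap_fromSpecResidueField]
    have h1 : Spec.map θ ≫ X.fromSpecResidueField η = F.fromSpecStalk x ≫ pullback.fst f q := by
      simp only [θ, ψ, Scheme.fromSpecResidueField, Spec.map_comp, Category.assoc]
      rw [← Spec.map_comp_assoc (X.residue η), hρi, Spec.map_id, Category.id_comp,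
        Scheme.SpecMap_stalkSpecializes_fromSpecStalk, Scheme.SpecMap_stalkMap_fromSpecStalk]
    rw [reassoc_of% h1, pullback.condition, Category.assoc]
    rfl
  let θa : X.residueField η →ₐ[K] F.presheaf.stalk x :=
    { θ.hom with commutes' := fun r => congr($hcomp r) }
  haveI : Algebra.IsGeometricallyReduced K (X.residueField η) :=
    .of_injective θa (RingHom.injective θa.toRingHom)
  exact FieldSep.MacLane.formallySmooth_of_isGeometricallyReduced

end Groth.Agent.Omega.GenericSep

end
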