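import Groth.Agent.Omega.StalkSmooth
import Groth.Agent.Omega.StalkConormal
import Mathlib.RingTheory.Etale.Kaehler
import Mathlib.RingTheory.Smooth.Field
import Mathlib.RingTheory.Smooth.Kaehler
import Mathlib.AlgebraicGeometry.FunctionField
import Mathlib.AlgebraicGeometry.ResidueField

/-!
# The pullback of differentials along a dominant separable morphism of smooth varieties
-/

set_option autoImplicit false
set_option linter.style.haveILetI false

universe u

open CategoryTheory CategoryTheory.Limits AlgebraicGeometry TopologicalSpace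
open scoped TensorProduct

noncomputable section

namespace Groth.Agent.Omega.SeparableMono

/-- `k → O_{Spec k, s}` is surjective. -/
theorem specField_stalk_surjective (k : Type u) [Field k] (s : Spec (CommRingCat.of k)) :
    Function.Surjective ((Scheme.ΓSpecIso (CommRingCat.of k)).inv ≫
      (Spec (CommRingCat.of k)).presheaf.germ ⊤ s trivial).hom := by
  let s' : (⊤ : (Spec (CommRingCat.of k)).Opens) := ⟨s, trivial⟩
  let R := Γ(Spec (CommRingCat.of k), ⊤)
  let e := (Scheme.ΓSpecIso (CommRingCat.of k)).commRingCatIsoToRingEquiv
  have hR : IsField R := MulEquiv.isField (B := k) (Field.toIsField k) e.toMulEquiv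
  letI : Algebra R ((Spec (CommRingCat.of k)).presheaf.stalk s) :=
    (Spec (CommRingCat.of k)).presheaf.algebra_section_stalk s'
  haveI := (isAffineOpen_top (Spec (CommRingCat.of k))).isLocalization_stalk s'
  intro x
  obtain ⟨⟨a, b⟩, hab⟩ := IsLocalization.surj
    ((isAffineOpen_top (Spec (CommRingCat.of k))).primeIdealOf s').asIdeal.primeCompl x
  obtain ⟨c, hc⟩ := hR.mul_inv_cancel (a := (b : R)) fun h0 => b.2 (h0 ▸ Submodule.zero_mem _)
  refine ⟨e (a * c), ?_⟩
  have : (algebraMap R ((Spec (CommRingCat.of k)).presheaf.stalk s)) (a * c) = x := by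
    rw [map_mul, ← hab, mul_assoc, ← map_mul, hc, map_one, mul_one]
  refine Eq.trans ?_ this
  exact congrArg ((Spec (CommRingCat.of k)).presheaf.germ ⊤ s trivial).hom (e.symm_apply_apply (a * c))

/-- The local ring to the residue field of the generic point is formally étale. -/
theorem formallyEtale_generic (Y : Scheme.{u}) [IsIntegral Y] (y η : Y) (hη : η = genericPoint Y) (h : η ⤳ y) :
    letI := ((Y.residue η).hom.comp (Y.presheaf.stalkSpecializes h).hom).toAlgebra
    Algebra.FormallyEtale (Y.presheaf.stalk y) (Y.residueField η) := by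
  subst hη
  letI : Algebra (Y.presheaf.stalk y) (Y.residueField (genericPoint Y)) :=
    ((Y.residue (genericPoint Y)).hom.comp (Y.presheaf.stalkSpecializes h).hom).toAlgebra
  letI : Algebra Y.functionField (Y.residueField (genericPoint Y)) := (Y.residue (genericPoint Y)).hom.toAlgebra
  haveI : IsScalarTower (Y.presheaf.stalk y) Y.functionField (Y.residueField (genericPoint Y)) :=
    IsScalarTower.of_algebraMap_eq fun _ => rfl
  haveI : Algebra.FormallyEtale (Y.presheaf.stalk y) Y.functionField :=
    Algebra.FormallyEtale.of_isLocalization (nonZeroDivisors (Y.presheaf.stalk y))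
  have hb : Function.Bijective (algebraMap Y.functionField (Y.residueField (genericPoint Y))) :=
    ⟨RingHom.injective _, Y.residue_surjective _⟩
  exact Algebra.FormallyEtale.of_equiv ((AlgEquiv.ofBijective
    (IsScalarTower.toAlgHom (Y.presheaf.stalk y) Y.functionField (Y.residueField (genericPoint Y))) hb))

/-- Differentials of smooth algebras inject along a map which is generically separable. -/
theorem injective_map {k A B K L : Type u} [Field k] [CommRing A] [CommRing B] [Field K] [Field L]
    [Algebra k A] [Algebra k B] [Algebra A B] [IsScalarTower k A B]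
    [Algebra A K] [Algebra K L] [Algebra A L] [IsScalarTower A K L]
    [Algebra B L] [IsScalarTower A B L] [Algebra k L] [IsScalarTower k B L] [IsScalarTower k A L]
    [Algebra.FormallySmooth k A] [Algebra.FormallyEtale A K] [Algebra.FormallySmooth K L]
    (hBL : Function.Injective (algebraMap B L)) :
    Function.Injective (KaehlerDifferential.mapBaseChange k A B) := by
  haveI : Algebra.FormallySmooth A L := Algebra.FormallySmooth.comp A K L
  let incl : B ⊗[A] KaehlerDifferential k A →ₗ[A] L ⊗[A] KaehlerDifferential k A :=
    ((IsScalarTower.toAlgHom A B L).toLinearMap).rTensor (KaehlerDifferential k A)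
  have hincl : Function.Injective incl :=
    Module.Flat.rTensor_preserves_injective_linearMap _ hBL
  let m : KaehlerDifferential k B →ₗ[B] KaehlerDifferential k L := KaehlerDifferential.map k k B L
  have key : ∀ z, m (KaehlerDifferential.mapBaseChange k A B z) =
      KaehlerDifferential.mapBaseChange k A L (incl z) := fun z => by
    induction z using TensorProduct.induction_on with
    | zero => simp
    | tmul b w =>
      simp only [incl, KaehlerDifferential.mapBaseChange_tmul, LinearMap.rTensor_tmul, map_smul, m]
      change b • _ = algebraMap B L b • _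
      rw [algebraMap_smul]
      congr 1
      have h : ((KaehlerDifferential.map k k B L).restrictScalars A) ∘ₗ KaehlerDifferential.map k k A B =
          KaehlerDifferential.map k k A L :=
        LinearMap.ext_on (KaehlerDifferential.span_range_derivation k A)
          (by rintro _ ⟨a, rfl⟩; simp [IsScalarTower.algebraMap_apply A B L])
      exact LinearMap.congr_fun h w
    | add x y hx hy => simp only [map_add, hx, hy]
  intro z z' h
  refine hincl ?_
  have hinjL : Function.Injective (KaehlerDifferential.mapBaseChange k A L) := by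
    rw [injective_iff_map_eq_zero]
    intro t ht
    obtain ⟨y, rfl⟩ := (Algebra.H1Cotangent.exact_δ_mapBaseChange k A L t).mp ht
    rw [Subsingleton.elim y 0, map_zero]
  exact hinjL (by rw [← key, ← key, h])

open OmegaSh Basic Stalks StalkConormal
open Groth.Agent.PullStalk.Sky Groth.Agent.PullStalk.Exact Groth.Agent.PullStalk.Basic

variable {k : Type u} [Field k] {X Y : Scheme.{u}} [IsIntegral X] [IsIntegral Y]
  {pX : X ⟶ Spec (CommRingCat.of k)} {pY : Y ⟶ Spec (CommRingCat.of k)} {φ : X ⟶ Y}

set_option maxHeartbeats 800000 in
theorem mono_of_formallySmooth [Smooth pY] (w : φ ≫ pY = pX) (hdom : DenseRange φ.base)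
    (hsep : letI := (φ.residueFieldMap (genericPoint X)).hom.toAlgebra
      Algebra.FormallySmooth (Y.residueField (φ.base (genericPoint X))) (X.residueField (genericPoint X)))
    {ΩY : Y.Modules} {dY : Der pY ΩY} (hY : IsUniversal dY)
    {ΩX : X.Modules} {dX : Der pX ΩX} (hX : IsUniversal dX)
    {c : (Scheme.Modules.pullback φ).obj ΩY ⟶ ΩX} (hc : IsDiffCompat φ dY dX c) : Mono c := by
  subst w
  let η := genericPoint X
  have hη : φ η = genericPoint Y := by
    have h1 : IsGenericPoint (φ η) (Set.univ : Set Y) := by
      have := (genericPoint_spec X).image φ.continuous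
      rwa [Set.image_univ, hdom.closure_range] at this
    exact h1.eq (genericPoint_spec Y)
  refine mono_of_stalk fun x => ?_
  let y := φ x
  let A := Y.presheaf.stalk y
  let B := X.presheaf.stalk x
  let K := Y.residueField (φ η)
  let L := X.residueField η
  have hxη : η ⤳ x := genericPoint_specializes x
  let σk : k →+* (Spec (CommRingCat.of k)).presheaf.stalk (pY y) :=
    ((Scheme.ΓSpecIso (CommRingCat.of k)).inv ≫
      (Spec (CommRingCat.of k)).presheaf.germ ⊤ (pY y) trivial).hom
  have hσk : Function.Surjective σk := specField_stalk_surjective k (pY y)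
  letI : Algebra k A := ((pY.stalkMap y).hom.comp σk).toAlgebra
  letI : Algebra A B := (φ.stalkMap x).hom.toAlgebra
  letI : Algebra k B := ((algebraMap A B).comp (algebraMap k A)).toAlgebra
  haveI : IsScalarTower k A B := IsScalarTower.of_algebraMap_eq fun _ => rfl
  letI : Algebra B L := ((X.residue η).hom.comp (X.presheaf.stalkSpecializes hxη).hom).toAlgebra
  letI : Algebra A K := ((Y.residue (φ η)).hom.comp
    (Y.presheaf.stalkSpecializes (φ.base.hom.map_specializes hxη)).hom).toAlgebra
  letI : Algebra K L := (φ.residueFieldMap η).hom.toAlgebra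
  letI : Algebra A L := ((algebraMap B L).comp (algebraMap A B)).toAlgebra
  letI : Algebra k L := ((algebraMap B L).comp (algebraMap k B)).toAlgebra
  haveI : IsScalarTower A B L := IsScalarTower.of_algebraMap_eq fun _ => rfl
  haveI : IsScalarTower k B L := IsScalarTower.of_algebraMap_eq fun _ => rfl
  haveI : IsScalarTower k A L := IsScalarTower.of_algebraMap_eq fun _ => rfl
  haveI : IsScalarTower A K L := IsScalarTower.of_algebraMap_eq fun a => by
    change X.residue η (X.presheaf.stalkSpecializes hxη (φ.stalkMap x a)) =
      φ.residueFieldMap η (Y.residue (φ η) (Y.presheaf.stalkSpecializes _ a))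
    rw [← Scheme.Hom.stalkSpecializes_stalkMap_apply φ η x hxη a]
    exact (congr($(Scheme.residue_residueFieldMap φ η)
      (Y.presheaf.stalkSpecializes (φ.base.hom.map_specializes hxη) a))).symm
  haveI : Algebra.FormallyEtale A K := formallyEtale_generic Y y (φ η) hη _
  haveI : Algebra.FormallySmooth K L := hsep
  letI : Algebra ((Spec (CommRingCat.of k)).presheaf.stalk (pY y)) A := (pY.stalkMap y).hom.toAlgebra
  letI : Algebra k ((Spec (CommRingCat.of k)).presheaf.stalk (pY y)) := σk.toAlgebra
  haveI : IsScalarTower k ((Spec (CommRingCat.of k)).presheaf.stalk (pY y)) A :=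
    IsScalarTower.of_algebraMap_eq fun _ => rfl
  haveI := StalkSmooth.formallySmooth_stalkMap_of_smooth pY y
  haveI : Algebra.FormallySmooth k ((Spec (CommRingCat.of k)).presheaf.stalk (pY y)) :=
    Algebra.FormallySmooth.of_equiv (AlgEquiv.ofBijective (Algebra.ofId k _) ⟨RingHom.injective σk, hσk⟩)
  haveI : Algebra.FormallySmooth k A :=
    Algebra.FormallySmooth.comp k ((Spec (CommRingCat.of k)).presheaf.stalk (pY y)) A
  have hBL : Function.Injective (algebraMap B L) := by
    change Function.Injective ((X.residue η).hom ∘ (X.presheaf.stalkSpecializes hxη).hom)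
    exact (RingHom.injective ((X.residue η).hom : X.functionField →+* L)).comp
      (IsFractionRing.injective B X.functionField)
  have hinj := injective_map (k := k) (A := A) (B := B) (K := K) (L := L) hBL
  obtain ⟨δ, hmul, hzero, hδ, hu⟩ := exists_pullDer φ x hY
  obtain ⟨δX, hmulX, hzeroX, hδX, huX⟩ := exists_stalk_universal hX x
  obtain ⟨l, hl, -⟩ := hu (B ⊗[A] KaehlerDifferential k A)
    (AddMonoidHom.mk' (fun a => 1 ⊗ₜ KaehlerDifferential.D k A a) fun a b => by
      rw [map_add, TensorProduct.tmul_add])
    (fun a b => by
      simp only [AddMonoidHom.mk'_apply, Derivation.leibniz, TensorProduct.tmul_add, TensorProduct.tmul_smul]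
      congr 1 <;> exact (algebraMap_smul B _ _).symm)
    (fun t => by
      obtain ⟨t, rfl⟩ := hσk t
      change (1 : B) ⊗ₜ[A] KaehlerDifferential.D k A (algebraMap k A t) = 0
      rw [Derivation.map_algebraMap, TensorProduct.tmul_zero])
  have hcomp : ∀ t, (φ ≫ pY).stalkMap x t = φ.stalkMap x (pY.stalkMap y t) := fun t =>
    congr($(Scheme.Hom.stalkMap_comp φ pY x) t)
  obtain ⟨lX, hlX, -⟩ := huX (KaehlerDifferential k B) (KaehlerDifferential.D k B).toLinearMap.toAddMonoidHom
    (fun a b => (KaehlerDifferential.D k B).leibniz a b)
    (fun t => by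
      obtain ⟨t, rfl⟩ := hσk t
      rw [hcomp]
      exact (KaehlerDifferential.D k B).map_algebraMap t)
  let P := ((Scheme.Modules.pullback φ).obj ΩY).presheaf.stalk x
  letI : Module A P := Module.compHom _ (φ.stalkMap x).hom
  haveI : IsScalarTower A B P := IsScalarTower.of_algebraMap_smul fun _ _ => rfl
  letI : Module k P := Module.compHom _ (algebraMap k A)
  haveI : IsScalarTower k A P := IsScalarTower.of_algebraMap_smul fun _ _ => rfl
  let D' : Derivation k A P :=
    { toFun := δ
      map_add' := map_add δ
      map_smul' := fun r a => by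
        rw [Algebra.smul_def, hmul, show δ (algebraMap k A r) = 0 from hzero (σk r), smul_zero, add_zero]
        rfl
      map_one_eq_zero' := by
        have h1 := hmul 1 1
        simp only [mul_one, map_one, one_smul] at h1
        exact left_eq_add.mp h1
      leibniz' := fun a b => hmul a b }
  let linv : B ⊗[A] KaehlerDifferential k A →ₗ[B] P := D'.liftKaehlerDifferential.liftBaseChange B
  have hlinv : ∀ v, linv (l v) = v := by
    obtain ⟨m, -, hm⟩ := hu P δ hmul hzero
    have e1 : linv ∘ₗ l = m := hm _ fun a => by
      rw [LinearMap.comp_apply, hl]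
      simp [linv, D', Derivation.liftKaehlerDifferential_comp_D]
    have e2 : LinearMap.id = m := hm _ fun a => rfl
    exact fun v => congr($(e1.trans e2.symm) v)
  obtain ⟨m, -, hm⟩ := hu (KaehlerDifferential k B)
    ((KaehlerDifferential.D k B).toLinearMap.toAddMonoidHom.comp (φ.stalkMap x).hom.toAddMonoidHom)
    (fun a b => by simp) (fun t => by
      obtain ⟨t, rfl⟩ := hσk t
      exact (KaehlerDifferential.D k B).map_algebraMap t)
  have e1 : lX ∘ₗ stalkLin c x = m := hm _ fun a => by
    obtain ⟨U, hxU, s, rfl⟩ := Y.presheaf.exists_germ_eq (x := y) a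
    rw [LinearMap.comp_apply, hδ U hxU s, stalkLin_germ, hc U s, ← hδX, hlX]
    exact congrArg (KaehlerDifferential.D k B) (Scheme.Hom.germ_stalkMap_apply φ U x hxU s).symm
  have e2 : (KaehlerDifferential.mapBaseChange k A B) ∘ₗ l = m := hm _ fun a => by
    rw [LinearMap.comp_apply, hl]
    simp only [AddMonoidHom.mk'_apply, KaehlerDifferential.mapBaseChange_tmul, one_smul, KaehlerDifferential.map_D]
    rfl
  intro v v' h
  rw [← hlinv v, ← hlinv v']
  refine congrArg linv (hinj ?_)
  rw [← LinearMap.comp_apply, ← LinearMap.comp_apply (f := KaehlerDifferential.mapBaseChange k A B), e2, ← e1,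
    LinearMap.comp_apply, LinearMap.comp_apply, h]

theorem mono_of_separable [Smooth pY] (w : φ ≫ pY = pX) (hdom : DenseRange φ.base)
    (hsep : letI := (φ.residueFieldMap (genericPoint X)).hom.toAlgebra
      Algebra.IsSeparable (Y.residueField (φ.base (genericPoint X))) (X.residueField (genericPoint X)))
    {ΩY : Y.Modules} {dY : Der pY ΩY} (hY : IsUniversal dY)
    {ΩX : X.Modules} {dX : Der pX ΩX} (hX : IsUniversal dX)
    {c : (Scheme.Modules.pullback φ).obj ΩY ⟶ ΩX} (hc : IsDiffCompat φ dY dX c) : Mono c := by
  refine mono_of_formallySmooth w hdom ?_ hY hX hc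
  letI := (φ.residueFieldMap (genericPoint X)).hom.toAlgebra
  haveI := hsep
  haveI := Algebra.FormallyEtale.of_isSeparable (Y.residueField (φ.base (genericPoint X)))
    (X.residueField (genericPoint X))
  infer_instance

end Groth.Agent.Omega.SeparableMono

end
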