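import Groth.Agent.Omega.RankDimGen
import Groth.Agent.AlgSpD.RelDim
import Groth.Agent.FlatMisc.FibreDimScheme
import Mathlib

/-!
# Fibre dimension of smooth morphisms is the rank of differentials

* `localDim_eq_rank`: smooth algebra over a field: local dimension = rank of `Ω`.
* `fibreDimAt_spec`: `A → B` smooth: fibre dimension of `Spec B → Spec A` at `Q` is the rank of `Ω[B⁄A]` at `Q`.
* `rankAtStalk_kaehler_comp`: additivity of the rank for `A → B → C` smooth.
* `etale_of_unramified_rank`: unramified with equal ranks ⇒ étale.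
* `exists_chart`: affine charts of a morphism, compatibly with fibre dimensions.
-/

set_option autoImplicit false

universe u

open CategoryTheory AlgebraicGeometry TensorProduct

noncomputable section

namespace Groth.Agent.Omega.SmoothFibreDim

attribute [local instance] Algebra.TensorProduct.rightAlgebra

theorem localDim_eq_rank (k : Type u) [Field k] (A : Type u) [CommRing A] [Algebra k A]
    [Algebra.Smooth k A] (Q : PrimeSpectrum A) :
    FlatMor.localDim (PrimeSpectrum A) Q =
      ((Module.rankAtStalk (R := A) Ω[A⁄k] Q : ℕ) : WithBot ℕ∞) := by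
  have hrk : Module.rankAtStalk (R := A) Ω[A⁄k] Q = RankDim.rank k Q.asIdeal :=
    (Ideal.finrank_fiber_eq_rankAtStalk (M := Ω[A⁄k]) Q.asIdeal).symm
  rw [hrk]
  refine le_antisymm (RankDim.localDim_le_rank k Q.asIdeal) ?_
  haveI : IsNoetherianRing A := Algebra.FiniteType.isNoetherianRing k A
  obtain ⟨p, hp, hpq⟩ := Ideal.exists_minimalPrimes_le (bot_le : (⊥ : Ideal A) ≤ Q.asIdeal)
  haveI := Ideal.minimalPrimes_isPrime hp
  haveI : Algebra.FormallySmooth A (Localization.AtPrime p) :=
    Algebra.FormallySmooth.of_isLocalization p.primeCompl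
  haveI : Algebra.FormallySmooth k (Localization.AtPrime p) := Algebra.FormallySmooth.comp k A _
  haveI := RankDim.isRegularLocalRing_of_isSmoothAt k A p ‹_›
  haveI := RegLoc.isDomain (Localization.AtPrime p)
  have hfield := RankDim.isField_of_minimal p hp
  obtain ⟨t, ht⟩ := RankDim.exists_trdeg_eq k p
  rw [← RankDim.rank_eq_of_le k hpq, RankDim.rank_eq_trdeg k p hfield t ht,
    show Q = ⟨Q.asIdeal, Q.2⟩ from rfl, CAlgLib.LocalDimSpec.localDim_eq k Q.asIdeal,
    ← TrdegDim.ringKrullDim_quotient_eq p t ht]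
  exact le_iSup_of_le (⟨p, hp, hpq⟩ : CAlgLib.LocalDimSpec.Mins Q.asIdeal) le_rfl

/-- The fibre dimension of an affine morphism as the local dimension of the fibre ring. -/
theorem fibreDimAt_eq_localDim_fiber (A B : Type u) [CommRing A] [CommRing B] [Algebra A B]
    (Q : PrimeSpectrum B) :
    ∃ P : PrimeSpectrum ((PrimeSpectrum.comap (algebraMap A B) Q).asIdeal.Fiber B),
      PrimeSpectrum.comap (algebraMap B ((PrimeSpectrum.comap (algebraMap A B) Q).asIdeal.Fiber B)) P = Q ∧
      FlatMor.fibreDimAt (Spec.map (CommRingCat.ofHom (algebraMap A B))) Q = FlatMor.localDim _ P := by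
  set f := Spec.map (CommRingCat.ofHom (algebraMap A B))
  let H := PrimeSpectrum.preimageHomeomorphFiber A B (PrimeSpectrum.comap (algebraMap A B) Q)
  refine ⟨H ⟨Q, rfl⟩, ?_, ?_⟩
  · exact congrArg Subtype.val (H.symm_apply_apply (⟨Q, rfl⟩ : PrimeSpectrum.comap (algebraMap A B) ⁻¹' {_}))
  · rw [FlatMisc.FibreDimScheme.fibreDimAt_eq]
    refine le_antisymm ?_ ?_
    · have h := FlatMisc.FibreDimScheme.localDim_homeo H.symm (H ⟨Q, rfl⟩)
      rw [H.symm_apply_apply] at h
      exact h
    · exact FlatMisc.FibreDimScheme.localDim_homeo H ⟨Q, rfl⟩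

theorem fibreDimAt_spec (A B : Type u) [CommRing A] [CommRing B] [Algebra A B] [Algebra.Smooth A B]
    (Q : PrimeSpectrum B) :
    FlatMor.fibreDimAt (Spec.map (CommRingCat.ofHom (algebraMap A B))) Q =
      ((Module.rankAtStalk (R := B) Ω[B⁄A] Q : ℕ) : WithBot ℕ∞) := by
  obtain ⟨P, hP, h⟩ := fibreDimAt_eq_localDim_fiber A B Q
  rw [h, localDim_eq_rank (PrimeSpectrum.comap (algebraMap A B) Q).asIdeal.ResidueField _ P]
  refine congrArg (fun n : ℕ => ((n : ℕ) : WithBot ℕ∞)) ?_
  rw [← congrFun (Module.rankAtStalk_eq_of_equiv (KaehlerDifferential.tensorKaehlerEquiv A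
      (PrimeSpectrum.comap (algebraMap A B) Q).asIdeal.ResidueField B _)) P, Module.rankAtStalk_baseChange]
  exact congrArg (Module.rankAtStalk (R := B) Ω[B⁄A]) hP

theorem rankAtStalk_kaehler_comp (A B C : Type u) [CommRing A] [CommRing B] [CommRing C]
    [Algebra A B] [Algebra A C] [Algebra B C] [IsScalarTower A B C]
    [Algebra.Smooth A B] [Algebra.Smooth B C] (P : PrimeSpectrum C) :
    Module.rankAtStalk (R := C) Ω[C⁄A] P = Module.rankAtStalk (R := C) Ω[C⁄B] P +
      Module.rankAtStalk (R := B) Ω[B⁄A] (P.comap (algebraMap B C)) := by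
  set i := KaehlerDifferential.mapBaseChange A B C
  set g := KaehlerDifferential.map A B C C
  have hex : Function.Exact i g := KaehlerDifferential.exact_mapBaseChange_map A B C
  have hsurj : Function.Surjective g := KaehlerDifferential.map_surjective A B C
  have hinj : Function.Injective i := by
    refine (injective_iff_map_eq_zero i).mpr fun x hx => ?_
    obtain ⟨y, rfl⟩ := ((Algebra.H1Cotangent.exact_δ_mapBaseChange A B C) x).mp hx
    rw [Subsingleton.elim y 0, map_zero]
  obtain ⟨s, hs⟩ := Module.projective_lifting_property g LinearMap.id hsurj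
  obtain ⟨e, -⟩ := hex.splitSurjectiveEquiv hinj ⟨s, hs⟩
  rw [congrFun (Module.rankAtStalk_eq_of_equiv e) P, Module.rankAtStalk_prod, Pi.add_apply,
    Module.rankAtStalk_baseChange, add_comm]

theorem etale_of_unramified_rank (A B C : Type u) [CommRing A] [CommRing B] [CommRing C]
    [Algebra A B] [Algebra A C] [Algebra B C] [IsScalarTower A B C]
    [Algebra.Smooth A B] [Algebra.Smooth A C] [Algebra.FormallyUnramified B C]
    (hr : ∀ P : PrimeSpectrum C, Module.rankAtStalk (R := C) Ω[C⁄A] P =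
      Module.rankAtStalk (R := B) Ω[B⁄A] (P.comap (algebraMap B C))) :
    Algebra.Etale B C := by
  set π := KaehlerDifferential.mapBaseChange A B C
  have hπ : Function.Surjective π := fun z =>
    ((KaehlerDifferential.exact_mapBaseChange_map A B C) z).mp (Subsingleton.elim _ _)
  have hbij := Module.bijective_of_surjective_of_rankAtStalk_eq hπ fun m _ => by
    rw [Module.rankAtStalk_baseChange, hr ⟨m, inferInstance⟩]
  haveI : Subsingleton (Algebra.H1Cotangent B C) := by
    refine subsingleton_of_forall_eq 0 (fun x => ?_)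
    have h1 : Algebra.H1Cotangent.δ A B C x = 0 :=
      hbij.1 ((Algebra.H1Cotangent.exact_δ_mapBaseChange A B C).apply_apply_eq_zero x |>.trans (map_zero _).symm)
    obtain ⟨y, rfl⟩ := ((Algebra.H1Cotangent.exact_map_δ A B C) x).mp h1
    rw [Subsingleton.elim y 0, map_zero]
  haveI : Algebra.FormallyEtale B C := (Algebra.formallyEtale_iff B C).mpr ⟨inferInstance, inferInstance⟩
  exact ⟨inferInstance, Algebra.FinitePresentation.of_restrict_scalars_finitePresentation A B C⟩

/-- Transport of the fibre dimension along affine open charts. -/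
theorem fibreDimAt_chart {X S : Scheme.{u}} (f : X ⟶ S) {A B : CommRingCat.{u}} (φ : A ⟶ B)
    (p : Spec B ⟶ X) (q : Spec A ⟶ S) [IsOpenImmersion p] [IsOpenImmersion q]
    (w : Spec.map φ ≫ q = p ≫ f) (Q : Spec B) :
    FlatMor.fibreDimAt (Spec.map φ) Q = FlatMor.fibreDimAt f (p Q) :=
  AlgSpD.fibreDimAt_inv p q (Spec.map φ) f w Q

end Groth.Agent.Omega.SmoothFibreDim

noncomputable section

namespace Groth.Agent.Omega.SmoothFibreDim

open TopologicalSpace

theorem exists_nhd {X S : Scheme.{u}} (f : X ⟶ S) (x : X) {V : S.Opens} (hV : f x ∈ V) :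
    ∃ (U : X.Opens) (_ : IsAffineOpen U), x ∈ U ∧ U ≤ f ⁻¹ᵁ V := by
  obtain ⟨U, hU, hx, hUV⟩ := X.isBasis_affineOpens.exists_subset_of_mem_open
    (show x ∈ ((f ⁻¹ᵁ V : X.Opens) : Set X) from hV) (f ⁻¹ᵁ V).2
  obtain ⟨U, hU, rfl⟩ := hU
  exact ⟨U, hU, hx, hUV⟩

theorem exists_mem {X : Scheme.{u}} (x : X) : ∃ (U : X.Opens) (_ : IsAffineOpen U), x ∈ U := by
  obtain ⟨U, hU, hx, -⟩ := exists_nhd (𝟙 X) x (V := ⊤) trivial
  exact ⟨U, hU, hx⟩

theorem exists_pt {X : Scheme.{u}} {U : X.Opens} (hU : IsAffineOpen U) {x : X} (hx : x ∈ U) :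
    ∃ Q, hU.fromSpec Q = x := by
  have : x ∈ Set.range hU.fromSpec := by rw [hU.range_fromSpec]; exact hx
  exact this

theorem fibreDimAt_appLE {X S : Scheme.{u}} (f : X ⟶ S) {V : S.Opens} (hV : IsAffineOpen V)
    {U : X.Opens} (hU : IsAffineOpen U) (e : U ≤ f ⁻¹ᵁ V) (Q : Spec Γ(X, U)) :
    FlatMor.fibreDimAt (Spec.map (f.appLE V U e)) Q = FlatMor.fibreDimAt f (hU.fromSpec Q) :=
  fibreDimAt_chart f _ hU.fromSpec hV.fromSpec (hV.SpecMap_appLE_fromSpec f hU e) Q

end Groth.Agent.Omega.SmoothFibreDim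

end
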