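import Groth.Prelude.Def_OmegaPn
import Groth.Agent.QCohGen.StalkFun
import Mathlib.AlgebraicGeometry.Morphisms.Affine

/-!
# The projections of infinitesimal neighbourhoods of the diagonal, topologically
-/

set_option autoImplicit false

universe u

open CategoryTheory CategoryTheory.Limits AlgebraicGeometry TopologicalSpace Opposite

noncomputable section

namespace Groth.Agent.Omega.PPTop

open PrinPart
open Groth.Agent.QCohGen

variable {X S : Scheme.{u}} (f : X ⟶ S) (n : ℕ)

/-- A projection of a neighbourhood of the diagonal, as a homeomorphism. -/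
def prHomeo (p : nbhd f n ⟶ X) (hp : toNbhd f n ≫ p = 𝟙 X) : nbhd f n ≃ₜ X where
  toFun := p
  invFun := toNbhd f n
  left_inv z := by
    obtain ⟨x, rfl⟩ := toInfNbhd_surjective (diagCl f) n z
    exact congrArg _ (congr($hp x))
  right_inv x := congr($hp x)
  continuous_toFun := p.continuous
  continuous_invFun := (toNbhd f n).continuous

theorem isAffineHom_pr (p : nbhd f n ⟶ X) (hp : toNbhd f n ≫ p = 𝟙 X) : IsAffineHom p :=
  isAffineHom_of_isInducing p (prHomeo f n p hp).isInducing (prHomeo f n p hp).isClosedEmbedding.isClosed_range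

/-- Pushforward along a surjective inducing morphism preserves colimits. -/
theorem preservesColimits_pushforward {Z Y : Scheme.{u}} (i : Z ⟶ Y) (hi : Topology.IsInducing i)
    (hs : Function.Surjective i) : PreservesColimitsOfSize.{u, u} (Scheme.Modules.pushforward i) := by
  refine ⟨fun {J} _ => ?_⟩
  refine preservesColimitsOfShape_of_stalk _ fun x ↦ ?_
  obtain ⟨z, rfl⟩ := hs x
  have hsp : ∀ N : Z.Modules,
      IsIso (TopCat.Presheaf.stalkPushforward AddCommGrpCat.{u} i.base N.presheaf z) :=
    fun N ↦ (ConcreteCategory.isIso_iff_bijective _).mpr (ClUnit.stalkPushforward_bijective i N hi z)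
  refine preservesColimitsOfShape_of_natIso (NatIso.ofComponents
    (fun N ↦ @asIso _ _ _ _ (TopCat.Presheaf.stalkPushforward AddCommGrpCat.{u} i.base N.presheaf z) (hsp N))
    (fun {N N'} φ ↦ ?_) : Scheme.Modules.pushforward i ⋙ stalkAb Y (i z) ≅ stalkAb Z z).symm
  refine TopCat.Presheaf.stalk_hom_ext _ fun U hU ↦ ?_
  ext m
  change TopCat.Presheaf.stalkPushforward AddCommGrpCat.{u} i.base N'.presheaf z
      ((TopCat.Presheaf.stalkFunctor AddCommGrpCat.{u} (i z)).map
        ((Scheme.Modules.pushforward i).map φ).mapPresheaf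
        (((Scheme.Modules.pushforward i).obj N).presheaf.germ U (i z) hU m)) =
    (TopCat.Presheaf.stalkFunctor AddCommGrpCat.{u} z).map φ.mapPresheaf
      (TopCat.Presheaf.stalkPushforward AddCommGrpCat.{u} i.base N.presheaf z
        (((Scheme.Modules.pushforward i).obj N).presheaf.germ U (i z) hU m))
  refine (congrArg _ (TopCat.Presheaf.stalkFunctor_map_germ_apply _ _ _ _ _)).trans ?_
  refine (TopCat.Presheaf.stalkPushforward_germ_apply _ _ _ _ _ _ _).trans ?_
  refine Eq.trans ?_ (congrArg _ (TopCat.Presheaf.stalkPushforward_germ_apply _ _ _ _ _ _ _)).symm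
  refine Eq.trans ?_ (TopCat.Presheaf.stalkFunctor_map_germ_apply _ _ _ _ _).symm
  rfl

theorem preservesColimits_pushforward_pr1 :
    PreservesColimitsOfSize.{u, u} (Scheme.Modules.pushforward (pr1 f n)) :=
  preservesColimits_pushforward _ (prHomeo f n _ (toNbhd_pr1 f n)).isInducing
    (prHomeo f n _ (toNbhd_pr1 f n)).surjective

end Groth.Agent.Omega.PPTop

end
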