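import Groth.Agent.Omega.PPNec
import Groth.Agent.Omega.PPTop
import Groth.Agent.PP16.Basic
import Groth.Agent.QCoh.Pullback
import Groth.Agent.HomShEval.Reflexive

/-!
# The stalks of sheaves of principal parts are rings of principal parts
-/

set_option autoImplicit false

universe u

open CategoryTheory CategoryTheory.Limits AlgebraicGeometry TopologicalSpace Opposite

noncomputable section

namespace Groth.Agent.Omega.PPIso

open PrinPart PPGen PPStalk PPOp Stalks StalkSeq ThickSeq
open Groth.Agent.PullStalk.Sky Groth.Agent.PullStalk.Exact Groth.Agent.PullStalk.Basic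
open Groth.Agent.HomShEval.Reflexive

theorem structureStalkEquiv_symm_germ {X : Scheme.{u}} (x : X) (W : X.Opens) (hx : x ∈ W) (s : Γ(X, W)) :
    (structureStalkEquiv x).symm (germM (Coh.structureModule X) W x hx (OmegaSh.strSect X W s)) =
      X.presheaf.germ W x hx s := by
  rw [LinearEquiv.symm_apply_eq]
  change _ = X.presheaf.germ W x hx s • oneGerm x
  have h1 : germM (Coh.structureModule X) W x hx
      ((Coh.structureModule X).presheaf.map (homOfLE (le_top : W ≤ ⊤)).op
        (show Γ(Coh.structureModule X, ⊤) from (1 : Γ(X, ⊤)))) = oneGerm x :=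
    (Coh.structureModule X).presheaf.germ_res_apply _ _ _ _
  refine Eq.trans ?_ ((congrArg (X.presheaf.germ W x hx s • ·) h1.symm).trans
    (germM_smul (Coh.structureModule X) W x hx s _).symm).symm
  refine congrArg _ ?_
  change s = s * X.presheaf.map _ (1 : Γ(X, ⊤))
  exact ((congrArg _ (map_one _)).trans (mul_one _)).symm

theorem pullbackUnitIso_hom_app {X Y : Scheme.{u}} (h : X ⟶ Y) (U : Y.Opens) (s : Γ(Y, U)) :
    (QCoh.pullbackUnitIso h).hom.app (h ⁻¹ᵁ U)
      (OmegaSh.pullSect h (Coh.structureModule Y) U (OmegaSh.strSect Y U s)) =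
      OmegaSh.strSect X (h ⁻¹ᵁ U) (h.app U s) := by
  have e := congr(Scheme.Modules.Hom.app $(SheafOfModules.pullbackPushforwardAdjunction_homEquiv_pullbackObjUnitToUnit.{u}
    h.toRingCatSheafHom) U (OmegaSh.strSect Y U s))
  exact (Basic.homEquiv_app h (QCoh.pullbackUnitIso h).hom U _).symm.trans e

variable {X S : Scheme.{u}} (f : X ⟶ S) (n : ℕ)

theorem prN_base (x : X) :
    f.stalkMap x ≫ prN f n _ (toNbhd_pr1 f n) x = f.stalkMap x ≫ prN f n _ (toNbhd_pr2 f n) x := by
  have h : ∀ (p : nbhd f n ⟶ X) (hp : toNbhd f n ≫ p = 𝟙 X),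
      Spec.map (f.stalkMap x ≫ prN f n p hp x) ≫ S.fromSpecStalk (f x) =
        (nbhd f n).fromSpecStalk (toNbhd f n x) ≫ p ≫ f := fun p hp => by
    have h1 : Spec.map (prN f n p hp x) ≫ X.fromSpecStalk x =
        (nbhd f n).fromSpecStalk (toNbhd f n x) ≫ p := SpecMap_σ_fromSpecStalk (square_pr f n p hp) x
    rw [Spec.map_comp, Category.assoc, Scheme.SpecMap_stalkMap_fromSpecStalk, ← Category.assoc, h1,
      Category.assoc]
  refine hom_eq_of_fromSpecStalk ?_
  rw [h, h, pr1_comp]

open scoped TensorProduct in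
/-- The map to the ring of principal parts is bijective. -/
theorem exists_toPP_bijective (x : X) :
    letI := algStalk f x
    ∃ e : (nbhd f n).presheaf.stalk (toNbhd f n x) →+*
        PP16.P n (S.presheaf.stalk (f x)) (X.presheaf.stalk x), Function.Bijective e ∧
      ∀ b, e (prN f n _ (toNbhd_pr1 f n) x b) = algebraMap (X.presheaf.stalk x) _ b ∧
        e (prN f n _ (toNbhd_pr2 f n) x b) = PP16.dn n _ _ b := by
  let := algStalk f x
  obtain ⟨e, he⟩ := exists_toPP f n x
  refine ⟨e, ?_, he⟩
  let A := S.presheaf.stalk (f x)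
  let C := X.presheaf.stalk x
  let O := (nbhd f n).presheaf.stalk (toNbhd f n x)
  let s₁ : C →+* O := (prN f n _ (toNbhd_pr1 f n) x).hom
  let s₂ : C →+* O := (prN f n _ (toNbhd_pr2 f n) x).hom
  let : Algebra A O := (s₁.comp (algebraMap A C)).toAlgebra
  let a₁ : C →ₐ[A] O := { s₁ with commutes' := fun a => rfl }
  let a₂ : C →ₐ[A] O := { s₂ with commutes' := fun a => congr($(prN_base f n x) a).symm }
  let L : C ⊗[A] C →ₐ[A] O := Algebra.TensorProduct.lift a₁ a₂ fun _ _ => Commute.all _ _
  let K := RingHom.ker ((toNbhd f n).stalkMap x).hom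
  have hI : (KaehlerDifferential.ideal A C).map L.toRingHom ≤ K := by
    rw [← KaehlerDifferential.span_range_eq_ideal, Ideal.map_span, Ideal.span_le]
    rintro _ ⟨_, ⟨b, rfl⟩, rfl⟩
    rw [SetLike.mem_coe, RingHom.mem_ker]
    change (toNbhd f n).stalkMap x (L ((1 : C) ⊗ₜ[A] b - b ⊗ₜ[A] (1 : C))) = 0
    rw [map_sub, Algebra.TensorProduct.lift_tmul, Algebra.TensorProduct.lift_tmul, map_one, map_one,
      one_mul, mul_one, map_sub, sub_eq_zero]
    exact (stalkMap_σ (square_pr f n _ (toNbhd_pr2 f n)) x b).trans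
      (stalkMap_σ (square_pr f n _ (toNbhd_pr1 f n)) x b).symm
  let ψ : PP16.P n A C →+* O := Ideal.Quotient.lift _ L.toRingHom fun y hy => by
    have h1 := Ideal.mem_map_of_mem L.toRingHom hy
    rw [Ideal.map_pow] at h1
    have h2 := Ideal.pow_right_mono hI _ h1
    rwa [toInfNbhd_ker_pow_eq_bot] at h2
  refine ⟨Function.LeftInverse.injective (g := ψ) fun a => ?_, fun p => ?_⟩
  · induction mem_closure_stalk f n x a using AddSubgroup.closure_induction with
    | mem r hr =>
      obtain ⟨⟨b₁, b₂⟩, rfl⟩ := hr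
      dsimp only
      rw [map_mul, (he b₁).1, (he b₂).2, map_mul]
      refine congr_arg₂ (· * ·) ?_ ?_
      · change L (b₁ ⊗ₜ[A] 1) = _
        rw [Algebra.TensorProduct.lift_tmul, map_one, mul_one]
        rfl
      · change L (1 ⊗ₜ[A] b₂) = _
        rw [Algebra.TensorProduct.lift_tmul, map_one, one_mul]
        rfl
    | zero => rw [map_zero, map_zero]
    | add a b _ _ ha hb => rw [map_add, map_add, ha, hb]
    | neg a _ ha => rw [map_neg, map_neg, ha]
  · have hp := (Groth.Agent.PP16.span_dn A (B := C) n).ge (Submodule.mem_top (x := p))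
    induction hp using Submodule.span_induction with
    | mem q hq => obtain ⟨b, rfl⟩ := hq; exact ⟨_, (he b).2⟩
    | zero => exact ⟨0, map_zero e⟩
    | add a b _ _ ha hb =>
      obtain ⟨a', rfl⟩ := ha
      obtain ⟨b', rfl⟩ := hb
      exact ⟨a' + b', map_add e a' b'⟩
    | smul c q _ hq =>
      obtain ⟨q', rfl⟩ := hq
      exact ⟨s₁ c * q', by rw [map_mul, Algebra.smul_def]; exact congrArg (· * _) (he c).1⟩

/-- The stalk of the sheaf of principal parts is the module of principal parts of the local rings. -/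
theorem exists_stalkEquiv (x : X) :
    letI := algStalk f x
    ∃ Θ : (P f n).presheaf.stalk x →+ PP16.P n (S.presheaf.stalk (f x)) (X.presheaf.stalk x),
      Function.Bijective Θ ∧ (∀ (c : X.presheaf.stalk x) τ, Θ (c • τ) = c • Θ τ) ∧
      ∀ (U : X.Opens) (hx : x ∈ U) (b : Γ(X, U)),
        Θ (germM (P f n) U x hx (dn f n U b)) = PP16.dn n _ _ (X.presheaf.germ U x hx b) := by
  let := algStalk f x
  obtain ⟨e, hebij, he⟩ := exists_toPP_bijective f n x
  let N := nbhd f n
  let z := toNbhd f n x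
  let p := pr1 f n
  have hz : p z = x := congr($(toNbhd_pr1 f n) x)
  let M := (Scheme.Modules.pullback (pr2 f n)).obj (Coh.structureModule X)
  let η : M ≅ Coh.structureModule N := QCoh.pullbackUnitIso (pr2 f n)
  let sp := TopCat.Presheaf.stalkPushforward AddCommGrpCat p.base M.presheaf z
  have hspb : Function.Bijective sp :=
    ClUnit.stalkPushforward_bijective p M (PPTop.prHomeo f n _ (toNbhd_pr1 f n)).isInducing z
  let spec := (P f n).presheaf.stalkSpecializes (Specializes.of_eq hz)
  have hspecb : Function.Bijective spec := ConcreteCategory.bijective_of_isIso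
    ((P f n).presheaf.stalkCongr (.of_eq hz.symm)).hom
  have hηb : Function.Bijective (stalkLin η.hom z) := by
    refine Function.bijective_iff_has_inverse.mpr ⟨stalkLin η.inv z, fun m => ?_, fun m => ?_⟩
    · obtain ⟨U, hU, m, rfl⟩ := exists_germM_eq M z m
      rw [stalkLin_germ, stalkLin_germ]
      exact congrArg _ congr(Scheme.Modules.Hom.app $(η.hom_inv_id) U m)
    · obtain ⟨U, hU, m, rfl⟩ := exists_germM_eq (Coh.structureModule N) z m
      rw [stalkLin_germ, stalkLin_germ]
      exact congrArg _ congr(Scheme.Modules.Hom.app $(η.inv_hom_id) U m)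
  let Θ : (P f n).presheaf.stalk x →+ PP16.P n (S.presheaf.stalk (f x)) (X.presheaf.stalk x) :=
    e.toAddMonoidHom.comp ((structureStalkEquiv z).symm.toLinearMap.toAddMonoidHom.comp
      ((stalkLin η.hom z).toAddMonoidHom.comp (sp.hom.comp spec.hom)))
  have hgerm : ∀ (U : X.Opens) (hx : x ∈ U) (m : Γ(P f n, U)),
      sp (spec (germM (P f n) U x hx m)) = germM M (p ⁻¹ᵁ U) z (show p z ∈ U from hz.symm ▸ hx) m := by
    intro U hx m
    refine (congrArg sp (TopCat.Presheaf.germ_stalkSpecializes_apply (P f n).presheaf hx _ m)).trans ?_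
    exact TopCat.Presheaf.stalkPushforward_germ_apply AddCommGrpCat p.base M.presheaf U z
      (show p z ∈ U from hz.symm ▸ hx) m
  refine ⟨Θ, hebij.comp ((structureStalkEquiv z).symm.bijective.comp (hηb.comp (hspb.comp hspecb))),
    fun c τ => ?_, fun U hx b => ?_⟩
  · obtain ⟨V, hV, c, rfl⟩ := X.presheaf.exists_germ_eq (x := x) c
    obtain ⟨U, hU, m, rfl⟩ := exists_germM_eq (P f n) x τ
    have hW : x ∈ U ⊓ V := ⟨hU, hV⟩
    rw [← X.presheaf.germ_res_apply (homOfLE (inf_le_right : U ⊓ V ≤ V)) x hW,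
      show germM (P f n) U x hU m = germM (P f n) (U ⊓ V) x hW ((P f n).presheaf.map (homOfLE inf_le_left).op m)
        from ((P f n).presheaf.germ_res_apply (homOfLE inf_le_left) x hW m).symm, ← germM_smul]
    generalize X.presheaf.map (homOfLE (inf_le_right : U ⊓ V ≤ V)).op c = c'
    generalize (P f n).presheaf.map (homOfLE (inf_le_left : U ⊓ V ≤ U)).op m = m'
    change e ((structureStalkEquiv z).symm (stalkLin η.hom z (sp (spec _)))) =
      _ • e ((structureStalkEquiv z).symm (stalkLin η.hom z (sp (spec _))))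
    rw [hgerm, hgerm]
    change e ((structureStalkEquiv z).symm (stalkLin η.hom z (germM M (p ⁻¹ᵁ (U ⊓ V)) z _
      (p.app (U ⊓ V) c' • (show Γ(M, p ⁻¹ᵁ (U ⊓ V)) from m'))))) = _
    rw [germM_smul, map_smul, map_smul, smul_eq_mul, map_mul, Algebra.smul_def, ← (he _).1]
    refine congrArg (fun a => e a * _) ?_
    exact (σ_germ (square_pr f n _ (toNbhd_pr1 f n)) x (U ⊓ V) hW c').symm
  · change e ((structureStalkEquiv z).symm (stalkLin η.hom z (sp (spec _)))) = _
    have hz2 : pr2 f n z ∈ U := by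
      rwa [show pr2 f n z = x from congr($(toNbhd_pr2 f n) x)]
    rw [hgerm, ← (he _).2]
    refine congrArg e ?_
    have h1 : germM M (p ⁻¹ᵁ U) z (show p z ∈ U from hz.symm ▸ hx) (dn f n U b) =
        germM M (pr2 f n ⁻¹ᵁ U) z hz2
          (OmegaSh.pullSect (pr2 f n) (Coh.structureModule X) U (OmegaSh.strSect X U b)) :=
      TopCat.Presheaf.germ_res_apply M.presheaf (homOfLE (preimage_pr1 f n U).le) _ _ _
    rw [h1, stalkLin_germ, pullbackUnitIso_hom_app, structureStalkEquiv_symm_germ]
    exact (σ_germ (square_pr f n _ (toNbhd_pr2 f n)) x U hx b).symm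

end Groth.Agent.Omega.PPIso

end
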