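import Groth.Agent.Omega.Stalks

/-!
# The conormal map of a square
-/

set_option autoImplicit false

universe u

open CategoryTheory CategoryTheory.Limits AlgebraicGeometry TopologicalSpace Opposite

noncomputable section

namespace Groth.Agent.Omega.ConormalMap

open OmegaSh Basic Stalks

variable {Z X Z' X' : Scheme.{u}} {i : Z ⟶ X} {i' : Z' ⟶ X'} {g : X ⟶ X'} {gZ : Z ⟶ Z'}
  [QuasiCompact i] [QuasiCompact i'] (w : gZ ≫ i' = i ≫ g)

omit [QuasiCompact i] [QuasiCompact i'] in
include w in
theorem preimage_le (U : X'.Opens) : gZ ⁻¹ᵁ (i' ⁻¹ᵁ U) ≤ i ⁻¹ᵁ (g ⁻¹ᵁ U) :=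
  le_of_eq (by rw [← Scheme.Hom.comp_preimage, w]; rfl)

include w in
theorem app_app_idealSect (U : X'.Opens) (s' : Γ(ClSub.idealMod i'.ker, U)) :
    i.app (g ⁻¹ᵁ U) (g.app U (idealSect i'.ker U s')) = 0 := by
  have := congr($(Scheme.Hom.congr_app w.symm U) (idealSect i'.ker U s'))
  change i.app (g ⁻¹ᵁ U) (g.app U (idealSect i'.ker U s')) =
    Z.presheaf.map _ (gZ.app (i' ⁻¹ᵁ U) (i'.app U (idealSect i'.ker U s'))) at this
  rw [this, app_idealSect, map_zero, map_zero]

/-- `g♯` on sections of the ideals. -/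
def lift (U : X'.Opens) (s' : Γ(ClSub.idealMod i'.ker, U)) : Γ(ClSub.idealMod i.ker, g ⁻¹ᵁ U) :=
  (exists_idealSect_eq i _ _ (app_app_idealSect w U s')).choose

theorem idealSect_lift (U : X'.Opens) (s' : Γ(ClSub.idealMod i'.ker, U)) :
    idealSect i.ker _ (lift w U s') = g.app U (idealSect i'.ker U s') :=
  (exists_idealSect_eq i _ _ (app_app_idealSect w U s')).choose_spec

theorem lift_map {U V : X'.Opens} (e : V ≤ U) (s' : Γ(ClSub.idealMod i'.ker, U)) :
    lift w V ((ClSub.idealMod i'.ker).presheaf.map (homOfLE e).op s') =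
      (ClSub.idealMod i.ker).presheaf.map (homOfLE (g.preimage_mono e)).op (lift w U s') := by
  apply idealSect_injective
  rw [idealSect_map, idealSect_lift, idealSect_lift, idealSect_map]
  exact congr($(g.naturality (homOfLE e).op) (idealSect i'.ker U s'))

/-- The conormal map on sections. -/
def sect (U : X'.Opens) (s' : Γ(ClSub.idealMod i'.ker, U)) : Γ(Omega.conormal i, gZ ⁻¹ᵁ (i' ⁻¹ᵁ U)) :=
  ((Scheme.Modules.pullback i).obj (ClSub.idealMod i.ker)).presheaf.map
    (homOfLE (preimage_le w U)).op (pullSect i (ClSub.idealMod i.ker) (g ⁻¹ᵁ U) (lift w U s'))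

theorem sect_add (U : X'.Opens) (a b : Γ(ClSub.idealMod i'.ker, U)) :
    sect w U (a + b) = sect w U a + sect w U b := by
  have h : lift w U (a + b) = lift w U a + lift w U b := by
    apply idealSect_injective
    rw [map_add, idealSect_lift, idealSect_lift, idealSect_lift, map_add, map_add]
  rw [sect, h, map_add, map_add]
  rfl

theorem sect_smul (U : X'.Opens) (r : Γ(X', U)) (a : Γ(ClSub.idealMod i'.ker, U)) :
    sect w U (r • a) = gZ.app (i' ⁻¹ᵁ U) (i'.app U r) • sect w U a := by
  have h : lift w U (r • a) = g.app U r • lift w U a := by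
    apply idealSect_injective
    rw [idealSect_smul, idealSect_lift, idealSect_lift, idealSect_smul, map_mul]
  rw [sect, h, pullSect_smul]
  refine (Scheme.Modules.map_smul _ _ _ _).trans ?_
  refine congrArg (· • _) ?_
  have := congr($(Scheme.Hom.congr_app w.symm U) r)
  change i.app (g ⁻¹ᵁ U) (g.app U r) = Z.presheaf.map _ (gZ.app (i' ⁻¹ᵁ U) (i'.app U r)) at this
  rw [this, ← ConcreteCategory.comp_apply, ← Z.presheaf.map_comp]
  exact congr($(Z.presheaf.map_id _) _)

theorem sect_map {U V : X'.Opens} (e : V ≤ U) (s' : Γ(ClSub.idealMod i'.ker, U)) :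
    sect w V ((ClSub.idealMod i'.ker).presheaf.map (homOfLE e).op s') =
      (Omega.conormal i).presheaf.map (homOfLE (gZ.preimage_mono (i'.preimage_mono e))).op (sect w U s') := by
  rw [sect, lift_map, pullSect_map]
  refine (resM_resM _ _ _).trans ?_
  exact (resM_resM (homOfLE (preimage_le w U)) (homOfLE (gZ.preimage_mono (i'.preimage_mono e))) _).symm

/-- The conormal map, as a map out of the ideal. -/
def hom : ClSub.idealMod i'.ker ⟶
    (Scheme.Modules.pushforward i').obj ((Scheme.Modules.pushforward gZ).obj (Omega.conormal i)) :=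
  ⟨PresheafOfModules.homMk
    { app := fun U => AddCommGrpCat.ofHom (AddMonoidHom.mk'
        (G := Γ(Omega.conormal i, gZ ⁻¹ᵁ (i' ⁻¹ᵁ U.unop))) (sect w U.unop) (sect_add w U.unop))
      naturality := fun {U V} e => by
        ext m
        exact sect_map w e.unop.le m }
    (fun U r m => sect_smul w U.unop r m)⟩

include w in
theorem existsUnique_conormalMap :
    ∃! φ : (Scheme.Modules.pullback gZ).obj (Omega.conormal i') ⟶ Omega.conormal i,
      IsConormalMap i i' g gZ φ := by
  let A := Scheme.Modules.pullbackPushforwardAdjunction gZ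
  let A' := Scheme.Modules.pullbackPushforwardAdjunction i'
  let φ₀ := (A.homEquiv (Omega.conormal i') (Omega.conormal i)).symm
    ((A'.homEquiv (ClSub.idealMod i'.ker) _).symm (hom w))
  have happ : ∀ (φ : (Scheme.Modules.pullback gZ).obj (Omega.conormal i') ⟶ Omega.conormal i) U s',
      (A'.homEquiv (ClSub.idealMod i'.ker) _ (A.homEquiv _ _ φ)).app U s' =
        φ.app (gZ ⁻¹ᵁ (i' ⁻¹ᵁ U)) (pullSect gZ (Omega.conormal i') (i' ⁻¹ᵁ U) (conormalSect i' U s')) :=
    fun φ U s' => (homEquiv_app i' _ U s').trans (homEquiv_app gZ φ (i' ⁻¹ᵁ U) _)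
  refine ⟨φ₀, ⟨w, fun U s' s hs V h₁ h₂ => ?_⟩, fun φ hφ => ?_⟩
  · rw [← happ φ₀ U s']
    have e₀ : A'.homEquiv (ClSub.idealMod i'.ker) _ (A.homEquiv _ _ φ₀) = hom w :=
      (congrArg _ (Equiv.apply_symm_apply _ _)).trans (Equiv.apply_symm_apply _ _)
    rw [e₀]
    change (Omega.conormal i).presheaf.map (homOfLE h₁).op (sect w U s') = _
    have hs' : lift w U s' = s := idealSect_injective _ _ ((idealSect_lift w U s').trans hs.symm)
    rw [← hs']
    exact resM_resM _ _ _
  · refine (A.homEquiv _ _).injective ((A'.homEquiv (ClSub.idealMod i'.ker) _).injective ?_)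
    refine (Scheme.Modules.hom_ext _ _ fun U => ConcreteCategory.hom_ext _ _ fun s' => ?_).trans
      ((congrArg _ (Equiv.apply_symm_apply _ _)).trans (Equiv.apply_symm_apply _ _)).symm
    refine (happ φ U s').trans ?_
    refine Eq.trans ?_ (hφ.2 U s' (lift w U s') (idealSect_lift w U s') _ le_rfl (preimage_le w U))
    exact congr($((Omega.conormal i).presheaf.map_id _) _).symm

end Groth.Agent.Omega.ConormalMap

end
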