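import Groth.Agent.Omega.ConormalBC
import Groth.Agent.Omega.ConormalMap
import Groth.Agent.LimLib.Props

/-!
# Differentials commute with flat base change
-/

universe u

open CategoryTheory CategoryTheory.Limits AlgebraicGeometry

set_option linter.style.haveILetI false

namespace Groth.Agent.Omega.SheafBC

theorem nonempty_iso {A S X X₀ : Scheme.{u}} {f₀ : X₀ ⟶ S} {a : A ⟶ S} {q : X ⟶ X₀} {f : X ⟶ A}
    (h : IsPullback q f f₀ a) [Flat a] [QuasiSeparated f] [QuasiSeparated f₀] :
    Nonempty ((Scheme.Modules.pullback q).obj (Omega.sheaf f₀) ≅ Omega.sheaf f) := by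
  have hd := (LimLib.isPullback_diagonal h).flip
  haveI : Flat (pullback.map f f f₀ f₀ q q a h.w.symm h.w.symm) :=
    MorphismProperty.of_isPullback (LimLib.isPullback_map_diag h).flip inferInstance
  obtain ⟨φ, hφ, -⟩ := ConormalMap.existsUnique_conormalMap (i := pullback.diagonal f)
    (i' := pullback.diagonal f₀) (g := pullback.map f f f₀ f₀ q q a h.w.symm h.w.symm) (gZ := q) hd.w.symm
  exact ⟨@asIso _ _ _ _ φ ((ConormalBC.epi_and_isIso hd hφ).2 inferInstance)⟩

end Groth.Agent.Omega.SheafBC
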