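import Groth.Agent.Omega.SmoothHom
import Mathlib.AlgebraicGeometry.PullbackCarrier
import Mathlib.AlgebraicGeometry.Morphisms.Etale

/-!
# Charts for base change, étale maps and formally smooth maps
-/

set_option autoImplicit false

universe u

open CategoryTheory CategoryTheory.Limits AlgebraicGeometry TopologicalSpace Opposite
open scoped TensorProduct

namespace Groth.Agent.Omega.LiftCharts

open OmegaSh Lift

variable {X Y X' Y' : Scheme.{u}}

attribute [local instance] Algebra.TensorProduct.rightAlgebra in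
theorem baseChange_chart {A B A' : Type u} [CommRing A] [CommRing B] [CommRing A'] [Algebra A B]
    [Algebra A A'] {f : X ⟶ Y} {g : Y' ⟶ Y} {g' : X' ⟶ X} {f' : X' ⟶ Y'}
    (hsq : IsPullback g' f' f g) {jW : Spec (CommRingCat.of B) ⟶ X} [IsOpenImmersion jW]
    {v : Spec (CommRingCat.of A) ⟶ Y} [IsOpenImmersion v] {v' : Spec (CommRingCat.of A') ⟶ Y'}
    [IsOpenImmersion v'] (e₁ : SpecDer.π A B ≫ v = jW ≫ f) (e₁' : SpecDer.π A A' ≫ v = v' ≫ g)
    (x' : X') (hx : g' x' ∈ Set.range jW) (hy : f' x' ∈ Set.range v') :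
    ∃ (U : Scheme.{u}) (j : U ⟶ X') (_ : IsOpenImmersion j),
      x' ∈ Set.range j ∧ ExtSurj f (j ≫ f') (j ≫ g') ∧ ExtInj (j ≫ f') (j ≫ g') := by
  have : SMulCommClass A' B (A' ⊗[A] B) := ⟨fun a b x => by
    simp only [Algebra.smul_def]; exact mul_left_comm _ _ _⟩
  have hb : IsBaseChange (A' ⊗[A] B) (KaehlerDifferential.map A A' B (A' ⊗[A] B)) := by
    convert (TensorProduct.isBaseChange B Ω[B⁄A] (A' ⊗[A] B)).comp
      (IsBaseChange.ofEquiv (KaehlerDifferential.tensorKaehlerEquiv A A' B (A' ⊗[A] B))) using 1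
    refine LinearMap.ext_on (KaehlerDifferential.span_range_derivation A B) ?_
    rintro _ ⟨b, rfl⟩
    simp
  let P := pullback.map (SpecDer.π A A') (SpecDer.π A B) g f v' jW v e₁' e₁
  let j : Spec (CommRingCat.of (A' ⊗[A] B)) ⟶ X' :=
    (pullbackSpecIso A A' B).inv ≫ P ≫ hsq.flip.isoPullback.inv
  have h₂ : SpecDer.π A' (A' ⊗[A] B) ≫ v' = j ≫ f' := by
    simp only [j, Category.assoc, IsPullback.isoPullback_inv_fst, P, pullback.lift_fst]
    exact (pullbackSpecIso_inv_fst_assoc A A' B v').symm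
  have h₃ : SpecDer.π B (A' ⊗[A] B) ≫ jW = j ≫ g' := by
    simp only [j, Category.assoc, IsPullback.isoPullback_inv_snd, P, pullback.lift_snd]
    exact (pullbackSpecIso_inv_snd_assoc A A' B jW).symm
  refine ⟨_, j, inferInstance, ?_,
    LiftAffine.extSurj_chart (LiftAffine.derExt_of_isBaseChange hb) e₁ h₂ h₃,
    LiftAffine.extInj_chart hb h₂ h₃⟩
  have hP : hsq.flip.isoPullback.hom x' ∈ Set.range P := by
    rw [Scheme.Pullback.range_map]
    refine ⟨?_, ?_⟩
    · rw [Set.mem_preimage, ← Scheme.Hom.comp_apply, IsPullback.isoPullback_hom_fst]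
      exact hy
    · rw [Set.mem_preimage, ← Scheme.Hom.comp_apply, IsPullback.isoPullback_hom_snd]
      exact hx
  obtain ⟨z, hz⟩ := hP
  refine ⟨(pullbackSpecIso A A' B).hom z, ?_⟩
  rw [← Scheme.Hom.comp_apply]
  simp only [j, Iso.hom_inv_id_assoc]
  rw [Scheme.Hom.comp_apply, hz, ← Scheme.Hom.comp_apply, Iso.hom_inv_id]
  rfl

theorem isBaseChange_of_formallyEtale {A B A' B' : Type u} [CommRing A] [CommRing B] [CommRing A']
    [CommRing B'] [Algebra A B] [Algebra A' B'] [Algebra A A'] [Algebra B B'] [Algebra A B']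
    [IsScalarTower A A' B'] [IsScalarTower A B B'] [SMulCommClass A' B B']
    [Algebra.FormallyEtale B B'] [Algebra.FormallyUnramified A A'] :
    IsBaseChange B' (KaehlerDifferential.map A A' B B') := by
  have hbij : Function.Bijective (KaehlerDifferential.map A A' B' B') := by
    refine ⟨?_, KaehlerDifferential.map_surjective A A' B'⟩
    refine (injective_iff_map_eq_zero _).mpr fun x hx => ?_
    obtain ⟨y, rfl⟩ := (KaehlerDifferential.exact_mapBaseChange_map A A' B' x).mp hx
    rw [Subsingleton.elim y 0, map_zero]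
  convert (KaehlerDifferential.isBaseChange_of_formallyEtale A B B').comp
    (IsBaseChange.ofEquiv (LinearEquiv.ofBijective _ hbij)) using 1
  refine LinearMap.ext_on (KaehlerDifferential.span_range_derivation A B) ?_
  rintro _ ⟨b, rfl⟩
  simp

end Groth.Agent.Omega.LiftCharts
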