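import Groth.Prelude.Def_OmegaPn
import Groth.Agent.IdealSh.Comap

/-!
# Base change of the ideal of a closed immersion and of its infinitesimal neighbourhoods
-/

set_option autoImplicit false

universe u

open CategoryTheory CategoryTheory.Limits AlgebraicGeometry TopologicalSpace Opposite

noncomputable section

namespace Groth.Agent.Omega.GrBC

open PrinPart

variable {Y X Y' X' : Scheme.{u}} {f : Y ⟶ X} {v : X' ⟶ X} {u : Y' ⟶ Y} {f' : Y' ⟶ X'}

theorem isClosedImmersion_of_sq [IsClosedImmersion f] (hsq : IsPullback u f' f v) :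
    IsClosedImmersion f' :=
  MorphismProperty.of_isPullback (P := @IsClosedImmersion) hsq inferInstance

theorem ker_eq_comap [IsClosedImmersion f] (hsq : IsPullback u f' f v) :
    f'.ker = f.ker.comap v := by
  rw [← Scheme.IdealSheafData.ker_fst_of_isClosedImmersion f v, ← hsq.flip.isoPullback_hom_fst,
    Scheme.Hom.ker_comp_of_isIso]

theorem ker_pow_eq_comap [IsClosedImmersion f] (hsq : IsPullback u f' f v) (n : ℕ) :
    f'.ker ^ n = (f.ker ^ n).comap v := by
  rw [ker_eq_comap hsq, IdealSh.Comap.comap_pow]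

theorem isPullback_infNbhd [IsClosedImmersion f] (hsq : IsPullback u f' f v) (n : ℕ)
    (w : infNbhd f' n ⟶ infNbhd f n) (hw : w ≫ infNbhdι f n = infNbhdι f' n ≫ v) :
    IsPullback w (infNbhdι f' n) (infNbhdι f n) v := by
  have : IsClosedImmersion (infNbhdι f n) :=
    inferInstanceAs (IsClosedImmersion (f.ker ^ (n + 1)).subschemeι)
  have : IsClosedImmersion (infNbhdι f' n) :=
    inferInstanceAs (IsClosedImmersion (f'.ker ^ (n + 1)).subschemeι)
  refine (isPullback_of_isClosedImmersion (infNbhdι f' n) (infNbhdι f n) w v hw.symm ?_).flip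
  rw [infNbhdι, infNbhdι, Scheme.IdealSheafData.ker_subschemeι,
    Scheme.IdealSheafData.ker_subschemeι, ker_pow_eq_comap hsq (n + 1)]

end Groth.Agent.Omega.GrBC

end
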