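import Groth.Agent.Omega.ConormalBC
import Groth.Agent.Omega.GrBC
import Groth.Agent.IdealSh.IdealMod

/-!
# Stalks of the graded pieces `Gr_n = I^n / I^(n+1)` and of the maps between them
-/

set_option autoImplicit false

universe u

open CategoryTheory CategoryTheory.Limits AlgebraicGeometry TopologicalSpace Opposite

noncomputable section

namespace Groth.Agent.Omega.StalkAlg

open TensorProduct

variable {A B C : Type u} [CommRing A] [CommRing B] [CommRing C] {π : B →+* C} {σ : A →+* B}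
  {I : Ideal B} {P P' : Type u} [AddCommGroup P] [Module C P] [AddCommGroup P'] [Module C P']
  {κ : I →+ P} {J : Ideal A} {κ' : J →+ P'}

variable (π I) in
/-- `κ` is universal among additive maps from `I` semilinear over `π`. -/
def IsIdUniv {P : Type u} [AddCommGroup P] [Module C P] (κ : I →+ P) : Prop :=
  ∀ (N : Type u) [AddCommGroup N] [Module C N] (k : I →+ N),
    (∀ b a, k (b • a) = π b • k a) → ∃! l : P →ₗ[C] N, ∀ a, l (κ a) = k a

theorem IsIdUniv.hom_ext (hu : IsIdUniv π I κ) (hκ : ∀ b a, κ (b • a) = π b • κ a) {N : Type u}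
    [AddCommGroup N] [Module C N] {l l' : P →ₗ[C] N} (h : ∀ a, l (κ a) = l' (κ a)) : l = l' :=
  (hu N (l.toAddMonoidHom.comp κ) fun b a => by
    change l (κ (b • a)) = _
    rw [hκ, map_smul]
    rfl).unique (fun _ => rfl) fun a => (h a).symm

theorem surjective_of_map_eq' (hκ : ∀ b a, κ (b • a) = π b • κ a) (hP : IsIdUniv π I κ)
    (hJ : Ideal.map σ J = I) {ψ : P' →ₗ[C] P}
    (hψ : ∀ a : J, ∃ h : σ a.1 ∈ I, ψ (κ' a) = κ ⟨σ a.1, h⟩) : Function.Surjective ψ := by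
  rw [← LinearMap.range_eq_top]
  have hmk : (LinearMap.range ψ).mkQ = 0 := hP.hom_ext hκ fun a => by
    refine (Submodule.Quotient.mk_eq_zero _).mpr ?_
    obtain ⟨a, ha⟩ := a
    have ha' := hJ.ge ha
    suffices H : ∀ h, κ ⟨a, h⟩ ∈ LinearMap.range ψ from H ha
    clear ha
    induction ha' using Submodule.span_induction with
    | mem y hy =>
      intro h
      obtain ⟨k, hk, rfl⟩ := hy
      obtain ⟨h', he⟩ := hψ ⟨k, hk⟩
      exact ⟨_, he⟩
    | zero =>
      intro h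
      exact (map_zero κ).symm ▸ zero_mem (LinearMap.range ψ)
    | add y₁ y₂ hy₁ hy₂ ih₁ ih₂ =>
      intro h
      have h₁ : y₁ ∈ I := hJ.le hy₁
      have h₂ : y₂ ∈ I := hJ.le hy₂
      rw [show (⟨y₁ + y₂, h⟩ : I) = ⟨y₁, h₁⟩ + ⟨y₂, h₂⟩ from rfl, map_add]
      exact add_mem (ih₁ h₁) (ih₂ h₂)
    | smul r y hy ih =>
      intro h
      rw [show (⟨r • y, h⟩ : I) = r • ⟨y, hJ.le hy⟩ from rfl, hκ]
      exact Submodule.smul_mem _ _ (ih _)
  rw [← Submodule.ker_mkQ (LinearMap.range ψ), hmk, LinearMap.ker_zero]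

theorem injective_of_flat' (hflat : σ.Flat) (hP : IsIdUniv π I κ)
    (hJ : Ideal.map σ J = I) (hκ' : ∀ (b : A) (a : J), κ' (b • a) = π (σ b) • κ' a)
    (hP' : ∀ l : P' →ₗ[C] P', (∀ a, l (κ' a) = κ' a) → l = LinearMap.id) {ψ : P' →ₗ[C] P}
    (hψ : ∀ a : J, ∃ h : σ a.1 ∈ I, ψ (κ' a) = κ ⟨σ a.1, h⟩) : Function.Injective ψ := by
  algebraize [σ]
  let : Module B P' := Module.compHom P' π
  let : Module A P' := Module.compHom P' (π.comp σ)
  have : IsScalarTower A B P' := IsScalarTower.of_algebraMap_smul fun _ _ => rfl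
  let κA : J →ₗ[A] P' := { toFun := κ', map_add' := map_add κ', map_smul' := hκ' }
  let μ : B ⊗[A] J →ₗ[B] B := LinearMap.liftBaseChange B ((Algebra.linearMap A B).comp J.subtype)
  have hμ : Function.Injective μ := by
    have h : (μ.restrictScalars A) = (TensorProduct.rid A B).toLinearMap ∘ₗ J.subtype.lTensor B := by
      ext b a
      simp [μ, Algebra.smul_def, mul_comm]
    have := (TensorProduct.rid A B).injective.comp
      (Module.Flat.lTensor_preserves_injective_linearMap (M := B) J.subtype J.injective_subtype)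
    intro x y hxy
    refine this ?_
    have hx := congr($h x)
    have hy := congr($h y)
    exact hx.symm.trans (hxy.trans hy)
  have hrange : LinearMap.range μ = I := by
    refine le_antisymm ?_ ?_
    · rintro _ ⟨t, rfl⟩
      induction t using TensorProduct.induction_on with
      | zero => simp
      | add x y hx hy => rw [map_add]; exact add_mem hx hy
      | tmul b a =>
        rw [LinearMap.liftBaseChange_tmul]
        exact Ideal.mul_mem_left _ _ (hJ.le (Ideal.mem_map_of_mem σ a.2))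
    · rw [← hJ, Ideal.map_le_iff_le_comap]
      intro a ha
      exact ⟨1 ⊗ₜ ⟨a, ha⟩, by simp [μ]; rfl⟩
  let e : B ⊗[A] J ≃ₗ[B] I :=
    (LinearEquiv.ofInjective μ hμ).trans (LinearEquiv.ofEq _ _ hrange)
  let T : B ⊗[A] J →ₗ[B] P' := κA.liftBaseChange B
  let k : I →+ P' := T.toAddMonoidHom.comp e.symm.toLinearMap.toAddMonoidHom
  have hk : ∀ b a, k (b • a) = π b • k a := fun b a => by
    change T (e.symm (b • a)) = π b • T (e.symm a)
    rw [map_smul, map_smul]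
    rfl
  obtain ⟨l, hl, -⟩ := hP P' k hk
  have hlψ : l ∘ₗ ψ = LinearMap.id := hP' _ fun a => by
    obtain ⟨h, he⟩ := hψ a
    rw [LinearMap.comp_apply, he, hl]
    have : e.symm ⟨σ a.1, h⟩ = 1 ⊗ₜ a := e.symm_apply_eq.mpr (Subtype.ext (by
      change σ a.1 = μ (1 ⊗ₜ a)
      simp [μ]; rfl))
    change T (e.symm ⟨σ a.1, h⟩) = _
    rw [this]
    simp [T, κA]
  exact Function.LeftInverse.injective (g := l) fun x => congr($hlψ x)

end Groth.Agent.Omega.StalkAlg

namespace Groth.Agent.Omega.GrStalk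

open PrinPart OmegaSh Stalks StalkConormal StalkSeq StalkAlg
open Groth.Agent.PullStalk.Sky Groth.Agent.PullStalk.Exact Groth.Agent.PullStalk.Basic

theorem range_idealStalk_affine {X : Scheme.{u}} (I : X.IdealSheafData) (U : X.affineOpens) (x : X)
    (hx : x ∈ U.1) :
    LinearMap.range (idealStalk I x) = Ideal.map (X.presheaf.germ U.1 x hx).hom (I.ideal U) := by
  refine le_antisymm ?_ (Ideal.map_le_iff_le_comap.mpr fun t ht => ?_)
  · rintro _ ⟨m, rfl⟩
    obtain ⟨V, hxV, s, rfl⟩ := exists_germM_eq _ x m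
    obtain ⟨W, hxW, hW⟩ := IdealSh.Comap.exists_affine_le x (V ⊓ U.1) ⟨hxV, hx⟩
    have hWU : W.1 ≤ U.1 := hW.trans inf_le_right
    have hmem := IdealSh.IdealMod.sect_mem I W
      ((ClSub.idealMod I).presheaf.map (homOfLE (hW.trans inf_le_left)).op s)
    rw [← I.map_ideal (U := W) (V := U) hWU] at hmem
    have h := Ideal.mem_map_of_mem (X.presheaf.germ W.1 x hxW).hom hmem
    have hres : X.presheaf.map (homOfLE hWU).op ≫ X.presheaf.germ W.1 x hxW = X.presheaf.germ U.1 x hx :=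
      X.presheaf.germ_res _ _ _
    rw [Ideal.map_map, ← CommRingCat.hom_comp, idealSect_map] at h
    erw [hres] at h
    erw [TopCat.Presheaf.germ_res_apply] at h
    rw [idealStalk_germ]
    exact h
  · obtain ⟨s, hs⟩ := IdealSh.IdealMod.exists_sect I U.1 t ((IdealSh.IdealMod.mem_ideal_iff I U t).mp ht)
    exact ⟨germM _ U.1 x hx s, (idealStalk_germ I x U.1 hx s).trans (congrArg _ hs)⟩

variable {X Z : Scheme.{u}} (i : Z ⟶ X) [QuasiCompact i]

theorem range_idealStalk_pow (hi : Topology.IsInducing i) (n : ℕ) (z : Z) :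
    LinearMap.range (idealStalk (i.ker ^ n) (i z)) = RingHom.ker (i.stalkMap z).hom ^ n := by
  obtain ⟨_, ⟨U, hU, rfl⟩, hx, -⟩ :=
    X.isBasis_affineOpens.exists_subset_of_mem_open (Set.mem_univ (i z)) isOpen_univ
  have h1 : Ideal.map (X.presheaf.germ U (i z) hx).hom (i.ker.ideal ⟨U, hU⟩) =
      RingHom.ker (i.stalkMap z).hom := by
    rw [← range_idealStalk_affine i.ker ⟨U, hU⟩ (i z) hx]
    exact SetLike.coe_injective (range_idealStalk i hi z)
  rw [range_idealStalk_affine (i.ker ^ n) ⟨U, hU⟩ (i z) hx, Scheme.IdealSheafData.ideal_pow,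
    Pi.pow_apply, Ideal.map_pow, h1]

/-- `Gr_n` on stalks is the base change of the power of the kernel of the map of local rings. -/
theorem exists_gr (hi : Topology.IsInducing i) (n : ℕ) (z : Z) :
    ∃ κ : ↥(RingHom.ker (i.stalkMap z).hom ^ n) →+ (grMod i n).presheaf.stalk z,
      (∀ b a, κ (b • a) = i.stalkMap z b • κ a) ∧
      (∀ U (hx : i z ∈ U) s (h : X.presheaf.germ U (i z) hx (idealSect (i.ker ^ n) U s) ∈
          RingHom.ker (i.stalkMap z).hom ^ n),
        κ ⟨_, h⟩ = germM _ (i ⁻¹ᵁ U) z hx (grSect i n U s)) ∧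
      IsIdUniv (i.stalkMap z).hom (RingHom.ker (i.stalkMap z).hom ^ n) κ := by
  let M := ClSub.idealMod (i.ker ^ n)
  let j := LinearMap.codRestrict (RingHom.ker (i.stalkMap z).hom ^ n) (idealStalk (i.ker ^ n) (i z))
    fun t => (range_idealStalk_pow i hi n z).le ⟨t, rfl⟩
  have hj : Function.Bijective j := by
    refine ⟨fun a b h => idealStalk_injective _ (i z) congr(Subtype.val $h), fun a => ?_⟩
    obtain ⟨t, ht⟩ := (range_idealStalk_pow i hi n z).ge a.2
    exact ⟨t, Subtype.ext ht⟩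
  let J := LinearEquiv.ofBijective j hj
  let u := (unitStalkHom i M z).hom
  refine ⟨u.comp J.symm.toLinearMap.toAddMonoidHom, fun b a => ?_, fun U hx s h => ?_, fun N _ _ k hk => ?_⟩
  · change u (J.symm (b • a)) = _ • u (J.symm a)
    rw [map_smul]
    exact unitStalkHom_smul i _ z b _
  · change u (J.symm ⟨_, h⟩) = _
    have : J.symm ⟨_, h⟩ = germM _ U (i z) hx s :=
      J.symm_apply_eq.mpr (Subtype.ext (idealStalk_germ _ (i z) U hx s).symm)
    rw [this]
    exact unitStalkHom_germ i _ z U hx s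
  obtain ⟨l, hl, hluniq⟩ := existsUnique_unitStalk i z M N
    (k.comp J.toLinearMap.toAddMonoidHom) fun b m => (congrArg k (map_smul J b m)).trans (hk b (J m))
  refine ⟨l, fun a => (hl (J.symm a)).trans (congrArg k (J.apply_symm_apply a)), fun l' hl' => hluniq l' fun m => ?_⟩
  have := hl' (J m)
  change l' (u (J.symm (J m))) = _ at this
  rw [J.symm_apply_apply] at this
  exact this

variable {X' Z' : Scheme.{u}} {i} {i' : Z' ⟶ X'} [QuasiCompact i'] {g : X ⟶ X'} {gZ : Z ⟶ Z'}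

omit [QuasiCompact i] [QuasiCompact i'] in
theorem comap_ker_le (w : gZ ≫ i' = i ≫ g) : i'.ker.comap g ≤ i.ker := by
  rw [← Scheme.IdealSheafData.le_map_iff_comap_le, Scheme.IdealSheafData.map_ker, ← w]
  exact Scheme.Hom.le_ker_comp gZ i'

omit [QuasiCompact i] [QuasiCompact i'] in
theorem exists_sect_image (w : gZ ≫ i' = i ≫ g) (n : ℕ) (U : X'.Opens)
    (s' : Γ(ClSub.idealMod (i'.ker ^ n), U)) :
    ∃ s : Γ(ClSub.idealMod (i.ker ^ n), g ⁻¹ᵁ U),
      idealSect (i.ker ^ n) (g ⁻¹ᵁ U) s = g.app U (idealSect (i'.ker ^ n) U s') := by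
  have H : i'.ker ^ n ≤ (i.ker ^ n).map g := by
    rw [Scheme.IdealSheafData.le_map_iff_comap_le, IdealSh.Comap.comap_pow]
    intro T
    rw [Scheme.IdealSheafData.ideal_pow, Scheme.IdealSheafData.ideal_pow]
    exact Ideal.pow_right_mono (comap_ker_le w T) n
  refine IdealSh.IdealMod.exists_sect _ _ _ ?_
  have h0 := IdealSh.IdealMod.app_sect (i'.ker ^ n) U s'
  have hw := Scheme.IdealSheafData.subschemeMap_subschemeι (i.ker ^ n) (i'.ker ^ n) g H
  have := congr($(Scheme.Hom.congr_app hw.symm U) (idealSect (i'.ker ^ n) U s'))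
  change (i.ker ^ n).subschemeι.app (g ⁻¹ᵁ U) (g.app U (idealSect (i'.ker ^ n) U s')) =
    (i.ker ^ n).subscheme.presheaf.map _ ((Scheme.IdealSheafData.subschemeMap _ _ g H).app _
      ((i'.ker ^ n).subschemeι.app U (idealSect (i'.ker ^ n) U s'))) at this
  rw [this, h0, map_zero, map_zero]

omit [QuasiCompact i] in
theorem grMap_stalk (hi' : Topology.IsInducing i') {n : ℕ}
    {ψ : (Scheme.Modules.pullback gZ).obj (grMod i' n) ⟶ grMod i n}
    (hψ : IsGrMap i i' g gZ n ψ) (z : Z)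
    (κ : ↥(RingHom.ker (i.stalkMap z).hom ^ n) →+ (grMod i n).presheaf.stalk z)
    (hκ : ∀ U (hx : i z ∈ U) s (h : X.presheaf.germ U (i z) hx (idealSect (i.ker ^ n) U s) ∈
          RingHom.ker (i.stalkMap z).hom ^ n),
        κ ⟨_, h⟩ = germM _ (i ⁻¹ᵁ U) z hx (grSect i n U s))
    (κ' : ↥(RingHom.ker (i'.stalkMap (gZ z)).hom ^ n) →+ (grMod i' n).presheaf.stalk (gZ z))
    (hκ' : ∀ U (hx : i' (gZ z) ∈ U) s (h : X'.presheaf.germ U (i' (gZ z)) hx (idealSect (i'.ker ^ n) U s) ∈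
          RingHom.ker (i'.stalkMap (gZ z)).hom ^ n),
        κ' ⟨_, h⟩ = germM _ (i' ⁻¹ᵁ U) (gZ z) hx (grSect i' n U s))
    (a : ↥(RingHom.ker (i'.stalkMap (gZ z)).hom ^ n))
    (ha : σ hψ.1 z a.1 ∈ RingHom.ker (i.stalkMap z).hom ^ n) :
    stalkLin ψ z (unitStalkHom gZ (grMod i' n) z (κ' a)) = κ ⟨σ hψ.1 z a.1, ha⟩ := by
  obtain ⟨w, hsec⟩ := hψ
  obtain ⟨t, ht⟩ := (range_idealStalk_pow i' hi' n (gZ z)).ge a.2
  obtain ⟨U, hx, s', rfl⟩ := exists_germM_eq _ _ t
  rw [idealStalk_germ] at ht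
  obtain ⟨a, ha'⟩ := a
  subst ht
  have hx' : g (i z) ∈ U := mem_of_comm w z U hx
  obtain ⟨s, hs'⟩ := exists_sect_image w n U s'
  have hgerm : σ w z (X'.presheaf.germ U (i' (gZ z)) hx (idealSect (i'.ker ^ n) U s')) =
      X.presheaf.germ (g ⁻¹ᵁ U) (i z) hx' (idealSect (i.ker ^ n) (g ⁻¹ᵁ U) s) := by
    rw [σ_germ, hs']
  have hmem : X.presheaf.germ (g ⁻¹ᵁ U) (i z) hx' (idealSect (i.ker ^ n) (g ⁻¹ᵁ U) s) ∈
      RingHom.ker (i.stalkMap z).hom ^ n := hgerm ▸ ha
  rw [show (⟨σ w z _, ha⟩ : ↥(RingHom.ker (i.stalkMap z).hom ^ n)) = ⟨_, hmem⟩ from Subtype.ext hgerm,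
    hκ (g ⁻¹ᵁ U) hx' s hmem, hκ' U hx s']
  refine (congrArg (stalkLin ψ z) (unitStalkHom_germ gZ _ z (i' ⁻¹ᵁ U) hx _)).trans ?_
  refine (stalkLin_germ ψ _ z hx _).trans ?_
  have hV := hsec U s' s hs' (gZ ⁻¹ᵁ (i' ⁻¹ᵁ U) ⊓ i ⁻¹ᵁ (g ⁻¹ᵁ U)) inf_le_left inf_le_right
  refine ((grMod i n).presheaf.germ_res_apply (homOfLE inf_le_left) z
    (show z ∈ gZ ⁻¹ᵁ (i' ⁻¹ᵁ U) ⊓ i ⁻¹ᵁ (g ⁻¹ᵁ U) from ⟨hx, hx'⟩) _).symm.trans ?_
  refine Eq.trans ?_ ((grMod i n).presheaf.germ_res_apply (homOfLE inf_le_right) z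
    (show z ∈ gZ ⁻¹ᵁ (i' ⁻¹ᵁ U) ⊓ i ⁻¹ᵁ (g ⁻¹ᵁ U) from ⟨hx, hx'⟩) _)
  exact congrArg _ hV

omit [QuasiCompact i] [QuasiCompact i'] in
/-- The composite `J → Gr_n(i') → u^* Gr_n(i')` on stalks generates. -/
theorem hom_ext_unit_gr {n : ℕ} (z : Z)
    {κ' : ↥(RingHom.ker (i'.stalkMap (gZ z)).hom ^ n) →+ (grMod i' n).presheaf.stalk (gZ z)}
    (hsmul : ∀ b a, κ' (b • a) = i'.stalkMap (gZ z) b • κ' a)
    (hP : IsIdUniv (i'.stalkMap (gZ z)).hom (RingHom.ker (i'.stalkMap (gZ z)).hom ^ n) κ')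
    {N : Type u} [AddCommGroup N] [Module (Z.presheaf.stalk z) N]
    {l l' : ((Scheme.Modules.pullback gZ).obj (grMod i' n)).presheaf.stalk z →ₗ[Z.presheaf.stalk z] N}
    (h : ∀ a, l (unitStalkHom gZ (grMod i' n) z (κ' a)) = l' (unitStalkHom gZ (grMod i' n) z (κ' a))) :
    l = l' := by
  refine hom_eq_of_unitStalk gZ _ _ fun t => ?_
  let : Module (Z'.presheaf.stalk (gZ z)) N := Module.compHom _ (gZ.stalkMap z).hom
  let mk (m : ((Scheme.Modules.pullback gZ).obj (grMod i' n)).presheaf.stalk z →ₗ[Z.presheaf.stalk z] N) :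
      (grMod i' n).presheaf.stalk (gZ z) →ₗ[Z'.presheaf.stalk (gZ z)] N :=
    { toFun := fun t => m (unitStalkHom gZ (grMod i' n) z t)
      map_add' := fun a b => (congrArg m (map_add (unitStalkHom gZ (grMod i' n) z).hom a b)).trans (map_add m _ _)
      map_smul' := fun r a => (congrArg m (unitStalkHom_smul gZ _ z r a)).trans (map_smul m _ _) }
  exact congr($(IsIdUniv.hom_ext (l := mk l) (l' := mk l') hP hsmul h) t)

variable [IsImmersion i] [IsImmersion i']

theorem epi_and_isIso {n : ℕ} (hsq : IsPullback i gZ g i')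
    {φ : (Scheme.Modules.pullback gZ).obj (grMod i' n) ⟶ grMod i n}
    (hφ : IsGrMap i i' g gZ n φ) : Epi φ ∧ (Flat g → IsIso φ) := by
  have hi := i.isEmbedding.isInducing
  have hi' := i'.isEmbedding.isInducing
  have key : ∀ z, Function.Surjective (stalkLin φ z) ∧ (Flat g → Function.Injective (stalkLin φ z)) := by
    intro z
    obtain ⟨κ, hκsmul, hκ, hP⟩ := exists_gr i hi n z
    obtain ⟨κ', hκ'smul, hκ', hP'⟩ := exists_gr i' hi' n (gZ z)
    let u := (unitStalkHom gZ (grMod i' n) z).hom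
    let κu : ↥(RingHom.ker (i'.stalkMap (gZ z)).hom ^ n) →+
        ((Scheme.Modules.pullback gZ).obj (grMod i' n)).presheaf.stalk z := u.comp κ'
    have hJ : Ideal.map (σ hφ.1 z).hom (RingHom.ker (i'.stalkMap (gZ z)).hom ^ n) =
        RingHom.ker (i.stalkMap z).hom ^ n := by
      rw [Ideal.map_pow, ← ConormalBC.ker_stalkMap_eq_map hsq hφ.1 z]
    have hψ : ∀ a : ↥(RingHom.ker (i'.stalkMap (gZ z)).hom ^ n),
        ∃ h : (σ hφ.1 z).hom a.1 ∈ RingHom.ker (i.stalkMap z).hom ^ n,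
          stalkLin φ z (κu a) = κ ⟨(σ hφ.1 z).hom a.1, h⟩ := fun a =>
      ⟨hJ.le (Ideal.mem_map_of_mem _ a.2), grMap_stalk hi' hφ z κ hκ κ' hκ' a _⟩
    refine ⟨surjective_of_map_eq' hκsmul hP hJ hψ, fun hg => ?_⟩
    have hflat : (σ hφ.1 z).hom.Flat := by
      refine RingHom.Flat.comp ?_ (Flat.stalkMap g (i z))
      have e₁ : i' (gZ z) = g (i z) := congr($(hφ.1) z)
      exact RingHom.Flat.of_bijective (ConormalSplit.bijective_stalkSpecializes X' e₁.symm)
    refine injective_of_flat' hflat hP hJ (fun b a => ?_) (fun l hl => ?_) hψ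
    · change u (κ' (b • a)) = _
      rw [hκ'smul]
      refine (unitStalkHom_smul gZ _ z _ _).trans (congrArg (· • _) ?_)
      exact (stalkMap_σ hφ.1 z b).symm
    · exact hom_ext_unit_gr z hκ'smul hP' (l' := LinearMap.id) hl
  exact ⟨epi_of_stalk fun z => (key z).1, fun hg => isIso_of_stalk fun z => ⟨(key z).2 hg, (key z).1⟩⟩

end Groth.Agent.Omega.GrStalk

end
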