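import Groth.Agent.Omega.RankDim
import Mathlib.RingTheory.Spectrum.Prime.FreeLocus
import Mathlib.RingTheory.Kaehler.TensorProduct

/-!
# Generic smoothness through the rank of differentials
-/

set_option autoImplicit false

universe u

open TensorProduct

noncomputable section

namespace Groth.Agent.Omega.RankDim

variable (k : Type u) [Field k] {A : Type u} [CommRing A] [Algebra k A] [Algebra.FiniteType k A]

theorem finrank_kaehler_eq_trdeg (K : Type u) [Field K] [Algebra k K] [Algebra.EssFiniteType k K]
    [Algebra.FormallySmooth k K] (t : ℕ) (ht : Algebra.trdeg k K = t) :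
    Module.finrank K Ω[K⁄k] = t := by
  obtain ⟨-, -, h⟩ := FieldSep.Cartier.finrank_sub_finrank_eq_trdeg k K
  have hsub : Subsingleton (EGA41.imperfection ℤ k K) := by
    rw [Submodule.subsingleton_iff_eq_bot]
    exact LinearMap.ker_eq_bot.mpr FieldSep.MacLane.injective_of_formallySmooth
  rw [ht, Cardinal.toNat_natCast, Module.finrank_zero_of_subsingleton (M := EGA41.imperfection ℤ k K)] at h
  omega

theorem isField_of_minimal {A : Type u} [CommRing A] (p : Ideal A) [p.IsPrime] (hp : p ∈ minimalPrimes A)
    [IsReduced (Localization.AtPrime p)] : IsField (Localization.AtPrime p) := by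
  haveI : Ring.KrullDimLE 0 (Localization.AtPrime p) := by
    rw [Ring.krullDimLE_iff, IsLocalization.AtPrime.ringKrullDim_eq_height p,
      Ideal.height_eq_zero_iff.mpr hp]
    rfl
  exact Ring.KrullDimLE.isField_of_isReduced

theorem bijective_residue (p : Ideal A) [p.IsPrime] (h : IsField (Localization.AtPrime p)) :
    Function.Bijective (algebraMap (Localization.AtPrime p) p.ResidueField) := by
  refine ⟨?_, IsLocalRing.residue_surjective⟩
  rw [RingHom.injective_iff_ker_eq_bot, IsLocalRing.ResidueField.algebraMap_eq, IsLocalRing.ker_residue]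
  exact IsLocalRing.isField_iff_maximalIdeal_eq.mp h

/-- At a point whose local ring is a field, formally smooth, the rank is the transcendence degree. -/
theorem rank_eq_trdeg (p : Ideal A) [p.IsPrime] (h : IsField (Localization.AtPrime p))
    [Algebra.FormallySmooth k (Localization.AtPrime p)] (t : ℕ)
    (ht : Algebra.trdeg k p.ResidueField = t) : rank k p = t := by
  let e : Localization.AtPrime p ≃ₐ[A] p.ResidueField :=
    AlgEquiv.ofBijective (IsScalarTower.toAlgHom A (Localization.AtPrime p) p.ResidueField) (bijective_residue p h)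
  haveI : Algebra.FormallyEtale A (Localization.AtPrime p) :=
    Algebra.FormallyEtale.of_isLocalization p.primeCompl
  haveI : Algebra.FormallyEtale A p.ResidueField := Algebra.FormallyEtale.of_equiv e
  haveI : Algebra.FormallySmooth k p.ResidueField := Algebra.FormallySmooth.of_equiv (e.restrictScalars k)
  haveI : Algebra.EssFiniteType k p.ResidueField := Algebra.EssFiniteType.comp k A p.ResidueField
  rw [rank, (KaehlerDifferential.isBaseChange_of_formallyEtale k A p.ResidueField).equiv.finrank_eq]
  exact finrank_kaehler_eq_trdeg k p.ResidueField t ht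

theorem rank_eq_of_le [Module.Projective A Ω[A⁄k]] {p q : Ideal A} [p.IsPrime] [q.IsPrime] (h : p ≤ q) :
    rank k p = rank k q := by
  rw [rank, rank, Ideal.finrank_fiber_eq_rankAtStalk, Ideal.finrank_fiber_eq_rankAtStalk]
  exact Module.rankAtStalk_eq_of_le_of_finite_of_flat' Ω[A⁄k] h

theorem isGeometricallyReduced_atPrime (p : Ideal A) [p.IsPrime] (hp : p ∈ minimalPrimes A)
    [Algebra.FormallySmooth k (Localization.AtPrime p)] :
    Algebra.IsGeometricallyReduced k (Localization.AtPrime p) := by
  haveI : IsNoetherianRing A := Algebra.FiniteType.isNoetherianRing k A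
  haveI := isRegularLocalRing_of_isSmoothAt k A p ‹_›
  haveI := RegLoc.isDomain (Localization.AtPrime p)
  letI := (isField_of_minimal p hp).toField
  exact (FieldSep.MacLane.formallySmooth_iff k (Localization.AtPrime p)).mp ‹_›

theorem formallySmooth_atPrime_of_isGeometricallyReduced (p : Ideal A) [p.IsPrime] (hp : p ∈ minimalPrimes A)
    [Algebra.IsGeometricallyReduced k (Localization.AtPrime p)] :
    IsField (Localization.AtPrime p) ∧ Algebra.FormallySmooth k (Localization.AtPrime p) := by
  haveI : IsReduced (Localization.AtPrime p) := Algebra.isReduced_of_isGeometricallyReduced k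
  have h := isField_of_minimal p hp
  refine ⟨h, ?_⟩
  letI := h.toField
  exact (FieldSep.MacLane.formallySmooth_iff k (Localization.AtPrime p)).mpr ‹_›

/-- Projective differentials and smooth generic points give smoothness. -/
theorem formallySmooth_of_generic [Module.Projective A Ω[A⁄k]] (q p : Ideal A) [q.IsPrime] [p.IsPrime]
    (hp : p ∈ minimalPrimes A) (hpq : p ≤ q) (hfield : IsField (Localization.AtPrime p))
    [Algebra.FormallySmooth k (Localization.AtPrime p)] :
    Algebra.FormallySmooth k (Localization.AtPrime q) := by
  obtain ⟨t, ht⟩ := exists_trdeg_eq k p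
  refine formallySmooth_of_rank_le k q ?_
  rw [← rank_eq_of_le k hpq, rank_eq_trdeg k p hfield t ht, CAlgLib.LocalDimSpec.localDim_eq k q,
    ← TrdegDim.ringKrullDim_quotient_eq p t ht]
  exact le_iSup_of_le (⟨p, hp, hpq⟩ : CAlgLib.LocalDimSpec.Mins q) le_rfl

end Groth.Agent.Omega.RankDim

end

noncomputable section

namespace Groth.Agent.Omega.RankDim

open TensorProduct

/-- The fibre rank computed on a free localisation. -/
theorem finrank_localized (k : Type u) [Field k] {A : Type u} [CommRing A] [Algebra k A]
    (T : Type u) [CommRing T] [Nontrivial T] [Algebra A T] [Algebra k T] [IsScalarTower k A T]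
    [Algebra.FormallyEtale A T] [Module.Free T Ω[T⁄k]] [Module.Finite T Ω[T⁄k]]
    (p : Ideal A) [p.IsPrime] [Algebra T p.ResidueField] [IsScalarTower A T p.ResidueField] :
    Module.finrank T Ω[T⁄k] = Module.finrank p.ResidueField (p.ResidueField ⊗[A] Ω[A⁄k]) := by
  rw [← Module.finrank_baseChange (R := p.ResidueField) (S := T) (M' := Ω[T⁄k])]
  exact LinearEquiv.finrank_eq
    ((AlgebraTensorModule.congr (LinearEquiv.refl p.ResidueField p.ResidueField)
        (KaehlerDifferential.isBaseChange_of_formallyEtale k A T).equiv.symm).trans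
      (AlgebraTensorModule.cancelBaseChange A T p.ResidueField p.ResidueField Ω[A⁄k]))

end Groth.Agent.Omega.RankDim

end

noncomputable section

namespace Groth.Agent.Omega.RankDim

/-- Few differentials force a separable extension. -/
theorem isGeometricallyReduced_of_finrank_le (k K : Type u) [Field k] [Field K] [Algebra k K]
    [Algebra.EssFiniteType k K] (t : ℕ) (ht : Algebra.trdeg k K = t)
    (h : Module.finrank K Ω[K⁄k] ≤ t) : Algebra.IsGeometricallyReduced k K := by
  obtain ⟨-, hfin, hc⟩ := FieldSep.Cartier.finrank_sub_finrank_eq_trdeg k K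
  rw [ht, Cardinal.toNat_natCast] at hc
  have h0 : Module.finrank K (EGA41.imperfection ℤ k K) = 0 := by omega
  haveI := hfin
  have hb : Subsingleton (EGA41.imperfection ℤ k K) := Module.finrank_zero_iff.mp h0
  exact FieldSep.MacLane.isGeometricallyReduced_of_injective
    (LinearMap.ker_eq_bot.mp (Submodule.subsingleton_iff_eq_bot.mp (show Subsingleton _ from hb)))

end Groth.Agent.Omega.RankDim

end
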