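import Groth.Agent.RegImm38.Spread
import Groth.Agent.RegImm44.Affine
import Groth.Agent.CAlg48.QRBase
import Groth.Agent.S5802
import Groth.Agent.S5803

/-!
# Quasi-regular and regular ideals on locally Noetherian schemes
-/

set_option linter.style.haveILetI false

universe u

open AlgebraicGeometry CategoryTheory RingTheory.Sequence

namespace Groth.Agent.Omega

theorem quasi_of_isRegular {R : Type u} [CommRing R] {rs : List R} (h : IsRegular R rs) :
    RegImm.Kind.quasi.Seq R rs :=
  S5802.result R rs.length rs.get (by rw [List.ofFn_get]; exact h.toIsWeaklyRegular)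

/-- A quasi-regular sequence generates, near a point of its zero set, the same ideal as a regular one. -/
theorem exists_regular_basicOpen {X : Scheme.{u}} [IsLocallyNoetherian X] {U : X.Opens} (hU : IsAffineOpen U)
    (x : U) {rs : List Γ(X, U)} (hrs : RegImm.Kind.quasi.Seq Γ(X, U) rs)
    (hle : Ideal.ofList rs ≤ (hU.primeIdealOf x).asIdeal) :
    ∃ f : Γ(X, U), (x : X) ∈ X.basicOpen f ∧ ∃ ts : List Γ(X, X.basicOpen f),
      IsRegular Γ(X, X.basicOpen f) ts ∧
        (Ideal.ofList rs).map (X.presheaf.map (homOfLE (X.basicOpen_le f)).op).hom = Ideal.ofList ts := by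
  haveI : IsNoetherianRing Γ(X, U) := IsLocallyNoetherian.component_noetherian ⟨U, hU⟩
  let P := (hU.primeIdealOf x).asIdeal
  let A := Localization.AtPrime P
  let φ := algebraMap Γ(X, U) A
  have : IsNoetherianRing A := IsLocalization.isNoetherianRing P.primeCompl A inferInstance
  have hq : CAlgX.IsQuasiRegular fun i => φ (rs.get i) :=
    CAlg48.QRBase.isQuasiRegular_of_flat (f := rs.get) hrs
  have hjac : ∀ i, φ (rs.get i) ∈ Ring.jacobson A := fun i => by
    rw [IsLocalRing.ringJacobson_eq_maximalIdeal, IsLocalization.AtPrime.to_map_mem_maximal_iff A P]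
    exact hle (Ideal.subset_span (List.get_mem rs i))
  have hw := S5803.result A rs.length _ hjac hq
  have e : List.ofFn (fun i => φ (rs.get i)) = rs.map φ := by
    conv_rhs => rw [← List.ofFn_get rs, List.map_ofFn]
    rfl
  rw [e] at hw
  obtain ⟨f, hf, ts, h⟩ := RegImm38.exists_away A (Ideal.ofList rs) (p := P) hw (Ideal.map_ofList φ rs)
  haveI := hU.isLocalization_basicOpen f
  letI : Algebra Γ(X, U) Γ(X, X.basicOpen f) := (X.presheaf.map (homOfLE (X.basicOpen_le f)).op).hom.toAlgebra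
  obtain ⟨hreg, hI⟩ := h Γ(X, X.basicOpen f)
  refine ⟨f, (RegImm44.mem_basicOpen_iff hU x f).2 hf, _, ⟨hreg, fun htop => ?_⟩, hI⟩
  rw [Ideal.smul_eq_mul, Ideal.mul_top, ← hI] at htop
  haveI : IsLocalization.Away f Γ(X, X.basicOpen f) := inferInstance
  have hd : Disjoint (Submonoid.powers f : Set Γ(X, U)) P :=
    Set.disjoint_left.2 fun y hy hyP => by
      obtain ⟨n, rfl⟩ := hy
      exact hf (Ideal.IsPrime.mem_of_pow_mem inferInstance n hyP)
  have := IsLocalization.map_algebraMap_ne_top_iff_disjoint (Submonoid.powers f) Γ(X, X.basicOpen f) P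
  exact this.2 hd (top_le_iff.1 (htop.le.trans (Ideal.map_mono hle)))

theorem isRegularIdeal_of_quasi {X : Scheme.{u}} [IsLocallyNoetherian X] {I : X.IdealSheafData}
    (h : RegImm.IsRegularIdeal RegImm.Kind.quasi I) : RegImm.IsRegularIdeal RegImm.Kind.regular I := by
  intro x hx
  obtain ⟨U, hxU, rs, hrs, hI⟩ := h x hx
  have hle : Ideal.ofList rs ≤ (U.2.primeIdealOf ⟨x, hxU⟩).asIdeal := fun a ha => by
    rw [← hI] at ha
    by_contra hc
    exact (Scheme.mem_zeroLocus_iff _ _ _).1 ((Scheme.IdealSheafData.mem_support_iff_of_mem hxU).1 hx) a ha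
      ((RegImm44.mem_basicOpen_iff U.2 ⟨x, hxU⟩ a).2 hc)
  obtain ⟨f, hxf, ts, hts, hIf⟩ := exists_regular_basicOpen U.2 ⟨x, hxU⟩ hrs hle
  refine ⟨X.affineBasicOpen f, hxf, ts, hts, ?_⟩
  rw [← I.map_ideal_basicOpen U f, hI]
  exact hIf

theorem isRegularImmersionAt_of_quasi {X Z : Scheme.{u}} [IsLocallyNoetherian X] {i : Z ⟶ X} {z : Z}
    (h : RegImm.IsRegularImmersionAt RegImm.Kind.quasi i z) :
    RegImm.IsRegularImmersionAt RegImm.Kind.regular i z := by
  obtain ⟨⟨U, hU⟩, hz, hci, rs, hrs, hker⟩ := h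
  haveI := hci
  obtain ⟨f, hzf, ts, hts, hIf⟩ := exists_regular_basicOpen hU ⟨i z, hz⟩ hrs
    (hker ▸ RegImm44.ker_le_primeIdealOf i hU z hz)
  haveI := RegImm44.isClosedImmersion_restrict_of_le i (X.basicOpen_le f)
  refine ⟨⟨X.basicOpen f, hU.basicOpen f⟩, hzf, inferInstance, ts, hts, ?_⟩
  rw [RegImm44.ker_app_restrict i hU (hU.basicOpen f) (X.basicOpen_le f), hker, ← hIf]

end Groth.Agent.Omega
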