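import Groth.Agent.Omega.ThickSeq
import Mathlib.RingTheory.Flat.Basic
import Mathlib.RingTheory.RingHom.Flat
import Mathlib.LinearAlgebra.TensorProduct.Tower
import Mathlib.AlgebraicGeometry.Morphisms.Flat

/-!
# The conormal sheaf and base change
-/

set_option autoImplicit false

universe u

open CategoryTheory CategoryTheory.Limits AlgebraicGeometry TopologicalSpace Opposite

noncomputable section

namespace Groth.Agent.Omega.StalkAlg

open TensorProduct

variable {A B C : Type u} [CommRing A] [CommRing B] [CommRing C] {π : B →+* C} {σ : A →+* B}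
  {P P' : Type u} [AddCommGroup P] [Module C P] [AddCommGroup P'] [Module C P']
  {κ : RingHom.ker π →+ P} {J : Ideal A} {κ' : J →+ P'}

theorem surjective_of_map_eq (hκ : ∀ b a, κ (b • a) = π b • κ a) (hP : IsKerUniv π κ)
    (hJ : Ideal.map σ J = RingHom.ker π) {ψ : P' →ₗ[C] P}
    (hψ : ∀ a : J, ∃ h : σ a.1 ∈ RingHom.ker π, ψ (κ' a) = κ ⟨σ a.1, h⟩) : Function.Surjective ψ := by
  rw [← LinearMap.range_eq_top]
  have hmk : (LinearMap.range ψ).mkQ = 0 := hP.hom_ext hκ fun a => by
    refine (Submodule.Quotient.mk_eq_zero _).mpr ?_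
    obtain ⟨a, ha⟩ := a
    have ha' := hJ.ge ha
    suffices H : ∀ h, κ ⟨a, h⟩ ∈ LinearMap.range ψ from H ha
    clear ha
    induction ha' using Submodule.span_induction with
    | mem y hy =>
      intro h
      obtain ⟨k, hk, rfl⟩ := hy
      obtain ⟨h', he⟩ := hψ ⟨k, hk⟩
      exact ⟨_, he⟩
    | zero =>
      intro h
      exact (map_zero κ).symm ▸ zero_mem (LinearMap.range ψ)
    | add y₁ y₂ hy₁ hy₂ ih₁ ih₂ =>
      intro h
      have h₁ : y₁ ∈ RingHom.ker π := hJ.le hy₁
      have h₂ : y₂ ∈ RingHom.ker π := hJ.le hy₂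
      rw [show (⟨y₁ + y₂, h⟩ : RingHom.ker π) = ⟨y₁, h₁⟩ + ⟨y₂, h₂⟩ from rfl, map_add]
      exact add_mem (ih₁ h₁) (ih₂ h₂)
    | smul r y hy ih =>
      intro h
      rw [show (⟨r • y, h⟩ : RingHom.ker π) = r • ⟨y, hJ.le hy⟩ from rfl, hκ]
      exact Submodule.smul_mem _ _ (ih _)
  rw [← Submodule.ker_mkQ (LinearMap.range ψ), hmk, LinearMap.ker_zero]

theorem injective_of_flat (hflat : σ.Flat) (hP : IsKerUniv π κ)
    (hJ : Ideal.map σ J = RingHom.ker π) (hκ' : ∀ (b : A) (a : J), κ' (b • a) = π (σ b) • κ' a)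
    (hP' : ∀ l : P' →ₗ[C] P', (∀ a, l (κ' a) = κ' a) → l = LinearMap.id) {ψ : P' →ₗ[C] P}
    (hψ : ∀ a : J, ∃ h : σ a.1 ∈ RingHom.ker π, ψ (κ' a) = κ ⟨σ a.1, h⟩) : Function.Injective ψ := by
  algebraize [σ]
  let : Module B P' := Module.compHom P' π
  let : Module A P' := Module.compHom P' (π.comp σ)
  have : IsScalarTower A B P' := IsScalarTower.of_algebraMap_smul fun _ _ => rfl
  let κA : J →ₗ[A] P' := { toFun := κ', map_add' := map_add κ', map_smul' := hκ' }
  let μ : B ⊗[A] J →ₗ[B] B := LinearMap.liftBaseChange B ((Algebra.linearMap A B).comp J.subtype)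
  have hμ : Function.Injective μ := by
    have h : (μ.restrictScalars A) = (TensorProduct.rid A B).toLinearMap ∘ₗ J.subtype.lTensor B := by
      ext b a
      simp [μ, Algebra.smul_def, mul_comm]
    have := (TensorProduct.rid A B).injective.comp
      (Module.Flat.lTensor_preserves_injective_linearMap (M := B) J.subtype J.injective_subtype)
    intro x y hxy
    refine this ?_
    have hx := congr($h x)
    have hy := congr($h y)
    exact hx.symm.trans (hxy.trans hy)
  have hrange : LinearMap.range μ = RingHom.ker π := by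
    refine le_antisymm ?_ ?_
    · rintro _ ⟨t, rfl⟩
      induction t using TensorProduct.induction_on with
      | zero => simp
      | add x y hx hy => rw [map_add]; exact add_mem hx hy
      | tmul b a =>
        rw [LinearMap.liftBaseChange_tmul]
        exact Ideal.mul_mem_left _ _ (hJ.le (Ideal.mem_map_of_mem σ a.2))
    · rw [← hJ, Ideal.map_le_iff_le_comap]
      intro a ha
      exact ⟨1 ⊗ₜ ⟨a, ha⟩, by simp [μ]; rfl⟩
  let e : B ⊗[A] J ≃ₗ[B] RingHom.ker π :=
    (LinearEquiv.ofInjective μ hμ).trans (LinearEquiv.ofEq _ _ hrange)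
  let T : B ⊗[A] J →ₗ[B] P' := κA.liftBaseChange B
  let k : RingHom.ker π →+ P' := T.toAddMonoidHom.comp e.symm.toLinearMap.toAddMonoidHom
  have hk : ∀ b a, k (b • a) = π b • k a := fun b a => by
    change T (e.symm (b • a)) = π b • T (e.symm a)
    rw [map_smul, map_smul]
    rfl
  obtain ⟨l, hl, -⟩ := hP P' k hk
  have hlψ : l ∘ₗ ψ = LinearMap.id := hP' _ fun a => by
    obtain ⟨h, he⟩ := hψ a
    rw [LinearMap.comp_apply, he, hl]
    have : e.symm ⟨σ a.1, h⟩ = 1 ⊗ₜ a := e.symm_apply_eq.mpr (Subtype.ext (by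
      change σ a.1 = μ (1 ⊗ₜ a)
      simp [μ]; rfl))
    change T (e.symm ⟨σ a.1, h⟩) = _
    rw [this]
    simp [T, κA]
  exact Function.LeftInverse.injective (g := l) fun x => congr($hlψ x)

end Groth.Agent.Omega.StalkAlg

namespace Groth.Agent.Omega.ConormalBC

open OmegaSh Basic Stalks StalkConormal StalkSeq StalkAlg ThickSeq
open Groth.Agent.PullStalk.Sky Groth.Agent.PullStalk.Exact Groth.Agent.PullStalk.Basic

variable {Z X Z' X' : Scheme.{u}} {i : Z ⟶ X} {i' : Z' ⟶ X'} [IsImmersion i] [IsImmersion i']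
  {g : X ⟶ X'} {gZ : Z ⟶ Z'}

theorem ker_stalkMap_eq_map (hsq : IsPullback i gZ g i') (w : gZ ≫ i' = i ≫ g) (z : Z) :
    RingHom.ker (i.stalkMap z).hom = Ideal.map (σ w z).hom (RingHom.ker (i'.stalkMap (gZ z)).hom) := by
  let s := σ w z
  let L : Ideal (X.presheaf.stalk (i z)) := Ideal.map s.hom (RingHom.ker (i'.stalkMap (gZ z)).hom)
  have hLπ : L ≤ RingHom.ker (i.stalkMap z).hom := Ideal.map_le_iff_le_comap.mpr fun k hk => by
    rw [Ideal.mem_comap, RingHom.mem_ker]
    exact (stalkMap_σ w z k).trans ((congrArg _ hk).trans (map_zero _))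
  refine le_antisymm (fun x hx => ?_) hLπ
  let R : CommRingCat.{u} := CommRingCat.of (_ ⧸ L)
  let mk : X.presheaf.stalk (i z) ⟶ R := CommRingCat.ofHom (Ideal.Quotient.mk L)
  obtain ⟨φ, hφ⟩ : ∃ φ : Z'.presheaf.stalk (gZ z) ⟶ R, i'.stalkMap (gZ z) ≫ φ = s ≫ mk := by
    refine ⟨CommRingCat.ofHom ((i'.stalkMap (gZ z)).hom.liftOfSurjective (i'.stalkMap_surjective (gZ z))
      ⟨(Ideal.Quotient.mk L).comp s.hom, fun k hk => Ideal.Quotient.eq_zero_iff_mem.mpr
        (Ideal.mem_map_of_mem _ hk)⟩), CommRingCat.hom_ext ?_⟩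
    exact RingHom.liftOfRightInverse_comp _ _ _ _
  have hne : L ≠ ⊤ := fun h => by
    have : (1 : X.presheaf.stalk (i z)) ∈ RingHom.ker (i.stalkMap z).hom := hLπ (h ▸ Submodule.mem_top)
    rw [RingHom.mem_ker, map_one] at this
    exact one_ne_zero this
  have : Nontrivial (X.presheaf.stalk (i z) ⧸ L) := Ideal.Quotient.nontrivial_iff.mpr hne
  have : IsLocalRing R := IsLocalRing.of_surjective' (Ideal.Quotient.mk L) Ideal.Quotient.mk_surjective
  let p : Spec R ⟶ X := Spec.map mk ≫ X.fromSpecStalk (i z)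
  let q : Spec R ⟶ Z' := Spec.map φ ≫ Z'.fromSpecStalk (gZ z)
  have hpq : p ≫ g = q ≫ i' := by
    rw [Category.assoc, ← SpecMap_σ_fromSpecStalk w z, ← Category.assoc, ← Spec.map_comp, ← hφ,
      Spec.map_comp, Category.assoc, Scheme.SpecMap_stalkMap_fromSpecStalk, Category.assoc]
  let l := hsq.lift p q hpq
  have hl : l ≫ i = p := hsq.lift_fst _ _ _
  have hmk : IsLocalHom mk.hom := IsLocalHom.of_surjective _ Ideal.Quotient.mk_surjective
  have hcp : l (IsLocalRing.closedPoint R) = z := by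
    refine i.isEmbedding.injective ?_
    have h₁ : i (l (IsLocalRing.closedPoint R)) =
        X.fromSpecStalk (i z) (Spec.map mk (IsLocalRing.closedPoint R)) :=
      congr($hl (IsLocalRing.closedPoint R))
    rw [h₁, show Spec.map mk (IsLocalRing.closedPoint R) = IsLocalRing.closedPoint _ from
      IsLocalRing.comap_closedPoint mk.hom]
    exact Scheme.fromSpecStalk_closedPoint
  let ψ : Z.presheaf.stalk z ⟶ R :=
    Z.presheaf.stalkSpecializes (Specializes.of_eq hcp) ≫ Scheme.stalkClosedPointTo l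
  have hψ : Spec.map ψ ≫ Z.fromSpecStalk z = l := by
    rw [Spec.map_comp, Category.assoc, Scheme.SpecMap_stalkSpecializes_fromSpecStalk]
    exact Scheme.Spec_stalkClosedPointTo_fromSpecStalk l
  have hfac : i.stalkMap z ≫ ψ = mk := hom_eq_of_fromSpecStalk (by
    rw [Spec.map_comp, Category.assoc, Scheme.SpecMap_stalkMap_fromSpecStalk, ← Category.assoc, hψ, hl])
  exact Ideal.Quotient.eq_zero_iff_mem.mp
    ((congr($hfac x)).symm.trans ((congrArg ψ.hom hx).trans (map_zero _)))

theorem epi_and_isIso [QuasiCompact i] [QuasiCompact i'] (hsq : IsPullback i gZ g i')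
    {φ : (Scheme.Modules.pullback gZ).obj (Omega.conormal i') ⟶ Omega.conormal i}
    (hφ : IsConormalMap i i' g gZ φ) : Epi φ ∧ (Flat g → IsIso φ) := by
  have hi := i.isEmbedding.isInducing
  have hi' := i'.isEmbedding.isInducing
  have key : ∀ z, Function.Surjective (stalkLin φ z) ∧ (Flat g → Function.Injective (stalkLin φ z)) := by
    intro z
    obtain ⟨κ, hκsmul, hκ, hP⟩ := exists_conormal i z hi
    obtain ⟨κ', hκ'smul, hκ', hP'⟩ := exists_conormal i' (gZ z) hi'
    let u := (unitStalkHom gZ (Omega.conormal i') z).hom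
    let κu : RingHom.ker (i'.stalkMap (gZ z)).hom →+
        ((Scheme.Modules.pullback gZ).obj (Omega.conormal i')).presheaf.stalk z := u.comp κ'
    have hJ := (ker_stalkMap_eq_map hsq hφ.1 z).symm
    have hψ : ∀ a : RingHom.ker (i'.stalkMap (gZ z)).hom, ∃ h : (σ hφ.1 z).hom a.1 ∈ RingHom.ker (i.stalkMap z).hom,
        stalkLin φ z (κu a) = κ ⟨(σ hφ.1 z).hom a.1, h⟩ := fun a =>
      ⟨hJ.le (Ideal.mem_map_of_mem _ a.2), conormalMap_stalk hi hi' hφ z κ hκ κ' hκ' a _⟩
    refine ⟨surjective_of_map_eq hκsmul hP hJ hψ, fun hg => ?_⟩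
    have hflat : (σ hφ.1 z).hom.Flat := by
      refine RingHom.Flat.comp ?_ (Flat.stalkMap g (i z))
      have e₁ : i' (gZ z) = g (i z) := congr($(hφ.1) z)
      exact RingHom.Flat.of_bijective (ConormalSplit.bijective_stalkSpecializes X' e₁.symm)
    refine injective_of_flat hflat hP hJ (fun b a => ?_) (fun l hl => ?_) hψ
    · change u (κ' (b • a)) = _
      rw [hκ'smul]
      refine (unitStalkHom_smul gZ _ z _ _).trans (congrArg (· • _) ?_)
      exact (stalkMap_σ hφ.1 z b).symm
    · refine hom_eq_of_unitStalk gZ _ _ fun t => ?_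
      let : Module (Z'.presheaf.stalk (gZ z)) (((Scheme.Modules.pullback gZ).obj (Omega.conormal i')).presheaf.stalk z) :=
        Module.compHom _ (gZ.stalkMap z).hom
      let L : (Omega.conormal i').presheaf.stalk (gZ z) →ₗ[Z'.presheaf.stalk (gZ z)]
          ((Scheme.Modules.pullback gZ).obj (Omega.conormal i')).presheaf.stalk z :=
        { toFun := fun t => l (u t)
          map_add' := fun a b => (congrArg l (map_add u a b)).trans (map_add l _ _)
          map_smul' := fun r a => (congrArg l (unitStalkHom_smul gZ _ z r a)).trans (map_smul l _ _) }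
      let L' : (Omega.conormal i').presheaf.stalk (gZ z) →ₗ[Z'.presheaf.stalk (gZ z)]
          ((Scheme.Modules.pullback gZ).obj (Omega.conormal i')).presheaf.stalk z :=
        { toFun := fun t => u t
          map_add' := map_add u
          map_smul' := fun r a => unitStalkHom_smul gZ _ z r a }
      exact congr($(IsKerUniv.hom_ext (l := L) (l' := L') hP' hκ'smul hl) t)
  exact ⟨epi_of_stalk fun z => (key z).1, fun hg => isIso_of_stalk fun z => ⟨(key z).2 hg, (key z).1⟩⟩

end Groth.Agent.Omega.ConormalBC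

end
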