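import Groth.Agent.Omega.Thick
import Groth.Agent.InfLift.Glue

/-!
# Ring-level universal thickenings are universal among schemes
-/

set_option autoImplicit false

universe u

open CategoryTheory CategoryTheory.Limits AlgebraicGeometry TopologicalSpace Opposite

namespace Groth.Agent.Omega.ThickAffine

variable {R S S' : Type u} [CommRing R] [CommRing S] [CommRing S'] [Algebra R S] [Algebra R S']
  {π : S' →ₐ[R] S}

theorem existsUnique_ringHom (hu : OmegaSh.IsUnivThickeningRing R S S' π) {A A₀ : Type u} [CommRing A]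
    [CommRing A₀] (φ : A →+* A₀) (hφ : Function.Surjective φ) (hI : RingHom.ker φ ^ 2 = ⊥)
    (α : S →+* A₀) (β : R →+* A) (h : φ.comp β = α.comp (algebraMap R S)) :
    ∃! γ : S' →+* A, φ.comp γ = α.comp π.toRingHom ∧ γ.comp (algebraMap R S') = β := by
  let : Algebra R A := β.toAlgebra
  let e := RingHom.quotientKerEquivOfSurjective hφ
  have he : ∀ x, e.symm (φ x) = Ideal.Quotient.mk (RingHom.ker φ) x := fun x =>
    e.symm_apply_eq.mpr rfl
  let a : S →ₐ[R] A ⧸ RingHom.ker φ :=
    { e.symm.toRingHom.comp α with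
      commutes' := fun r => by
        change e.symm (α (algebraMap R S r)) = Ideal.Quotient.mk _ (β r)
        rw [← he]
        exact congrArg e.symm (congr($h r)).symm }
  obtain ⟨γ, hγ, hun⟩ := hu.2.2 A (RingHom.ker φ) hI a
  refine ⟨γ.toRingHom, ⟨RingHom.ext fun x => e.symm.injective ?_, RingHom.ext γ.commutes⟩, ?_⟩
  · change e.symm (φ (γ x)) = e.symm (α (π x))
    rw [he]
    exact congr($hγ x)
  · rintro δ ⟨h₁, h₂⟩
    let δ' : S' →ₐ[R] A := { δ with commutes' := fun r => congr($h₂ r) }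
    have := hun δ' (AlgHom.ext fun x => by
      change Ideal.Quotient.mk (RingHom.ker φ) (δ x) = e.symm (α (π x))
      rw [← he]
      exact congrArg e.symm congr($h₁ x))
    exact RingHom.ext fun x => congr($this x)

theorem existsUnique_affine (hu : OmegaSh.IsUnivThickeningRing R S S' π) {T T' : Scheme.{u}}
    [IsAffine T'] (t : T ⟶ T') (ht : MoreMor.IsFirstOrderThickening t)
    (a : T ⟶ Spec (CommRingCat.of S)) (b : T' ⟶ Spec (CommRingCat.of R))
    (w : t ≫ b = a ≫ Spec.map (CommRingCat.ofHom (algebraMap R S))) :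
    ∃! l : T' ⟶ Spec (CommRingCat.of S'), t ≫ l = a ≫ Spec.map (CommRingCat.ofHom π.toRingHom) ∧
      l ≫ Spec.map (CommRingCat.ofHom (algebraMap R S')) = b := by
  have := ht.1.1
  have : IsAffine T := isAffine_of_isAffineHom t
  obtain ⟨α, hα⟩ := Spec.map_surjective (T.isoSpec.inv ≫ a)
  obtain ⟨β, hβ⟩ := Spec.map_surjective (T'.isoSpec.inv ≫ b)
  have hw : β ≫ t.appTop = CommRingCat.ofHom (algebraMap R S) ≫ α := by
    apply Spec.map_injective
    rw [Spec.map_comp, Spec.map_comp, hα, hβ, ← cancel_epi T.isoSpec.hom,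
      ← Category.assoc, Scheme.isoSpec_hom_naturality, Category.assoc, Iso.hom_inv_id_assoc,
      Category.assoc, Iso.hom_inv_id_assoc, w]
  obtain ⟨γ, ⟨h₁, h₂⟩, hun⟩ := existsUnique_ringHom hu t.appTop.hom
    (t.app_surjective ⊤ (isAffineOpen_top T')) (Thick.ker_app_sq t ht.2 (isAffineOpen_top T'))
    α.hom β.hom congr($(hw).hom)
  have key : ∀ δ : CommRingCat.of S' ⟶ Γ(T', ⊤),
      (t ≫ T'.isoSpec.hom ≫ Spec.map δ = a ≫ Spec.map (CommRingCat.ofHom π.toRingHom) ∧
        (T'.isoSpec.hom ≫ Spec.map δ) ≫ Spec.map (CommRingCat.ofHom (algebraMap R S')) = b) ↔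
      (t.appTop.hom.comp δ.hom = α.hom.comp π.toRingHom ∧ δ.hom.comp (algebraMap R S') = β.hom) := by
    intro δ
    refine and_congr ?_ ?_
    · rw [← Scheme.isoSpec_hom_naturality_assoc, ← Spec.map_comp, ← Iso.eq_inv_comp,
        ← Category.assoc, ← hα, ← Spec.map_comp, Spec.map_inj, CommRingCat.hom_ext_iff]
      rfl
    · rw [Category.assoc, ← Iso.eq_inv_comp, ← hβ, ← Spec.map_comp, Spec.map_inj,
        CommRingCat.hom_ext_iff]
      rfl
  refine ⟨T'.isoSpec.hom ≫ Spec.map (CommRingCat.ofHom γ), (key _).mpr ⟨h₁, h₂⟩, fun l hl => ?_⟩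
  obtain ⟨δ, hδ⟩ := Spec.map_surjective (T'.isoSpec.inv ≫ l)
  have hl' : T'.isoSpec.hom ≫ Spec.map δ = l := by rw [hδ, Iso.hom_inv_id_assoc]
  rw [← hl'] at hl ⊢
  have := hun δ.hom ((key δ).mp hl)
  rw [show δ = CommRingCat.ofHom γ from CommRingCat.hom_ext this]

theorem isFOT_morphismRestrict {T T' : Scheme.{u}} {t : T ⟶ T'}
    (ht : MoreMor.IsFirstOrderThickening t) (W : T'.Opens) :
    MoreMor.IsFirstOrderThickening (t ∣_ W) :=
  Thick.isFOT_of_isPullback ht (isPullback_morphismRestrict t W)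

/-- A universal thickening of rings is one of affine schemes. -/
theorem isUnivThickening_spec (hu : OmegaSh.IsUnivThickeningRing R S S' π) :
    OmegaSh.IsUnivThickening (Spec.map (CommRingCat.ofHom (algebraMap R S)))
      (Spec.map (CommRingCat.ofHom π.toRingHom)) (Spec.map (CommRingCat.ofHom (algebraMap R S'))) := by
  refine ⟨Thick.isFOT_spec _ hu.1 hu.2.1, ?_, fun T T' t b a ht w => ?_⟩
  · rw [← Spec.map_comp]
    congr 1
    ext r
    exact π.commutes r
  refine InfLift.Glue.existsUnique_lift_of_local ?_ (fun _ => True) (fun _ _ _ _ => trivial)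
    (fun p => ?_) fun W hW _ => ?_
  · rw [Category.assoc, ← Spec.map_comp, w]
    congr 2
    ext r
    exact (π.commutes r).symm
  · obtain ⟨_, ⟨W, hW, rfl⟩, hp, -⟩ :=
      T'.isBasis_affineOpens.exists_subset_of_mem_open (Set.mem_univ p) isOpen_univ
    exact ⟨W, hW, hp, trivial⟩
  · have : IsAffine W := hW
    have h := existsUnique_affine hu (t ∣_ W) (isFOT_morphismRestrict ht W) ((t ⁻¹ᵁ W).ι ≫ a) (W.ι ≫ b)
      (by rw [← Category.assoc, morphismRestrict_ι, Category.assoc, w, Category.assoc])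
    simpa only [InfLift.Glue.IsLiftOn, Category.assoc] using h

end Groth.Agent.Omega.ThickAffine
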