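import Groth.Agent.Omega.Basic

/-!
# The sequence `f^*Ω_{Y/Z} → Ω_{X/Z} → Ω_{X/Y} → 0`
-/

set_option autoImplicit false

universe u

open CategoryTheory CategoryTheory.Limits AlgebraicGeometry TopologicalSpace Opposite

namespace Groth.Agent.Omega.Transitivity

open OmegaSh Basic

variable {X Y Z : Scheme.{u}}

theorem pullbackId_hom_pullSect (M : X.Modules) (U : X.Opens) (t : Γ(M, U)) :
    ((Scheme.Modules.pullbackId X).hom.app M).app U (pullSect (𝟙 X) M U t) = t := by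
  have h := unit_conjugateEquiv Adjunction.id (Scheme.Modules.pullbackPushforwardAdjunction (𝟙 X))
    (Scheme.Modules.pullbackId X).hom M
  rw [Scheme.Modules.conjugateEquiv_pullbackId_hom] at h
  exact congr(Scheme.Modules.Hom.app $h.symm U t)

theorem pullbackId_inv_app (M : X.Modules) (U : X.Opens) (t : Γ(M, U)) :
    ((Scheme.Modules.pullbackId X).inv.app M).app U t = pullSect (𝟙 X) M U t := by
  have h : (Scheme.Modules.pullbackId X).hom.app M ≫ (Scheme.Modules.pullbackId X).inv.app M = 𝟙 _ := by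
    rw [← NatTrans.comp_app, Iso.hom_inv_id]; rfl
  calc ((Scheme.Modules.pullbackId X).inv.app M).app U t
      = ((Scheme.Modules.pullbackId X).inv.app M).app U
          (((Scheme.Modules.pullbackId X).hom.app M).app U (pullSect (𝟙 X) M U t)) := by
        rw [pullbackId_hom_pullSect]
    _ = pullSect (𝟙 X) M U t := congr(Scheme.Modules.Hom.app $h U (pullSect (𝟙 X) M U t))

/-- A map compatible with derivations over the identity, read as a map out of the module itself. -/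
theorem comp_pullbackId_app {Y₁ Y₂ : Scheme.{u}} {f₁ : X ⟶ Y₁} {f₂ : X ⟶ Y₂} {Ω₁ Ω₂ : X.Modules}
    {d₁ : Der f₁ Ω₁} {d₂ : Der f₂ Ω₂} {c : (Scheme.Modules.pullback (𝟙 X)).obj Ω₁ ⟶ Ω₂}
    (hc : IsDiffCompat (𝟙 X) d₁ d₂ c) (U : X.Opens) (s : Γ(X, U)) :
    ((Scheme.Modules.pullbackId X).inv.app Ω₁ ≫ c).app U (d₁.app U s) = d₂.app U s := by
  have h := hc U s
  change c.app U (((Scheme.Modules.pullbackId X).inv.app Ω₁).app U (d₁.app U s)) = _
  rw [pullbackId_inv_app]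
  refine h.trans ?_
  rw [Scheme.Hom.id_app]
  rfl

theorem hom_ext_pullback {h : X ⟶ Y} {g : Y ⟶ Z} {Ω : Y.Modules} {d : Der g Ω} (hd : IsUniversal d)
    {F : X.Modules} {α β : (Scheme.Modules.pullback h).obj Ω ⟶ F}
    (hαβ : ∀ U s, α.app (h ⁻¹ᵁ U) (pullSect h Ω U (d.app U s)) =
      β.app (h ⁻¹ᵁ U) (pullSect h Ω U (d.app U s))) : α = β := by
  refine ((Scheme.Modules.pullbackPushforwardAdjunction h).homEquiv _ _).injective
    (hom_ext_of_universal hd fun U s => ?_)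
  rw [homEquiv_app, homEquiv_app]
  exact hαβ U s

variable {f : X ⟶ Y} {g : Y ⟶ Z} {ΩY : Y.Modules} {dY : Der g ΩY} {ΩX : X.Modules}
  {dX : Der (f ≫ g) ΩX} {ΩXY : X.Modules} {dXY : Der f ΩXY}
  {c₁ : (Scheme.Modules.pullback f).obj ΩY ⟶ ΩX}
  {c₂ : (Scheme.Modules.pullback (𝟙 X)).obj ΩX ⟶ ΩXY}

theorem comp_eq_zero (hY : IsUniversal dY) (hc₁ : IsDiffCompat f dY dX c₁)
    (hc₂ : IsDiffCompat (𝟙 X) dX dXY c₂) :
    c₁ ≫ (Scheme.Modules.pullbackId X).inv.app ΩX ≫ c₂ = 0 := by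
  refine hom_ext_pullback hY fun U s => ?_
  change ((Scheme.Modules.pullbackId X).inv.app ΩX ≫ c₂).app _ (c₁.app _ _) = 0
  rw [hc₁ U s, comp_pullbackId_app hc₂, der_app]

/-- A derivation over `Z` killed by `f^*Ω_{Y/Z}` is a derivation over `Y`. -/
theorem exists_der_of_comp_eq_zero (hc₁ : IsDiffCompat f dY dX c₁) {F : X.Modules} (γ : ΩX ⟶ F)
    (hγ : c₁ ≫ γ = 0) : ∃ D : Der f F, ∀ U s, D.app U s = γ.app U (dX.app U s) := by
  let D' : Der (f ≫ g) F := dX.postcomp γ.val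
  refine ⟨{ d := fun {U} => D'.app U.unop
            d_mul := fun {U} a b => der_mul D' U.unop a b
            d_map := fun i s => der_map D' i.unop s
            d_app := fun {V} c => ?_ }, fun U s => rfl⟩
  change γ.app (f ⁻¹ᵁ V.unop) (dX.app (f ⁻¹ᵁ V.unop) (f.app V.unop c)) = 0
  rw [← hc₁ V.unop c]
  exact congr(Scheme.Modules.Hom.app $hγ (f ⁻¹ᵁ V.unop) (pullSect f ΩY V.unop (dY.app V.unop c)))

/-- `Ω_{X/Y}` is the cokernel of `f^*Ω_{Y/Z} ⟶ Ω_{X/Z}`. -/
theorem nonempty_isColimit (hY : IsUniversal dY) (hX : IsUniversal dX) (hXY : IsUniversal dXY)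
    (hc₁ : IsDiffCompat f dY dX c₁) (hc₂ : IsDiffCompat (𝟙 X) dX dXY c₂) :
    Nonempty (IsColimit (CokernelCofork.ofπ ((Scheme.Modules.pullbackId X).inv.app ΩX ≫ c₂)
      (comp_eq_zero hY hc₁ hc₂))) := by
  refine ⟨CokernelCofork.IsColimit.ofπ _ _
    (fun γ hγ => desc hXY (exists_der_of_comp_eq_zero hc₁ γ hγ).choose)
    (fun {F} γ hγ => hom_ext_of_universal hX fun U s => ?_)
    (fun {F} γ hγ m hm => hom_ext_of_universal hXY fun U s => ?_)⟩
  · change (desc hXY _).app U (((Scheme.Modules.pullbackId X).inv.app ΩX ≫ c₂).app U (dX.app U s)) = _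
    rw [comp_pullbackId_app hc₂, desc_app]
    exact (exists_der_of_comp_eq_zero hc₁ γ hγ).choose_spec U s
  · rw [desc_app, (exists_der_of_comp_eq_zero hc₁ γ hγ).choose_spec U s, ← hm, ← comp_pullbackId_app hc₂]
    rfl

end Groth.Agent.Omega.Transitivity
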