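import Groth.Agent.Omega.ConormalMap
import Groth.Agent.Omega.ConormalBC
import Groth.Agent.Omega.ThickAffine
import Groth.Agent.Omega.Transitivity
import Mathlib.AlgebraicGeometry.Morphisms.OpenImmersion

/-!
# The conormal sequence of thickenings along a formally smooth morphism
-/

set_option autoImplicit false

universe u

open CategoryTheory CategoryTheory.Limits AlgebraicGeometry TopologicalSpace Opposite

noncomputable section

namespace Groth.Agent.Omega.ThickSmooth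

open OmegaSh Basic Stalks StalkConormal StalkSeq StalkAlg ThickSeq
open Groth.Agent.PullStalk.Sky Groth.Agent.PullStalk.Exact Groth.Agent.PullStalk.Basic

/-- Lifting against affine first order thickenings. -/
theorem exists_lift_fot {X Y T T' : Scheme.{u}} {p : X ⟶ Y} (hp : MoreMor.IsFormallySmoothHom p) [IsAffine T']
    (t : T ⟶ T') (ht : MoreMor.IsFirstOrderThickening t) (a : T ⟶ X) (b : T' ⟶ Y) (w : t ≫ b = a ≫ p) :
    ∃ l : T' ⟶ X, t ≫ l = a ∧ l ≫ p = b := by
  have := ht.1.1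
  have : IsAffine T := isAffine_of_isAffineHom t
  have hsurj : Function.Surjective t.appTop.hom := t.app_surjective ⊤ (isAffineOpen_top T')
  let I : Ideal Γ(T', ⊤) := RingHom.ker t.appTop.hom
  let mk : Γ(T', ⊤) ⟶ CommRingCat.of (Γ(T', ⊤) ⧸ I) := CommRingCat.ofHom (Ideal.Quotient.mk I)
  let e := RingHom.quotientKerEquivOfSurjective hsurj
  let ei : CommRingCat.of (Γ(T', ⊤) ⧸ I) ⟶ Γ(T, ⊤) := CommRingCat.ofHom e.toRingHom
  let ej : Γ(T, ⊤) ⟶ CommRingCat.of (Γ(T', ⊤) ⧸ I) := CommRingCat.ofHom e.symm.toRingHom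
  have h₁ : t.appTop ≫ ej = mk := CommRingCat.hom_ext (RingHom.ext fun x => e.symm_apply_eq.mpr rfl)
  have h₂ : mk ≫ ei = t.appTop := CommRingCat.hom_ext (RingHom.ext fun x => rfl)
  have h₃ : ej ≫ ei = 𝟙 _ := CommRingCat.hom_ext (RingHom.ext fun x => e.apply_symm_apply x)
  obtain ⟨l, hl₁, hl₂⟩ := hp Γ(T', ⊤) I (Thick.ker_app_sq t ht.2 (isAffineOpen_top T'))
    (Spec.map ej ≫ T.isoSpec.inv ≫ a) (T'.isoSpec.inv ≫ b) (by
      change Spec.map mk ≫ T'.isoSpec.inv ≫ b = _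
      rw [← h₁, Spec.map_comp, Category.assoc, Scheme.isoSpec_inv_naturality_assoc, w]
      simp only [Category.assoc])
  change Spec.map mk ≫ l = _ at hl₁
  refine ⟨T'.isoSpec.hom ≫ l, ?_, by rw [Category.assoc, hl₂, Iso.hom_inv_id_assoc]⟩
  rw [← Scheme.isoSpec_hom_naturality_assoc, ← h₂, Spec.map_comp, Category.assoc, hl₁, ← Category.assoc (Spec.map ei),
    ← Spec.map_comp, h₃, Spec.map_id, Category.id_comp, Iso.hom_inv_id_assoc]

/-- Semilinear maps out of the stalk of a pullback agree once they agree on the unit. -/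
theorem eq_of_eq_unit {A B : Scheme.{u}} (f : A ⟶ B) (M : B.Modules) (x : A) {C N : Type u} [CommRing C]
    [AddCommGroup N] [Module C N] (θ : A.presheaf.stalk x →+* C)
    (F G : ((Scheme.Modules.pullback f).obj M).presheaf.stalk x →+ N) (hF : ∀ r t, F (r • t) = θ r • F t)
    (hG : ∀ r t, G (r • t) = θ r • G t)
    (h : ∀ t, F (unitStalkHom f M x t) = G (unitStalkHom f M x t)) : ∀ t, F t = G t := by
  let : Module (A.presheaf.stalk x) N := Module.compHom N θ
  let F' : ((Scheme.Modules.pullback f).obj M).presheaf.stalk x →ₗ[A.presheaf.stalk x] N :=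
    { toFun := F, map_add' := map_add F, map_smul' := hF }
  let G' : ((Scheme.Modules.pullback f).obj M).presheaf.stalk x →ₗ[A.presheaf.stalk x] N :=
    { toFun := G, map_add' := map_add G, map_smul' := hG }
  exact fun t => congr($(hom_eq_of_unitStalk f F' G' h) t)

/-- Semilinear maps out of the stalk of a conormal sheaf agree once they agree on the ideal. -/
theorem eq_of_eq_κ {A B : Scheme.{u}} (i : A ⟶ B) (x : A)
    {κ : RingHom.ker (i.stalkMap x).hom →+ (Omega.conormal i).presheaf.stalk x}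
    (hκ : ∀ b a, κ (b • a) = i.stalkMap x b • κ a) (hP : IsKerUniv (i.stalkMap x).hom κ)
    {C N : Type u} [CommRing C] [AddCommGroup N] [Module C N] (θ : A.presheaf.stalk x →+* C)
    (F G : (Omega.conormal i).presheaf.stalk x →+ N) (hF : ∀ r t, F (r • t) = θ r • F t)
    (hG : ∀ r t, G (r • t) = θ r • G t) (h : ∀ a, F (κ a) = G (κ a)) : ∀ t, F t = G t := by
  let : Module (A.presheaf.stalk x) N := Module.compHom N θ
  let F' : (Omega.conormal i).presheaf.stalk x →ₗ[A.presheaf.stalk x] N :=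
    { toFun := F, map_add' := map_add F, map_smul' := hF }
  let G' : (Omega.conormal i).presheaf.stalk x →ₗ[A.presheaf.stalk x] N :=
    { toFun := G, map_add' := map_add G, map_smul' := hG }
  exact fun t => congr($(IsKerUniv.hom_ext (l := F') (l' := G') hP hκ h) t)

/-- The unit is injective on stalks along an open immersion. -/
theorem unitStalkHom_injective {A B : Scheme.{u}} (f : A ⟶ B) (M : B.Modules) (x : A)
    (hf : Function.Bijective (f.stalkMap x)) : Function.Injective (unitStalkHom f M x) := by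
  let e := RingEquiv.ofBijective (f.stalkMap x).hom hf
  let : Module (A.presheaf.stalk x) (M.presheaf.stalk (f x)) := Module.compHom _ e.symm.toRingHom
  obtain ⟨l, hl, -⟩ := existsUnique_unitStalk f x M (M.presheaf.stalk (f x)) (AddMonoidHom.id _) fun b m => by
    change b • m = e.symm (f.stalkMap x b) • m
    rw [show e.symm (f.stalkMap x b) = b from e.symm_apply_apply b]
  exact Function.LeftInverse.injective (g := l) hl

theorem stalkLin_pullbackId_hom {Z : Scheme.{u}} (M : Z.Modules) (z : Z)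
    (t : M.presheaf.stalk ((𝟙 Z : Z ⟶ Z) z)) :
    stalkLin ((Scheme.Modules.pullbackId Z).hom.app M) z (unitStalkHom (𝟙 Z) M z t) = t := by
  obtain ⟨U, hx, m, rfl⟩ := exists_germM_eq M ((𝟙 Z : Z ⟶ Z) z) t
  refine (congrArg _ (unitStalkHom_germ (𝟙 Z) M z U hx m)).trans ?_
  refine (stalkLin_germ _ _ _ _ _).trans ?_
  exact congrArg _ (Transitivity.pullbackId_hom_pullSect M U m)

variable {Z X Y Z' Z'' : Scheme.{u}} {i : Z ⟶ X} {p : X ⟶ Y} {i' : Z ⟶ Z'} {a : Z' ⟶ X}
  {i'' : Z ⟶ Z''} {b : Z'' ⟶ Y} {k : Z' ⟶ Z''}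

theorem exists_local_retraction (hp : MoreMor.IsFormallySmoothHom p) (hZ' : IsUnivThickening i i' a)
    (hZ'' : IsUnivThickening (i ≫ p) i'' b) (hk₁ : i' ≫ k = i'') (hk₂ : k ≫ b = a ≫ p)
    {ψ : (Scheme.Modules.pullback (𝟙 Z)).obj (Omega.conormal i'') ⟶ Omega.conormal i'}
    (hψ : IsConormalMap i' i'' k (𝟙 Z) ψ) (z : Z) :
    ∃ (U : Z.Opens) (r : (Scheme.Modules.pullback U.ι).obj (Omega.conormal i') ⟶
        (Scheme.Modules.pullback U.ι).obj ((Scheme.Modules.pullback (𝟙 Z)).obj (Omega.conormal i''))),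
      z ∈ U ∧ (Scheme.Modules.pullback U.ι).map ψ ≫ r = 𝟙 _ := by
  obtain ⟨hfot', hia, hunivZ'⟩ := hZ'
  obtain ⟨hfot'', hib, hunivZ''⟩ := hZ''
  have : IsClosedImmersion i' := hfot'.1.1
  have : IsClosedImmersion i'' := hfot''.1.1
  obtain ⟨_, ⟨W₀, hW, rfl⟩, hzW, -⟩ :=
    Z''.isBasis_affineOpens.exists_subset_of_mem_open (Set.mem_univ (i'' z)) isOpen_univ
  let W : Z''.Opens := W₀
  let U := i'' ⁻¹ᵁ W
  refine ⟨U, ?_⟩
  let iU : (U : Scheme.{u}) ⟶ W := i'' ∣_ W
  have : IsAffine W := hW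
  have hfotU : MoreMor.IsFirstOrderThickening iU := ThickAffine.isFOT_morphismRestrict hfot'' W
  have : IsClosedImmersion iU := hfotU.1.1
  have hres : iU ≫ W.ι = U.ι ≫ i'' := morphismRestrict_ι i'' W
  obtain ⟨l, hl₁, hl₂⟩ := exists_lift_fot hp iU hfotU (U.ι ≫ i) (W.ι ≫ b)
    (by rw [← Category.assoc, hres, Category.assoc, hib, Category.assoc])
  obtain ⟨n, ⟨hn₁, hn₂⟩, -⟩ := hunivZ' _ _ iU l U.ι hfotU hl₁
  have hnk : n ≫ k = W.ι := by
    refine (hunivZ'' _ _ iU (W.ι ≫ b) U.ι hfotU (by rw [← Category.assoc, hres, Category.assoc, hib])).unique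
      ⟨?_, ?_⟩ ⟨hres, rfl⟩
    · rw [← Category.assoc, hn₁, Category.assoc, hk₁]
    · rw [Category.assoc, hk₂, ← Category.assoc, hn₂, hl₂]
  obtain ⟨E, hE, -⟩ := ConormalMap.existsUnique_conormalMap (i := iU) (i' := i'') (g := W.ι) (gZ := U.ι) hres.symm
  obtain ⟨β, hβ, -⟩ := ConormalMap.existsUnique_conormalMap (i := iU) (i' := i') (g := n) (gZ := U.ι) hn₁.symm
  have : IsIso E := (ConormalBC.epi_and_isIso (isPullback_morphismRestrict i'' W) hE).2 inferInstance
  let F := Scheme.Modules.pullback U.ι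
  have key : F.map ψ ≫ β = F.map ((Scheme.Modules.pullbackId Z).hom.app (Omega.conormal i'')) ≫ E := by
    refine hom_ext_stalk fun x => hom_eq_of_unitStalk U.ι _ _ fun t => ?_
    obtain ⟨κU, -, hκU, -⟩ := exists_conormal iU x iU.isEmbedding.isInducing
    obtain ⟨κ', hκ'smul, hκ', -⟩ := exists_conormal i' (U.ι x) i'.isEmbedding.isInducing
    obtain ⟨κ'', hκ''smul, hκ'', hP''⟩ := exists_conormal i'' ((𝟙 Z : Z ⟶ Z) (U.ι x)) i''.isEmbedding.isInducing
    rw [stalkLin_comp, stalkLin_comp, ThickDiff.stalkLin_pullback_map, ThickDiff.stalkLin_pullback_map]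
    let L₁ : ((Scheme.Modules.pullback (𝟙 Z)).obj (Omega.conormal i'')).presheaf.stalk (U.ι x) →+
        (Omega.conormal iU).presheaf.stalk x :=
      (stalkLin β x).toAddMonoidHom.comp
        ((unitStalkHom U.ι _ x).hom.comp (stalkLin ψ (U.ι x)).toAddMonoidHom)
    let L₂ : ((Scheme.Modules.pullback (𝟙 Z)).obj (Omega.conormal i'')).presheaf.stalk (U.ι x) →+
        (Omega.conormal iU).presheaf.stalk x :=
      (stalkLin E x).toAddMonoidHom.comp ((unitStalkHom U.ι _ x).hom.comp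
        (stalkLin ((Scheme.Modules.pullbackId Z).hom.app (Omega.conormal i'')) (U.ι x)).toAddMonoidHom)
    change L₁ t = L₂ t
    have h₁ : ∀ r s, L₁ (r • s) = (U.ι.stalkMap x).hom r • L₁ s := fun r s =>
      (congrArg (stalkLin β x) ((congrArg (unitStalkHom U.ι _ x) (map_smul (stalkLin ψ (U.ι x)) r s)).trans
        (unitStalkHom_smul U.ι _ x r _))).trans (map_smul _ _ _)
    have h₂ : ∀ r s, L₂ (r • s) = (U.ι.stalkMap x).hom r • L₂ s := fun r s =>
      (congrArg (stalkLin E x) ((congrArg (unitStalkHom U.ι _ x) (map_smul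
        (stalkLin ((Scheme.Modules.pullbackId Z).hom.app (Omega.conormal i'')) (U.ι x)) r s)).trans
          (unitStalkHom_smul U.ι _ x r _))).trans (map_smul _ _ _)
    refine eq_of_eq_unit (𝟙 Z) _ (U.ι x) (U.ι.stalkMap x).hom L₁ L₂ h₁ h₂ (fun s => ?_) t
    let u₀ := (unitStalkHom (𝟙 Z) (Omega.conormal i'') (U.ι x)).hom
    refine eq_of_eq_κ i'' ((𝟙 Z : Z ⟶ Z) (U.ι x)) hκ''smul hP''
      ((U.ι.stalkMap x).hom.comp ((𝟙 Z : Z ⟶ Z).stalkMap (U.ι x)).hom) (L₁.comp u₀) (L₂.comp u₀)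
      (fun r m => (congrArg L₁ (unitStalkHom_smul (𝟙 Z) _ _ r m)).trans (h₁ _ _))
      (fun r m => (congrArg L₂ (unitStalkHom_smul (𝟙 Z) _ _ r m)).trans (h₂ _ _)) (fun c => ?_) s
    change stalkLin β x (unitStalkHom U.ι _ x (stalkLin ψ (U.ι x) (unitStalkHom (𝟙 Z) _ (U.ι x) (κ'' c)))) =
      stalkLin E x (unitStalkHom U.ι _ x (stalkLin ((Scheme.Modules.pullbackId Z).hom.app (Omega.conormal i''))
        (U.ι x) (unitStalkHom (𝟙 Z) _ (U.ι x) (κ'' c))))
    rw [stalkLin_pullbackId_hom]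
    have hc₁ : σ hψ.1 (U.ι x) c.1 ∈ RingHom.ker (i'.stalkMap (U.ι x)).hom :=
      (stalkMap_σ hψ.1 _ c.1).trans ((congrArg _ c.2).trans (map_zero _))
    rw [conormalMap_stalk i'.isEmbedding.isInducing i''.isEmbedding.isInducing hψ (U.ι x) κ' hκ' κ'' hκ'' c hc₁]
    have hc₂ : σ hβ.1 x (σ hψ.1 (U.ι x) c.1) ∈ RingHom.ker (iU.stalkMap x).hom :=
      (stalkMap_σ hβ.1 _ _).trans ((congrArg _ hc₁).trans (map_zero _))
    have hc₃ : σ hE.1 x c.1 ∈ RingHom.ker (iU.stalkMap x).hom :=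
      (stalkMap_σ hE.1 _ c.1).trans ((congrArg _ c.2).trans (map_zero _))
    rw [conormalMap_stalk iU.isEmbedding.isInducing i'.isEmbedding.isInducing hβ x κU hκU κ' hκ' ⟨_, hc₁⟩ hc₂]
    refine Eq.trans ?_ (conormalMap_stalk iU.isEmbedding.isInducing i''.isEmbedding.isInducing hE x κU hκU κ'' hκ''
      c hc₃).symm
    congr 1
    have hσ : σ hψ.1 (U.ι x) ≫ σ hβ.1 x = σ hE.1 x := hom_eq_of_fromSpecStalk (by
      rw [Spec.map_comp, Category.assoc]
      refine (congrArg (Spec.map (σ hβ.1 x) ≫ ·) (SpecMap_σ_fromSpecStalk hψ.1 (U.ι x))).trans ?_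
      rw [← Category.assoc]
      refine (congrArg (· ≫ k) (SpecMap_σ_fromSpecStalk hβ.1 x)).trans ?_
      rw [Category.assoc, hnk]
      exact (SpecMap_σ_fromSpecStalk hE.1 x).symm)
    exact Subtype.ext congr($hσ c.1)
  refine ⟨β ≫ inv E ≫ F.map ((Scheme.Modules.pullbackId Z).inv.app (Omega.conormal i'')), hzW, ?_⟩
  rw [← Category.assoc, key, Category.assoc, IsIso.hom_inv_id_assoc, ← F.map_comp,
    Iso.hom_inv_id_app]
  exact F.map_id _

theorem shortExact_and_split (hp : MoreMor.IsFormallySmoothHom p) (hZ' : IsUnivThickening i i' a)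
    (hZ'' : IsUnivThickening (i ≫ p) i'' b) (hk₁ : i' ≫ k = i'') (hk₂ : k ≫ b = a ≫ p)
    {Ω : Z'.Modules} {d : Der k Ω} (hd : IsUniversal d)
    {ψ : (Scheme.Modules.pullback (𝟙 Z)).obj (Omega.conormal i'') ⟶ Omega.conormal i'}
    (hψ : IsConormalMap i' i'' k (𝟙 Z) ψ)
    {φ : Omega.conormal i' ⟶ (Scheme.Modules.pullback i').obj Ω} (hφ : IsConormalDiff i' d φ) :
    ∃ w : ψ ≫ φ = 0, (ShortComplex.mk ψ φ w).ShortExact ∧
      ∀ z : Z, ∃ (U : Z.Opens) (r : (Scheme.Modules.restrictFunctor U.ι).obj (Omega.conormal i') ⟶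
          (Scheme.Modules.restrictFunctor U.ι).obj ((Scheme.Modules.pullback (𝟙 Z)).obj (Omega.conormal i''))),
        z ∈ U ∧ (Scheme.Modules.restrictFunctor U.ι).map ψ ≫ r = 𝟙 _ := by
  have : IsClosedImmersion i' := hZ'.1.1.1
  have : IsClosedImmersion i'' := hZ''.1.1.1
  obtain ⟨w, hex, hepi⟩ := ConormalSeq.exact_and_epi hd hψ hφ
  have hsplit := fun z => exists_local_retraction hp hZ' hZ'' hk₁ hk₂ hψ z
  have hmono : Mono ψ := mono_of_stalk fun z t t' htt => by
    obtain ⟨U, r, hzU, hr⟩ := hsplit z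
    let z' : (U : Scheme.{u}) := ⟨z, hzU⟩
    have hb : Function.Bijective (U.ι.stalkMap z') := ConcreteCategory.bijective_of_isIso _
    refine unitStalkHom_injective U.ι _ z' hb ?_
    have h := congrArg (fun m => stalkLin r z' (unitStalkHom U.ι _ z' m)) htt
    change stalkLin r z' (unitStalkHom U.ι _ _ (stalkLin ψ (U.ι z') t)) =
      stalkLin r z' (unitStalkHom U.ι _ _ (stalkLin ψ (U.ι z') t')) at h
    rw [← ThickDiff.stalkLin_pullback_map, ← ThickDiff.stalkLin_pullback_map, ← stalkLin_comp, ← stalkLin_comp,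
      hr] at h
    have hid : ∀ (m : ((Scheme.Modules.pullback U.ι).obj
        ((Scheme.Modules.pullback (𝟙 Z)).obj (Omega.conormal i''))).presheaf.stalk z'),
        stalkLin (𝟙 _) z' m = m := fun m => by
      obtain ⟨V, hV, s, rfl⟩ := exists_germM_eq _ _ m
      exact stalkLin_germ _ _ _ _ _
    rwa [hid, hid] at h
  refine ⟨w, { exact := hex, mono_f := hmono, epi_g := hepi }, fun z => ?_⟩
  obtain ⟨U, r, hzU, hr⟩ := hsplit z
  let e := Scheme.Modules.restrictFunctorIsoPullback U.ι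
  refine ⟨U, e.hom.app _ ≫ r ≫ e.inv.app _, hzU, ?_⟩
  rw [← Category.assoc, e.hom.naturality, Category.assoc, reassoc_of% hr]
  exact e.hom_inv_id_app _

end Groth.Agent.Omega.ThickSmooth

end
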