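import Groth.Agent.KReg44.Ideal
import Groth.Agent.KReg44.Section
import Groth.Agent.KReg44.Append
import Groth.Agent.Omega.ThickSmooth
import Groth.Agent.Omega.ConormalZero
import Groth.Agent.RegImm44.Comp

/-!
# Koszul-regularity of the second of two immersions with split conormal sequence
-/

set_option autoImplicit false
set_option linter.style.haveILetI false

universe u

open CategoryTheory CategoryTheory.Limits AlgebraicGeometry TopologicalSpace

noncomputable section

namespace Groth.Agent.Omega.KoszulSplit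

section Ring

variable {A R : Type u} [CommRing A] [CommRing R] [IsLocalRing R] (φ : A →+* R)

/-- Exchange against elements independent modulo `m L`. -/
theorem exchange_map (h₀ : List A) (L : Ideal R) (hL : Ideal.ofList (h₀.map φ) = L) (f : List R)
    (hfL : ∀ x ∈ f, x ∈ L)
    (hf : ∀ (pre : List R) (x : R) (post : List R), f = pre ++ x :: post →
      x ∉ Ideal.ofList pre ⊔ IsLocalRing.maximalIdeal R * L) :
    ∀ (pre post : List R), f = pre ++ post → ∃ s : List A, (∀ a ∈ s, a ∈ h₀) ∧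
      s.length + pre.length = h₀.length ∧ Ideal.ofList (s.map φ ++ pre) = L := by
  intro pre
  induction pre using List.reverseRecOn with
  | nil => exact fun post _ => ⟨h₀, fun a ha => ha, by simp, by simpa using hL⟩
  | append_singleton pre x ih =>
    intro post hpost
    rw [List.append_assoc, List.singleton_append] at hpost
    obtain ⟨s, hsub, hlen, hsp⟩ := ih (x :: post) hpost
    have hx : x ∈ Ideal.ofList (s.map φ) ⊔ Ideal.ofList pre := by
      rw [← Ideal.ofList_append, hsp]
      exact hfL x (by simp [hpost])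
    rcases KReg44.exists_unit_or_mem _ (s.map φ) x hx with ⟨s₁, t, r, u, a, hrest, hu, ha, rfl⟩ | h1
    · obtain ⟨l₁, l₂, rfl, rfl, hl₂⟩ := List.map_eq_append_iff.mp hrest
      obtain ⟨r', t', rfl, rfl, rfl⟩ := List.map_eq_cons_iff.mp hl₂
      rw [← Ideal.ofList_append] at ha
      have hp : List.Perm ((l₁.map φ ++ φ r' :: t'.map φ) ++ pre) (φ r' :: ((l₁.map φ ++ t'.map φ) ++ pre)) :=
        (List.perm_middle (a := φ r') (l₁ := l₁.map φ) (l₂ := t'.map φ)).append_right pre
      have hp2 : List.Perm ((u * φ r' + a) :: ((l₁.map φ ++ t'.map φ) ++ pre))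
          ((l₁.map φ ++ t'.map φ) ++ (pre ++ [u * φ r' + a])) := by
        rw [← List.append_assoc (l₁.map φ ++ t'.map φ)]
        exact (List.perm_append_singleton _ _).symm
      refine ⟨l₁ ++ t', fun b hb => hsub b ?_, ?_, ?_⟩
      · simp only [List.mem_append, List.mem_cons] at hb ⊢
        tauto
      · simp only [List.length_append, List.length_cons, List.length_nil] at hlen ⊢
        omega
      · rw [List.map_append, List.map_cons] at hsp
        rw [List.map_append, ← KReg44.ofList_perm hp2, ← hsp, KReg44.ofList_perm hp, Ideal.ofList_cons,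
          Ideal.ofList_cons]
        refine le_antisymm (sup_le ?_ le_sup_right) (sup_le ?_ le_sup_right) <;>
          rw [Ideal.span_singleton_le_iff_mem]
        · exact Submodule.add_mem_sup (Ideal.mul_mem_left _ _ (Ideal.mem_span_singleton_self (φ r'))) ha
        · rw [← Ideal.unit_mul_mem_iff_mem _ hu]
          have h := Submodule.add_mem_sup (Ideal.mem_span_singleton_self (u * φ r' + a)) (neg_mem ha)
          rwa [add_neg_cancel_right] at h
    · refine absurd ?_ (hf pre x post hpost)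
      have hle : IsLocalRing.maximalIdeal R * Ideal.ofList (s.map φ) ⊔ Ideal.ofList pre ≤
          Ideal.ofList pre ⊔ IsLocalRing.maximalIdeal R * L := by
        refine sup_le (le_sup_of_le_right (Ideal.mul_mono_right ?_)) le_sup_left
        rw [← hsp, Ideal.ofList_append]; exact le_sup_left
      exact hle h1

end Ring

/-- Independence from coefficients. -/
theorem notMem_of_coeff {R : Type u} [CommRing R] [IsLocalRing R] {n : ℕ} (f : Fin n → R) (L : Ideal R)
    (hc : ∀ c : Fin n → R, ∑ k, c k * f k ∈ IsLocalRing.maximalIdeal R * L →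
      ∀ k, c k ∈ IsLocalRing.maximalIdeal R)
    (pre : List R) (x : R) (post : List R) (h : List.ofFn f = pre ++ x :: post) :
    x ∉ Ideal.ofList pre ⊔ IsLocalRing.maximalIdeal R * L := by
  classical
  intro hx
  have hlen : pre.length < n := by
    have := congrArg List.length h
    simp at this
    omega
  let i : Fin n := ⟨pre.length, hlen⟩
  have hxi : x = f i := by
    have h1 : (List.ofFn f)[pre.length]'(by simpa using hlen) = f i := List.getElem_ofFn ..
    rw [← h1]
    simp [h]
  subst hxi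
  obtain ⟨a, ha, b, hb, hab⟩ := Submodule.mem_sup.mp hx
  obtain ⟨c, hci, hca⟩ := KReg44.exists_coeff_of_mem f i h rfl
    (x := a) (KReg44.ofList_mono (fun y hy => List.mem_append_left _ hy) ha)
  have hsum : ∑ k, (Pi.single i 1 - c : Fin n → R) k * f k = b := by
    simp only [Pi.sub_apply, sub_mul, Finset.sum_sub_distrib, hca, Pi.single_apply, ite_mul, one_mul, zero_mul,
      Finset.sum_ite_eq', Finset.mem_univ, if_true]
    rw [← hab, add_sub_cancel_left]
  have h1 := hc (Pi.single i 1 - c) (hsum.symm ▸ hb) i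
  rw [Pi.sub_apply, Pi.single_eq_same, hci, sub_zero] at h1
  exact (IsLocalRing.maximalIdeal.isMaximal R).ne_top ((Ideal.eq_top_iff_one _).mpr h1)

/-- Near a prime, independent regular generators extend to a regular sequence generating the larger ideal. -/
theorem exists_extension {A : Type u} [CommRing A] (R : Type u) [CommRing R] [IsLocalRing R] [Algebra A R]
    (P : Ideal A) [P.IsPrime] [IsLocalization.AtPrime R P] (f h : List A)
    (hh : LCI.IsKoszulRegularSeq A h) (hfh : Ideal.ofList f ≤ Ideal.ofList h)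
    (hind : ∀ c : Fin f.length → R, ∑ k, c k * algebraMap A R f[k] ∈
      IsLocalRing.maximalIdeal R * (Ideal.ofList h).map (algebraMap A R) → ∀ k, c k ∈ IsLocalRing.maximalIdeal R) :
    ∃ g : A, g ∉ P ∧ ∃ s : List A, ∀ (S : Type u) [CommRing S] [Algebra A S] [IsLocalization.Away g S],
      LCI.IsKoszulRegularSeq S ((s ++ f).map (algebraMap A S)) ∧
        Ideal.ofList ((s ++ f).map (algebraMap A S)) = (Ideal.ofList h).map (algebraMap A S) := by
  classical
  let φ := algebraMap A R
  let fR : Fin f.length → R := fun k => φ f[k]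
  have hfR : List.ofFn fR = f.map φ := by
    rw [show fR = φ ∘ (fun k => f[k]) from rfl, ← List.map_ofFn]
    exact congrArg (List.map φ) List.ofFn_getElem
  obtain ⟨s, hsub, hlen, hgen⟩ := exchange_map φ h ((Ideal.ofList h).map φ) (Ideal.map_ofList φ h).symm
    (List.ofFn fR) (fun x hx => by
      rw [hfR, List.mem_map] at hx
      obtain ⟨a, ha, rfl⟩ := hx
      exact Ideal.mem_map_of_mem _ (hfh (Ideal.subset_span ha)))
    (notMem_of_coeff fR _ hind) (List.ofFn fR) [] (List.append_nil _).symm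
  rw [hfR, ← List.map_append, ← Ideal.map_ofList] at hgen
  simp only [List.length_ofFn] at hlen
  have hx : ∀ x ∈ h, ∃ u : A, u ∉ P ∧ u * x ∈ Ideal.ofList (s ++ f) := fun x hxh => by
    have h1 : φ x ∈ (Ideal.ofList (s ++ f)).map φ := hgen ▸ Ideal.mem_map_of_mem _ (Ideal.subset_span hxh)
    obtain ⟨m, hm, hmx⟩ := (IsLocalization.algebraMap_mem_map_algebraMap_iff P.primeCompl R _ x).mp h1
    exact ⟨m, hm, hmx⟩
  choose! u hu hux using hx
  refine ⟨∏ x ∈ h.toFinset, u x, fun hmem => ?_, s, fun S _ _ _ => ?_⟩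
  · obtain ⟨x, hx, hxP⟩ := (Ideal.IsPrime.prod_mem_iff (hp := inferInstance)).mp hmem
    exact hu x (List.mem_toFinset.mp hx) hxP
  have hunit : ∀ x ∈ h, IsUnit (algebraMap A S (u x)) := fun x hx => by
    refine isUnit_of_dvd_unit (map_dvd (algebraMap A S) (Finset.dvd_prod_of_mem u (List.mem_toFinset.mpr hx))) ?_
    exact IsLocalization.Away.algebraMap_isUnit (S := S) (∏ y ∈ h.toFinset, u y)
  have hI : Ideal.ofList ((s ++ f).map (algebraMap A S)) = (Ideal.ofList h).map (algebraMap A S) := by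
    rw [← Ideal.map_ofList]
    refine le_antisymm (Ideal.map_mono (Ideal.span_le.mpr fun x hx => ?_))
      (Ideal.map_le_iff_le_comap.mpr (Ideal.span_le.mpr fun x hx => ?_))
    · change x ∈ s ++ f at hx
      rcases List.mem_append.mp hx with hx | hx
      · exact Ideal.subset_span (hsub x hx)
      · exact hfh (Ideal.subset_span hx)
    · change algebraMap A S x ∈ (Ideal.ofList (s ++ f)).map (algebraMap A S)
      rw [← Ideal.unit_mul_mem_iff_mem _ (hunit x hx), ← map_mul]
      exact Ideal.mem_map_of_mem _ (hux x hx)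
  have hflat : (algebraMap A S).Flat :=
    RingHom.flat_algebraMap_iff.mpr (IsLocalization.flat S (Submonoid.powers (∏ y ∈ h.toFinset, u y)))
  refine ⟨KReg44.isKoszulRegularSeq_of_length_eq (KReg44.isKoszulRegularSeq_map _ hflat hh) ?_ ?_, hI⟩
  · rw [← Ideal.map_ofList, hI]
  · simpa using hlen

open OmegaSh Basic Stalks StalkConormal StalkSeq StalkAlg
open Groth.Agent.PullStalk.Sky Groth.Agent.PullStalk.Exact Groth.Agent.PullStalk.Basic

/-- A local retraction makes a map injective modulo the maximal ideal. -/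
theorem mem_smul_top_of_retraction {Z : Scheme.{u}} {M N : Z.Modules} (ψ : M ⟶ N) {U : Z.Opens}
    (ρ : (Scheme.Modules.restrictFunctor U.ι).obj N ⟶ (Scheme.Modules.restrictFunctor U.ι).obj M)
    (hρ : (Scheme.Modules.restrictFunctor U.ι).map ψ ≫ ρ = 𝟙 _) {z : Z} (hz : z ∈ U) (w : M.presheaf.stalk z)
    (hw : stalkLin ψ z w ∈ IsLocalRing.maximalIdeal (Z.presheaf.stalk z) •
      (⊤ : Submodule (Z.presheaf.stalk z) (N.presheaf.stalk z))) :
    w ∈ IsLocalRing.maximalIdeal (Z.presheaf.stalk z) •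
      (⊤ : Submodule (Z.presheaf.stalk z) (M.presheaf.stalk z)) := by
  let F := Scheme.Modules.pullback U.ι
  let e := Scheme.Modules.restrictFunctorIsoPullback U.ι
  let r : F.obj N ⟶ F.obj M := e.inv.app N ≫ ρ ≫ e.hom.app M
  have hr : F.map ψ ≫ r = 𝟙 _ := by
    simp only [r]
    rw [← Category.assoc, e.inv.naturality, Category.assoc, reassoc_of% hρ]
    exact e.inv_hom_id_app _
  let z' : (U : Scheme.{u}) := ⟨z, hz⟩
  let st := (U.ι.stalkMap z').hom
  have hb : Function.Bijective st := ConcreteCategory.bijective_of_isIso (U.ι.stalkMap z')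
  let eb := RingEquiv.ofBijective st hb
  letI : Module ((U : Scheme.{u}).presheaf.stalk z') (M.presheaf.stalk (U.ι z')) :=
    Module.compHom _ eb.symm.toRingHom
  obtain ⟨l, hl, -⟩ := existsUnique_unitStalk U.ι z' M (M.presheaf.stalk (U.ι z')) (AddMonoidHom.id _) fun b m => by
    change b • m = eb.symm (st b) • m
    rw [show eb.symm (st b) = b from eb.symm_apply_apply b]
  let w' : M.presheaf.stalk (U.ι z') := w
  let m' := IsLocalRing.maximalIdeal ((U : Scheme.{u}).presheaf.stalk z')
  have hst : ∀ a ∈ IsLocalRing.maximalIdeal (Z.presheaf.stalk (U.ι z')), st a ∈ m' := fun a ha => by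
    rw [IsLocalRing.mem_maximalIdeal] at ha ⊢
    exact fun h => ha ((isUnit_map_iff eb a).mp h)
  have h1 : unitStalkHom U.ι N z' (stalkLin ψ (U.ι z') w') ∈
      m' • (⊤ : Submodule ((U : Scheme.{u}).presheaf.stalk z') ((F.obj N).presheaf.stalk z')) := by
    have hw' : stalkLin ψ (U.ι z') w' ∈ IsLocalRing.maximalIdeal (Z.presheaf.stalk (U.ι z')) •
        (⊤ : Submodule (Z.presheaf.stalk (U.ι z')) (N.presheaf.stalk (U.ι z'))) := hw
    refine Submodule.smul_induction_on (p := fun v => unitStalkHom U.ι N z' v ∈ _) hw'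
      (fun a ha v _ => ?_) fun v v' hv hv' => ?_
    · rw [unitStalkHom_smul]
      exact Submodule.smul_mem_smul (hst a ha) trivial
    · rw [map_add]; exact add_mem hv hv'
  rw [← ThickDiff.stalkLin_pullback_map] at h1
  have h2 : unitStalkHom U.ι M z' w' ∈ m' • (⊤ : Submodule ((U : Scheme.{u}).presheaf.stalk z') ((F.obj M).presheaf.stalk z')) := by
    have h3 : stalkLin r z' (stalkLin (F.map ψ) z' (unitStalkHom U.ι M z' w')) = unitStalkHom U.ι M z' w' := by
      rw [← stalkLin_comp, hr]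
      generalize unitStalkHom U.ι M z' w' = m
      obtain ⟨V, hV, t, rfl⟩ := exists_germM_eq _ _ m
      exact stalkLin_germ _ _ _ _ _
    rw [← h3]
    refine (Submodule.map_smul'' m' ⊤ (stalkLin r z')).le.trans (Submodule.smul_mono le_rfl le_top)
      (Submodule.mem_map_of_mem h1)
  have h4 : ∀ v ∈ m' • (⊤ : Submodule ((U : Scheme.{u}).presheaf.stalk z') ((F.obj M).presheaf.stalk z')),
      l v ∈ IsLocalRing.maximalIdeal (Z.presheaf.stalk (U.ι z')) •
        (⊤ : Submodule (Z.presheaf.stalk (U.ι z')) (M.presheaf.stalk (U.ι z'))) := fun v hv => by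
    refine Submodule.smul_induction_on (p := fun v => l v ∈ _) hv (fun a ha v _ => ?_) fun v v' hv hv' => ?_
    · rw [map_smul]
      change eb.symm a • l v ∈ _
      refine Submodule.smul_mem_smul ((IsLocalRing.mem_maximalIdeal _).mpr fun h => ?_) trivial
      exact (IsLocalRing.mem_maximalIdeal a).mp ha ((eb.apply_symm_apply a) ▸ h.map eb)
    · rw [map_add]; exact add_mem hv hv'
  have h5 := h4 _ h2
  rw [hl] at h5
  exact h5

variable {X Y Z : Scheme.{u}} {i : Y ⟶ X} [IsClosedImmersion i] {j : Z ⟶ Y} [IsClosedImmersion j]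

/-- Two Koszul charts can be taken on a common affine open. -/
theorem exists_common_chart (hi : RegImm.IsRegularImmersion .koszul i)
    (hij : RegImm.IsRegularImmersion .koszul (j ≫ i)) (z : Z) :
    ∃ W : X.Opens, IsAffineOpen W ∧ (j ≫ i) z ∈ W ∧ ∃ f h : List Γ(X, W), LCI.IsKoszulRegularSeq Γ(X, W) f ∧
      LCI.IsKoszulRegularSeq Γ(X, W) h ∧ RingHom.ker (i.app W).hom = Ideal.ofList f ∧
        RingHom.ker ((j ≫ i).app W).hom = Ideal.ofList h := by
  obtain ⟨⟨W₁, hW₁⟩, hz₁, hc₁, f, hf, hfk⟩ := hi.2 (j z)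
  obtain ⟨⟨W₂, hW₂⟩, hz₂, hc₂, h, hh, hhk⟩ := hij.2 z
  haveI := hc₁
  haveI := hc₂
  obtain ⟨a, b, hab, hza⟩ := exists_basicOpen_le_affine_inter hW₁ hW₂ ((j ≫ i) z) ⟨hz₁, hz₂⟩
  have hle₁ : X.basicOpen a ≤ W₁ := X.basicOpen_le a
  have hle₂ : X.basicOpen a ≤ W₂ := hab.le.trans (X.basicOpen_le b)
  refine ⟨X.basicOpen a, hW₁.basicOpen a, hza, f.map (X.presheaf.map (homOfLE hle₁).op).hom,
    h.map (X.presheaf.map (homOfLE hle₂).op).hom, ?_, ?_, ?_, ?_⟩
  · exact KReg44.isKoszulRegularSeq_map _ (RegImm44.flat_restrictionMap hW₁ (hW₁.basicOpen a) hle₁) hf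
  · exact KReg44.isKoszulRegularSeq_map _ (RegImm44.flat_restrictionMap hW₂ (hW₁.basicOpen a) hle₂) hh
  · rw [RegImm44.ker_app_restrict i hW₁ (hW₁.basicOpen a) hle₁, hfk, Ideal.map_ofList]
  · rw [RegImm44.ker_app_restrict (j ≫ i) hW₂ (hW₁.basicOpen a) hle₂, hhk, Ideal.map_ofList]

set_option maxHeartbeats 1000000 in
/-- If the conormal sequence of `j` and `i` is split exact on the left, `j` is Koszul-regular. -/
theorem isRegularImmersion_of_retraction (hi : RegImm.IsRegularImmersion .koszul i)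
    (hij : RegImm.IsRegularImmersion .koszul (j ≫ i))
    {φ₁ : (Scheme.Modules.pullback j).obj (Omega.conormal i) ⟶ Omega.conormal (j ≫ i)}
    (hφ₁ : IsConormalMap (j ≫ i) i (𝟙 X) j φ₁)
    (hsplit : ∀ z : Z, ∃ (U : Z.Opens) (ρ : (Scheme.Modules.restrictFunctor U.ι).obj (Omega.conormal (j ≫ i)) ⟶
        (Scheme.Modules.restrictFunctor U.ι).obj ((Scheme.Modules.pullback j).obj (Omega.conormal i))),
        z ∈ U ∧ (Scheme.Modules.restrictFunctor U.ι).map φ₁ ≫ ρ = 𝟙 _) :
    RegImm.IsRegularImmersion .koszul j := by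
  refine ⟨inferInstance, fun z => ?_⟩
  obtain ⟨W, hW, hzW, f, h, hf, hh, hfk, hhk⟩ := exists_common_chart hi hij z
  obtain ⟨U, ρ, hzU, hρ⟩ := hsplit z
  let R := X.presheaf.stalk ((j ≫ i) z)
  letI : Algebra Γ(X, W) R := X.presheaf.algebra_section_stalk ⟨(j ≫ i) z, hzW⟩
  let P := (hW.primeIdealOf ⟨(j ≫ i) z, hzW⟩).asIdeal
  haveI : IsLocalization.AtPrime R P := hW.isLocalization_stalk ⟨(j ≫ i) z, hzW⟩
  have hzW' : i (j z) ∈ W := hzW
  have hfh : Ideal.ofList f ≤ Ideal.ofList h := by
    rw [← hfk, ← hhk]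
    change RingHom.ker (i.app W).hom ≤ RingHom.ker ((j.app (i ⁻¹ᵁ W)).hom.comp (i.app W).hom)
    exact fun a ha => (congrArg (j.app _).hom ha).trans (map_zero _)
  -- generators of the ideals on local rings
  let A₁ := X.presheaf.stalk (i (j z))
  letI : Algebra Γ(X, W) A₁ := X.presheaf.algebra_section_stalk ⟨i (j z), hzW'⟩
  haveI : IsLocalization.AtPrime A₁ (hW.primeIdealOf ⟨i (j z), hzW'⟩).asIdeal :=
    hW.isLocalization_stalk ⟨i (j z), hzW'⟩
  let g₁ := (X.presheaf.germ W (i (j z)) hzW').hom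
  let μ : A₁ ⟶ R := σ hφ₁.1 z
  have hker₁ : RingHom.ker (i.stalkMap (j z)).hom = (Ideal.ofList f).map g₁ := by
    rw [← hfk, ConormalZero.ker_stalkMap_eq i hW (RegImm44.isAffineOpen_preimage i hW) hzW'
      (RegImm44.app_surjective i hW)]
  have hkerR : RingHom.ker ((j ≫ i).stalkMap z).hom = (Ideal.ofList h).map (algebraMap Γ(X, W) R) := by
    rw [← hhk, ConormalZero.ker_stalkMap_eq (j ≫ i) hW (RegImm44.isAffineOpen_preimage _ hW) hzW
      (RegImm44.app_surjective _ hW)]
    rfl
  have hμf : ∀ t, μ.hom (g₁ t) = algebraMap Γ(X, W) R t := fun t => by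
    refine (σ_germ hφ₁.1 z W hzW' t).trans ?_
    rfl
  let a : Fin f.length → A₁ := fun k => g₁ f[k]
  have ha : Ideal.span (Set.range a) = RingHom.ker (i.stalkMap (j z)).hom := by
    rw [hker₁, Ideal.map_ofList, KReg44.span_range_eq_ofList, show a = g₁ ∘ (fun k => f[k]) from rfl,
      ← List.map_ofFn]
    exact congrArg Ideal.ofList (congrArg (List.map g₁) List.ofFn_getElem)
  have hareg : LCI.IsKoszulRegularSeq A₁ (List.ofFn a) := by
    rw [show a = g₁ ∘ (fun k => f[k]) from rfl, ← List.map_ofFn,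
      show List.ofFn (fun k : Fin f.length => f[k]) = f from List.ofFn_getElem]
    exact KReg44.isKoszulRegularSeq_map g₁ (RingHom.flat_algebraMap_iff.mpr
      (IsLocalization.flat A₁ (hW.primeIdealOf ⟨i (j z), hzW'⟩).asIdeal.primeCompl)) hf
  -- coefficient functional
  let C := Z.presheaf.stalk z
  let π₁ : A₁ →+* C := (j.stalkMap z).hom.comp (i.stalkMap (j z)).hom
  have hπ₁ : ∀ x ∈ RingHom.ker (i.stalkMap (j z)).hom, π₁ x = 0 := fun x hx =>
    (congrArg (j.stalkMap z).hom hx).trans (map_zero _)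
  choose coef hcoef using fun x : RingHom.ker (i.stalkMap (j z)).hom =>
    (Submodule.mem_span_range_iff_exists_fun A₁).mp (ha.ge x.2)
  have hcoef' : ∀ (x : RingHom.ker (i.stalkMap (j z)).hom) (c : Fin f.length → A₁),
      ∑ k, c k * a k = x.1 → ∀ k, π₁ (coef x k) = π₁ (c k) := fun x c hc k => by
    rw [← sub_eq_zero, ← map_sub]
    refine hπ₁ _ (ha.le (KReg44.coeff_mem_of_relation a hareg (a := fun k => coef x k - c k) ?_ k))
    simp only [sub_mul, Finset.sum_sub_distrib]
    rw [show ∑ k, coef x k * a k = x.1 by simpa only [smul_eq_mul] using hcoef x, hc, sub_self]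
  let k₀ : RingHom.ker (i.stalkMap (j z)).hom →+ (Fin f.length → C) :=
    AddMonoidHom.mk' (fun x k => π₁ (coef x k)) fun x y => funext fun k => by
      refine (hcoef' (x + y) (fun k => coef x k + coef y k) ?_ k).trans (map_add π₁ _ _)
      simp only [add_mul, Finset.sum_add_distrib, Submodule.coe_add]
      exact congr_arg₂ (· + ·) (by simpa only [smul_eq_mul] using hcoef x) (by simpa only [smul_eq_mul] using hcoef y)
  obtain ⟨κ, hκsmul, hκ, hP⟩ := exists_conormal i (j z) i.isEmbedding.isInducing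
  obtain ⟨κ', hκ'smul, hκ', -⟩ := exists_conormal (j ≫ i) z (j ≫ i).isEmbedding.isInducing
  letI : Module (Y.presheaf.stalk (j z)) (Fin f.length → C) := Module.compHom _ (j.stalkMap z).hom
  obtain ⟨l₀, hl₀, -⟩ := hP (Fin f.length → C) k₀ fun b x => funext fun k => by
    refine (hcoef' (b • x) (fun k => b * coef x k) ?_ k).trans (map_mul π₁ _ _)
    simp only [mul_assoc, ← Finset.mul_sum]
    exact congrArg (b * ·) (by simpa only [smul_eq_mul] using hcoef x)
  obtain ⟨l, hl, -⟩ := existsUnique_unitStalk j z (Omega.conormal i) (Fin f.length → C) l₀.toAddMonoidHom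
    fun b m => map_smul l₀ b m
  have hmem : ∀ k, a k ∈ RingHom.ker (i.stalkMap (j z)).hom := fun k =>
    ha.le (Ideal.subset_span ⟨k, rfl⟩)
  have hμL : ∀ x : RingHom.ker (i.stalkMap (j z)).hom, μ.hom x.1 ∈ RingHom.ker ((j ≫ i).stalkMap z).hom :=
    fun x => (stalkMap_σ hφ₁.1 z x.1).trans ((congrArg _ x.2).trans (map_zero _))
  have hind : ∀ c : Fin f.length → R, ∑ k, c k * algebraMap Γ(X, W) R f[k] ∈
      IsLocalRing.maximalIdeal R * (Ideal.ofList h).map (algebraMap Γ(X, W) R) →
        ∀ k, c k ∈ IsLocalRing.maximalIdeal R := by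
    intro c hc k
    let u := (unitStalkHom j (Omega.conormal i) z).hom
    let π : R →+* C := ((j ≫ i).stalkMap z).hom
    let w := ∑ k, π (c k) • u (κ ⟨a k, hmem k⟩)
    have hm : ∀ y ∈ IsLocalRing.maximalIdeal R, π y ∈ IsLocalRing.maximalIdeal C := fun y hy => by
      rw [IsLocalRing.mem_maximalIdeal] at hy ⊢
      exact fun hu => hy ((isUnit_map_iff π y).mp hu)
    have hψw : stalkLin φ₁ z w = κ' (∑ k, c k • ⟨μ.hom (a k), hμL ⟨a k, hmem k⟩⟩) := by
      simp only [w, map_sum, map_smul, hκ'smul]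
      refine Finset.sum_congr rfl fun k _ => congrArg (π (c k) • ·) ?_
      exact conormalMap_stalk (j ≫ i).isEmbedding.isInducing i.isEmbedding.isInducing hφ₁ z κ' hκ' κ hκ
        ⟨a k, hmem k⟩ (hμL ⟨a k, hmem k⟩)
    have hsum : ∀ y ∈ IsLocalRing.maximalIdeal R * RingHom.ker ((j ≫ i).stalkMap z).hom,
        ∃ hy : y ∈ RingHom.ker ((j ≫ i).stalkMap z).hom, κ' ⟨y, hy⟩ ∈ IsLocalRing.maximalIdeal C •
          (⊤ : Submodule C ((Omega.conormal (j ≫ i)).presheaf.stalk z)) := fun y hy => by
      induction hy using Submodule.mul_induction_on' with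
      | mem_mul_mem e he x hx =>
        refine ⟨Ideal.mul_mem_left _ e hx, ?_⟩
        have := hκ'smul e ⟨x, hx⟩
        exact (congrArg (fun t => t ∈ _) this).mpr (Submodule.smul_mem_smul (hm e he) trivial)
      | add x _ y _ hx hy =>
        obtain ⟨hx₁, hx₂⟩ := hx; obtain ⟨hy₁, hy₂⟩ := hy
        refine ⟨add_mem hx₁ hy₁, ?_⟩
        rw [show (⟨x + y, add_mem hx₁ hy₁⟩ : RingHom.ker ((j ≫ i).stalkMap z).hom) = ⟨x, hx₁⟩ + ⟨y, hy₁⟩ from rfl,
          map_add]
        exact add_mem hx₂ hy₂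
    obtain ⟨hy, hy'⟩ := hsum _ (hkerR ▸ hc)
    have hψm : stalkLin φ₁ z w ∈ IsLocalRing.maximalIdeal C •
        (⊤ : Submodule C ((Omega.conormal (j ≫ i)).presheaf.stalk z)) := by
      rw [hψw]
      convert hy' using 2
      refine Subtype.ext ?_
      simp only [Submodule.coe_sum, Submodule.coe_smul, smul_eq_mul]
      exact Finset.sum_congr rfl fun k _ => congrArg (c k * ·) (hμf _)
    have hwm := mem_smul_top_of_retraction φ₁ ρ hρ hzU w hψm
    have hlw : l w ∈ IsLocalRing.maximalIdeal C • (⊤ : Submodule C (Fin f.length → C)) :=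
      (Submodule.map_smul'' _ ⊤ l).le.trans (Submodule.smul_mono le_rfl le_top) (Submodule.mem_map_of_mem hwm)
    have hlk : l w k = π (c k) := by
      have h1 : ∀ k', l (u (κ ⟨a k', hmem k'⟩)) = Pi.single k' 1 := fun k' => by
        refine ((hl _).trans (hl₀ _)).trans (funext fun m => ?_)
        refine (hcoef' ⟨a k', hmem k'⟩ (Pi.single k' 1) (by simp [Pi.single_apply]) m).trans ?_
        simp [Pi.single_apply, apply_ite π₁]
      simp only [w, map_sum, map_smul, h1, Finset.sum_apply, Pi.smul_apply, Pi.single_apply, smul_eq_mul,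
        mul_ite, mul_one, mul_zero, Finset.sum_ite_eq, Finset.mem_univ, if_true]
    by_contra hne
    refine (IsLocalRing.maximalIdeal.isMaximal C).ne_top (Ideal.eq_top_of_isUnit_mem _ ?_
      (((IsLocalRing.notMem_maximalIdeal).mp hne).map π))
    rw [← hlk]
    refine Submodule.smul_induction_on (p := fun v : Fin f.length → C => v k ∈ _) hlw
      (fun e he v _ => Ideal.mul_mem_right (v k) _ he) fun v v' hv hv' => add_mem hv hv'
  obtain ⟨g, hg, s, hS⟩ := exists_extension R P f h hh hfh hind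
  let W' := X.basicOpen g
  have hW' : IsAffineOpen W' := hW.basicOpen g
  letI : Algebra Γ(X, W) Γ(X, W') := (X.presheaf.map (homOfLE (X.basicOpen_le g)).op).hom.toAlgebra
  haveI : IsLocalization.Away g Γ(X, W') := hW.isLocalization_basicOpen g
  obtain ⟨hreg, hgen⟩ := hS Γ(X, W')
  have hI' : RingHom.ker (i.app W').hom = Ideal.ofList (f.map (algebraMap Γ(X, W) Γ(X, W'))) := by
    rw [RegImm44.ker_app_restrict i hW hW' (X.basicOpen_le g), hfk, Ideal.map_ofList]
    rfl
  have hfW' : LCI.IsKoszulRegularSeq Γ(X, W') (f.map (algebraMap Γ(X, W) Γ(X, W'))) :=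
    KReg44.isKoszulRegularSeq_map _ (RegImm44.flat_restrictionMap hW hW' (X.basicOpen_le g)) hf
  rw [List.map_append] at hreg hgen
  have hsB := KReg44.isKoszulRegularSeq_of_append (i.app W').hom hfW' (RegImm44.app_surjective i hW') hI' hreg
  have hzW'' : (j ≫ i) z ∈ W' := (RegImm44.mem_basicOpen_iff hW ⟨(j ≫ i) z, hzW⟩ g).mpr hg
  refine ⟨⟨i ⁻¹ᵁ W', RegImm44.isAffineOpen_preimage i hW'⟩, hzW'', inferInstance, _, hsB, ?_⟩
  have hcomap : RingHom.ker ((j ≫ i).app W').hom =
      (RingHom.ker (j.app (i ⁻¹ᵁ W')).hom).comap (i.app W').hom := by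
    exact (RingHom.comap_ker (j.app (i ⁻¹ᵁ W')).hom (i.app W').hom).symm
  rw [← Ideal.map_comap_of_surjective (i.app W').hom (RegImm44.app_surjective i hW')
    (RingHom.ker (j.app (i ⁻¹ᵁ W')).hom), ← hcomap,
    RegImm44.ker_app_restrict (j ≫ i) hW hW' (X.basicOpen_le g), hhk]
  refine (congrArg _ hgen.symm).trans ?_
  rw [Ideal.ofList_append, Ideal.map_sup, ← hI', (Ideal.map_eq_bot_iff_le_ker _).mpr le_rfl, sup_bot_eq,
    Ideal.map_ofList]

end Groth.Agent.Omega.KoszulSplit

end
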