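import Groth.Agent.Omega.Stalks
import Groth.Agent.AmpleLib.Ideal
import Groth.Agent.PinchLib.Modules
import Groth.Agent.QReg.Local

/-!
# Finite projective conormal modules
-/

set_option autoImplicit false

universe u

open CategoryTheory CategoryTheory.Limits AlgebraicGeometry TopologicalSpace
open scoped TensorProduct

noncomputable section

namespace Groth.Agent.Omega.ConormalProj

/-- If a square-zero thickening `S → B` is a retract of `A/K² → B`, with `K/K²` finite projective, then its
conormal module is finite projective. -/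
theorem finite_projective_of_retract {A B S : Type u} [CommRing A] [CommRing B] [CommRing S] [Algebra S B]
    (p : A →+* B) (hp : Function.Surjective p) (hfg : (RingHom.ker p).FG)
    (hproj : Module.Projective (A ⧸ RingHom.ker p) (RingHom.ker p).Cotangent)
    (J : Ideal S) (hJ : J = RingHom.ker (algebraMap S B))
    (ψ : A →+* S) (hψ : (algebraMap S B).comp ψ = p) (a : S →+* A ⧸ RingHom.ker p ^ 2)
    (ha : ∀ s c, Ideal.Quotient.mk (RingHom.ker p ^ 2) c = a s → ψ c = s) :
    Module.Finite B (B ⊗[S] J) ∧ Module.Projective B (B ⊗[S] J) := by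
  let K := RingHom.ker p
  haveI : Module.Finite A K := Module.Finite.iff_fg.mpr hfg
  haveI : Module.Finite A K.Cotangent := .of_surjective K.toCotangent K.toCotangent_surjective
  haveI : Module.Finite (A ⧸ K) K.Cotangent := .of_restrictScalars_finite A _ _
  obtain ⟨n, P, hP⟩ := Module.Finite.exists_fin' (A ⧸ K) K.Cotangent
  obtain ⟨σ, hσ⟩ := Module.projective_lifting_property P LinearMap.id hP
  choose k hk using fun i : Fin n => K.toCotangent_surjective (P (Pi.single i 1))
  let q : (A ⧸ K) →+* B := RingHom.kerLift p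
  choose lift hlift₀ using fun s : S => Ideal.Quotient.mk_surjective (a s)
  have hlift : ∀ s, Ideal.Quotient.mk (K ^ 2) (lift s) = a s := hlift₀
  have hπ : ∀ s c, Ideal.Quotient.mk (K ^ 2) c = a s → p c = algebraMap S B s := fun s c h => by
    rw [← hψ, RingHom.comp_apply, ha s c h]
  have hJker : ∀ x : J, algebraMap S B x.1 = 0 := fun x => RingHom.mem_ker.mp (hJ ▸ x.2)
  let el : J → K := fun x => ⟨lift x.1, RingHom.mem_ker.mpr ((hπ _ _ (hlift x.1)).trans (hJker x))⟩
  let g₀ : J → K.Cotangent := fun x => K.toCotangent (el x)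
  have hg₀ : ∀ (x : J) (c : K), Ideal.Quotient.mk (K ^ 2) c.1 = a x.1 → g₀ x = K.toCotangent c := fun x c h => by
    rw [Ideal.toCotangent_eq, ← Ideal.Quotient.eq]
    exact (hlift x.1).trans h.symm
  have hadd : ∀ x y, g₀ (x + y) = g₀ x + g₀ y := fun x y => by
    rw [hg₀ (x + y) (el x + el y) (by
      simp only [el, Submodule.coe_add, map_add, hlift]), map_add]
  let g : Fin n → J →ₗ[S] B := fun i =>
    { toFun := fun x => q (σ (g₀ x) i)
      map_add' := fun x y => by rw [hadd, map_add, Pi.add_apply, map_add]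
      map_smul' := fun s x => by
        rw [RingHom.id_apply, hg₀ (s • x) (lift s • el x) (by
          simp only [el, Submodule.coe_smul, smul_eq_mul, map_mul, hlift]), map_smul,
          ← algebraMap_smul (A ⧸ K) (lift s) (K.toCotangent (el x)), map_smul, Pi.smul_apply, smul_eq_mul,
          map_mul, Algebra.smul_def, Ideal.Quotient.algebraMap_eq, RingHom.kerLift_mk, hπ s _ (hlift s)] }
  have hψJ : ∀ c : K, ψ c.1 ∈ J := fun c => by
    rw [hJ, RingHom.mem_ker, ← RingHom.comp_apply, hψ]
    exact c.2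
  let m : Fin n → J := fun i => ⟨ψ (k i).1, hψJ (k i)⟩
  choose c hc using fun (x : J) (i : Fin n) => Ideal.Quotient.mk_surjective (σ (g₀ x) i)
  have key : ∀ x : J, x = ∑ i, ψ (c x i) • m i := fun x => by
    have h : K.toCotangent (el x) = K.toCotangent (∑ i, c x i • k i) := by
      conv_lhs => rw [← LinearMap.id_apply (R := A ⧸ K) (K.toCotangent (el x)), ← hσ, LinearMap.comp_apply,
        ← Finset.univ_sum_single (σ (g₀ x)), map_sum]
      rw [map_sum]
      refine Finset.sum_congr rfl fun i _ => ?_
      rw [map_smul, hk, ← algebraMap_smul (A ⧸ K) (c x i), Ideal.Quotient.algebraMap_eq, hc, ← map_smul,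
        ← Pi.single_smul', smul_eq_mul, mul_one]
    rw [Ideal.toCotangent_eq, ← Ideal.Quotient.eq] at h
    have h' := ha x.1 _ (h.symm.trans (hlift x.1))
    refine Subtype.ext ?_
    rw [← h', Submodule.coe_sum, map_sum, Submodule.coe_sum]
    refine Finset.sum_congr rfl fun i _ => ?_
    simp [m]
  let r : B ⊗[S] J →ₗ[B] (Fin n → B) := LinearMap.pi fun i => (g i).liftBaseChange B
  let ν : (Fin n → B) →ₗ[B] B ⊗[S] J := Fintype.linearCombination B fun i => 1 ⊗ₜ[S] m i
  have hνr : ν ∘ₗ r = LinearMap.id := by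
    refine TensorProduct.AlgebraTensorModule.ext fun b x => ?_
    simp only [LinearMap.comp_apply, LinearMap.id_apply, ν, r, Fintype.linearCombination_apply,
      LinearMap.pi_apply, LinearMap.liftBaseChange_tmul]
    conv_rhs => rw [key x, TensorProduct.tmul_sum]
    refine Finset.sum_congr rfl fun i _ => ?_
    have : g i x = algebraMap S B (ψ (c x i)) := by
      change q (σ (g₀ x) i) = _
      rw [← hc, RingHom.kerLift_mk, ← hψ, RingHom.comp_apply]
    rw [this, TensorProduct.smul_tmul', TensorProduct.tmul_smul, TensorProduct.smul_tmul']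
    simp [Algebra.smul_def, mul_comm]
  refine ⟨.of_surjective ν fun t => ⟨r t, congr($hνr t)⟩, .of_split r ν hνr⟩

open OmegaSh Groth.Agent.Omega.Basic Groth.Agent.Omega.Stalks

/-- The conormal sections over the preimage of an affine open are a base change of the kernel. -/
theorem nonempty_secEquiv {Z X : Scheme.{u}} (i : Z ⟶ X) [QuasiCompact i] {W : X.Opens}
    (hW : IsAffineOpen W) (hU : IsAffineOpen (i ⁻¹ᵁ W)) :
    letI := (i.app W).hom.toAlgebra
    Nonempty (Γ(Z, i ⁻¹ᵁ W) ⊗[Γ(X, W)] (RingHom.ker (i.app W).hom) ≃ₗ[Γ(Z, i ⁻¹ᵁ W)]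
      Γ(Omega.conormal i, i ⁻¹ᵁ W)) := by
  haveI : (ClSub.idealMod i.ker).IsQuasicoherent := AmpleLib.isQCoh_idealMod _
  letI := (i.app W).hom.toAlgebra
  let φ : Γ(ClSub.idealMod i.ker, W) →ₗ[Γ(X, W)] RingHom.ker (i.app W).hom :=
    { toFun := fun s => ⟨idealSect i.ker W s, app_idealSect i W s⟩
      map_add' := fun a b => Subtype.ext (map_add (idealSect i.ker W) a b)
      map_smul' := fun r s => Subtype.ext (idealSect_smul i.ker W r s) }
  have hφ : Function.Bijective φ :=
    ⟨fun a b h => idealSect_injective i.ker W (congrArg Subtype.val h), fun ⟨t, ht⟩ =>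
      let ⟨s, hs⟩ := exists_idealSect_eq i W t ht
      ⟨s, Subtype.ext hs⟩⟩
  have e := PinchLib.exists_secEquiv i (ClSub.idealMod i.ker) hW hU
  rw [Scheme.Hom.appLE_eq_app] at e
  obtain ⟨e⟩ := e
  exact ⟨(TensorProduct.AlgebraTensorModule.congr (LinearEquiv.refl _ _)
    (LinearEquiv.ofBijective φ hφ).symm).trans e⟩

end Groth.Agent.Omega.ConormalProj

end
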