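import Groth.Agent.Omega.StalkAlg
import Mathlib.RingTheory.Smooth.Basic

/-!
# Split injectivity in the conormal sequence of local rings
-/

set_option autoImplicit false

universe u

noncomputable section

namespace Groth.Agent.Omega.StalkAlg

variable {A B C : Type u} [CommRing A] [CommRing B] [CommRing C] {π : B →+* C} {σ : A →+* B}
  {P Q : Type u} [AddCommGroup P] [Module C P] [AddCommGroup Q] [Module C Q]
  {κ : RingHom.ker π →+ P} {δ : B →+ Q}

theorem κ_eq_zero_of_mem_sq (hκ : ∀ b a, κ (b • a) = π b • κ a) {b : B} (hb : b ∈ RingHom.ker π)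
    (hb2 : b ∈ RingHom.ker π * RingHom.ker π) : κ ⟨b, hb⟩ = 0 := by
  suffices h : ∀ x, x ∈ RingHom.ker π * RingHom.ker π → ∀ hx : x ∈ RingHom.ker π, κ ⟨x, hx⟩ = 0 from
    h b hb2 hb
  intro x hx
  induction hx using Submodule.mul_induction_on' with
  | mem_mul_mem m hm n hn =>
    intro h
    have : (⟨m * n, h⟩ : RingHom.ker π) = m • ⟨n, hn⟩ := rfl
    rw [this, hκ, show π m = 0 from hm, zero_smul]
  | add x hx y hy ihx ihy =>
    intro h
    have hx' : x ∈ RingHom.ker π := Ideal.mul_le_left hx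
    have hy' : y ∈ RingHom.ker π := Ideal.mul_le_left hy
    have : (⟨x + y, h⟩ : RingHom.ker π) = ⟨x, hx'⟩ + ⟨y, hy'⟩ := rfl
    rw [this, map_add, ihx hx', ihy hy', add_zero]

/-- If `C` is formally smooth over `A`, the first map of the conormal sequence is split injective. -/
theorem retraction_of_formallySmooth (hπ : Function.Surjective π)
    (hfs : letI := (π.comp σ).toAlgebra; Algebra.FormallySmooth A C)
    (hκ : ∀ b a, κ (b • a) = π b • κ a) (hP : IsKerUniv π κ) (hu : IsDerUniv π σ δ) {φ : P →ₗ[C] Q}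
    (hφ : ∀ a, φ (κ a) = δ a.1) : ∃ r : Q →ₗ[C] P, r.comp φ = LinearMap.id := by
  let := σ.toAlgebra
  let := (π.comp σ).toAlgebra
  let πa : B →ₐ[A] C := { toRingHom := π, commutes' := fun _ => rfl }
  let I : Ideal B := RingHom.ker π
  let q : B ⧸ I ^ 2 →ₐ[A] C := Ideal.Quotient.liftₐ (I ^ 2) πa fun a ha =>
    (Ideal.pow_le_self two_ne_zero ha : a ∈ I)
  have hq : Function.Surjective q := fun c => by
    obtain ⟨b, rfl⟩ := hπ c
    exact ⟨Ideal.Quotient.mk _ b, rfl⟩
  have hnil : IsNilpotent (RingHom.ker q) := by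
    refine ⟨2, le_bot_iff.mp ?_⟩
    have hle : RingHom.ker q ≤ I.map (Ideal.Quotient.mk (I ^ 2)) := fun x hx => by
      obtain ⟨b, rfl⟩ := Ideal.Quotient.mk_surjective x
      exact Ideal.mem_map_of_mem _ hx
    refine (Ideal.pow_right_mono hle 2).trans ?_
    rw [← Ideal.map_pow, Ideal.map_quotient_self]
  let s : C →ₐ[A] B ⧸ I ^ 2 := Algebra.FormallySmooth.liftOfSurjective (AlgHom.id A C) q hq hnil
  have hs : ∀ c, q (s c) = c := fun c =>
    Algebra.FormallySmooth.liftOfSurjective_apply (AlgHom.id A C) q hq hnil c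
  choose t ht using fun c => Ideal.Quotient.mk_surjective (s c)
  have hmem : ∀ b, b - t (π b) ∈ RingHom.ker π := fun b => by
    rw [RingHom.mem_ker, map_sub, sub_eq_zero]
    have h := hs (π b)
    rw [← ht (π b)] at h
    exact h.symm
  -- `κ` only depends on the class modulo the square of the kernel
  have key : ∀ x (hx : x ∈ RingHom.ker π) y (hy : y ∈ RingHom.ker π), x - y ∈ I ^ 2 →
      κ ⟨x, hx⟩ = κ ⟨y, hy⟩ := fun x hx y hy h => by
    rw [← sub_eq_zero, ← map_sub]
    exact κ_eq_zero_of_mem_sq hκ (sub_mem hx hy) (by rwa [pow_two] at h)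
  let e : B →+ P := AddMonoidHom.mk' (fun b => κ ⟨_, hmem b⟩) fun x y => by
    rw [← map_add]
    refine key _ _ _ _ (Ideal.Quotient.eq.mp ?_)
    simp only [map_sub, map_add, ht]
    abel
  have he : ∀ x y, e (x * y) = π x • e y + π y • e x := fun x y => by
    have h2 : π y • e x = κ (t (π y) • ⟨_, hmem x⟩) := by
      rw [hκ]
      have h := hs (π y)
      rw [← ht (π y)] at h
      rw [show π (t (π y)) = π y from h]
      rfl
    rw [h2, show π x • e y = κ (x • ⟨_, hmem y⟩) from (hκ x _).symm, ← map_add]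
    refine key _ _ _ _ (Ideal.Quotient.eq.mp ?_)
    simp only [SetLike.val_smul, smul_eq_mul, map_sub, map_add, map_mul, ht]
    ring
  have he₀ : ∀ a, e (σ a) = 0 := fun a => by
    refine (key _ _ 0 (zero_mem _) ?_).trans (map_zero κ)
    refine Ideal.Quotient.eq.mp ?_
    rw [map_sub, ht, map_zero, sub_eq_zero]
    exact (s.commutes a).symm
  obtain ⟨r, hr, -⟩ := hu P e he he₀
  refine ⟨r, hP.hom_ext hκ fun a => ?_⟩
  rw [LinearMap.comp_apply, hφ, hr]
  refine key _ _ a.1 a.2 ?_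
  refine Ideal.Quotient.eq.mp ?_
  rw [map_sub, ht, show π a.1 = 0 from a.2, map_zero, sub_zero]

/-- If `B` is formally smooth over `A`, then `ker (π σ) / (ker (π σ))² → ker π / (ker π)²` is injective. -/
theorem injective_of_formallySmooth (hA : Function.Surjective (π.comp σ))
    (hfs : letI := σ.toAlgebra; Algebra.FormallySmooth A B)
    (hP : IsKerUniv π κ) {P' : Type u} [AddCommGroup P'] [Module C P'] {κ' : RingHom.ker (π.comp σ) →+ P'}
    (hκ' : ∀ b a, κ' (b • a) = π (σ b) • κ' a) (hP' : IsKerUniv (π.comp σ) κ') {ψ : P' →ₗ[C] P}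
    (hψ : ∀ a, ∃ h : σ a.1 ∈ RingHom.ker π, ψ (κ' a) = κ ⟨σ a.1, h⟩) : Function.Injective ψ := by
  let := σ.toAlgebra
  let := (π.comp σ).toAlgebra
  let πa : B →ₐ[A] C := { toRingHom := π, commutes' := fun _ => rfl }
  let J : Ideal A := RingHom.ker (π.comp σ)
  let q : A ⧸ J ^ 2 →ₐ[A] C := Ideal.Quotient.liftₐ (J ^ 2) (Algebra.ofId A C) fun a ha =>
    (Ideal.pow_le_self two_ne_zero ha : a ∈ J)
  have hq : Function.Surjective q := fun c => by
    obtain ⟨b, rfl⟩ := hA c
    exact ⟨Ideal.Quotient.mk _ b, rfl⟩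
  have hnil : IsNilpotent (RingHom.ker q) := by
    refine ⟨2, le_bot_iff.mp ?_⟩
    have hle : RingHom.ker q ≤ J.map (Ideal.Quotient.mk (J ^ 2)) := fun x hx => by
      obtain ⟨b, rfl⟩ := Ideal.Quotient.mk_surjective x
      exact Ideal.mem_map_of_mem _ hx
    refine (Ideal.pow_right_mono hle 2).trans ?_
    rw [← Ideal.map_pow, Ideal.map_quotient_self]
  let θ : B →ₐ[A] A ⧸ J ^ 2 := Algebra.FormallySmooth.liftOfSurjective πa q hq hnil
  have hθ : ∀ b, q (θ b) = π b := fun b =>
    Algebra.FormallySmooth.liftOfSurjective_apply πa q hq hnil b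
  choose t ht using fun b => Ideal.Quotient.mk_surjective (θ b)
  have hπt : ∀ b, π (σ (t b)) = π b := fun b => by
    have h := hθ b
    rw [← ht b] at h
    exact h
  have key : ∀ x (hx : x ∈ RingHom.ker (π.comp σ)) y (hy : y ∈ RingHom.ker (π.comp σ)), x - y ∈ J ^ 2 →
      κ' ⟨x, hx⟩ = κ' ⟨y, hy⟩ := fun x hx y hy h => by
    rw [← sub_eq_zero, ← map_sub]
    exact κ_eq_zero_of_mem_sq (π := π.comp σ) hκ' (sub_mem hx hy) (by rwa [pow_two] at h)
  let k : RingHom.ker π →+ P' := AddMonoidHom.mk' (fun b => κ' ⟨t b.1, (hπt b.1).trans b.2⟩) fun x y => by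
    rw [← map_add]
    refine key _ _ _ _ (Ideal.Quotient.eq.mp ?_)
    simp only [map_add, ht, Submodule.coe_add]
  have hk : ∀ b a, k (b • a) = π b • k a := fun b a => by
    rw [← hπt b, show π (σ (t b)) • k a = κ' (t b • ⟨t a.1, (hπt a.1).trans a.2⟩) from (hκ' _ _).symm]
    refine key _ _ _ _ (Ideal.Quotient.eq.mp ?_)
    simp only [map_mul, ht, smul_eq_mul, SetLike.val_smul]
  obtain ⟨l, hl, -⟩ := hP P' k hk
  have hlψ : l.comp ψ = LinearMap.id := hP'.hom_ext (fun b a => hκ' b a) fun a => by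
    obtain ⟨h, he⟩ := hψ a
    rw [LinearMap.comp_apply, he, hl]
    refine key _ _ a.1 a.2 (Ideal.Quotient.eq.mp ?_)
    rw [ht]
    exact θ.commutes a.1
  exact fun x y hxy => by rw [← LinearMap.id_apply (R := C) x, ← LinearMap.id_apply (R := C) y, ← hlψ, LinearMap.comp_apply, hxy]; rfl

end Groth.Agent.Omega.StalkAlg

end
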