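import Groth.Agent.Omega.ConormalSeq
import Groth.Agent.Omega.StalkSplit
import Groth.Agent.Omega.StalkSmooth

/-!
# Split injectivity in the conormal sequence
-/

set_option autoImplicit false

universe u

open CategoryTheory CategoryTheory.Limits AlgebraicGeometry TopologicalSpace Opposite

noncomputable section

namespace Groth.Agent.Omega.ConormalSplit

open OmegaSh Basic Stalks StalkConormal StalkSeq StalkAlg
open Groth.Agent.PullStalk.Sky Groth.Agent.PullStalk.Exact Groth.Agent.PullStalk.Basic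

variable {X Z X' Z' : Scheme.{u}}

theorem bijective_stalkSpecializes (Y : Scheme.{u}) {a b : Y} (h : a = b) :
    Function.Bijective (Y.presheaf.stalkSpecializes (Specializes.of_eq h)) := by
  subst h
  rw [TopCat.Presheaf.stalkSpecializes_refl]
  exact Function.bijective_id

/-- The pullback of a conormal sheaf along a morphism that is an isomorphism on a stalk. -/
theorem exists_conormal_pull (i' : Z' ⟶ X') (gZ : Z ⟶ Z') (z : Z)
    (hg : Function.Bijective (gZ.stalkMap z)) (ρ : X'.presheaf.stalk (i' (gZ z)) →+* Z.presheaf.stalk z)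
    (hρ : ∀ a, ρ a = gZ.stalkMap z (i'.stalkMap (gZ z) a))
    (κ' : RingHom.ker (i'.stalkMap (gZ z)).hom →+ (Omega.conormal i').presheaf.stalk (gZ z))
    (hκ' : ∀ b a, κ' (b • a) = i'.stalkMap (gZ z) b • κ' a)
    (hP : IsKerUniv (i'.stalkMap (gZ z)).hom κ') :
    ∃ κ'' : RingHom.ker ρ →+ ((Scheme.Modules.pullback gZ).obj (Omega.conormal i')).presheaf.stalk z,
      (∀ b a, κ'' (b • a) = ρ b • κ'' a) ∧
      (∀ a, ∃ h : a.1 ∈ RingHom.ker (i'.stalkMap (gZ z)).hom,
        κ'' a = unitStalkHom gZ (Omega.conormal i') z (κ' ⟨a.1, h⟩)) ∧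
      IsKerUniv ρ κ'' := by
  have hker : ∀ a, a ∈ RingHom.ker ρ ↔ a ∈ RingHom.ker (i'.stalkMap (gZ z)).hom := fun a => by
    rw [RingHom.mem_ker, RingHom.mem_ker, hρ, map_eq_zero_iff _ hg.1]
  let incl : RingHom.ker ρ →+ RingHom.ker (i'.stalkMap (gZ z)).hom :=
    AddMonoidHom.mk' (fun a => ⟨a.1, (hker a.1).mp a.2⟩) fun _ _ => rfl
  let u := (unitStalkHom gZ (Omega.conormal i') z).hom
  refine ⟨u.comp (κ'.comp incl), fun b a => ?_, fun a => ⟨_, rfl⟩, fun N _ _ k hk => ?_⟩
  · change u (κ' (b • incl a)) = _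
    rw [hκ', hρ]
    exact unitStalkHom_smul gZ _ z _ _
  let : Module (Z'.presheaf.stalk (gZ z)) N := Module.compHom N (gZ.stalkMap z).hom
  let incl' : RingHom.ker (i'.stalkMap (gZ z)).hom →+ RingHom.ker ρ :=
    AddMonoidHom.mk' (fun a => ⟨a.1, (hker a.1).mpr a.2⟩) fun _ _ => rfl
  obtain ⟨k', hk', hk'u⟩ := hP N (k.comp incl') fun b a => by
    change k (b • incl' a) = gZ.stalkMap z (i'.stalkMap (gZ z) b) • k (incl' a)
    rw [hk, hρ]
  obtain ⟨l, hl, hlu⟩ := existsUnique_unitStalk gZ z (Omega.conormal i') N k'.toAddMonoidHom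
    fun b m => map_smul k' b m
  refine ⟨l, fun a => (hl _).trans (hk' (incl a)), fun l' hl' => hlu l' fun m => ?_⟩
  let k'' : (Omega.conormal i').presheaf.stalk (gZ z) →ₗ[Z'.presheaf.stalk (gZ z)] N :=
    { toFun := fun m => l' (u m)
      map_add' := fun a b => by simp
      map_smul' := fun b m => by
        rw [RingHom.id_apply]
        exact (congrArg l' (unitStalkHom_smul gZ _ z b m)).trans (map_smul l' _ _) }
  exact congr($(hk'u k'' fun a => hl' (incl' a)) m)

/-- The conormal map of an immersion of a formally smooth scheme is injective. -/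
theorem mono_conormalDiff {Y : Scheme.{u}} {i : Z ⟶ X} [IsImmersion i] [QuasiCompact i] {f : X ⟶ Y}
    (hf : MoreMor.IsFormallySmoothHom (i ≫ f)) {Ω : X.Modules} {d : Der f Ω} (hd : IsUniversal d)
    {φ : Omega.conormal i ⟶ (Scheme.Modules.pullback i).obj Ω} (hφ : IsConormalDiff i d φ) :
    Mono φ := by
  refine mono_of_stalk fun z => ?_
  obtain ⟨δ, -, -, hδ, hu⟩ := exists_pullDer i z hd
  obtain ⟨κ, hsmul, hκ, hP⟩ := exists_conormal i z i.isEmbedding.isInducing
  have h : ((i ≫ f).stalkMap z).hom.FormallySmooth := StalkSmooth.formallySmooth_stalkMap hf z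
  rw [Scheme.Hom.stalkMap_comp] at h
  obtain ⟨r, hr⟩ := retraction_of_formallySmooth (π := (i.stalkMap z).hom)
    (σ := (f.stalkMap (i z)).hom) (i.stalkMap_surjective z) h hsmul hP hu
    (conormalDiff_stalk i.isEmbedding.isInducing hφ z κ hκ δ hδ)
  exact Function.LeftInverse.injective (g := r) fun t => congr($hr t)

/-- For a smooth morphism, the first map of the conormal sequence is injective. -/
theorem mono_conormalMap {Y : Scheme.{u}} {p : X ⟶ Y} [Smooth p] {i : Z ⟶ X} {j : Z ⟶ Y}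
    [IsImmersion i] [IsImmersion j] [QuasiCompact i] [QuasiCompact j]
    {ψ : (Scheme.Modules.pullback (𝟙 Z)).obj (Omega.conormal j) ⟶ Omega.conormal i}
    (hψ : IsConormalMap i j p (𝟙 Z) ψ) : Mono ψ := by
  refine mono_of_stalk fun z => ?_
  obtain ⟨κ, hsmul, hκ, hP⟩ := exists_conormal i z i.isEmbedding.isInducing
  obtain ⟨κ', hsmul', hκ', hP'⟩ := exists_conormal j ((𝟙 Z : Z ⟶ Z) z) j.isEmbedding.isInducing
  let π := (i.stalkMap z).hom
  let s := (σ hψ.1 z).hom
  obtain ⟨κ'', hsmul'', hκ'', hP''⟩ := exists_conormal_pull j (𝟙 Z) z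
    (ConormalSeq.stalkMap_id_bijective z) (π.comp s) (stalkMap_σ hψ.1 z) κ' hsmul' hP'
  have hA : Function.Surjective (π.comp s) := by
    intro c
    obtain ⟨c', hc'⟩ := (ConormalSeq.stalkMap_id_bijective z).2 c
    obtain ⟨a, ha⟩ := j.stalkMap_surjective ((𝟙 Z : Z ⟶ Z) z) c'
    exact ⟨a, (stalkMap_σ hψ.1 z a).trans ((congrArg _ ha).trans hc')⟩
  have hfs : s.FormallySmooth := by
    have h : (p.stalkMap (i z)).hom.FormallySmooth := StalkSmooth.formallySmooth_stalkMap_of_smooth p (i z)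
    let w : (𝟙 Z) ≫ j = i ≫ p := hψ.1
    have e₁ : j ((𝟙 Z : Z ⟶ Z) z) = p (i z) := congr($w z)
    refine RingHom.FormallySmooth.stableUnderComposition _ _ ?_ h
    exact RingHom.FormallySmooth.of_bijective (bijective_stalkSpecializes Y e₁.symm)
  refine injective_of_formallySmooth (σ := s) (π := π) hA hfs hP hsmul'' hP'' fun a => ⟨a.2, ?_⟩
  obtain ⟨h, he⟩ := hκ'' a
  rw [he]
  exact conormalMap_stalk i.isEmbedding.isInducing j.isEmbedding.isInducing hψ z κ hκ κ' hκ' ⟨a.1, h⟩ a.2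

end Groth.Agent.Omega.ConormalSplit

end
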