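import Groth.Agent.Omega.Stalks
import Groth.Agent.Omega.Transitivity

/-!
# The conormal sequence of a section
-/

set_option autoImplicit false

universe u

open CategoryTheory CategoryTheory.Limits AlgebraicGeometry TopologicalSpace Opposite

noncomputable section

namespace Groth.Agent.Omega.Retraction

open OmegaSh Basic Stalks

variable {Z X S : Scheme.{u}} (f : X ⟶ S) (i : Z ⟶ X) [QuasiCompact i] (g : X ⟶ Z)
  (hgi : i ≫ g = 𝟙 Z) (hgS : g ≫ i ≫ f = f)

/-- The neighbourhood on which `s - g♯ (i♯ s)` makes sense. -/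
def nb (U : X.Opens) : X.Opens := U ⊓ g ⁻¹ᵁ (i ⁻¹ᵁ U)

theorem nb_le_left (U : X.Opens) : nb i g U ≤ U := inf_le_left

theorem nb_le_right (U : X.Opens) : nb i g U ≤ g ⁻¹ᵁ (i ⁻¹ᵁ U) := inf_le_right

theorem nb_mono {U V : X.Opens} (e : V ≤ U) : nb i g V ≤ nb i g U :=
  inf_le_inf e (g.preimage_mono (i.preimage_mono e))

include hgi in
theorem preimage_preimage (W : Z.Opens) : i ⁻¹ᵁ (g ⁻¹ᵁ W) = W := by
  rw [← Scheme.Hom.comp_preimage, hgi]
  rfl

include hgi in
theorem le_preimage_nb (U : X.Opens) : i ⁻¹ᵁ U ≤ i ⁻¹ᵁ (nb i g U) :=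
  le_inf le_rfl (le_of_eq (preimage_preimage i g hgi (i ⁻¹ᵁ U)).symm)

include hgi in
theorem app_appLE (W : Z.Opens) (V : X.Opens) (e : V ≤ g ⁻¹ᵁ W) (t : Γ(Z, W)) :
    i.app V (g.appLE W V e t) =
      Z.presheaf.map (homOfLE ((i.preimage_mono e).trans (le_of_eq (preimage_preimage i g hgi W)))).op t := by
  have h₁ : i.app V (g.appLE W V e t) = (g.appLE W V e ≫ i.appLE V (i ⁻¹ᵁ V) le_rfl) t := by
    rw [Scheme.Hom.app_eq_appLE]
    rfl
  rw [h₁, Scheme.Hom.appLE_comp_appLE, appLE_congr_hom hgi]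
  rfl

/-- `s - g♯ (i♯ s)`. -/
def diff (U : X.Opens) (s : Γ(X, U)) : Γ(X, nb i g U) :=
  X.presheaf.map (homOfLE (nb_le_left i g U)).op s - g.appLE (i ⁻¹ᵁ U) (nb i g U) (nb_le_right i g U) (i.app U s)

include hgi in
theorem app_diff (U : X.Opens) (s : Γ(X, U)) : i.app (nb i g U) (diff i g U s) = 0 := by
  rw [diff, map_sub, app_appLE i g hgi, sub_eq_zero]
  exact congr($(i.naturality (homOfLE (nb_le_left i g U)).op) s)

/-- `s - g♯ (i♯ s)` as a section of the ideal. -/
def lift (U : X.Opens) (s : Γ(X, U)) : Γ(ClSub.idealMod i.ker, nb i g U) :=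
  (exists_idealSect_eq i _ _ (app_diff i g hgi U s)).choose

theorem idealSect_lift (U : X.Opens) (s : Γ(X, U)) :
    idealSect i.ker _ (lift i g hgi U s) = diff i g U s :=
  (exists_idealSect_eq i _ _ (app_diff i g hgi U s)).choose_spec

theorem lift_add (U : X.Opens) (a b : Γ(X, U)) :
    lift i g hgi U (a + b) = lift i g hgi U a + lift i g hgi U b := by
  apply idealSect_injective
  rw [map_add, idealSect_lift, idealSect_lift, idealSect_lift, diff, diff, diff, map_add, map_add, map_add]
  abel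

theorem lift_mul (U : X.Opens) (a b : Γ(X, U)) :
    lift i g hgi U (a * b) =
      X.presheaf.map (homOfLE (nb_le_left i g U)).op a • lift i g hgi U b +
        g.appLE (i ⁻¹ᵁ U) (nb i g U) (nb_le_right i g U) (i.app U b) • lift i g hgi U a := by
  apply idealSect_injective
  rw [map_add, idealSect_smul, idealSect_smul, idealSect_lift, idealSect_lift, idealSect_lift, diff, diff,
    diff, map_mul, map_mul, map_mul]
  ring

theorem lift_map {U V : X.Opens} (e : V ≤ U) (s : Γ(X, U)) :
    lift i g hgi V (X.presheaf.map (homOfLE e).op s) =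
      (ClSub.idealMod i.ker).presheaf.map (homOfLE (nb_mono i g e)).op (lift i g hgi U s) := by
  apply idealSect_injective
  rw [idealSect_map, idealSect_lift, idealSect_lift, diff, diff, map_sub]
  congr 1
  · rw [← ConcreteCategory.comp_apply, ← ConcreteCategory.comp_apply, ← X.presheaf.map_comp,
      ← X.presheaf.map_comp]
    rfl
  · have h : i.app V (X.presheaf.map (homOfLE e).op s) =
        Z.presheaf.map (homOfLE (i.preimage_mono e)).op (i.app U s) :=
      congr($(i.naturality (homOfLE e).op) s)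
    rw [h]
    exact (congr($(g.map_appLE (nb_le_right i g V) (homOfLE (i.preimage_mono e)).op) (i.app U s))).trans
      (congr($(g.appLE_map (nb_le_right i g U) (homOfLE (nb_mono i g e)).op) (i.app U s))).symm

include hgS in
theorem lift_app (V : S.Opens) (c : Γ(S, V)) : lift i g hgi (f ⁻¹ᵁ V) (f.app V c) = 0 := by
  apply idealSect_injective
  rw [map_zero, idealSect_lift, diff, sub_eq_zero]
  symm
  refine (congr($((Scheme.Hom.comp_appLE g (i ≫ f) V (nb i g (f ⁻¹ᵁ V))
    (nb_le_right i g (f ⁻¹ᵁ V))).symm) c)).trans ?_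
  exact congr($(appLE_congr_hom hgS _ _) c)

/-- The derivation `s ↦ [s - g♯ (i♯ s)]`. -/
def dSect (U : X.Opens) (s : Γ(X, U)) : Γ(Omega.conormal i, i ⁻¹ᵁ U) :=
  ((Scheme.Modules.pullback i).obj (ClSub.idealMod i.ker)).presheaf.map
    (homOfLE (le_preimage_nb i g hgi U)).op
    (pullSect i (ClSub.idealMod i.ker) (nb i g U) (lift i g hgi U s))

theorem dSect_mul (U : X.Opens) (a b : Γ(X, U)) :
    dSect i g hgi U (a * b) = i.app U a • dSect i g hgi U b + i.app U b • dSect i g hgi U a := by
  rw [dSect, lift_mul, map_add, pullSect_smul, pullSect_smul, map_add]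
  refine congr_arg₂ (· + ·) ?_ ?_
  · refine (Scheme.Modules.map_smul _ _ _ _).trans ?_
    congr 1
    have h := congr($(i.naturality (homOfLE (nb_le_left i g U)).op) a)
    refine (congrArg _ h).trans ?_
    change Z.presheaf.map _ (Z.presheaf.map _ (i.app U a)) = _
    rw [← ConcreteCategory.comp_apply, ← Z.presheaf.map_comp]
    exact congr($(Z.presheaf.map_id _) _)
  · refine (Scheme.Modules.map_smul _ _ _ _).trans ?_
    congr 1
    rw [app_appLE i g hgi, ← ConcreteCategory.comp_apply, ← Z.presheaf.map_comp]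
    exact congr($(Z.presheaf.map_id _) _)

theorem dSect_map {U V : X.Opens} (e : V ≤ U) (s : Γ(X, U)) :
    dSect i g hgi V (X.presheaf.map (homOfLE e).op s) =
      (Omega.conormal i).presheaf.map (homOfLE (i.preimage_mono e)).op (dSect i g hgi U s) := by
  rw [dSect, dSect, lift_map, pullSect_map]
  refine (resM_resM _ _ _).trans ?_
  exact (resM_resM (homOfLE (le_preimage_nb i g hgi U)) (homOfLE (i.preimage_mono e)) _).symm

/-- `s ↦ [s - g♯ (i♯ s)]` as a derivation into the direct image. -/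
def der : Der f ((Scheme.Modules.pushforward i).obj (Omega.conormal i)) where
  d {U} := AddMonoidHom.mk' (fun s => (dSect i g hgi U.unop s :
      Γ((Scheme.Modules.pushforward i).obj (Omega.conormal i), U.unop))) fun a b => by
    change dSect i g hgi U.unop (a + b) = (dSect i g hgi U.unop a + dSect i g hgi U.unop b :
      Γ(Omega.conormal i, i ⁻¹ᵁ U.unop))
    rw [dSect, lift_add, map_add, map_add]
    rfl
  d_mul {U} a b := dSect_mul i g hgi U.unop a b
  d_map {_ _} e s := dSect_map i g hgi e.unop.le s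
  d_app {V} c := by
    change dSect i g hgi (f ⁻¹ᵁ V.unop) (f.app V.unop c) = 0
    rw [dSect, lift_app f i g hgi hgS, map_zero, map_zero]
    rfl

theorem der_app_idealSect (U : X.Opens) (s : Γ(ClSub.idealMod i.ker, U)) :
    dSect i g hgi U (idealSect i.ker U s) = conormalSect i U s := by
  have h : lift i g hgi U (idealSect i.ker U s) =
      (ClSub.idealMod i.ker).presheaf.map (homOfLE (nb_le_left i g U)).op s := by
    apply idealSect_injective
    rw [idealSect_lift, idealSect_map, diff, app_idealSect, map_zero, sub_zero]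
  rw [dSect, h, pullSect_map]
  exact (resM_resM _ _ _).trans (congr($((Omega.conormal i).presheaf.map_id _) _))

theorem hom_ext_conormal {M : Z.Modules} {α β : Omega.conormal i ⟶ M}
    (h : ∀ U s, α.app (i ⁻¹ᵁ U) (conormalSect i U s) = β.app (i ⁻¹ᵁ U) (conormalSect i U s)) : α = β := by
  refine ((Scheme.Modules.pullbackPushforwardAdjunction i).homEquiv _ _).injective
    (Scheme.Modules.hom_ext _ _ fun U => ConcreteCategory.hom_ext _ _ fun s => ?_)
  exact (homEquiv_app i α U s).trans ((h U s).trans (homEquiv_app i β U s).symm)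

variable {f i g}

theorem splitExact {ΩX : X.Modules} {dX : Der f ΩX} (hX : IsUniversal dX)
    {ΩZ : Z.Modules} {dZ : Der (i ≫ f) ΩZ} (hZ : IsUniversal dZ)
    {φ : Omega.conormal i ⟶ (Scheme.Modules.pullback i).obj ΩX} (hφ : IsConormalDiff i dX φ)
    {c : (Scheme.Modules.pullback i).obj ΩX ⟶ ΩZ} (hc : IsDiffCompat i dX dZ c)
    (hgi : i ≫ g = 𝟙 Z) (hgS : g ≫ i ≫ f = f) :
    ∃ w : φ ≫ c = 0, (ShortComplex.mk φ c w).Exact ∧
      (∃ r : (Scheme.Modules.pullback i).obj ΩX ⟶ Omega.conormal i, φ ≫ r = 𝟙 _) ∧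
      ∃ σ : ΩZ ⟶ (Scheme.Modules.pullback i).obj ΩX, σ ≫ c = 𝟙 _ := by
  let r : (Scheme.Modules.pullback i).obj ΩX ⟶ Omega.conormal i :=
    ((Scheme.Modules.pullbackPushforwardAdjunction i).homEquiv _ _).symm (desc hX (der f i g hgi hgS))
  have hr : ∀ U s, r.app (i ⁻¹ᵁ U) (pullSect i ΩX U (dX.app U s)) = dSect i g hgi U s := fun U s => by
    refine (homEquiv_app i r U _).symm.trans ?_
    rw [Equiv.apply_symm_apply]
    exact desc_app hX _ U s
  -- the section
  let D : Der (i ≫ f) ((Scheme.Modules.pushforward (𝟙 Z)).obj ((Scheme.Modules.pullback i).obj ΩX)) :=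
    { d := fun {W} => AddMonoidHom.mk' (fun t =>
          (((Scheme.Modules.pullback i).obj ΩX).presheaf.map
            (homOfLE (le_of_eq (preimage_preimage i g hgi W.unop).symm)).op
            (pullSect i ΩX (g ⁻¹ᵁ W.unop) (dX.app (g ⁻¹ᵁ W.unop) (g.app W.unop t))) :
            Γ((Scheme.Modules.pullback i).obj ΩX, W.unop))) fun a b => by simp only [map_add]; rfl
      d_mul := fun {W} a b => by
        change ((Scheme.Modules.pullback i).obj ΩX).presheaf.map _
          (pullSect i ΩX (g ⁻¹ᵁ W.unop) (dX.app (g ⁻¹ᵁ W.unop) (g.app W.unop (a * b)))) = _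
        rw [map_mul, der_mul, map_add, pullSect_smul, pullSect_smul, map_add]
        refine congr_arg₂ (· + ·) ?_ ?_ <;>
        · refine (Scheme.Modules.map_smul _ _ _ _).trans ?_
          refine congrArg (· • _) ?_
          rw [Scheme.Hom.app_eq_appLE g, app_appLE i g hgi, ← ConcreteCategory.comp_apply,
            ← Z.presheaf.map_comp]
          exact congr($(Z.presheaf.map_id _) _)
      d_map := fun {W W'} e t => by
        change ((Scheme.Modules.pullback i).obj ΩX).presheaf.map _
          (pullSect i ΩX (g ⁻¹ᵁ W'.unop) (dX.app (g ⁻¹ᵁ W'.unop)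
            (g.app W'.unop (Z.presheaf.map e t)))) = _
        rw [show g.app W'.unop (Z.presheaf.map e t) =
              X.presheaf.map (homOfLE (g.preimage_mono e.unop.le)).op (g.app W.unop t) from
              congr($(g.naturality e) t), der_map, pullSect_map]
        refine (resM_resM _ _ _).trans ?_
        exact (resM_resM (homOfLE (le_of_eq (preimage_preimage i g hgi W.unop).symm)) e.unop _).symm
      d_app := fun {V} c => by
        change ((Scheme.Modules.pullback i).obj ΩX).presheaf.map _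
          (pullSect i ΩX (g ⁻¹ᵁ ((i ≫ f) ⁻¹ᵁ V.unop))
            (dX.app (g ⁻¹ᵁ ((i ≫ f) ⁻¹ᵁ V.unop)) (g.app _ ((i ≫ f).app V.unop c)))) = 0
        have h₁ : g.app ((i ≫ f) ⁻¹ᵁ V.unop) ((i ≫ f).app V.unop c) =
            f.appLE V.unop _ (le_of_eq (by rw [← Scheme.Hom.comp_preimage, hgS])) c :=
          (congr($(Scheme.Hom.app_eq_appLE (g ≫ i ≫ f)) c)).trans congr($(appLE_congr_hom hgS _ _) c)
        rw [h₁, der_appLE, map_zero, map_zero] }
  let σ : ΩZ ⟶ (Scheme.Modules.pullback i).obj ΩX :=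
    desc hZ D ≫ (Scheme.Modules.pushforwardId Z).hom.app _
  have hσ : ∀ W t, σ.app W (dZ.app W t) = ((Scheme.Modules.pullback i).obj ΩX).presheaf.map
      (homOfLE (le_of_eq (preimage_preimage i g hgi W).symm)).op
      (pullSect i ΩX (g ⁻¹ᵁ W) (dX.app (g ⁻¹ᵁ W) (g.app W t))) := fun W t => by
    change ((Scheme.Modules.pushforwardId Z).hom.app _).app W ((desc hZ D).app W (dZ.app W t)) = _
    rw [desc_app]
    rfl
  have hw : φ ≫ c = 0 := hom_ext_conormal i fun U s => by
    change c.app _ (φ.app _ (conormalSect i U s)) = 0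
    rw [hφ, hc, app_idealSect, map_zero]
  have hφr : φ ≫ r = 𝟙 _ := hom_ext_conormal i fun U s => by
    change r.app _ (φ.app _ (conormalSect i U s)) = _
    rw [hφ, hr, der_app_idealSect]
    rfl
  have hσc : σ ≫ c = 𝟙 _ := hom_ext_of_universal hZ fun W t => by
    change c.app W (σ.app W (dZ.app W t)) = dZ.app W t
    rw [hσ]
    refine (congr($(c.mapPresheaf.naturality
      (homOfLE (le_of_eq (preimage_preimage i g hgi W).symm)).op) _)).trans ?_
    change ΩZ.presheaf.map _ (c.app _ _) = _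
    rw [hc, ← der_map]
    congr 1
    rw [Scheme.Hom.app_eq_appLE g, app_appLE i g hgi, ← ConcreteCategory.comp_apply,
      ← Z.presheaf.map_comp]
    exact congr($(Z.presheaf.map_id _) t)
  have hid : r ≫ φ + c ≫ σ = 𝟙 _ := Transitivity.hom_ext_pullback hX fun U s => by
    change φ.app _ (r.app _ (pullSect i ΩX U (dX.app U s))) + σ.app _ (c.app _ _) = _
    have hc' := hc U s
    rw [hr, hc', hσ, dSect]
    refine (congrArg (· + _) (congr($(φ.mapPresheaf.naturality
      (homOfLE (le_preimage_nb i g hgi U)).op) (conormalSect i (nb i g U) (lift i g hgi U s))))).trans ?_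
    change _ + _ = pullSect i ΩX U (dX.app U s)
    change ((Scheme.Modules.pullback i).obj ΩX).presheaf.map _
      (φ.app _ (conormalSect i (nb i g U) (lift i g hgi U s))) + _ = _
    have hV : i ⁻¹ᵁ U ≤ i ⁻¹ᵁ (nb i g U) := le_preimage_nb i g hgi U
    rw [hφ, idealSect_lift, diff, map_sub, map_sub, map_sub, Scheme.Hom.app_eq_appLE g,
      show g.appLE (i ⁻¹ᵁ U) (nb i g U) (nb_le_right i g U) (i.app U s) = X.presheaf.map
        (homOfLE (nb_le_right i g U)).op
          (g.appLE (i ⁻¹ᵁ U) (g ⁻¹ᵁ (i ⁻¹ᵁ U)) le_rfl (i.app U s)) from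
        (congr($(g.appLE_map le_rfl (homOfLE (nb_le_right i g U)).op) _)).symm,
      der_map, der_map, pullSect_map, pullSect_map, resM_resM, resM_resM]
    refine Eq.trans (sub_add_cancel _ _) ?_
    exact congr($(((Scheme.Modules.pullback i).obj ΩX).presheaf.map_id _) _)
  let s : (ShortComplex.mk φ c hw).Splitting :=
    { r := r, s := σ, f_r := hφr, s_g := hσc, id := hid }
  exact ⟨hw, s.exact, ⟨r, hφr⟩, σ, hσc⟩

end Groth.Agent.Omega.Retraction

end
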