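import Groth.Agent.Omega.StalkSeq
import Groth.Agent.Omega.StalkAlg
import Groth.Agent.Omega.Retraction
import Mathlib.CategoryTheory.Abelian.Exact
import Mathlib.AlgebraicGeometry.Morphisms.Immersion

/-!
# The cotangent sequence of an immersion
-/

set_option autoImplicit false

universe u

open CategoryTheory CategoryTheory.Limits AlgebraicGeometry TopologicalSpace Opposite

noncomputable section

namespace Groth.Agent.Omega.StalkAlg

variable {A B C : Type u} [CommRing A] [CommRing B] [CommRing C] {π : B →+* C} {σ : A →+* B}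
  {P Q R : Type u} [AddCommGroup P] [Module C P] [AddCommGroup Q] [Module C Q] [AddCommGroup R] [Module C R]
  {κ : RingHom.ker π →+ P} {δ : B →+ Q} {δC : C →+ R}

/-- `C ⊗ Ω_{B/A} → Ω_{C/A}` is surjective, with kernel generated by `ker π`, for surjective `π`. -/
theorem exact_cotangent (hπ : Function.Surjective π) (hmul : ∀ a b, δ (a * b) = π a • δ b + π b • δ a)
    (hzero : ∀ a, δ (σ a) = 0) (hu : IsDerUniv π σ δ)
    (hmulC : ∀ a b, δC (a * b) = a • δC b + b • δC a) (hzeroC : ∀ a, δC (π (σ a)) = 0)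
    (huC : IsDerUniv (RingHom.id C) (π.comp σ) δC) {φ : P →ₗ[C] Q} (hφ : ∀ a, φ (κ a) = δ a.1)
    {c : Q →ₗ[C] R} (hc : ∀ b, c (δ b) = δC (π b)) :
    Function.Surjective c ∧ LinearMap.ker c ≤ LinearMap.range φ := by
  refine ⟨?_, ?_⟩
  · rw [← LinearMap.range_eq_top]
    have hmk : (LinearMap.range c).mkQ = 0 :=
      huC.hom_ext (by simpa using hmulC) hzeroC fun b => by
        obtain ⟨b, rfl⟩ := hπ b
        exact (Submodule.Quotient.mk_eq_zero _).mpr ⟨δ b, hc b⟩
    rw [← Submodule.ker_mkQ (LinearMap.range c), hmk, LinearMap.ker_zero]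
  let K := LinearMap.range φ
  have key : ∀ b b', π b = π b' → K.mkQ (δ b) = K.mkQ (δ b') := fun b b' h => by
    rw [← sub_eq_zero, ← map_sub, ← map_sub]
    refine (Submodule.Quotient.mk_eq_zero K).mpr ⟨κ ⟨b - b', ?_⟩, hφ _⟩
    rw [RingHom.mem_ker, map_sub, h, sub_self]
  let t : C → B := Function.surjInv hπ
  have ht : ∀ x, π (t x) = x := Function.surjInv_eq hπ
  let e : C →+ Q ⧸ K := AddMonoidHom.mk' (fun x => K.mkQ (δ (t x))) fun x y => by
    rw [← map_add, ← map_add]
    exact key _ _ (by simp [ht])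
  have he : ∀ x y, e (x * y) = x • e y + y • e x := fun x y => by
    change K.mkQ (δ (t (x * y))) = x • K.mkQ (δ (t y)) + y • K.mkQ (δ (t x))
    rw [key _ (t x * t y) (by simp [ht]), hmul, map_add, map_smul, map_smul, ht, ht]
  obtain ⟨l, hl, -⟩ := huC (Q ⧸ K) e (by simpa using he) fun a => by
    change K.mkQ (δ (t (π (σ a)))) = 0
    rw [key _ (σ a) (ht _), hzero, map_zero]
  have hlc : l ∘ₗ c = K.mkQ := hu.hom_ext hmul hzero fun b => by
    rw [LinearMap.comp_apply, hc, hl]
    exact key _ _ (ht _)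
  intro p hp
  rw [← (LinearMap.range φ).ker_mkQ, LinearMap.mem_ker]
  change K.mkQ p = 0
  rw [← hlc]
  simp [LinearMap.mem_ker.mp hp]

end Groth.Agent.Omega.StalkAlg

namespace Groth.Agent.Omega.CotangentSeq

open OmegaSh Basic Stalks StalkConormal StalkSeq StalkAlg
open Groth.Agent.PullStalk.Sky Groth.Agent.PullStalk.Exact Groth.Agent.PullStalk.Basic

variable {X Y Z : Scheme.{u}} {f : Y ⟶ Z} {j : X ⟶ Y} [IsImmersion j] [QuasiCompact j]

theorem exact_and_epi {ΩY : Y.Modules} {dY : Der f ΩY} (hY : IsUniversal dY)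
    {ΩX : X.Modules} {dX : Der (j ≫ f) ΩX} (hX : IsUniversal dX)
    {φ : Omega.conormal j ⟶ (Scheme.Modules.pullback j).obj ΩY} (hφ : IsConormalDiff j dY φ)
    {c : (Scheme.Modules.pullback j).obj ΩY ⟶ ΩX} (hc : IsDiffCompat j dY dX c) :
    ∃ w : φ ≫ c = 0, (ShortComplex.mk φ c w).Exact ∧ Epi c := by
  have hj := j.isEmbedding.isInducing
  have key : ∀ x, Function.Surjective (stalkLin c x) ∧
      LinearMap.ker (stalkLin c x) ≤ LinearMap.range (stalkLin φ x) := by
    intro x
    obtain ⟨δ, hmul, hzero, hδ, hu⟩ := exists_pullDer j x hY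
    obtain ⟨κ, -, hκ, -⟩ := exists_conormal j x hj
    obtain ⟨δC, hmulC, hzeroC, hδC, huC⟩ := exists_stalk_universal hX x
    have hcomp : ∀ a, (j ≫ f).stalkMap x a = j.stalkMap x (f.stalkMap (j x) a) := fun a =>
      congr($(Scheme.Hom.stalkMap_comp j f x) a)
    refine exact_cotangent (π := (j.stalkMap x).hom) (σ := (f.stalkMap (j x)).hom) (j.stalkMap_surjective x)
      hmul hzero hu hmulC (fun a => (congrArg δC (hcomp a)).symm.trans (hzeroC a)) ?_
      (conormalDiff_stalk hj hφ x κ hκ δ hδ) ?_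
    · intro N _ _ e he he₀
      exact huC N e (by simpa using he) fun a => (congrArg e (hcomp a)).trans (he₀ a)
    · intro b
      obtain ⟨U, hx, s, rfl⟩ := Y.presheaf.exists_germ_eq (x := j x) b
      rw [hδ U hx s]
      refine (stalkLin_germ c _ _ _ _).trans ((congrArg _ (hc U s)).trans ?_)
      exact (hδC (j ⁻¹ᵁ U) hx _).symm.trans (congrArg δC (Scheme.Hom.germ_stalkMap_apply j U x hx s).symm)
  have w : φ ≫ c = 0 := Retraction.hom_ext_conormal j fun U s => by
    change c.app _ (φ.app _ (conormalSect j U s)) = 0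
    rw [hφ, hc, app_idealSect, map_zero]
  exact ⟨w, exact_of_stalk _ fun x => (key x).2, epi_of_stalk fun x => (key x).1⟩

theorem epi_and_image_eq_kernel {ΩY : Y.Modules} {dY : Der f ΩY} (hY : IsUniversal dY)
    {ΩX : X.Modules} {dX : Der (j ≫ f) ΩX} (hX : IsUniversal dX)
    {φ : Omega.conormal j ⟶ (Scheme.Modules.pullback j).obj ΩY} (hφ : IsConormalDiff j dY φ)
    {c : (Scheme.Modules.pullback j).obj ΩY ⟶ ΩX} (hc : IsDiffCompat j dY dX c) :
    Epi c ∧ imageSubobject φ = kernelSubobject c := by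
  obtain ⟨w, hex, hepi⟩ := exact_and_epi hY hX hφ hc
  exact ⟨hepi, (ShortComplex.exact_iff_image_eq_kernel _).mp hex⟩

end Groth.Agent.Omega.CotangentSeq

end
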