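import Groth.Agent.QCoh.Exact
import Groth.Agent.Props.QProj
import Groth.Agent.PinchLib.Modules

/-!
# The kernel of an epimorphism of finite locally free modules
-/

set_option autoImplicit false

universe u

open CategoryTheory CategoryTheory.Limits AlgebraicGeometry TopologicalSpace

noncomputable section

namespace Groth.Agent.Omega.KernelLocFree

variable {X : Scheme.{u}}

/-- Sections of a morphism as a linear map. -/
def appLin {M N : X.Modules} (f : M ⟶ N) (W : X.Opens) : Γ(M, W) →ₗ[Γ(X, W)] Γ(N, W) where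
  toFun := f.app W
  map_add' := map_add _
  map_smul' r m := Scheme.Modules.Hom.app_smul f r m

variable {C M N : X.Modules} (φ : C ⟶ M) (c : M ⟶ N) (w : φ ≫ c = 0)
  (hS : (ShortComplex.mk φ c w).Exact) [Mono φ] [Epi c] [M.IsQuasicoherent] [N.IsQuasicoherent]

include hS

/-- Sections of the sequence over an affine open are short exact. -/
theorem exact_sections {W : X.Opens} (hW : IsAffineOpen W) :
    Function.Injective (appLin φ W) ∧ Function.Exact (appLin φ W) (appLin c W) ∧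
      Function.Surjective (appLin c W) := by
  refine ⟨QCoh.app_injective_of_mono φ W, fun m => ⟨fun h => ?_, ?_⟩, ?_⟩
  · exact QCoh.exists_app_eq_of_app_eq_zero (ShortComplex.mk φ c w) hS W m h
  · rintro ⟨y, rfl⟩
    exact congr(($w).app W y)
  · exact QCoh.app_surjective_of_epi c hW

/-- Free sections of the last two terms give finite projective sections of the first, with the rank adding up. -/
theorem projective_sections {W : X.Opens} (hW : IsAffineOpen W) {m n : ℕ}
    (bM : Module.Basis (Fin m) Γ(X, W) Γ(M, W)) (bN : Module.Basis (Fin n) Γ(X, W) Γ(N, W)) :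
    Module.Finite Γ(X, W) Γ(C, W) ∧ Module.Projective Γ(X, W) Γ(C, W) ∧
      ∀ k, Nonempty (Module.Basis (Fin k) Γ(X, W) Γ(C, W)) → Nontrivial Γ(X, W) → m = k + n := by
  obtain ⟨hi, he, hs⟩ := exact_sections φ c w hS hW
  have : Module.Free Γ(X, W) Γ(M, W) := .of_basis bM
  have : Module.Free Γ(X, W) Γ(N, W) := .of_basis bN
  have : Module.Finite Γ(X, W) Γ(M, W) := .of_basis bM
  obtain ⟨s, hs'⟩ := Module.projective_lifting_property (appLin c W) LinearMap.id hs
  obtain ⟨e, -⟩ := he.splitSurjectiveEquiv hi ⟨s, hs'⟩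
  have hp : Module.Projective Γ(X, W) Γ(C, W) :=
    Module.Projective.of_split (e.symm.toLinearMap ∘ₗ LinearMap.inl Γ(X, W) Γ(C, W) Γ(N, W))
      (LinearMap.fst Γ(X, W) Γ(C, W) Γ(N, W) ∘ₗ e.toLinearMap)
      (LinearMap.ext fun x => by simp)
  have hf : Module.Finite Γ(X, W) Γ(C, W) :=
    .of_surjective (LinearMap.fst Γ(X, W) Γ(C, W) Γ(N, W) ∘ₗ e.toLinearMap)
      (Prod.fst_surjective.comp e.surjective)
  refine ⟨hf, hp, fun k ⟨bC⟩ _ => ?_⟩
  have : Module.Free Γ(X, W) Γ(C, W) := .of_basis bC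
  have : Module.Finite Γ(X, W) Γ(N, W) := .of_basis bN
  have h := e.finrank_eq
  rwa [Module.finrank_prod, Module.finrank_eq_card_basis bM, Module.finrank_eq_card_basis bC,
    Module.finrank_eq_card_basis bN, Fintype.card_fin, Fintype.card_fin, Fintype.card_fin] at h

/-- A point has affine neighbourhoods with free sections on both last terms. -/
theorem isFinLocFree (hM : FlatMod.IsFinLocFree M) (hN : FlatMod.IsFinLocFree N) :
    FlatMod.IsFinLocFree C := by
  have : C.IsQuasicoherent := QCoh.isQuasicoherent_X₁ (ShortComplex.mk φ c w) hS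
  refine PinchLib.isFinLocFree_of_sections fun x => ?_
  obtain ⟨U₁, n₁, hx₁, ⟨e₁⟩⟩ := hM x
  obtain ⟨U₂, n₂, hx₂, ⟨e₂⟩⟩ := hN x
  obtain ⟨W, hW, hxW, hWU⟩ := exists_isAffineOpen_mem_and_subset (U := U₁ ⊓ U₂) (x := x) ⟨hx₁, hx₂⟩
  obtain ⟨bM⟩ := Props.QProj.free_sections_of_restrict_iso M e₁ hW (hWU.trans inf_le_left)
  obtain ⟨bN⟩ := Props.QProj.free_sections_of_restrict_iso N e₂ hW (hWU.trans inf_le_right)
  obtain ⟨_, _, -⟩ := projective_sections φ c w hS hW bM bN
  exact ⟨W, hW, hxW, Module.finitePresentation_of_projective _ _, inferInstance⟩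

/-- The ranks add up. -/
theorem rank_eq [C.IsQuasicoherent] {x : X} {U₀ U₁ U₂ : X.Opens} (h₀ : x ∈ U₀) (h₁ : x ∈ U₁)
    (h₂ : x ∈ U₂) {k m n : ℕ} (e₀ : C.restrict U₀.ι ≅ FlatMod.freeMod U₀ k)
    (e₁ : M.restrict U₁.ι ≅ FlatMod.freeMod U₁ m) (e₂ : N.restrict U₂.ι ≅ FlatMod.freeMod U₂ n) :
    m = k + n := by
  obtain ⟨W, hW, hxW, hWU⟩ := exists_isAffineOpen_mem_and_subset (U := U₀ ⊓ U₁ ⊓ U₂) (x := x)
    ⟨⟨h₀, h₁⟩, h₂⟩
  obtain ⟨bC⟩ := Props.QProj.free_sections_of_restrict_iso C e₀ hW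
    (hWU.trans (inf_le_left.trans inf_le_left))
  obtain ⟨bM⟩ := Props.QProj.free_sections_of_restrict_iso M e₁ hW
    (hWU.trans (inf_le_left.trans inf_le_right))
  obtain ⟨bN⟩ := Props.QProj.free_sections_of_restrict_iso N e₂ hW (hWU.trans inf_le_right)
  obtain ⟨_, _, h⟩ := projective_sections φ c w hS hW bM bN
  exact h k ⟨bC⟩ (X.presheaf.germ W x hxW).hom.domain_nontrivial

end Groth.Agent.Omega.KernelLocFree

end
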