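import Groth.Agent.Omega.KoszulMono
import Groth.Agent.Omega.ConormalProj
import Groth.Agent.RegImm38.Seq
import Groth.Agent.PinchLib.Modules

/-!
# The conormal sheaf of an `H₁`-regular immersion
-/

set_option autoImplicit false
set_option linter.style.haveILetI false

universe u

open CategoryTheory CategoryTheory.Limits AlgebraicGeometry TopologicalSpace
open scoped TensorProduct

noncomputable section

namespace Groth.Agent.Omega.H1Conormal

variable {Y Z : Scheme.{u}} {j : Z ⟶ Y}

theorem hasH1Gen (hj : RegImm.IsRegularImmersion .h1 j) : KoszulMono.HasH1Gen j := fun z => by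
  haveI := hj.1
  obtain ⟨⟨V, hV⟩, hzV, hci, rs, hrs, hker⟩ := hj.2 z
  haveI := hci
  letI : Algebra Γ(Y, V) (Y.presheaf.stalk (j z)) := Y.presheaf.algebra_section_stalk ⟨j z, hzV⟩
  haveI := hV.isLocalization_stalk ⟨j z, hzV⟩
  haveI : Module.Flat Γ(Y, V) (Y.presheaf.stalk (j z)) :=
    IsLocalization.flat _ (hV.primeIdealOf ⟨j z, hzV⟩).asIdeal.primeCompl
  refine ⟨rs.length, fun k => algebraMap Γ(Y, V) (Y.presheaf.stalk (j z)) (rs.get k),
    RegImm38.isH1Regular_of_flat hrs, ?_⟩
  rw [show (fun k => algebraMap Γ(Y, V) (Y.presheaf.stalk (j z)) (rs.get k)) = algebraMap _ _ ∘ rs.get from rfl,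
    Set.range_comp, ← Ideal.map_span, Set.range_list_get,
    ConormalZero.ker_stalkMap_eq j hV (RegImm44.isAffineOpen_preimage j hV) hzV (RegImm44.app_surjective j hV), hker]
  rfl

theorem coeff_mem_of_relation {A : Type u} [CommRing A] {n : ℕ} {f : Fin n → A} (h : CAlgX.IsH1Regular f)
    {a : Fin n → A} (ha : ∑ i, a i * f i = 0) (i : Fin n) : a i ∈ Ideal.span (Set.range f) := by
  have h1 := h a ha
  clear ha
  induction h1 using Submodule.span_induction generalizing i with
  | mem v hv =>
    obtain ⟨p, q, rfl⟩ := hv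
    rw [Pi.sub_apply]
    refine sub_mem ?_ ?_ <;>
    · rw [Pi.single_apply]
      split_ifs
      · exact Ideal.subset_span ⟨_, rfl⟩
      · exact zero_mem _
  | zero => exact zero_mem _
  | add v w _ _ hv hw => exact add_mem (hv i) (hw i)
  | smul c v _ hv => exact Ideal.mul_mem_left _ c (hv i)

theorem finite_free_tensor {A B : Type u} [CommRing A] [CommRing B] [Algebra A B] {n : ℕ} (f : Fin n → A)
    (hf : CAlgX.IsH1Regular f) (K : Ideal A) (hK : Ideal.span (Set.range f) = K)
    (hB : K ≤ RingHom.ker (algebraMap A B)) :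
    Module.Finite B (B ⊗[A] K) ∧ Module.Free B (B ⊗[A] K) := by
  have hmem : ∀ k, f k ∈ K := fun k => hK ▸ Ideal.subset_span ⟨k, rfl⟩
  choose c hc using fun x : K => (Submodule.mem_span_range_iff_exists_fun A).mp (hK.ge x.2)
  have hzero : ∀ (x : K) (d : Fin n → A), ∑ k, d k * f k = x.1 → ∀ k, algebraMap A B (c x k) = algebraMap A B (d k) :=
    fun x d hd k => by
      rw [← sub_eq_zero, ← map_sub]
      refine hB (hK ▸ coeff_mem_of_relation hf (a := fun k => c x k - d k) ?_ k)
      simp only [sub_mul, Finset.sum_sub_distrib, hd]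
      rw [show ∑ k, c x k * f k = x.1 by simpa only [smul_eq_mul] using hc x, sub_self]
  let g : Fin n → K →ₗ[A] B := fun k =>
    { toFun := fun x => algebraMap A B (c x k)
      map_add' := fun x y => by
        rw [hzero (x + y) (fun k => c x k + c y k) (by
          simp only [add_mul, Finset.sum_add_distrib, Submodule.coe_add]
          exact congr_arg₂ (· + ·) (by simpa only [smul_eq_mul] using hc x) (by simpa only [smul_eq_mul] using hc y)) k,
          map_add]
      map_smul' := fun a x => by
        rw [hzero (a • x) (fun k => a * c x k) (by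
          simp only [mul_assoc, ← Finset.mul_sum]
          exact congrArg (a * ·) (by simpa only [smul_eq_mul] using hc x)) k, map_mul, RingHom.id_apply,
          Algebra.smul_def] }
  let r : B ⊗[A] K →ₗ[B] (Fin n → B) := LinearMap.pi fun i => (g i).liftBaseChange B
  let ν : (Fin n → B) →ₗ[B] B ⊗[A] K := Fintype.linearCombination B fun i => 1 ⊗ₜ[A] ⟨f i, hmem i⟩
  have h₁ : ν ∘ₗ r = LinearMap.id := by
    refine TensorProduct.AlgebraTensorModule.ext fun b x => ?_
    simp only [LinearMap.comp_apply, LinearMap.id_apply, ν, r, Fintype.linearCombination_apply,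
      LinearMap.pi_apply, LinearMap.liftBaseChange_tmul]
    have hx : x = ∑ i, c x i • (⟨f i, hmem i⟩ : K) := Subtype.ext (by
      simpa [Submodule.coe_sum] using (hc x).symm)
    conv_rhs => rw [hx, TensorProduct.tmul_sum]
    refine Finset.sum_congr rfl fun i _ => ?_
    rw [TensorProduct.tmul_smul, TensorProduct.smul_tmul', TensorProduct.smul_tmul']
    simp [g, Algebra.smul_def, mul_comm]
  have h₂ : r ∘ₗ ν = LinearMap.id := by
    refine LinearMap.pi_ext' fun i => LinearMap.ext_ring (funext fun k => ?_)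
    simp only [LinearMap.comp_apply, LinearMap.id_apply, ν, r, LinearMap.coe_single,
      Fintype.linearCombination_apply_single, one_smul, LinearMap.pi_apply, LinearMap.liftBaseChange_tmul]
    refine (hzero ⟨f i, hmem i⟩ (Pi.single i 1) (by simp [Pi.single_apply]) k).trans ?_
    simp [Pi.single_apply, apply_ite (algebraMap A B)]
  let e : (Fin n → B) ≃ₗ[B] B ⊗[A] K := LinearEquiv.ofLinearMap ν r h₁ h₂
  exact ⟨Module.Finite.equiv e, Module.Free.of_equiv e⟩

theorem isFinLocFree_conormal [QuasiCompact j] (hj : RegImm.IsRegularImmersion .h1 j) :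
    FlatMod.IsFinLocFree (Omega.conormal j) := by
  haveI : (ClSub.idealMod j.ker).IsQuasicoherent := AmpleLib.isQCoh_idealMod _
  haveI : (Omega.conormal j).IsQuasicoherent :=
    inferInstanceAs ((Scheme.Modules.pullback j).obj (ClSub.idealMod j.ker)).IsQuasicoherent
  refine PinchLib.isFinLocFree_of_sections fun z => ?_
  obtain ⟨⟨W, hW⟩, hzW, hci, rs, hrs, hker⟩ := hj.2 z
  haveI := hci
  have hU : IsAffineOpen (j ⁻¹ᵁ W) := RegImm44.isAffineOpen_preimage j hW
  letI := (j.app W).hom.toAlgebra
  obtain ⟨_, _⟩ := finite_free_tensor (B := Γ(Z, j ⁻¹ᵁ W)) rs.get hrs (RingHom.ker (j.app W).hom)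
    (by rw [Set.range_list_get, hker]) le_rfl
  obtain ⟨e⟩ := ConormalProj.nonempty_secEquiv j hW hU
  haveI := Module.Finite.equiv e
  haveI := Module.Projective.of_equiv e
  exact ⟨j ⁻¹ᵁ W, hU, hzW, Module.finitePresentation_of_projective _ _, inferInstance⟩

end Groth.Agent.Omega.H1Conormal

end
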