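import Groth.Agent.Thick.Unram
import Groth.Prelude.Def_Omega3
import Mathlib.Algebra.TrivSqZeroExt.Basic
import Mathlib.RingTheory.Unramified.Basic

/-!
# First order thickenings: base change, squares, universal ones
-/

set_option autoImplicit false

universe u

open CategoryTheory CategoryTheory.Limits AlgebraicGeometry TopologicalSpace Opposite

namespace Groth.Agent.Omega.Thick

variable {X X' S S' : Scheme.{u}}

theorem ker_app_sq (i : S ⟶ S') [IsClosedImmersion i] (h : i.ker * i.ker = ⊥) {V : S'.Opens}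
    (hV : IsAffineOpen V) : RingHom.ker (i.app V).hom ^ 2 = ⊥ := by
  have h2 := congr_fun (congr_arg Scheme.IdealSheafData.ideal h) ⟨V, hV⟩
  simp only [Scheme.IdealSheafData.ideal_mul, Pi.mul_apply, Scheme.IdealSheafData.ideal_bot,
    Pi.bot_apply, Scheme.Hom.ker_apply] at h2
  rwa [pow_two]

/-- A surjective ring map with square-zero kernel gives a first order thickening. -/
theorem isFOT_spec {R R' : CommRingCat.{u}} (φ : R ⟶ R') (hφ : Function.Surjective φ.hom)
    (h : RingHom.ker φ.hom ^ 2 = ⊥) : MoreMor.IsFirstOrderThickening (Spec.map φ) := by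
  have hc : IsClosedImmersion (Spec.map φ) := IsClosedImmersion.spec_of_surjective φ hφ
  refine ⟨⟨hc, ⟨fun p => ?_⟩⟩, ?_⟩
  · have hp : RingHom.ker φ.hom ≤ p.asIdeal := p.2.le_of_pow_le (n := 2) (h ▸ bot_le)
    have hmem : p ∈ Set.range (PrimeSpectrum.comap φ.hom) := by
      rw [range_comap_of_surjective _ _ hφ]
      exact hp
    exact hmem
  · refine Scheme.IdealSheafData.ext_of_isAffine ?_
    simp only [Scheme.IdealSheafData.ideal_mul, Pi.mul_apply, Scheme.IdealSheafData.ideal_bot,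
      Pi.bot_apply, Scheme.Hom.ker_apply]
    refine eq_bot_iff.mpr (Ideal.mul_le.mpr fun a ha b hb => ?_)
    rw [Ideal.mem_bot]
    apply (ConcreteCategory.bijective_of_isIso (Scheme.ΓSpecIso R).hom).1
    rw [map_mul, map_zero, ← Ideal.mem_bot, ← h, pow_two]
    have key : ∀ c, c ∈ RingHom.ker (Spec.map φ).appTop.hom →
        (Scheme.ΓSpecIso R).hom c ∈ RingHom.ker φ.hom := fun c hc => by
      change φ ((Scheme.ΓSpecIso R).hom c) = 0
      rw [← ConcreteCategory.comp_apply, ← Scheme.ΓSpecIso_naturality, ConcreteCategory.comp_apply,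
        show (Spec.map φ).appTop c = 0 from hc, map_zero]
    exact Ideal.mul_mem_mul (key a ha) (key b hb)

/-- First order thickenings are stable under base change. -/
theorem isFOT_of_isPullback {iX : X ⟶ X'} {iS : S ⟶ S'} {f : X ⟶ S} {f' : X' ⟶ S'}
    (hS : MoreMor.IsFirstOrderThickening iS) (hc : IsPullback iX f f' iS) :
    MoreMor.IsFirstOrderThickening iX := by
  obtain ⟨⟨h₁, h₂⟩, hk⟩ := hS
  have hiX : IsClosedImmersion iX := MorphismProperty.of_isPullback hc.flip h₁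
  refine ⟨⟨hiX, MorphismProperty.of_isPullback hc.flip h₂⟩, ?_⟩
  have H : ∀ p : X', ∃ (V : S'.Opens) (_ : IsAffineOpen V) (W : X'.affineOpens),
      p ∈ W.1 ∧ W.1 ≤ f' ⁻¹ᵁ V := fun p => by
    obtain ⟨_, ⟨V, hV, rfl⟩, hpV, -⟩ :=
      S'.isBasis_affineOpens.exists_subset_of_mem_open (Set.mem_univ (f' p)) isOpen_univ
    obtain ⟨_, ⟨W, hW, rfl⟩, hpW, hWV⟩ :=
      X'.isBasis_affineOpens.exists_subset_of_mem_open (show p ∈ f' ⁻¹ᵁ V from hpV) (f' ⁻¹ᵁ V).isOpen
    exact ⟨V, hV, ⟨W, hW⟩, hpW, hWV⟩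
  choose V hV U hpU hUV using H
  refine Scheme.IdealSheafData.ext_of_iSup_eq_top U
    (top_le_iff.mp fun p _ => Opens.mem_iSup.mpr ⟨p, hpU p⟩) fun p => ?_
  obtain ⟨h', hpo⟩ := Thick.Unram.isPushout_appLE hc (hV p) (U p).2 (hUV p)
  obtain ⟨-, hker⟩ := Thick.Ring.pushout_surjection hpo (iS.app_surjective _ (hV p))
  simp only [Scheme.IdealSheafData.ideal_mul, Pi.mul_apply, Scheme.IdealSheafData.ideal_bot,
    Pi.bot_apply, Scheme.Hom.ker_apply]
  rw [hker, ← pow_two, ← Ideal.map_pow, ker_app_sq iS hk (hV p), Ideal.map_bot]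

variable {Z Z' : Scheme.{u}} {h : Z ⟶ X} {i : Z ⟶ Z'} {h' : Z' ⟶ X}

theorem formallyUnramified_of_isUnivThickening (hu : OmegaSh.IsUnivThickening h i h') :
    FormallyUnramified h' := by
  obtain ⟨⟨⟨hci, -⟩, hk⟩, hih, huniv⟩ := hu
  refine ⟨fun {U} hU {V'} hV' e => ?_⟩
  have hV : IsAffineOpen (i ⁻¹ᵁ V') := hV'.preimage i
  algebraize [(h'.appLE U V' e).hom]
  let π : Γ(Z', V') →+* Γ(Z, i ⁻¹ᵁ V') := (i.app V').hom
  have hπ : Function.Surjective π := i.app_surjective _ hV'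
  have hsq : RingHom.ker π ^ 2 = ⊥ := ker_app_sq i hk hV'
  let Ω := KaehlerDifferential Γ(X, U) Γ(Z', V')
  -- every derivation into a module killed by the ideal vanishes
  have key : ∀ (M : Type u) [AddCommGroup M] [Module Γ(Z, i ⁻¹ᵁ V') M]
      (D : Γ(Z', V') →+ M), (∀ a b, D (a * b) = π a • D b + π b • D a) →
      (∀ c : Γ(X, U), D (h'.appLE U V' e c) = 0) → ∀ a, D a = 0 := by
    intro M _ _ D hmul hzero
    let : Module Γ(Z, i ⁻¹ᵁ V')ᵐᵒᵖ M := Module.compHom _ ((RingHom.id _).fromOpposite mul_comm)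
    have : IsCentralScalar Γ(Z, i ⁻¹ᵁ V') M := ⟨fun c x => rfl⟩
    have hD1 : D 1 = 0 := by simpa using hzero 1
    let g₀ : Γ(Z', V') →+* TrivSqZeroExt Γ(Z, i ⁻¹ᵁ V') M :=
      (TrivSqZeroExt.inlHom _ _).comp π
    let g₁ : Γ(Z', V') →+* TrivSqZeroExt Γ(Z, i ⁻¹ᵁ V') M :=
      { toFun := fun a => TrivSqZeroExt.inl (π a) + TrivSqZeroExt.inr (D a)
        map_one' := by ext <;> simp [hD1]
        map_mul' := fun a b => by ext <;> simp [hmul]
        map_zero' := by ext <;> simp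
        map_add' := fun a b => by ext <;> simp }
    let fst : TrivSqZeroExt Γ(Z, i ⁻¹ᵁ V') M →+* Γ(Z, i ⁻¹ᵁ V') :=
      (TrivSqZeroExt.fstHom Γ(Z, i ⁻¹ᵁ V') Γ(Z, i ⁻¹ᵁ V') M).toRingHom
    have hfot : MoreMor.IsFirstOrderThickening (Spec.map (CommRingCat.ofHom fst)) := by
      refine isFOT_spec _ (fun c => ⟨TrivSqZeroExt.inl c, rfl⟩) ?_
      rw [pow_two, eq_bot_iff, Ideal.mul_le]
      intro x hx y hy
      have hx' : x.fst = 0 := hx
      have hy' : y.fst = 0 := hy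
      rw [Ideal.mem_bot]
      ext <;> simp [hx', hy']
    let T' : Scheme.{u} := Spec (CommRingCat.of (TrivSqZeroExt Γ(Z, i ⁻¹ᵁ V') M))
    let a₀ : T' ⟶ Z' := Spec.map (CommRingCat.ofHom g₀) ≫ hV'.fromSpec
    let a₁ : T' ⟶ Z' := Spec.map (CommRingCat.ofHom g₁) ≫ hV'.fromSpec
    have hj : ∀ g : Γ(Z', V') →+* TrivSqZeroExt Γ(Z, i ⁻¹ᵁ V') M, fst.comp g = π →
        Spec.map (CommRingCat.ofHom fst) ≫ Spec.map (CommRingCat.ofHom g) ≫ hV'.fromSpec =
          hV.fromSpec ≫ i := by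
      intro g hg
      rw [← Category.assoc, ← Spec.map_comp, ← CommRingCat.ofHom_comp, hg,
        ← IsAffineOpen.SpecMap_appLE_fromSpec i hV' hV le_rfl, ← Scheme.Hom.app_eq_appLE]
      rfl
    have hb : a₁ ≫ h' = a₀ ≫ h' := by
      simp only [a₁, a₀, Category.assoc]
      rw [← IsAffineOpen.SpecMap_appLE_fromSpec h' hU hV' e, ← Spec.map_comp_assoc,
        ← Spec.map_comp_assoc]
      congr 2
      ext c : 2
      change TrivSqZeroExt.inl (π (h'.appLE U V' e c)) + TrivSqZeroExt.inr (D (h'.appLE U V' e c)) =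
        TrivSqZeroExt.inl (π (h'.appLE U V' e c))
      simp [hzero]
    have e₀ := hj g₀ (RingHom.ext fun a => rfl)
    have e₁ := hj g₁ (RingHom.ext fun a => by simp [fst, g₁])
    have hcomm : Spec.map (CommRingCat.ofHom fst) ≫ (a₀ ≫ h') = hV.fromSpec ≫ h := by
      rw [← Category.assoc, e₀, Category.assoc, hih]
    obtain ⟨a', -, ha'⟩ := huniv _ _ _ (a₀ ≫ h') hV.fromSpec hfot hcomm
    have heq : a₁ = a₀ := (ha' a₁ ⟨e₁, hb⟩).trans (ha' a₀ ⟨e₀, rfl⟩).symm
    have hg : g₁ = g₀ := congr(($(Spec.map_injective ((cancel_mono hV'.fromSpec).mp heq))).hom)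
    intro a
    simpa [g₀, g₁] using congr(TrivSqZeroExt.snd ($hg a))
  let I : Ideal Γ(Z', V') := RingHom.ker π
  have hspan : I • (⊤ : Submodule Γ(Z', V') Ω) = ⊤ := by
    let M := Ω ⧸ I • (⊤ : Submodule Γ(Z', V') Ω)
    let eq := RingHom.quotientKerEquivOfSurjective hπ
    let : Module Γ(Z, i ⁻¹ᵁ V') M := Module.compHom M eq.symm.toRingHom
    have hsmul : ∀ (a : Γ(Z', V')) (m : M), π a • m = a • m := fun a m => by
      change eq.symm (π a) • m = a • m
      rw [show eq.symm (π a) = Ideal.Quotient.mk _ a from eq.symm_apply_eq.mpr rfl]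
      rfl
    have h0 := key M (AddMonoidHom.mk' (fun a => Submodule.Quotient.mk (KaehlerDifferential.D _ _ a))
        fun a b => by simp)
      (fun a b => by simp [hsmul]) (fun c => by
        change Submodule.Quotient.mk (KaehlerDifferential.D Γ(X, U) Γ(Z', V') (algebraMap _ _ c)) = _
        simp)
    rw [eq_top_iff]
    refine (KaehlerDifferential.span_range_derivation _ _).symm.le.trans (Submodule.span_le.mpr ?_)
    rintro _ ⟨a, rfl⟩
    exact (Submodule.Quotient.mk_eq_zero _).mp (h0 a)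
  have htop : (⊤ : Submodule Γ(Z', V') Ω) = ⊥ := by
    conv_lhs => rw [← hspan]; rw [← hspan]
    rw [← Submodule.smul_assoc, smul_eq_mul, ← pow_two, hsq, Submodule.bot_smul]
  exact ⟨(Submodule.subsingleton_iff _).mp (subsingleton_of_bot_eq_top htop.symm)⟩

end Groth.Agent.Omega.Thick
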