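import Groth.Agent.Omega.ThickStalk
import Groth.Agent.Omega.StalkConormal

/-!
# Differentials of a universal thickening
-/

set_option autoImplicit false

universe u

open CategoryTheory CategoryTheory.Limits AlgebraicGeometry TopologicalSpace Opposite

noncomputable section

namespace Groth.Agent.Omega.ThickDiff

open OmegaSh Basic Stalks StalkConormal
open Groth.Agent.PullStalk.Sky Groth.Agent.PullStalk.Exact Groth.Agent.PullStalk.Basic

theorem stalkLin_pullback_map {X Y : Scheme.{u}} (f : X ⟶ Y) {M N : Y.Modules} (φ : M ⟶ N) (x : X)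
    (t : M.presheaf.stalk (f x)) :
    stalkLin ((Scheme.Modules.pullback f).map φ) x (unitStalkHom f M x t) =
      unitStalkHom f N x (stalkLin φ (f x) t) := by
  obtain ⟨U, hx, m, rfl⟩ := exists_germM_eq M (f x) t
  refine ((congrArg _ (unitStalkHom_germ f M x U hx m)).trans (stalkLin_germ _ _ _ _ _)).trans ?_
  refine Eq.trans ?_ ((congrArg _ (stalkLin_germ φ U (f x) hx m)).trans (unitStalkHom_germ f N x U hx _)).symm
  refine congrArg _ ?_
  exact congr(Scheme.Modules.Hom.app
    $(((Scheme.Modules.pullbackPushforwardAdjunction f).unit.naturality φ).symm) U m)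

variable {Z X S Z' : Scheme.{u}} {h : Z ⟶ X} {q : X ⟶ S} {i : Z ⟶ Z'} {h' : Z' ⟶ X}

theorem isIso_pullback_map (hu : IsUnivThickening h i h')
    {ΩX : X.Modules} {dX : Der q ΩX} (hdX : IsUniversal dX)
    {ΩZ' : Z'.Modules} {dZ' : Der (h' ≫ q) ΩZ'} (hdZ' : IsUniversal dZ')
    {c : (Scheme.Modules.pullback h').obj ΩX ⟶ ΩZ'} (hc : IsDiffCompat h' dX dZ' c) :
    IsIso ((Scheme.Modules.pullback i).map c) := by
  refine isIso_of_stalk fun z => ?_
  obtain ⟨δ₁, hmul₁, hzero₁, hgerm₁, hu₁⟩ := exists_pullDer h' (i z) hdX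
  obtain ⟨δ₂, hmul₂, hzero₂, hgerm₂, hu₂⟩ := exists_stalk_universal hdZ' (i z)
  have hc' : ∀ a, stalkLin c (i z) (δ₁ a) = δ₂ (h'.stalkMap (i z) a) := fun a => by
    obtain ⟨U, hx, s, rfl⟩ := X.presheaf.exists_germ_eq (x := h' (i z)) a
    rw [hgerm₁, Scheme.Hom.germ_stalkMap_apply]
    exact (stalkLin_germ c _ _ _ _).trans ((congrArg _ (hc U s)).trans (hgerm₂ (h' ⁻¹ᵁ U) hx _).symm)
  let u₁ := (unitStalkHom i ((Scheme.Modules.pullback h').obj ΩX) z).hom
  let u₂ := (unitStalkHom i ΩZ' z).hom
  let m := stalkLin ((Scheme.Modules.pullback i).map c) z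
  have hm : ∀ a, m (u₁ (δ₁ a)) = u₂ (δ₂ (h'.stalkMap (i z) a)) := fun a =>
    (stalkLin_pullback_map i c z _).trans (congrArg u₂ (hc' a))
  let δ : X.presheaf.stalk (h' (i z)) →+ ((Scheme.Modules.pullback i).obj
      ((Scheme.Modules.pullback h').obj ΩX)).presheaf.stalk z := u₁.comp δ₁
  have hδ : ∀ a b, δ (a * b) = i.stalkMap z (h'.stalkMap (i z) a) • δ b +
      i.stalkMap z (h'.stalkMap (i z) b) • δ a := fun a b => by
    change u₁ (δ₁ (a * b)) = _
    rw [hmul₁, map_add]
    exact congr_arg₂ (· + ·) (unitStalkHom_smul i _ z _ _) (unitStalkHom_smul i _ z _ _)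
  obtain ⟨D, ⟨hD, hDδ⟩, -⟩ := ThickStalk.existsUnique_der hu z _ δ hδ
  have hD₀ : ∀ s, D ((h' ≫ q).stalkMap (i z) s) = 0 := fun s => by
    rw [Scheme.Hom.stalkMap_comp]
    change D (h'.stalkMap (i z) (q.stalkMap (h' (i z)) s)) = 0
    rw [hDδ]
    exact (congrArg u₁ (hzero₁ _)).trans (map_zero u₁)
  -- the inverse
  let : Module (Z'.presheaf.stalk (i z)) (((Scheme.Modules.pullback i).obj
      ((Scheme.Modules.pullback h').obj ΩX)).presheaf.stalk z) := Module.compHom _ (i.stalkMap z).hom
  obtain ⟨k, hk, -⟩ := hu₂ _ D hD hD₀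
  obtain ⟨l, hl, -⟩ := existsUnique_unitStalk i z ΩZ' _ k.toAddMonoidHom fun b t => map_smul k b t
  refine ⟨Function.LeftInverse.injective (g := l) fun t => ?_, Function.LeftInverse.surjective (g := l) fun t => ?_⟩
  · suffices e : l.comp m = LinearMap.id from congr($e t)
    refine hom_eq_of_unitStalk i _ _ fun y => ?_
    let k' : ((Scheme.Modules.pullback h').obj ΩX).presheaf.stalk (i z) →ₗ[Z'.presheaf.stalk (i z)]
        ((Scheme.Modules.pullback i).obj ((Scheme.Modules.pullback h').obj ΩX)).presheaf.stalk z :=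
      { toFun := fun y => u₁ y
        map_add' := map_add u₁
        map_smul' := fun b y => unitStalkHom_smul i _ z b y }
    let k'' : ((Scheme.Modules.pullback h').obj ΩX).presheaf.stalk (i z) →ₗ[Z'.presheaf.stalk (i z)]
        ((Scheme.Modules.pullback i).obj ((Scheme.Modules.pullback h').obj ΩX)).presheaf.stalk z :=
      { toFun := fun y => l (m (u₁ y))
        map_add' := fun a b => by simp
        map_smul' := fun b y => (congrArg (l ∘ m) (unitStalkHom_smul i _ z b y)).trans
          ((congrArg l (map_smul m _ _)).trans (map_smul l _ _)) }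
    have e : k'' = k' := by
      obtain ⟨_, -, hun⟩ := hu₁ _ δ hδ (fun s => (congrArg u₁ (hzero₁ s)).trans (map_zero u₁))
      rw [hun k'' fun a => ?_, hun k' fun a => rfl]
      change l (m (u₁ (δ₁ a))) = δ a
      rw [hm]
      exact ((hl _).trans (hk _)).trans (hDδ a)
    exact congr($e y)
  · suffices e : m.comp l = LinearMap.id from congr($e t)
    refine hom_eq_of_unitStalk i _ _ fun y => ?_
    let : Module (Z'.presheaf.stalk (i z)) (((Scheme.Modules.pullback i).obj ΩZ').presheaf.stalk z) :=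
      Module.compHom _ (i.stalkMap z).hom
    let k' : ΩZ'.presheaf.stalk (i z) →ₗ[Z'.presheaf.stalk (i z)]
        ((Scheme.Modules.pullback i).obj ΩZ').presheaf.stalk z :=
      { toFun := fun y => u₂ y
        map_add' := map_add u₂
        map_smul' := fun b y => unitStalkHom_smul i _ z b y }
    let k'' : ΩZ'.presheaf.stalk (i z) →ₗ[Z'.presheaf.stalk (i z)]
        ((Scheme.Modules.pullback i).obj ΩZ').presheaf.stalk z :=
      { toFun := fun y => m (l (u₂ y))
        map_add' := fun a b => by simp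
        map_smul' := fun b y => (congrArg (m ∘ l) (unitStalkHom_smul i _ z b y)).trans
          ((congrArg m (map_smul l _ _)).trans (map_smul m _ _)) }
    have hmul₂' : ∀ a b, (u₂.comp δ₂) (a * b) = a • (u₂.comp δ₂) b + b • (u₂.comp δ₂) a := fun a b => by
      change u₂ (δ₂ (a * b)) = _
      rw [hmul₂, map_add]
      exact congr_arg₂ (· + ·) (unitStalkHom_smul i _ z _ _) (unitStalkHom_smul i _ z _ _)
    have e : k'' = k' := by
      obtain ⟨_, -, hun⟩ := hu₂ _ (u₂.comp δ₂) hmul₂' (fun s => (congrArg u₂ (hzero₂ s)).trans (map_zero u₂))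
      have hmD : m.toAddMonoidHom.comp D = u₂.comp δ₂ := by
        refine (ThickStalk.existsUnique_der hu z _ (m.toAddMonoidHom.comp δ) fun a b => ?_).unique
          ⟨fun a b => ?_, fun a => congrArg m (hDδ a)⟩ ⟨fun a b => hmul₂' a b, fun a => (hm a).symm⟩
        · change m (δ (a * b)) = _
          rw [hδ, map_add, map_smul, map_smul]
          rfl
        · change m (D (a * b)) = _
          rw [hD, map_add, map_smul, map_smul]
          rfl
      rw [hun k'' fun a => ?_, hun k' fun a => rfl]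
      change m (l (u₂ (δ₂ a))) = u₂ (δ₂ a)
      rw [show l (u₂ (δ₂ a)) = D a from (hl _).trans (hk a)]
      exact congr($hmD a)
    exact congr($e y)

end Groth.Agent.Omega.ThickDiff

end
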