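import Mathlib.RingTheory.Localization.Basic
import Mathlib.Algebra.TrivSqZeroExt.Basic
import Mathlib.Algebra.Module.Basic

/-!
# Derivations extend uniquely to localizations
-/

set_option autoImplicit false

universe u v w

namespace Groth.Agent.Omega.LocDer

open TrivSqZeroExt

variable {B : Type u} [CommRing B] (S : Submonoid B) {C : Type v} [CommRing C] [Algebra B C]
  [IsLocalization S C] {N : Type w} [AddCommGroup N] [Module C N]

include S in
theorem ext_of_localization {D D' : C →+ N} (hD : ∀ a b, D (a * b) = a • D b + b • D a)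
    (hD' : ∀ a b, D' (a * b) = a • D' b + b • D' a)
    (h : ∀ b : B, D (algebraMap B C b) = D' (algebraMap B C b)) : D = D' := by
  ext x
  obtain ⟨⟨a, s⟩, hx⟩ := IsLocalization.surj S x
  have h1 := h a
  rw [← hx, hD, hD', h s] at h1
  exact (IsUnit.smul_left_cancel (IsLocalization.map_units C s)).mp (add_left_cancel h1)

include S in
theorem exists_extension (δ : B →+ N)
    (hδ : ∀ a b, δ (a * b) = algebraMap B C a • δ b + algebraMap B C b • δ a) :
    ∃ D : C →+ N, (∀ a b, D (a * b) = a • D b + b • D a) ∧ ∀ b, D (algebraMap B C b) = δ b := by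
  letI : Module Cᵐᵒᵖ N := Module.compHom N ((RingHom.id C).fromOpposite mul_comm)
  haveI : IsCentralScalar C N := ⟨fun _ _ => rfl⟩
  have h1 : δ 1 = 0 := by
    have := hδ 1 1
    simpa using this
  let ψ : B →+* TrivSqZeroExt C N :=
    { toFun := fun b => inl (algebraMap B C b) + inr (δ b)
      map_one' := by ext <;> simp [h1]
      map_mul' := fun a b => by ext <;> simp [hδ, op_smul_eq_smul]
      map_zero' := by ext <;> simp
      map_add' := fun a b => by ext <;> simp }
  have hψ : ∀ s : S, IsUnit (ψ s) := fun s => by
    rw [isUnit_iff_isUnit_fst]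
    simpa [ψ] using IsLocalization.map_units C s
  let L : C →+* TrivSqZeroExt C N := IsLocalization.lift hψ
  have hfst : (fstHom C C N).toRingHom.comp L = RingHom.id C := by
    refine IsLocalization.ringHom_ext S ?_
    ext b
    simp [L, ψ]
  have hfst' : ∀ c, fst (L c) = c := fun c => congr($hfst c)
  refine ⟨{ toFun := fun c => snd (L c), map_zero' := by simp, map_add' := fun a b => by simp },
    fun a b => ?_, fun b => by simp [L, ψ]⟩
  change snd (L (a * b)) = a • snd (L b) + b • snd (L a)
  rw [map_mul, snd_mul, hfst', hfst', op_smul_eq_smul]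

end Groth.Agent.Omega.LocDer
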