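import Groth.Agent.Omega.StalkConormal

/-!
# The maps of the conormal sequence on stalks
-/

set_option autoImplicit false

universe u

open CategoryTheory CategoryTheory.Limits AlgebraicGeometry TopologicalSpace Opposite

noncomputable section

namespace Groth.Agent.Omega.StalkSeq

open OmegaSh Basic Stalks StalkConormal
open Groth.Agent.PullStalk.Sky Groth.Agent.PullStalk.Exact Groth.Agent.PullStalk.Basic

variable {X Z : Scheme.{u}} {i : Z ⟶ X}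

theorem exists_ker_germ [QuasiCompact i] (hi : Topology.IsInducing i) (z : Z)
    (a : RingHom.ker (i.stalkMap z).hom) :
    ∃ (U : X.Opens) (hx : i z ∈ U) (s : Γ(ClSub.idealMod i.ker, U)),
      X.presheaf.germ U (i z) hx (idealSect i.ker U s) = a.1 := by
  obtain ⟨t, ht⟩ := (range_idealStalk i hi z).ge a.2
  obtain ⟨U, hx, s, rfl⟩ := exists_germM_eq _ (i z) t
  exact ⟨U, hx, s, (idealStalk_germ i.ker (i z) U hx s).symm.trans ht⟩

theorem conormalDiff_stalk [QuasiCompact i] (hi : Topology.IsInducing i) {Y : Scheme.{u}} {f : X ⟶ Y}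
    {Ω : X.Modules} {d : Der f Ω} {φ : Omega.conormal i ⟶ (Scheme.Modules.pullback i).obj Ω}
    (hφ : IsConormalDiff i d φ) (z : Z)
    (κ : RingHom.ker (i.stalkMap z).hom →+ (Omega.conormal i).presheaf.stalk z)
    (hκ : ∀ U (hx : i z ∈ U) s (h : X.presheaf.germ U (i z) hx (idealSect i.ker U s) ∈
          RingHom.ker (i.stalkMap z).hom), κ ⟨_, h⟩ = germM _ (i ⁻¹ᵁ U) z hx (conormalSect i U s))
    (δ : X.presheaf.stalk (i z) →+ ((Scheme.Modules.pullback i).obj Ω).presheaf.stalk z)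
    (hδ : ∀ U (hx : i z ∈ U) s, δ (X.presheaf.germ U (i z) hx s) =
        germM _ (i ⁻¹ᵁ U) z hx (pullSect i Ω U (d.app U s)))
    (a : RingHom.ker (i.stalkMap z).hom) : stalkLin φ z (κ a) = δ a.1 := by
  obtain ⟨U, hx, s, hs⟩ := exists_ker_germ hi z a
  obtain ⟨a, ha'⟩ := a
  subst hs
  rw [hκ U hx s]
  refine (stalkLin_germ φ (i ⁻¹ᵁ U) z hx _).trans ?_
  rw [hφ U s]
  exact (hδ U hx _).symm

variable {X' Z' : Scheme.{u}} {i' : Z' ⟶ X'} {g : X ⟶ X'} {gZ : Z ⟶ Z'}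

/-- The map of local rings along the bottom of the square, at a point of `Z`. -/
def σ (w : gZ ≫ i' = i ≫ g) (z : Z) : X'.presheaf.stalk (i' (gZ z)) ⟶ X.presheaf.stalk (i z) :=
  X'.presheaf.stalkSpecializes (Specializes.of_eq (congr($w z)).symm) ≫ g.stalkMap (i z)

theorem mem_of_comm (w : gZ ≫ i' = i ≫ g) (z : Z) (U : X'.Opens) (hx : i' (gZ z) ∈ U) : g (i z) ∈ U := by
  have h : i' (gZ z) = g (i z) := congr($w z)
  exact h ▸ hx

theorem σ_germ (w : gZ ≫ i' = i ≫ g) (z : Z) (U : X'.Opens) (hx : i' (gZ z) ∈ U) (t : Γ(X', U)) :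
    σ w z (X'.presheaf.germ U _ hx t) =
      X.presheaf.germ (g ⁻¹ᵁ U) (i z) (mem_of_comm w z U hx) (g.app U t) := by
  refine (congrArg (g.stalkMap (i z)) (TopCat.Presheaf.germ_stalkSpecializes_apply X'.presheaf hx _ t)).trans ?_
  exact Scheme.Hom.germ_stalkMap_apply _ _ _ _ _

theorem stalkMap_σ (w : gZ ≫ i' = i ≫ g) (z : Z) (a : X'.presheaf.stalk (i' (gZ z))) :
    i.stalkMap z (σ w z a) = gZ.stalkMap z (i'.stalkMap (gZ z) a) := by
  obtain ⟨U, hx, t, rfl⟩ := X'.presheaf.exists_germ_eq (x := i' (gZ z)) a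
  rw [σ_germ]
  refine ((Scheme.Hom.germ_stalkMap_apply i (g ⁻¹ᵁ U) z (mem_of_comm w z U hx) (g.app U t)).trans ?_)
  refine Eq.trans ?_ ((congrArg (gZ.stalkMap z) (Scheme.Hom.germ_stalkMap_apply i' U (gZ z) hx t)).trans
    (Scheme.Hom.germ_stalkMap_apply gZ (i' ⁻¹ᵁ U) z hx (i'.app U t))).symm
  have := congr($(Scheme.Hom.congr_app w.symm U) t)
  change i.app (g ⁻¹ᵁ U) (g.app U t) = _ at this
  rw [this]
  exact Z.presheaf.germ_res_apply _ z _ _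

theorem exists_σ_eq (w : gZ ≫ i' = i ≫ g) (z : Z) (c : X'.presheaf.stalk (g (i z))) :
    ∃ a, σ w z a = g.stalkMap (i z) c := by
  refine ⟨X'.presheaf.stalkSpecializes (Specializes.of_eq (congr($w z))) c, ?_⟩
  obtain ⟨U, hx, t, rfl⟩ := X'.presheaf.exists_germ_eq (x := g (i z)) c
  refine (congrArg (σ w z) (TopCat.Presheaf.germ_stalkSpecializes_apply X'.presheaf hx _ t)).trans ?_
  rw [σ_germ, Scheme.Hom.germ_stalkMap_apply]

theorem conormalMap_stalk [QuasiCompact i] [QuasiCompact i'] (hi : Topology.IsInducing i)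
    (hi' : Topology.IsInducing i')
    {ψ : (Scheme.Modules.pullback gZ).obj (Omega.conormal i') ⟶ Omega.conormal i}
    (hψ : IsConormalMap i i' g gZ ψ) (z : Z)
    (κ : RingHom.ker (i.stalkMap z).hom →+ (Omega.conormal i).presheaf.stalk z)
    (hκ : ∀ U (hx : i z ∈ U) s (h : X.presheaf.germ U (i z) hx (idealSect i.ker U s) ∈
          RingHom.ker (i.stalkMap z).hom), κ ⟨_, h⟩ = germM _ (i ⁻¹ᵁ U) z hx (conormalSect i U s))
    (κ' : RingHom.ker (i'.stalkMap (gZ z)).hom →+ (Omega.conormal i').presheaf.stalk (gZ z))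
    (hκ' : ∀ U (hx : i' (gZ z) ∈ U) s (h : X'.presheaf.germ U (i' (gZ z)) hx (idealSect i'.ker U s) ∈
          RingHom.ker (i'.stalkMap (gZ z)).hom),
        κ' ⟨_, h⟩ = germM _ (i' ⁻¹ᵁ U) (gZ z) hx (conormalSect i' U s))
    (a : RingHom.ker (i'.stalkMap (gZ z)).hom)
    (ha : σ hψ.1 z a.1 ∈ RingHom.ker (i.stalkMap z).hom) :
    stalkLin ψ z (unitStalkHom gZ (Omega.conormal i') z (κ' a)) = κ ⟨σ hψ.1 z a.1, ha⟩ := by
  obtain ⟨w, hsec⟩ := hψ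
  obtain ⟨U, hx, s', hs⟩ := exists_ker_germ hi' (gZ z) a
  obtain ⟨a, ha'⟩ := a
  subst hs
  have hx' : g (i z) ∈ U := mem_of_comm w z U hx
  have h0 : i.app (g ⁻¹ᵁ U) (g.app U (idealSect i'.ker U s')) = 0 := by
    have := congr($(Scheme.Hom.congr_app w.symm U) (idealSect i'.ker U s'))
    change i.app (g ⁻¹ᵁ U) (g.app U (idealSect i'.ker U s')) =
      Z.presheaf.map _ (gZ.app (i' ⁻¹ᵁ U) (i'.app U (idealSect i'.ker U s'))) at this
    rw [this, app_idealSect, map_zero, map_zero]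
  obtain ⟨s, hs'⟩ := exists_idealSect_eq i (g ⁻¹ᵁ U) _ h0
  have hgerm : σ w z (X'.presheaf.germ U (i' (gZ z)) hx (idealSect i'.ker U s')) =
      X.presheaf.germ (g ⁻¹ᵁ U) (i z) hx' (idealSect i.ker (g ⁻¹ᵁ U) s) := by
    rw [σ_germ, hs']
  have hmem : X.presheaf.germ (g ⁻¹ᵁ U) (i z) hx' (idealSect i.ker (g ⁻¹ᵁ U) s) ∈
      RingHom.ker (i.stalkMap z).hom := hgerm ▸ ha
  rw [show (⟨σ w z _, ha⟩ : RingHom.ker (i.stalkMap z).hom) = ⟨_, hmem⟩ from Subtype.ext hgerm,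
    hκ (g ⁻¹ᵁ U) hx' s hmem, hκ' U hx s']
  refine (congrArg (stalkLin ψ z) (unitStalkHom_germ gZ _ z (i' ⁻¹ᵁ U) hx _)).trans ?_
  refine (stalkLin_germ ψ _ z hx _).trans ?_
  have hV := hsec U s' s hs' (gZ ⁻¹ᵁ (i' ⁻¹ᵁ U) ⊓ i ⁻¹ᵁ (g ⁻¹ᵁ U)) inf_le_left inf_le_right
  refine ((Omega.conormal i).presheaf.germ_res_apply (homOfLE inf_le_left) z
    (show z ∈ gZ ⁻¹ᵁ (i' ⁻¹ᵁ U) ⊓ i ⁻¹ᵁ (g ⁻¹ᵁ U) from ⟨hx, hx'⟩) _).symm.trans ?_
  refine Eq.trans ?_ ((Omega.conormal i).presheaf.germ_res_apply (homOfLE inf_le_right) z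
    (show z ∈ gZ ⁻¹ᵁ (i' ⁻¹ᵁ U) ⊓ i ⁻¹ᵁ (g ⁻¹ᵁ U) from ⟨hx, hx'⟩) _)
  exact congrArg _ hV

end Groth.Agent.Omega.StalkSeq

end
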