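import Groth.Agent.Omega.PPStalk
import Groth.Agent.Diff16.Basic

/-!
# Differential operators and maps out of sheaves of principal parts
-/

set_option autoImplicit false

universe u

open CategoryTheory CategoryTheory.Limits AlgebraicGeometry TopologicalSpace Opposite

noncomputable section

namespace Groth.Agent.Omega.PPOp

open PrinPart Stalks StalkConormal StalkSeq PPGen PPStalk
open Groth.Agent.PullStalk.Sky Groth.Agent.PullStalk.Basic

variable {X S : Scheme.{u}} (f : X ⟶ S) {F G : X.Modules}

/-- The integers in the universe at hand. -/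
abbrev Zu : Type u := ULift.{u} ℤ

/-- A ring as an algebra over the integers of the universe at hand. -/
scoped instance zuAlgebra (B : Type u) [CommRing B] : Algebra Zu.{u} B where
  algebraMap := (Int.castRingHom B).comp ULift.ringEquiv.toRingHom
  smul c b := c.down • b
  commutes' c b := mul_comm _ _
  smul_def' c b := (zsmul_eq_mul b c.down).trans (congrArg (fun i : B => i * b) (map_intCast (Int.castRingHom B) c.down).symm)

scoped instance zuTower (B M : Type u) [CommRing B] [AddCommGroup M] [Module B M] :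
    IsScalarTower Zu.{u} B M :=
  ⟨fun c b m => smul_assoc c.down b m⟩

/-- The map on stalks of a map of abelian sheaves, linear over the integers. -/
def stalkD (D : F.presheaf ⟶ G.presheaf) (x : X) : F.presheaf.stalk x →ₗ[Zu.{u}] G.presheaf.stalk x where
  toFun := ((TopCat.Presheaf.stalkFunctor Ab.{u} x).map D).hom
  map_add' := map_add _
  map_smul' c t := map_zsmul ((TopCat.Presheaf.stalkFunctor Ab.{u} x).map D).hom c.down t

theorem stalkD_germ (D : F.presheaf ⟶ G.presheaf) (U : X.Opens) (x : X) (hx : x ∈ U) (t : Γ(F, U)) :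
    stalkD D x (germM F U x hx t) = germM G U x hx (D.app (op U) t) :=
  TopCat.Presheaf.stalkFunctor_map_germ_apply U x hx D t

/-- Linearity over the local ring of the base, on stalks. -/
def IsBaseLinear (D : F.presheaf ⟶ G.presheaf) : Prop :=
  ∀ (x : X) (c : S.presheaf.stalk (f x)) (t : F.presheaf.stalk x),
    stalkD D x (f.stalkMap x c • t) = f.stalkMap x c • stalkD D x t

/-- The order of a map of abelian sheaves, on stalks. -/
def StalkOrdLE (n : ℕ) (D : F.presheaf ⟶ G.presheaf) : Prop :=
  ∀ x : X, Diff16.IsDiffOpLE Zu.{u} (X.presheaf.stalk x) (F.presheaf.stalk x) (G.presheaf.stalk x) n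
    (stalkD D x)

theorem specM_smul (M : X.Modules) {x x' : X} (h : x = x') (b : X.presheaf.stalk x')
    (m : M.presheaf.stalk x') :
    M.presheaf.stalkSpecializes (Specializes.of_eq h) (b • m) =
      X.presheaf.stalkSpecializes (Specializes.of_eq h) b •
        M.presheaf.stalkSpecializes (Specializes.of_eq h) m := by
  subst h
  simp

section linearise

open TensorProduct

variable {A B : Type u} [CommRing A] [CommRing B] [Algebra A B] {M N : Type u} [AddCommGroup M]
  [Module B M] [AddCommGroup N] [Module B N]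

/-- `b ⊗ c ↦ (t ↦ b • D (c • t))`. -/
def lin (D : M →ₗ[Zu.{u}] N) (h : ∀ (a : A) (t : M), D (algebraMap A B a • t) = algebraMap A B a • D t) :
    B ⊗[A] B →+ (M →+ N) :=
  TensorProduct.liftAddHom
    (AddMonoidHom.mk' (fun b => AddMonoidHom.mk'
      (fun c => AddMonoidHom.mk' (fun t => b • D (c • t)) fun t t' => by rw [smul_add, map_add, smul_add])
      fun c c' => by ext t; simp [add_smul])
      fun b b' => by ext c t; simp [add_smul])
    fun a b c => by
      ext t
      change (a • b) • D (c • t) = b • D ((a • c) • t)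
      rw [Algebra.smul_def a b, Algebra.smul_def a c, mul_smul, mul_smul, h, smul_comm b]

theorem lin_tmul (D : M →ₗ[Zu.{u}] N)
    (h : ∀ (a : A) (t : M), D (algebraMap A B a • t) = algebraMap A B a • D t) (b c : B) (t : M) :
    lin D h (b ⊗ₜ c) t = b • D (c • t) := rfl

theorem lin_one_tmul_mul (D : M →ₗ[Zu.{u}] N)
    (h : ∀ (a : A) (t : M), D (algebraMap A B a • t) = algebraMap A B a • D t)
    (x : B ⊗[A] B) (c : B) (t : M) :
    lin D h (x * (1 ⊗ₜ c)) t = lin D h x (c • t) := by
  induction x using TensorProduct.induction_on with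
  | zero => simp
  | tmul a b => rw [Algebra.TensorProduct.tmul_mul_tmul, mul_one, lin_tmul, lin_tmul, mul_smul]
  | add x y hx hy => rw [add_mul, map_add, map_add, AddMonoidHom.add_apply, AddMonoidHom.add_apply, hx, hy]

theorem lin_tmul_one_mul (D : M →ₗ[Zu.{u}] N)
    (h : ∀ (a : A) (t : M), D (algebraMap A B a • t) = algebraMap A B a • D t)
    (x : B ⊗[A] B) (c : B) (t : M) :
    lin D h (x * (c ⊗ₜ 1)) t = c • lin D h x t := by
  induction x using TensorProduct.induction_on with
  | zero => simp
  | tmul a b => rw [Algebra.TensorProduct.tmul_mul_tmul, mul_one, lin_tmul, lin_tmul, mul_comm a, mul_smul]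
  | add x y hx hy => rw [add_mul, map_add, map_add, AddMonoidHom.add_apply, AddMonoidHom.add_apply, hx, hy, smul_add]

theorem comm_base (D : M →ₗ[Zu.{u}] N)
    (h : ∀ (a : A) (t : M), D (algebraMap A B a • t) = algebraMap A B a • D t) (b : B) (a : A) (t : M) :
    Diff16.commutator Zu.{u} B M N D b (algebraMap A B a • t) =
      algebraMap A B a • Diff16.commutator Zu.{u} B M N D b t := by
  rw [Diff16.comm_apply, Diff16.comm_apply, smul_comm b, h, h, smul_sub, smul_comm (algebraMap A B a) b]

theorem lin_eq_zero : ∀ (n : ℕ) (D : M →ₗ[Zu.{u}] N)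
    (h : ∀ (a : A) (t : M), D (algebraMap A B a • t) = algebraMap A B a • D t),
    Diff16.IsDiffOpLE Zu.{u} B M N n D →
      ∀ x ∈ KaehlerDifferential.ideal A B ^ (n + 1), lin D h x = 0 := by
  have step : ∀ (D : M →ₗ[Zu.{u}] N) (h : ∀ (a : A) (t : M), D (algebraMap A B a • t) = algebraMap A B a • D t)
      (J : Ideal (B ⊗[A] B)), (∀ b, ∀ x ∈ J, lin _ (comm_base D h b) x = 0) →
      ∀ x ∈ J * KaehlerDifferential.ideal A B, lin D h x = 0 := by
    intro D h J hJ x hx
    have hδ : ∀ (b : B) (y : B ⊗[A] B), lin D h (y * ((1 : B) ⊗ₜ[A] b - b ⊗ₜ[A] (1 : B))) =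
        lin _ (comm_base D h b) y := by
      intro b y
      ext t
      rw [mul_sub, map_sub, AddMonoidHom.sub_apply, lin_one_tmul_mul, lin_tmul_one_mul]
      induction y using TensorProduct.induction_on with
      | zero => simp
      | tmul c d =>
        rw [lin_tmul, lin_tmul, lin_tmul, Diff16.comm_apply, smul_sub, smul_comm d b, smul_comm b c]
      | add p q hp hq =>
        simp only [map_add, AddMonoidHom.add_apply, smul_add] at hp hq ⊢
        rw [← hp, ← hq]
        abel
    induction hx using Submodule.mul_induction_on' with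
    | mem_mul_mem j hj i hi =>
      rw [← KaehlerDifferential.span_range_eq_ideal] at hi
      induction hi using Submodule.span_induction generalizing j with
      | mem y hy => obtain ⟨b, rfl⟩ := hy; rw [hδ]; exact hJ b j hj
      | zero => simp
      | add y z _ _ hy hz => rw [mul_add, map_add, hy j hj, hz j hj, add_zero]
      | smul r y _ hy => rw [smul_eq_mul, ← mul_assoc]; exact hy (j * r) (J.mul_mem_right r hj)
    | add x _ y _ hx hy => rw [map_add, hx, hy, add_zero]
  intro n
  induction n with
  | zero =>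
    intro D h hD x hx
    rw [zero_add, pow_one] at hx
    refine step D h ⊤ (fun b y _ => ?_) x (by rwa [Ideal.top_mul])
    have h0 := (Diff16.isDiffOpLE_zero_iff_comm D).1 hD b
    ext t
    induction y using TensorProduct.induction_on with
    | zero => simp
    | tmul c d => rw [lin_tmul, h0]; simp
    | add p q hp hq => rw [map_add, AddMonoidHom.add_apply, hp trivial, hq trivial]; simp
  | succ n ih =>
    intro D h hD x hx
    rw [pow_succ _ (n + 1)] at hx
    exact step D h _ (fun b y hy => ih _ (comm_base D h b) (hD b) y hy) x hx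

end linearise

open scoped TensorProduct in
/-- The map on stalks classifying an operator of bounded order. -/
theorem exists_stalkMap (n : ℕ) (D : F.presheaf ⟶ G.presheaf) (hlin : IsBaseLinear f D)
    (hord : StalkOrdLE n D) (x : X) :
    ∃ l : ((Scheme.Modules.pullback (pr2 f n)).obj F).presheaf.stalk (toNbhd f n x) →+
        G.presheaf.stalk x,
      (∀ b τ, l (prN f n _ (toNbhd_pr1 f n) x b • τ) = b • l τ) ∧
      ∀ (U : X.Opens) (hx : x ∈ U) (hz : pr1 f n (toNbhd f n x) ∈ U) (t : Γ(F, U)),
        l (germM _ (pr1 f n ⁻¹ᵁ U) (toNbhd f n x) hz (dP f n F U t)) =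
          germM G U x hx (D.app (op U) t) := by
  let := algStalk f x
  let A := S.presheaf.stalk (f x)
  let C := X.presheaf.stalk x
  obtain ⟨e, he⟩ := exists_toPP f n x
  let z := toNbhd f n x
  let W := PP16.P n A C →+ G.presheaf.stalk x
  let ρ : (nbhd f n).presheaf.stalk z →+* AddMonoid.End W :=
    { toFun := fun r => AddMonoidHom.mk' (fun φ : W => φ.comp (AddMonoidHom.mulRight (e r)))
        fun φ ψ => by ext p; rfl
      map_one' := by ext φ p; exact congrArg φ (by rw [map_one, AddMonoidHom.mulRight_apply, mul_one])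
      map_mul' := fun r r' => by
        ext φ p
        change φ (p * e (r * r')) = φ (p * e r * e r')
        rw [map_mul e r r', mul_assoc]
      map_zero' := by
        ext φ p
        change φ (p * e 0) = 0
        rw [map_zero, mul_zero, map_zero]
      map_add' := fun r r' => by
        ext φ p
        change φ (p * e (r + r')) = φ (p * e r) + φ (p * e r')
        rw [map_add, mul_add, map_add] }
  let : Module ((nbhd f n).presheaf.stalk z) W := Module.compHom W ρ
  have hsmul : ∀ (r : (nbhd f n).presheaf.stalk z) (φ : W) (p : PP16.P n A C),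
      (r • φ) p = φ (p * e r) := fun r φ p => rfl
  have hA : ∀ (a : A) (t : F.presheaf.stalk x),
      stalkD D x (algebraMap A C a • t) = algebraMap A C a • stalkD D x t := fun a t => hlin x a t
  let Λ : PP16.P n A C →+ (F.presheaf.stalk x →+ G.presheaf.stalk x) :=
    QuotientAddGroup.lift _ (lin (stalkD D x) hA)
      fun y hy => lin_eq_zero n (stalkD D x) hA (hord x) y hy
  have hz2 : pr2 f n z = x := congr($(toNbhd_pr2 f n) x)
  let sp := (F.presheaf.stalkSpecializes (Specializes.of_eq hz2.symm)).hom
  let k : F.presheaf.stalk (pr2 f n z) →+ W :=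
    AddMonoidHom.mk' (fun τ => AddMonoidHom.mk' (fun p => Λ p (sp τ))
        fun p p' => by rw [map_add, AddMonoidHom.add_apply])
      fun τ τ' => by
        ext p
        change Λ p (sp (τ + τ')) = Λ p (sp τ) + Λ p (sp τ')
        rw [map_add, map_add]
  have hk : ∀ b m, k (b • m) = (pr2 f n).stalkMap z b • k m := fun b m => by
    ext p
    rw [hsmul]
    change Λ p (sp (b • m)) = Λ (p * e ((pr2 f n).stalkMap z b)) (sp m)
    have hb : (pr2 f n).stalkMap z b = prN f n _ (toNbhd_pr2 f n) x
        (X.presheaf.stalkSpecializes (Specializes.of_eq hz2.symm) b) := by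
      change (pr2 f n).stalkMap z b = (pr2 f n).stalkMap z (X.presheaf.stalkSpecializes
        (Specializes.of_eq hz2) (X.presheaf.stalkSpecializes (Specializes.of_eq hz2.symm) b))
      simp
    rw [hb, (he _).2, show sp (b • m) = _ from specM_smul F hz2.symm b m]
    obtain ⟨y, rfl⟩ := Ideal.Quotient.mk_surjective p
    exact (lin_one_tmul_mul (stalkD D x) hA y _ _).symm
  obtain ⟨l, hl, -⟩ := existsUnique_unitStalk (pr2 f n) z F W k hk
  refine ⟨AddMonoidHom.mk' (fun τ => l τ 1) fun τ τ' => by rw [map_add]; rfl, fun b τ => ?_,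
    fun U hx hz t => ?_⟩
  · change l (prN f n _ (toNbhd_pr1 f n) x b • τ) 1 = b • l τ 1
    rw [map_smul, hsmul, one_mul, (he b).1]
    have hlτ : ∀ (τ : ((Scheme.Modules.pullback (pr2 f n)).obj F).presheaf.stalk z)
        (p : PP16.P n A C), l τ (p * algebraMap C (PP16.P n A C) b) = b • l τ p := by
      let V : Submodule ((nbhd f n).presheaf.stalk z) W :=
        { carrier := {φ | ∀ p, φ (p * algebraMap C (PP16.P n A C) b) = b • φ p}
          add_mem' := fun {φ ψ} h h' p => by
            rw [AddMonoidHom.add_apply, AddMonoidHom.add_apply, h p, h' p, smul_add]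
          zero_mem' := fun p => by rw [AddMonoidHom.zero_apply, AddMonoidHom.zero_apply, smul_zero]
          smul_mem' := fun r φ h p => by
            rw [hsmul, hsmul, mul_right_comm]
            exact h _ }
      have h0 : V.mkQ.comp l = 0 := hom_eq_of_unitStalk _ _ _ fun τ' => by
        refine (Submodule.Quotient.mk_eq_zero V).mpr ?_
        rw [hl τ']
        intro p
        obtain ⟨y, rfl⟩ := Ideal.Quotient.mk_surjective p
        exact lin_tmul_one_mul (stalkD D x) hA y b _
      exact fun τ => (Submodule.Quotient.mk_eq_zero V).mp (LinearMap.congr_fun h0 τ)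
    rw [← hlτ τ 1, one_mul]
  · change l (germM _ (pr1 f n ⁻¹ᵁ U) z hz (dP f n F U t)) 1 = _
    rw [dP_germ f n F x U hx t, hl]
    change Λ 1 (sp _) = _
    rw [show sp (germM F U (pr2 f n z) (hz2.symm ▸ hx) t) = germM F U x hx t from
      TopCat.Presheaf.germ_stalkSpecializes_apply F.presheaf (show pr2 f n z ∈ U from hz2.symm ▸ hx) _ t]
    change lin (stalkD D x) hA 1 (germM F U x hx t) = _
    rw [Algebra.TensorProduct.one_def, lin_tmul, one_smul, one_smul, stalkD_germ]

/-- An operator of bounded order factors through the sheaf of principal parts. -/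
theorem exists_factor (n : ℕ) (D : F.presheaf ⟶ G.presheaf) (hlin : IsBaseLinear f D)
    (hord : StalkOrdLE n D) : IsDiffOpLE f F G n D := by
  choose l hl₁ hl₂ using exists_stalkMap f n D hlin hord
  have hz : ∀ (U : X.Opens) (x : X), x ∈ U → pr1 f n (toNbhd f n x) ∈ U := fun U x hx => by
    rwa [show pr1 f n (toNbhd f n x) = x from congr($(toNbhd_pr1 f n) x)]
  let val (U : X.Opens) (w : Γ(PMod f n F, U)) (x : X) (hx : x ∈ U) : G.presheaf.stalk x :=
    l x (germM ((Scheme.Modules.pullback (pr2 f n)).obj F) (pr1 f n ⁻¹ᵁ U) (toNbhd f n x) (hz U x hx) w)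
  have hval_add : ∀ U (w w' : Γ(PMod f n F, U)) x hx,
      val U (w + w') x hx = val U w x hx + val U w' x hx := fun U w w' x hx =>
    (congrArg (l x) (map_add _ w w')).trans (map_add _ _ _)
  have hval_smul : ∀ U (r : Γ(X, U)) (w : Γ(PMod f n F, U)) x hx,
      val U (r • w) x hx = X.presheaf.germ U x hx r • val U w x hx := fun U r w x hx => by
    refine Eq.trans (congrArg (l x) (germM_smul _ (pr1 f n ⁻¹ᵁ U) _ (hz U x hx) ((pr1 f n).app U r) w))
      ((congrArg (fun c => l x (c • _))
        (σ_germ (square_pr f n _ (toNbhd_pr1 f n)) x U hx r).symm).trans (hl₁ x _ _))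
  have hval_res : ∀ (U V : X.Opens) (e : V ≤ U) (w : Γ(PMod f n F, U)) x (hx : x ∈ V),
      val V ((PMod f n F).presheaf.map (homOfLE e).op w) x hx = val U w x (e hx) := fun U V e w x hx =>
    congrArg (l x) (TopCat.Presheaf.germ_res_apply
      ((Scheme.Modules.pullback (pr2 f n)).obj F).presheaf (homOfLE ((pr1 f n).preimage_mono e)) _ _ w)
  have hspan : ∀ (U : X.Opens) (v : Γ(PMod f n F, U)),
      v ∈ Submodule.span Γ(X, U) (Set.range (dP f n F U)) →
      ∃ g : Γ(G, U), ∀ x hx, germM G U x hx g = val U v x hx := by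
    intro U v hv
    induction hv using Submodule.span_induction with
    | mem v hv =>
      obtain ⟨t, rfl⟩ := hv
      exact ⟨D.app (op U) t, fun x hx => (hl₂ x U hx _ t).symm⟩
    | zero =>
      exact ⟨0, fun x hx => (map_zero _).trans
        ((congrArg (l x) (map_zero _)).trans (map_zero _)).symm⟩
    | add a b _ _ ha hb =>
      obtain ⟨ga, ha⟩ := ha
      obtain ⟨gb, hb⟩ := hb
      refine ⟨ga + gb, fun x hx => ?_⟩
      exact (map_add _ _ _).trans ((congr_arg₂ (· + ·) (ha x hx) (hb x hx)).trans (hval_add _ a b x hx).symm)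
    | smul r a _ ha =>
      obtain ⟨ga, ha⟩ := ha
      exact ⟨r • ga, fun x hx => by rw [hval_smul, ← ha x hx, germM_smul]⟩
  have hex : ∀ (U : X.Opens) (w : Γ(PMod f n F, U)),
      ∃ g : Γ(G, U), ∀ x hx, germM G U x hx g = val U w x hx := by
    intro U w
    choose V hVU hxV hV using fun q : {x // x ∈ U} => exists_local_span f n F U w q.1 q.2
    choose g hg using fun q => hspan (V q) _ (hV q)
    obtain ⟨s, hs, -⟩ := TopCat.Sheaf.existsUnique_gluing' (⟨G.presheaf, G.isSheaf⟩ : TopCat.Sheaf Ab X)
      V U (fun q => homOfLE (hVU q))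
      (fun y hy => TopologicalSpace.Opens.mem_iSup.mpr ⟨⟨y, hy⟩, hxV ⟨y, hy⟩⟩) g (fun q r => by
        refine TopCat.Presheaf.section_ext (⟨G.presheaf, G.isSheaf⟩ : TopCat.Sheaf Ab X) _ _ _
          fun y hy => ?_
        refine (TopCat.Presheaf.germ_res_apply G.presheaf (Opens.infLELeft _ _) y hy (g q)).trans ?_
        refine Eq.trans ?_ (TopCat.Presheaf.germ_res_apply G.presheaf (Opens.infLERight _ _) y hy (g r)).symm
        exact (hg q y hy.1).trans ((hval_res U (V q) (hVU q) w y hy.1).trans
          ((hg r y hy.2).trans (hval_res U (V r) (hVU r) w y hy.2)).symm))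
    refine ⟨s, fun x hx => ?_⟩
    refine ((TopCat.Presheaf.germ_res_apply G.presheaf (homOfLE (hVU ⟨x, hx⟩)) x (hxV ⟨x, hx⟩) s).symm.trans
      ((congrArg _ (hs ⟨x, hx⟩)).trans ?_))
    exact (hg ⟨x, hx⟩ x (hxV ⟨x, hx⟩)).trans (hval_res U (V ⟨x, hx⟩) (hVU ⟨x, hx⟩) w x (hxV ⟨x, hx⟩))
  choose u hu using hex
  have huniq : ∀ (U : X.Opens) (g g' : Γ(G, U)), (∀ x hx, germM G U x hx g = germM G U x hx g') → g = g' :=
    fun U g g' h => TopCat.Presheaf.section_ext (⟨G.presheaf, G.isSheaf⟩ : TopCat.Sheaf Ab X) U g g' h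
  refine ⟨⟨PresheafOfModules.homMk
    { app := fun U => AddCommGrpCat.ofHom (AddMonoidHom.mk' (u U.unop) fun w w' => huniq _ _ _
        fun x hx => by
          exact (hu _ _ x hx).trans ((hval_add _ w w' x hx).trans
            ((congr_arg₂ (· + ·) (hu U.unop w x hx).symm (hu U.unop w' x hx).symm).trans (map_add _ _ _).symm)))
      naturality := fun U V i => by
        ext w
        refine huniq V.unop _ _ fun x hx => ?_
        refine (hu V.unop _ x hx).trans ((hval_res _ _ i.unop.le w x hx).trans ((hu U.unop w x (i.unop.le hx)).symm.trans ?_))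
        exact (TopCat.Presheaf.germ_res_apply G.presheaf i.unop x hx (u U.unop w)).symm }
    (fun U r w => huniq U.unop _ _ fun x hx => by
      refine (hu U.unop _ x hx).trans ((hval_smul U.unop r w x hx).trans ?_)
      rw [← hu U.unop w x hx, ← germM_smul]
      rfl)⟩, fun U t => ?_⟩
  refine huniq U _ _ fun x hx => ?_
  exact (hl₂ x U hx (hz U x hx) t).symm.trans (hu U _ x hx).symm

end Groth.Agent.Omega.PPOp

end
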