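import Groth.Prelude.Def_EGA4b
import Groth.Agent.EGA4Lib.SmoothRegular
import Groth.Agent.EGA4Lib.NorLocus
import Groth.Agent.S9407
import Mathlib.RingTheory.Smooth.IntegralClosure
import Mathlib.RingTheory.Smooth.Flat
import Mathlib.RingTheory.LocalProperties.Reduced
import Mathlib.RingTheory.Flat.FaithfullyFlat.Algebra

/-!
# Reduced and normal local rings along smooth maps
-/

set_option autoImplicit false
set_option linter.style.haveILetI false

universe u

open TensorProduct

namespace Groth.Agent.Omega.SmoothNormal

/-- Being integrally closed in an algebra localises. -/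
theorem exists_algebraMap_eq_of_isIntegral {B C Bm L : Type u} [CommRing B] [CommRing C] [CommRing Bm]
    [CommRing L] [Algebra B C] [Algebra B Bm] [Algebra C L] [Algebra Bm L] [Algebra B L]
    [IsScalarTower B C L] [IsScalarTower B Bm L] (M : Submonoid B) [IsLocalization M Bm]
    [IsLocalization (Algebra.algebraMapSubmonoid C M) L]
    (hC : ∀ c : C, IsIntegral B c → ∃ b, algebraMap B C b = c) (x : L) (hx : IsIntegral Bm x) :
    ∃ y, algebraMap Bm L y = x := by
  obtain ⟨⟨z, _, m₁, hm₁, rfl⟩, e⟩ := IsLocalization.surj (Algebra.algebraMapSubmonoid C M) x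
  simp only [← IsScalarTower.algebraMap_apply] at e
  obtain ⟨⟨m₂, hm₂⟩, hm₂s⟩ := IsIntegral.exists_multiple_integral_of_isLocalization M _ hx
  simp only [Submonoid.smul_def, Algebra.smul_def] at hm₂s
  obtain ⟨m₃, hm₃, hm₃s⟩ := IsLocalization.exists_isIntegral_smul_of_isIntegral_map (Sₘ := L) M (x := m₂ • z) <| by
    simp only [Algebra.smul_def, map_mul, ← IsScalarTower.algebraMap_apply, ← e, ← mul_assoc]
    exact hm₂s.mul isIntegral_algebraMap
  obtain ⟨b, hb⟩ := hC _ hm₃s
  let d : M := ⟨m₁ * (m₂ * m₃), mul_mem hm₁ (mul_mem hm₂ hm₃)⟩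
  refine ⟨IsLocalization.mk' Bm b d, ?_⟩
  have hu : IsUnit (algebraMap B L d) := by
    rw [IsScalarTower.algebraMap_apply B Bm L]
    exact (IsLocalization.map_units Bm d).map _
  refine hu.mul_right_cancel ?_
  rw [IsScalarTower.algebraMap_apply B Bm L, ← map_mul, IsLocalization.mk'_spec,
    ← IsScalarTower.algebraMap_apply, ← IsScalarTower.algebraMap_apply, IsScalarTower.algebraMap_apply B C L, hb]
  simp only [Algebra.smul_def, map_mul, ← IsScalarTower.algebraMap_apply, ← e, d]
  ring

/-- A Noetherian ring without non-trivial idempotents, all of whose local rings are domains, is a domain. -/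
theorem isDomain_of_localizations {L : Type u} [CommRing L] [IsNoetherianRing L] [Nontrivial L]
    (hloc : ∀ (P : Ideal L) [P.IsPrime], IsDomain (Localization.AtPrime P))
    (hidem : ∀ e : L, e * e = e → e = 0 ∨ e = 1) : IsDomain L := by
  classical
  haveI : IsReduced L := isReduced_ofLocalizationMaximal L fun J _ => by
    haveI := hloc J
    infer_instance
  have hfin := (⊥ : Ideal L).finite_minimalPrimes_of_isNoetherianRing L
  have hcop : ∀ P ∈ (⊥ : Ideal L).minimalPrimes, ∀ P' ∈ (⊥ : Ideal L).minimalPrimes, P ≠ P' → P ⊔ P' = ⊤ := by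
    intro P hP P' hP' hne
    by_contra h
    obtain ⟨m, hm, hle⟩ := Ideal.exists_le_maximal _ h
    haveI := hm
    haveI := hP.1.1
    haveI := hP'.1.1
    haveI := hloc m
    have key : ∀ Q ∈ (⊥ : Ideal L).minimalPrimes, Q ≤ m →
        Q = RingHom.ker (algebraMap L (Localization.AtPrime m)) := by
      intro Q hQ hQm
      haveI := hQ.1.1
      have hd : Disjoint (m.primeCompl : Set L) Q := Set.disjoint_left.2 fun a ha haQ => ha (hQm haQ)
      have hker : RingHom.ker (algebraMap L (Localization.AtPrime m)) ≤ Q := fun a ha => by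
        obtain ⟨t, ht⟩ := (IsLocalization.map_eq_zero_iff m.primeCompl _ a).1 ha
        exact (hQ.1.1.mem_or_mem (show (t : L) * a ∈ Q by rw [ht]; exact zero_mem Q)).resolve_left
          fun h' => t.2 (hQm h')
      exact le_antisymm (hQ.2 ⟨RingHom.ker_isPrime _, bot_le⟩ hker) hker
    exact hne ((key P hP (le_sup_left.trans hle)).trans (key P' hP' (le_sup_right.trans hle)).symm)
  obtain ⟨m₀, hm₀⟩ := Ideal.exists_maximal L
  haveI := hm₀.isPrime
  obtain ⟨P, hP, -⟩ := Ideal.exists_minimalPrimes_le (I := (⊥ : Ideal L)) (J := m₀) bot_le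
  by_cases hall : ∀ P' ∈ (⊥ : Ideal L).minimalPrimes, P' = P
  · have hP0 : P = ⊥ := by
      refine le_antisymm (fun a ha => ?_) bot_le
      have : a ∈ nilradical L := by
        rw [nilradical, Ideal.zero_eq_bot, ← Ideal.sInf_minimalPrimes]
        exact Submodule.mem_sInf.2 fun Q hQ => (hall Q hQ).symm ▸ ha
      rwa [nilradical_eq_zero, Ideal.zero_eq_bot] at this
    haveI := hP.1.1
    rw [hP0] at this
    exact IsDomain.of_bot_isPrime L
  · exfalso
    push Not at hall
    obtain ⟨P', hP', hne⟩ := hall
    have hsup : P ⊔ ⨅ Q ∈ hfin.toFinset.erase P, Q = ⊤ := Ideal.sup_iInf_eq_top fun Q hQ =>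
      hcop P hP Q (hfin.mem_toFinset.1 (Finset.mem_of_mem_erase hQ)) (Finset.ne_of_mem_erase hQ).symm
    obtain ⟨a, ha, e, he, hae⟩ := Submodule.mem_sup.1 (show (1 : L) ∈ P ⊔ ⨅ Q ∈ hfin.toFinset.erase P, Q by
      rw [hsup]; trivial)
    have hprod : a * e = 0 := by
      have : a * e ∈ nilradical L := by
        rw [nilradical, Ideal.zero_eq_bot, ← Ideal.sInf_minimalPrimes]
        refine Submodule.mem_sInf.2 fun Q hQ => ?_
        by_cases h : Q = P
        · exact h ▸ Ideal.mul_mem_right _ _ ha
        · simp only [Submodule.mem_iInf] at he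
          exact Ideal.mul_mem_left _ _ (he Q (Finset.mem_erase.2 ⟨h, hfin.mem_toFinset.2 hQ⟩))
      rwa [nilradical_eq_zero, Ideal.zero_eq_bot] at this
    have hee : e * e = e := by linear_combination (-1 : L) * hprod + e * hae
    rcases hidem e hee with rfl | rfl
    · exact hP.1.1.ne_top ((Ideal.eq_top_iff_one _).2 (by simpa using (by rw [add_zero] at hae; exact hae ▸ ha)))
    · simp only [Submodule.mem_iInf] at he
      exact hP'.1.1.ne_top ((Ideal.eq_top_iff_one _).2 (he P' (Finset.mem_erase.2 ⟨hne, hfin.mem_toFinset.2 hP'⟩)))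

theorem isNormal_of_isLocalization {R L : Type u} [CommRing R] [CommRing L] [Algebra R L] (M : Submonoid R)
    [IsLocalization M L]
    (h : ∀ (P : Ideal R) [P.IsPrime], IsDomain (Localization.AtPrime P) ∧ IsIntegrallyClosed (Localization.AtPrime P))
    (Q : Ideal L) [Q.IsPrime] : IsDomain (Localization.AtPrime Q) ∧ IsIntegrallyClosed (Localization.AtPrime Q) := by
  haveI : IsLocalization.AtPrime (Localization.AtPrime Q) (Q.under R) :=
    IsLocalization.isLocalization_isLocalization_atPrime_isLocalization M (Localization.AtPrime Q) Q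
  obtain ⟨hd, hi⟩ := h (Q.under R)
  let e := (IsLocalization.algEquiv (Q.under R).primeCompl (Localization.AtPrime (Q.under R))
    (Localization.AtPrime Q)).toRingEquiv
  exact ⟨MulEquiv.isDomain (Localization.AtPrime (Q.under R)) e.symm.toMulEquiv, IsIntegrallyClosed.of_equiv e⟩

/-- A smooth algebra over a normal domain has normal local rings. -/
theorem isNormal_localization_of_domain {A B : Type u} [CommRing A] [IsDomain A] [IsIntegrallyClosed A]
    [CommRing B] [Algebra A B] [Algebra.Smooth A B] (q : Ideal B) [q.IsPrime] :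
    IsDomain (Localization.AtPrime q) ∧ IsIntegrallyClosed (Localization.AtPrime q) := by
  let K := FractionRing A
  let BK := B ⊗[A] K
  haveI : Algebra.Smooth K (K ⊗[A] B) := inferInstance
  haveI : IsNoetherianRing (K ⊗[A] B) := Algebra.FiniteType.isNoetherianRing K (K ⊗[A] B)
  haveI : IsNoetherianRing BK :=
    isNoetherianRing_of_ringEquiv (K ⊗[A] B) (Algebra.TensorProduct.comm A K B).toRingEquiv
  have hnorK : ∀ (P : Ideal BK) [P.IsPrime],
      IsDomain (Localization.AtPrime P) ∧ IsIntegrallyClosed (Localization.AtPrime P) := by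
    intro P _
    let c := (Algebra.TensorProduct.comm A K B).toRingEquiv
    let P' : PrimeSpectrum (K ⊗[A] B) := ⟨P.comap c.toRingHom, inferInstance⟩
    have hreg : PrimeSpectrum.comap (algebraMap K (K ⊗[A] B)) P' ∈ EGA4.regLocus K := by
      show IsRegularLocalRing (Localization.AtPrime _)
      have hne : (0 : K) ∉ (PrimeSpectrum.comap (algebraMap K (K ⊗[A] B)) P').asIdeal.primeCompl :=
        fun h => h (Ideal.zero_mem _)
      have hf := MulEquiv.isField (Field.toIsField K) (RingEquiv.ofBijective _
        (IsField.localization_map_bijective (Rₘ := Localization.AtPrime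
          (PrimeSpectrum.comap (algebraMap K (K ⊗[A] B)) P').asIdeal) hne (Field.toIsField K))).symm.toMulEquiv
      letI := hf.toField
      exact inferInstance
    obtain ⟨hd, hi⟩ := EGA4Lib.mem_norLocus_of_mem_regLocus (EGA4Lib.mem_regLocus_of_smooth P' hreg)
    haveI := hd
    haveI := hi
    have hmap : P'.asIdeal.primeCompl.map c.toMonoidHom = P.primeCompl := by
      ext x
      refine ⟨?_, fun hx => ⟨c.symm x, fun h => hx (by simpa [P'] using h), c.apply_symm_apply x⟩⟩
      rintro ⟨y, hy, rfl⟩
      exact hy
    let e := IsLocalization.ringEquivOfRingEquiv (M := P'.asIdeal.primeCompl) (T := P.primeCompl)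
      (Localization.AtPrime P'.asIdeal) (Localization.AtPrime P) c hmap
    exact ⟨MulEquiv.isDomain (Localization.AtPrime P'.asIdeal) e.symm.toMulEquiv, IsIntegrallyClosed.of_equiv (R := Localization.AtPrime P'.asIdeal) e⟩
  have hB : ∀ c : BK, IsIntegral B c → ∃ b, algebraMap B BK b = c := by
    intro c hc
    obtain ⟨t, ht⟩ := (TensorProduct.toIntegralClosure_bijective_of_smooth (R := A) (S := B) (B := K)).2 ⟨c, hc⟩
    have key : ∀ t, ∃ b, algebraMap B BK b = (TensorProduct.toIntegralClosure A B K t : BK) := by
      intro t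
      induction t with
      | zero => exact ⟨0, by simp⟩
      | add x y hx hy =>
        obtain ⟨a, ha⟩ := hx
        obtain ⟨b, hb⟩ := hy
        exact ⟨a + b, by rw [map_add, map_add, ha, hb]; rfl⟩
      | tmul s k =>
        obtain ⟨a, ha⟩ := IsIntegrallyClosed.isIntegral_iff.1 k.2
        refine ⟨a • s, ?_⟩
        change (a • s) ⊗ₜ[A] (1 : K) = s ⊗ₜ[A] (k : K)
        rw [TensorProduct.smul_tmul, ← Algebra.algebraMap_eq_smul_one, ha]
    obtain ⟨b, hb⟩ := key t
    exact ⟨b, hb.trans (congrArg Subtype.val ht)⟩
  haveI : Module.Flat A B := inferInstance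
  have hinjB : Function.Injective (algebraMap B BK) :=
    Algebra.TensorProduct.includeLeft_injective (S := B) (IsFractionRing.injective A K)
  let Bq := Localization.AtPrime q
  let L := Localization (Algebra.algebraMapSubmonoid BK q.primeCompl)
  haveI : IsLocalization (q.primeCompl.map (algebraMap B BK)) L :=
    (inferInstance : IsLocalization (Algebra.algebraMapSubmonoid BK q.primeCompl) L)
  letI : Algebra Bq L := (IsLocalization.map L (algebraMap B BK) q.primeCompl.le_comap_map : Bq →+* L).toAlgebra
  haveI : IsScalarTower B Bq L := IsScalarTower.of_algebraMap_eq fun x => by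
    change algebraMap B L x = IsLocalization.map L (algebraMap B BK) q.primeCompl.le_comap_map (algebraMap B Bq x)
    rw [IsLocalization.map_eq, IsScalarTower.algebraMap_apply B BK L]
  have hinj : Function.Injective (algebraMap Bq L) :=
    IsLocalization.map_injective_of_injective q.primeCompl Bq L hinjB
  haveI : Nontrivial L := hinj.nontrivial
  haveI : IsNoetherianRing L := IsLocalization.isNoetherianRing (Algebra.algebraMapSubmonoid BK q.primeCompl) L inferInstance
  have hint : ∀ x : L, IsIntegral Bq x → ∃ y, algebraMap Bq L y = x := fun x hx =>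
    exists_algebraMap_eq_of_isIntegral q.primeCompl hB x hx
  haveI : IsDomain L := isDomain_of_localizations (L := L) (fun Q _ => (isNormal_of_isLocalization (Algebra.algebraMapSubmonoid BK q.primeCompl) hnorK Q).1) fun e he => by
    obtain ⟨y, rfl⟩ := hint e ⟨Polynomial.X ^ 2 - Polynomial.X,
      Polynomial.monic_X_pow_sub (by simp), by simp [sq, he]⟩
    have hy : y * y = y := hinj (by rw [map_mul, he])
    rcases IsLocalRing.isUnit_or_isUnit_one_sub_self y with h | h
    · exact Or.inr (by rw [show y = 1 from h.mul_left_cancel (by rw [hy, mul_one]), map_one])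
    · have : (1 - y) * y = 0 := by rw [sub_mul, one_mul, hy, sub_self]
      exact Or.inl (by rw [h.mul_right_eq_zero.1 this, map_zero])
  haveI : IsDomain Bq := hinj.isDomain (algebraMap Bq L)
  haveI : IsIntegrallyClosed L := IsIntegrallyClosed.of_localization_maximal fun Q _ _ => (isNormal_of_isLocalization (Algebra.algebraMapSubmonoid BK q.primeCompl) hnorK Q).2
  refine ⟨inferInstance, (isIntegrallyClosed_iff (FractionRing Bq)).2 fun {x} hx => ?_⟩
  let F := FractionRing L
  have hinjF : Function.Injective (algebraMap Bq F) := by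
    rw [IsScalarTower.algebraMap_eq Bq L F]
    exact (IsFractionRing.injective L F).comp hinj
  let φ : FractionRing Bq →ₐ[Bq] F := IsFractionRing.liftAlgHom (g := Algebra.ofId Bq F) hinjF
  have h1 : IsIntegral Bq (φ x) := hx.map φ
  obtain ⟨l, hl⟩ := (isIntegrallyClosed_iff F).1 (inferInstance : IsIntegrallyClosed L) (h1.tower_top (A := L))
  rw [← hl] at h1
  obtain ⟨y, rfl⟩ := hint l ((isIntegral_algebraMap_iff (IsFractionRing.injective L F)).1 h1)
  exact ⟨y, φ.toRingHom.injective (by rw [AlgHom.toRingHom_eq_coe, RingHom.coe_coe, AlgHom.commutes,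
    IsScalarTower.algebraMap_apply Bq L F, hl])⟩

/-- The localisation of a smooth algebra at a prime only depends on the localised base. -/
theorem exists_localized {A B : Type u} [CommRing A] [CommRing B] [Algebra A B] [Algebra.Smooth A B]
    (p : Ideal A) [p.IsPrime] (q : Ideal B) [q.IsPrime] (hq : q.comap (algebraMap A B) = p)
    (P : ∀ (R : Type u) [CommRing R], Prop)
    (hP : ∀ {R S : Type u} [CommRing R] [CommRing S], (R ≃+* S) → P R → P S)
    (h : ∀ (B' : Type u) [CommRing B'] [Algebra (Localization.AtPrime p) B']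
      [Algebra.Smooth (Localization.AtPrime p) B'] (Q : Ideal B') [Q.IsPrime], P (Localization.AtPrime Q)) :
    P (Localization.AtPrime q) := by
  let Ap := Localization.AtPrime p
  let B' := Ap ⊗[A] B
  letI : Algebra B B' := Algebra.TensorProduct.rightAlgebra
  haveI : IsLocalization (Algebra.algebraMapSubmonoid B p.primeCompl) B' := inferInstance
  have hd : Disjoint (Algebra.algebraMapSubmonoid B p.primeCompl : Set B) q :=
    Set.disjoint_left.2 fun x ⟨a, ha, hax⟩ hxq => ha (hq ▸ (show algebraMap A B a ∈ q from hax ▸ hxq))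
  haveI := IsLocalization.isPrime_of_isPrime_disjoint (Algebra.algebraMapSubmonoid B p.primeCompl) B' q inferInstance hd
  let Q := q.map (algebraMap B B')
  haveI : IsLocalization.AtPrime (Localization.AtPrime Q) (Q.under B) :=
    IsLocalization.isLocalization_isLocalization_atPrime_isLocalization
      (Algebra.algebraMapSubmonoid B p.primeCompl) (Localization.AtPrime Q) Q
  have hu : Q.under B = q :=
    IsLocalization.under_map_of_isPrime_disjoint (Algebra.algebraMapSubmonoid B p.primeCompl) B' inferInstance hd
  haveI : IsLocalization q.primeCompl (Localization.AtPrime Q) := by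
    have h' : IsLocalization (Q.under B).primeCompl (Localization.AtPrime Q) := inferInstance
    convert h' using 2
    exact hu.symm
  exact hP (IsLocalization.algEquiv q.primeCompl (Localization.AtPrime Q) (Localization.AtPrime q)).toRingEquiv (h B' Q)

/-- Normality of local rings ascends along smooth algebras. -/
theorem isNormal_localization {A B : Type u} [CommRing A] [CommRing B] [Algebra A B] [Algebra.Smooth A B]
    (p : Ideal A) [p.IsPrime] (q : Ideal B) [q.IsPrime] (hq : q.comap (algebraMap A B) = p)
    [IsDomain (Localization.AtPrime p)] [IsIntegrallyClosed (Localization.AtPrime p)] :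
    IsDomain (Localization.AtPrime q) ∧ IsIntegrallyClosed (Localization.AtPrime q) :=
  exists_localized p q hq (fun R _ => IsDomain R ∧ IsIntegrallyClosed R)
    (fun e h => by
      haveI := h.1
      haveI := h.2
      exact ⟨MulEquiv.isDomain _ e.symm.toMulEquiv, IsIntegrallyClosed.of_equiv e⟩)
    (fun B' _ _ _ Q _ => isNormal_localization_of_domain (A := Localization.AtPrime p) Q)

/-- Reducedness of local rings ascends along smooth algebras. -/
theorem isReduced_localization {A B : Type u} [CommRing A] [CommRing B] [Algebra A B] [Algebra.Smooth A B]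
    (p : Ideal A) [p.IsPrime] (q : Ideal B) [q.IsPrime] (hq : q.comap (algebraMap A B) = p)
    [IsReduced (Localization.AtPrime p)] : IsReduced (Localization.AtPrime q) :=
  exists_localized p q hq (fun R _ => IsReduced R)
    (fun e h => isReduced_of_injective e.symm e.symm.injective)
    (fun B' _ _ _ Q _ => by
      haveI : IsReduced B' := S9407.result (Localization.AtPrime p) B'
      exact isReduced_localizationPreserves Q.primeCompl (Localization.AtPrime Q) inferInstance)

/-- Descent of normality along faithfully flat maps of domains. -/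
theorem isIntegrallyClosed_descend {A B : Type u} [CommRing A] [CommRing B] [Algebra A B]
    [Module.FaithfullyFlat A B] [IsDomain B] [IsIntegrallyClosed B] : IsDomain A ∧ IsIntegrallyClosed A := by
  have hinj : Function.Injective (algebraMap A B) := FaithfulSMul.algebraMap_injective A B
  haveI : IsDomain A := hinj.isDomain (algebraMap A B)
  refine ⟨inferInstance, (isIntegrallyClosed_iff (FractionRing A)).2 fun {x} hx => ?_⟩
  obtain ⟨⟨a, s⟩, rfl⟩ := IsLocalization.mk'_surjective (nonZeroDivisors A) x
  let F := FractionRing B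
  have hinjF : Function.Injective (algebraMap A F) := by
    rw [IsScalarTower.algebraMap_eq A B F]
    exact (IsFractionRing.injective B F).comp hinj
  let φ : FractionRing A →ₐ[A] F := IsFractionRing.liftAlgHom (g := Algebra.ofId A F) hinjF
  obtain ⟨b, hb⟩ := (isIntegrallyClosed_iff F).1 (inferInstance : IsIntegrallyClosed B)
    ((hx.map φ).tower_top (A := B))
  have hdiv : algebraMap A B a = b * algebraMap A B s := by
    apply IsFractionRing.injective B F
    rw [map_mul, hb, ← IsScalarTower.algebraMap_apply, ← IsScalarTower.algebraMap_apply,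
      ← φ.commutes a, ← φ.commutes s.1, ← map_mul, IsLocalization.mk'_spec]
  have hmem : a ∈ ((Ideal.span {(s : A)}).map (algebraMap A B)).comap (algebraMap A B) := by
    rw [Ideal.mem_comap, hdiv]
    exact Ideal.mul_mem_left _ _ (Ideal.mem_map_of_mem _ (Ideal.subset_span rfl))
  rw [Ideal.comap_map_eq_self_of_faithfullyFlat, Ideal.mem_span_singleton'] at hmem
  obtain ⟨c, hc⟩ := hmem
  exact ⟨c, (IsLocalization.eq_mk'_iff_mul_eq).2 (by rw [← map_mul, hc])⟩

/-- Descent of reducedness along faithfully flat maps. -/
theorem isReduced_descend {A B : Type u} [CommRing A] [CommRing B] [Algebra A B]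
    [Module.FaithfullyFlat A B] [IsReduced B] : IsReduced A :=
  isReduced_of_injective (algebraMap A B) (FaithfulSMul.algebraMap_injective A B)

end Groth.Agent.Omega.SmoothNormal
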