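import Groth.Agent.EGA4Lib.FibreLoc
import Groth.Agent.EGA4Lib.SkFibers
import Groth.Agent.Depth.CM
import Groth.Agent.S4996
import Groth.Agent.Omega.SmoothPoint

/-!
# Depth, `(S_k)` and `(R_k)` along smooth algebras over Noetherian rings
-/

set_option autoImplicit false

universe u

open IsLocalRing CategoryTheory AlgebraicGeometry

noncomputable section

namespace Groth.Agent.Omega.SmoothSerre

/-- `(S_k)` and `(R_k)` are invariant under ring isomorphisms. -/
theorem hasSk_ringEquiv {L L' : Type u} [CommRing L] [CommRing L'] (e : L ≃+* L') (k : ℕ)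
    (h : LocCoh.HasSk k L L) : LocCoh.HasSk k L' L' := by
  intro Q _
  let P := Q.comap (e : L →+* L')
  let el : Localization.AtPrime P ≃+* Localization.AtPrime Q :=
    IsLocalization.ringEquivOfRingEquiv (M := P.primeCompl) (T := Q.primeCompl) _ _ e (by
      ext y
      refine ⟨fun ⟨z, hz, hzy⟩ => hzy ▸ hz, fun hy => ⟨e.symm y, ?_, e.apply_symm_apply y⟩⟩
      show ¬ e (e.symm y) ∈ Q
      rwa [e.apply_symm_apply])
  obtain ⟨h1, h2⟩ := EGA4Lib.depth_supportDim_congr (L := Localization.AtPrime P)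
    (Depth.localizedModuleSelfEquiv P.primeCompl)
  obtain ⟨h3, h4⟩ := EGA4Lib.depth_supportDim_congr (L := Localization.AtPrime Q)
    (Depth.localizedModuleSelfEquiv Q.primeCompl)
  obtain ⟨h5, h6⟩ := EGA4Lib.depth_supportDim_ringEquiv el
  have := h P
  rw [h1, h2, h5, h6] at this
  rwa [h3, h4]

theorem hasRk_ringEquiv {L L' : Type u} [CommRing L] [CommRing L'] (e : L ≃+* L') (k : ℕ)
    (h : LocCoh.HasRk k L) : LocCoh.HasRk k L' := by
  intro Q _ hQ
  let P := Q.comap (e : L →+* L')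
  let el : Localization.AtPrime P ≃+* Localization.AtPrime Q :=
    IsLocalization.ringEquivOfRingEquiv (M := P.primeCompl) (T := Q.primeCompl) _ _ e (by
      ext y
      refine ⟨fun ⟨z, hz, hzy⟩ => hzy ▸ hz, fun hy => ⟨e.symm y, ?_, e.apply_symm_apply y⟩⟩
      show ¬ e (e.symm y) ∈ Q
      rwa [e.apply_symm_apply])
  haveI := h P (by
    exact (RingEquiv.height_comap e Q).le.trans hQ)
  exact IsRegularLocalRing.of_ringEquiv el

theorem hasSk_congr {L : Type u} [CommRing L] {M N : Type u} [AddCommGroup M] [Module L M]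
    [AddCommGroup N] [Module L N] (e : M ≃ₗ[L] N) (k : ℕ) (h : LocCoh.HasSk k L M) : LocCoh.HasSk k L N := by
  intro P _
  obtain ⟨h1, h2⟩ := EGA4Lib.depth_supportDim_congr (L := Localization.AtPrime P)
    (IsLocalizedModule.mapEquiv P.primeCompl (LocalizedModule.mkLinearMap P.primeCompl M)
      (LocalizedModule.mkLinearMap P.primeCompl N) (Localization.AtPrime P) e)
  have := h P
  rwa [h1, h2] at this

/-- `(S_k)` of the local ring at `q` in terms of `HasSkAt`. -/
theorem hasSk_atPrime_iff {L : Type u} [CommRing L] (k : ℕ) (q : Ideal L) [q.IsPrime] :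
    LocCoh.HasSk k (Localization.AtPrime q) (Localization.AtPrime q) ↔ EGA4.HasSkAt k L L q :=
  ⟨hasSk_congr (Depth.localizedModuleSelfEquiv q.primeCompl).symm k,
    hasSk_congr (Depth.localizedModuleSelfEquiv q.primeCompl) k⟩

variable (R : Type u) {S : Type u} [CommRing R] [IsNoetherianRing R] [CommRing S] [Algebra R S]
  [Algebra.Smooth R S]

theorem isRegular_fibLocRing (q : Ideal S) [q.IsPrime] : IsRegularLocalRing (EGA4.FibLocRing R S q) :=
  EGA4Lib.isRegularLocalRing_fibLocRing R ((S4996.result R S).mp ‹_›).2 q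

theorem fib_cm (q : Ideal S) [q.IsPrime] :
    Module.supportDim (Localization.AtPrime q) (EGA4Lib.stalkFib R q S) =
      ((LocCoh.depth (Localization.AtPrime q) (EGA4Lib.stalkFib R q S) : ℕ∞) : WithBot ℕ∞) := by
  haveI := isRegular_fibLocRing R q
  haveI := Depth.isCohenMacaulayLocalRing_of_isRegularLocalRing (R := EGA4.FibLocRing R S q)
  obtain ⟨h1, h2⟩ := EGA4Lib.depth_supportDim_stalkFib_self R q
  rw [h1, h2]
  exact LocCoh.IsCohenMacaulayLocalRing.supportDim_eq_depth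

/-- Smooth maps preserve the codepth. -/
theorem codepth_eq (q : Ideal S) [q.IsPrime] :
    ringKrullDim (Localization.AtPrime q) +
        ((LocCoh.depth (Localization.AtPrime (q.comap (algebraMap R S)))
          (Localization.AtPrime (q.comap (algebraMap R S))) : ℕ∞) : WithBot ℕ∞) =
      ringKrullDim (Localization.AtPrime (q.comap (algebraMap R S))) +
        ((LocCoh.depth (Localization.AtPrime q) (Localization.AtPrime q) : ℕ∞) : WithBot ℕ∞) := by
  haveI : IsNoetherianRing S := Algebra.FiniteType.isNoetherianRing R S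
  obtain ⟨hd, hs⟩ := EGA4Lib.depth_supportDim_stalk_ring R q
  obtain ⟨h1, h2⟩ := EGA4Lib.depth_supportDim_congr (L := Localization.AtPrime q)
    (Depth.localizedModuleSelfEquiv q.primeCompl)
  obtain ⟨h3, h4⟩ := EGA4Lib.depth_supportDim_congr (L := Localization.AtPrime (q.comap (algebraMap R S)))
    (Depth.localizedModuleSelfEquiv (q.comap (algebraMap R S)).primeCompl)
  rw [h1, h3] at hd
  rw [h2, h4, Module.supportDim_self_eq_ringKrullDim, Module.supportDim_self_eq_ringKrullDim, fib_cm R q] at hs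
  rw [hs, hd, WithBot.coe_add, add_assoc, add_comm (WithBot.some _ : WithBot ℕ∞) (WithBot.some _)]

theorem hasSkAt_iff (k : ℕ) (q : Ideal S) [q.IsPrime] :
    EGA4.HasSkAt k S S q ↔ EGA4.HasSkAt k R R (q.comap (algebraMap R S)) := by
  haveI : IsNoetherianRing S := Algebra.FiniteType.isNoetherianRing R S
  rw [EGA4Lib.hasSkAt_iff S k q, EGA4Lib.hasSkAt_iff R k (q.comap (algebraMap R S))]
  constructor
  · intro h P _ hP
    haveI : q.LiesOver (q.comap (algebraMap R S)) := ⟨rfl⟩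
    obtain ⟨T, hTq, hTp, hTo⟩ := Ideal.exists_ideal_le_liesOver_of_le (p := P) q hP
    obtain ⟨m, hm, hmT⟩ := Ideal.exists_minimalPrimes_le
      (show P.map (algebraMap R S) ≤ T from Ideal.map_le_iff_le_comap.2 hTo.over.le)
    haveI := hm.1.1
    have hover : m.comap (algebraMap R S) = P :=
      le_antisymm ((Ideal.comap_mono hmT).trans hTo.over.ge) (Ideal.map_le_iff_le_comap.1 hm.1.2)
    subst hover
    haveI : Nontrivial (LocalizedModule m.primeCompl S) :=
      (Depth.localizedModuleSelfEquiv m.primeCompl).toEquiv.nontrivial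
    obtain ⟨hs0, hd0⟩ := EGA4Lib.stalkFib_eq_zero R m S fun x hxm _ hxp =>
      le_antisymm hxm (hm.2 ⟨x.2, Ideal.map_le_iff_le_comap.2 hxp.ge⟩ hxm)
    obtain ⟨hd, hs⟩ := EGA4Lib.depth_supportDim_stalk_ring R m
    have := h m (hmT.trans hTq)
    rwa [hd, hs, hs0, hd0, add_zero, add_zero] at this
  · intro h m _ hm
    obtain ⟨hd, hs⟩ := EGA4Lib.depth_supportDim_stalk_ring R m
    rw [hd, hs]
    exact EGA4Lib.min_add_le k (h _ (Ideal.comap_mono hm)) ((min_le_right _ _).trans (fib_cm R m).le)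

theorem hasRkAt_iff (k : ℕ) (q : Ideal S) [q.IsPrime] :
    EGA4.HasRkAt k S q ↔ EGA4.HasRkAt k R (q.comap (algebraMap R S)) := by
  haveI : IsNoetherianRing S := Algebra.FiniteType.isNoetherianRing R S
  refine ⟨EGA4Lib.hasRkAt_descent k q, EGA4Lib.hasRkAt_ascent k (fun m _ P _ _ => ?_) q⟩
  haveI := isRegular_fibLocRing R m
  exact RegLoc.Homological.isRegularLocalRing_localization P

theorem exists_chart {X Y : Scheme.{u}} (f : X ⟶ Y) [IsLocallyNoetherian Y] [LocallyOfFiniteType f] {x : X}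
    (hx : ∃ U : X.Opens, x ∈ U ∧ Smooth (U.ι ≫ f)) :
    ∃ (R S : Type u) (_ : CommRing R) (_ : CommRing S) (_ : IsNoetherianRing R) (_ : Algebra R S)
      (_ : Algebra.Smooth R S) (q : Ideal S) (_ : q.IsPrime),
      Nonempty (Localization.AtPrime q ≃+* X.presheaf.stalk x) ∧
        Nonempty (Localization.AtPrime (q.comap (algebraMap R S)) ≃+* Y.presheaf.stalk (f.base x)) := by
  haveI : LocallyOfFinitePresentation f := LocallyOfFinitePresentation.iff_locallyOfFiniteType.mpr ‹_›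
  obtain ⟨V, hV, U, hU, e, hxU, hs⟩ :=
    exists_smooth_of_formallySmooth_stalk f x (SmoothPoint.mem_smoothLocus_of_nhd f hx)
  letI := (f.appLE V U e).hom.toAlgebra
  haveI : IsNoetherianRing Γ(Y, V) := IsLocallyNoetherian.component_noetherian ⟨V, hV⟩
  haveI : Algebra.Smooth Γ(Y, V) Γ(X, U) := RingHom.smooth_algebraMap.mp hs
  letI := Y.presheaf.algebra_section_stalk (⟨f x, e hxU⟩ : V)
  haveI := hV.isLocalization_stalk ⟨f x, e hxU⟩
  letI := X.presheaf.algebra_section_stalk (⟨x, hxU⟩ : U)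
  haveI := hU.isLocalization_stalk ⟨x, hxU⟩
  refine ⟨Γ(Y, V), Γ(X, U), inferInstance, inferInstance, inferInstance, inferInstance, inferInstance,
    (hU.primeIdealOf ⟨x, hxU⟩).asIdeal, inferInstance,
    ⟨(IsLocalization.algEquiv (hU.primeIdealOf ⟨x, hxU⟩).asIdeal.primeCompl _ (X.presheaf.stalk x)).toRingEquiv⟩, ?_⟩
  have hc : (hU.primeIdealOf ⟨x, hxU⟩).asIdeal.comap (algebraMap Γ(Y, V) Γ(X, U)) =
      (hV.primeIdealOf ⟨f x, e hxU⟩).asIdeal :=
    congrArg PrimeSpectrum.asIdeal (IsAffineOpen.comap_primeIdealOf_appLE (f := f) V hV U hU e hxU)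
  haveI : IsLocalization ((hU.primeIdealOf ⟨x, hxU⟩).asIdeal.comap (algebraMap Γ(Y, V) Γ(X, U))).primeCompl
      (Y.presheaf.stalk (f x)) := by
    have h : ((hU.primeIdealOf ⟨x, hxU⟩).asIdeal.comap (algebraMap Γ(Y, V) Γ(X, U))).primeCompl =
        (hV.primeIdealOf ⟨f x, e hxU⟩).asIdeal.primeCompl := by ext; simp [hc]
    rw [h]
    exact hV.isLocalization_stalk ⟨f x, e hxU⟩
  exact ⟨(IsLocalization.algEquiv ((hU.primeIdealOf ⟨x, hxU⟩).asIdeal.comap
    (algebraMap Γ(Y, V) Γ(X, U))).primeCompl _ (Y.presheaf.stalk (f x))).toRingEquiv⟩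

theorem hasSk_hasRk_stalk_iff {X Y : Scheme.{u}} (f : X ⟶ Y) [IsLocallyNoetherian Y] [LocallyOfFiniteType f]
    (x : X) (hx : ∃ U : X.Opens, x ∈ U ∧ Smooth (U.ι ≫ f)) (n : ℕ) :
    (LocCoh.HasSk n ↑(X.presheaf.stalk x) ↑(X.presheaf.stalk x) ↔
        LocCoh.HasSk n ↑(Y.presheaf.stalk (f.base x)) ↑(Y.presheaf.stalk (f.base x))) ∧
      (LocCoh.HasRk n ↑(X.presheaf.stalk x) ↔ LocCoh.HasRk n ↑(Y.presheaf.stalk (f.base x))) := by
  obtain ⟨R, S, _, _, _, _, _, q, _, ⟨eX⟩, ⟨eY⟩⟩ := exists_chart f hx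
  constructor
  · have key : LocCoh.HasSk n (Localization.AtPrime q) (Localization.AtPrime q) ↔
        LocCoh.HasSk n (Localization.AtPrime (q.comap (algebraMap R S))) (Localization.AtPrime (q.comap (algebraMap R S))) := by
      rw [hasSk_atPrime_iff, hasSk_atPrime_iff]
      exact hasSkAt_iff R n q
    exact ⟨fun h => hasSk_ringEquiv eY n (key.1 (hasSk_ringEquiv eX.symm n h)),
      fun h => hasSk_ringEquiv eX n (key.2 (hasSk_ringEquiv eY.symm n h))⟩
  · exact ⟨fun h => hasRk_ringEquiv eY n ((hasRkAt_iff R n q).1 (hasRk_ringEquiv eX.symm n h)),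
      fun h => hasRk_ringEquiv eX n ((hasRkAt_iff R n q).2 (hasRk_ringEquiv eY.symm n h))⟩

theorem codepth_stalk_eq {X Y : Scheme.{u}} (f : X ⟶ Y) [IsLocallyNoetherian Y] [LocallyOfFiniteType f]
    (x : X) (hx : ∃ U : X.Opens, x ∈ U ∧ Smooth (U.ι ≫ f)) :
    ringKrullDim ↑(X.presheaf.stalk x) +
        ((LocCoh.depth ↑(Y.presheaf.stalk (f.base x)) ↑(Y.presheaf.stalk (f.base x)) : ℕ∞) : WithBot ℕ∞) =
      ringKrullDim ↑(Y.presheaf.stalk (f.base x)) +
        ((LocCoh.depth ↑(X.presheaf.stalk x) ↑(X.presheaf.stalk x) : ℕ∞) : WithBot ℕ∞) := by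
  obtain ⟨R, S, _, _, _, _, _, q, _, ⟨eX⟩, ⟨eY⟩⟩ := exists_chart f hx
  rw [← ringKrullDim_eq_of_ringEquiv eX, ← ringKrullDim_eq_of_ringEquiv eY,
    ← (EGA4Lib.depth_supportDim_ringEquiv eX).1, ← (EGA4Lib.depth_supportDim_ringEquiv eY).1]
  exact codepth_eq R q

end Groth.Agent.Omega.SmoothSerre

end
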