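import Groth.Agent.Omega.Affine
import Groth.Agent.Omega.Restrict
import Mathlib.RingTheory.Kaehler.Basic

/-!
# Derivations on `Spec B` over `Spec A` and the universal one into `Ω[B⁄A]~`
-/

set_option autoImplicit false

universe u

open CategoryTheory CategoryTheory.Limits AlgebraicGeometry TopologicalSpace Opposite

namespace Groth.Agent.Omega.SpecDer

open OmegaSh Basic

variable (A B : Type u) [CommRing A] [CommRing B] [Algebra A B]

/-- `Spec B ⟶ Spec A`. -/
noncomputable abbrev π : Spec (CommRingCat.of B) ⟶ Spec (CommRingCat.of A) :=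
  Spec.map (CommRingCat.ofHom (algebraMap A B))

/-- A ring element as a global function on `Spec B`. -/
noncomputable abbrev γ : B →+* Γ(Spec (CommRingCat.of B), ⊤) :=
  (Scheme.ΓSpecIso (CommRingCat.of B)).inv.hom

theorem γ_bijective : Function.Bijective (γ B) :=
  ConcreteCategory.bijective_of_isIso (Scheme.ΓSpecIso (CommRingCat.of B)).inv

theorem appTop_γ (a : A) : (π A B).appTop (γ A a) = γ B (algebraMap A B a) :=
  congr($((Scheme.ΓSpecIso_inv_naturality (CommRingCat.ofHom (algebraMap A B))).symm) a)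

noncomputable instance moduleB (F : (Spec (CommRingCat.of B)).Modules) : Module B Γ(F, ⊤) :=
  Scheme.Modules.instModuleCarrierCarrierObjOppositeOpensCarrierCarrierCommRingCatSpecAbPresheafOp
    (R := CommRingCat.of B) (M := F) (U := ⊤)

theorem smul_eq (F : (Spec (CommRingCat.of B)).Modules) (b : B) (x : Γ(F, ⊤)) :
    b • x = γ B b • x := by
  refine (Scheme.Modules.smul_Spec_def (R := CommRingCat.of B) (M := F) (U := ⊤) b x).trans ?_
  congr 1

/-- The `A`-module structure on the global sections. -/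
@[instance_reducible]
noncomputable def moduleA (F : (Spec (CommRingCat.of B)).Modules) : Module A Γ(F, ⊤) :=
  Module.compHom _ (algebraMap A B)

variable {A B} {F : (Spec (CommRingCat.of B)).Modules}

theorem isScalarTowerA (F : (Spec (CommRingCat.of B)).Modules) :
    letI := moduleA A B F
    IsScalarTower A B Γ(F, ⊤) :=
  letI := moduleA A B F
  IsScalarTower.of_algebraMap_smul fun _ _ => rfl

theorem exists_derivation (D : Der (π A B) F) :
    letI := moduleA A B F
    ∃ δ : Derivation A B Γ(F, ⊤), ∀ b : B, δ b = D.app ⊤ (γ B b) := by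
  let := moduleA A B F
  have h0 : ∀ a : A, D.app ⊤ (γ B (algebraMap A B a)) = 0 := fun a => by
    rw [← appTop_γ]; exact der_app D ⊤ _
  refine ⟨⟨{ toFun := fun b => D.app ⊤ (γ B b), map_add' := fun a b => by simp,
             map_smul' := fun a b => ?_ }, ?_, fun a b => ?_⟩, fun b => rfl⟩
  · change D.app ⊤ (γ B (a • b)) = algebraMap A B a • D.app ⊤ (γ B b)
    rw [Algebra.smul_def, map_mul, der_mul, h0, smul_zero, add_zero, smul_eq]
  · change D.app ⊤ (γ B 1) = 0
    rw [map_one, der_one]
  · change D.app ⊤ (γ B (a * b)) = a • D.app ⊤ (γ B b) + b • D.app ⊤ (γ B a)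
    rw [map_mul, der_mul, smul_eq, smul_eq]

theorem der_ext_γ {D D' : Der (π A B) F} (h : ∀ b : B, D.app ⊤ (γ B b) = D'.app ⊤ (γ B b)) :
    D = D' :=
  Affine.der_ext_of_top F _ (AddMonoidHom.ext fun s => by
    obtain ⟨b, rfl⟩ := (γ_bijective B).2 s
    exact h b)

theorem exists_der (δ : B →+ Γ(F, ⊤)) (hmul : ∀ a b : B, δ (a * b) = a • δ b + b • δ a)
    (halg : ∀ a : A, δ (algebraMap A B a) = 0) :
    ∃ D : Der (π A B) F, ∀ b : B, D.app ⊤ (γ B b) = δ b := by
  let e := RingEquiv.ofBijective (γ B) (γ_bijective B)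
  let δ' : Γ(Spec (CommRingCat.of B), ⊤) →+ Γ(F, ⊤) :=
    { toFun := fun s => δ (e.symm s)
      map_zero' := by simp
      map_add' := fun a b => by simp }
  have h1 : ∀ a b, δ' (a * b) = a • δ' b + b • δ' a := fun a b => by
    obtain ⟨x, rfl⟩ := e.surjective a
    obtain ⟨y, rfl⟩ := e.surjective b
    change δ (e.symm (e x * e y)) = e x • δ (e.symm (e y)) + e y • δ (e.symm (e x))
    rw [← map_mul, e.symm_apply_apply, e.symm_apply_apply, e.symm_apply_apply, hmul, smul_eq, smul_eq]
    rfl
  have h2 : ∀ c, δ' ((π A B).appTop c) = 0 := fun c => by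
    obtain ⟨a, rfl⟩ := (γ_bijective A).2 c
    change δ (e.symm _) = 0
    rw [appTop_γ, show γ B (algebraMap A B a) = e (algebraMap A B a) from rfl, e.symm_apply_apply,
      halg]
  obtain ⟨D, hD⟩ := (Affine.exists_der_iff F (π A B) δ').mp ⟨h1, h2⟩
  refine ⟨D, fun b => ?_⟩
  rw [hD]
  change δ (e.symm (γ B b)) = δ b
  rw [show γ B b = e b from rfl, e.symm_apply_apply]

variable (A B)

/-- The module of Kähler differentials as an object of `ModuleCat B`. -/
noncomputable abbrev omegaMod : ModuleCat.{u} (CommRingCat.of B) :=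
  ModuleCat.of (CommRingCat.of B) (Ω[B⁄A])

/-- An element of `Ω[B⁄A]` as a global section of its tilde. -/
noncomputable def sect : Ω[B⁄A] →ₗ[B] Γ(tilde (omegaMod A B), ⊤) where
  toFun m := (tilde.isoTop (omegaMod A B)).hom.hom m
  map_add' a b := map_add (tilde.isoTop (omegaMod A B)).hom.hom a b
  map_smul' b m := map_smul (tilde.isoTop (omegaMod A B)).hom.hom b m

theorem sect_bijective : Function.Bijective (sect A B) :=
  ConcreteCategory.bijective_of_isIso (tilde.isoTop (omegaMod A B)).hom

theorem existsUnique_hom_tilde (M : ModuleCat.{u} (CommRingCat.of B))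
    (F : (Spec (CommRingCat.of B)).Modules) (l : M →ₗ[B] Γ(F, ⊤)) :
    ∃! α : tilde M ⟶ F, ∀ m, α.app ⊤ ((tilde.isoTop M).hom.hom m) = l m := by
  let e := (tilde.adjunction (R := CommRingCat.of B)).homEquiv M F
  have he : ∀ α, (∀ m, α.app ⊤ ((tilde.isoTop M).hom.hom m) = l m) ↔
      e α = ModuleCat.ofHom (Y := ↑((modulesSpecToSheaf.obj F).presheaf.obj (op ⊤)))
        { toFun := fun m => l m, map_add' := l.map_add, map_smul' := fun b m => l.map_smul b m } := by
    intro α
    rw [Adjunction.homEquiv_unit]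
    exact ⟨fun h => ModuleCat.hom_ext (LinearMap.ext h), fun h m => congr($h m)⟩
  exact (existsUnique_congr he).mpr (e.bijective.existsUnique _)

theorem exists_isUniversal :
    ∃ d : Der (π A B) (tilde (omegaMod A B)),
      IsUniversal d ∧ ∀ b : B, d.app ⊤ (γ B b) = sect A B (KaehlerDifferential.D A B b) := by
  obtain ⟨d, hd⟩ := exists_der (A := A) (F := tilde (omegaMod A B))
    ((sect A B).toAddMonoidHom.comp (KaehlerDifferential.D A B : B →ₗ[A] _).toAddMonoidHom)
    (fun a b => by simp) (fun a => by simp)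
  have hd' : ∀ b : B, d.app ⊤ (γ B b) = sect A B (KaehlerDifferential.D A B b) := hd
  refine ⟨d, fun F D => ?_, hd'⟩
  let := moduleA A B F
  have := isScalarTowerA (A := A) F
  obtain ⟨δ, hδ⟩ := exists_derivation D
  obtain ⟨α, hα, hα'⟩ := existsUnique_hom_tilde B (omegaMod A B) F δ.liftKaehlerDifferential
  refine ⟨α, der_ext_γ fun b => ?_, fun β hβ => hα' β fun m => ?_⟩
  · rw [postcomp_app, hd']
    exact (hα _).trans ((δ.liftKaehlerDifferential_comp_D b).trans (hδ b))
  · let l : Ω[B⁄A] →ₗ[B] Γ(F, ⊤) :=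
      { toFun := fun m => β.app ⊤ (sect A B m)
        map_add' := fun x y => by simp
        map_smul' := fun c x => by
          change β.app ⊤ (sect A B (c • x)) = c • β.app ⊤ (sect A B x)
          rw [map_smul, smul_eq, smul_eq, Scheme.Modules.Hom.app_smul] }
    have hl : l = δ.liftKaehlerDifferential := by
      refine Derivation.liftKaehlerDifferential_unique _ _ (Derivation.ext fun b => ?_)
      refine Eq.trans ?_ (δ.liftKaehlerDifferential_comp_D b).symm
      change β.app ⊤ (sect A B (KaehlerDifferential.D A B b)) = δ b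
      rw [hδ, ← hd', ← hβ, postcomp_app]
    exact DFunLike.congr_fun hl m

end Groth.Agent.Omega.SpecDer
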