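import Groth.Agent.Omega.StalkSeq
import Groth.Agent.Omega.StalkAlg
import Mathlib.AlgebraicGeometry.Morphisms.Immersion

/-!
# The conormal sequence of a morphism between schemes containing a common subscheme
-/

set_option autoImplicit false

universe u

open CategoryTheory CategoryTheory.Limits AlgebraicGeometry TopologicalSpace Opposite

noncomputable section

namespace Groth.Agent.Omega.ConormalSeq

open OmegaSh Basic Stalks StalkConormal StalkSeq StalkAlg
open Groth.Agent.PullStalk.Sky Groth.Agent.PullStalk.Exact Groth.Agent.PullStalk.Basic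

variable {Z X Y : Scheme.{u}} {p : X ⟶ Y} {i : Z ⟶ X} {j : Z ⟶ Y} [IsImmersion i] [IsImmersion j]
  [QuasiCompact i] [QuasiCompact j] {Ω : X.Modules} {d : Der p Ω}
  {ψ : (Scheme.Modules.pullback (𝟙 Z)).obj (Omega.conormal j) ⟶ Omega.conormal i}
  {φ : Omega.conormal i ⟶ (Scheme.Modules.pullback i).obj Ω}

theorem stalkMap_id_bijective (z : Z) : Function.Bijective ((𝟙 Z : Z ⟶ Z).stalkMap z) :=
  ConcreteCategory.bijective_of_isIso _

theorem comp_eq_zero (hd : IsUniversal d) (hψ : IsConormalMap i j p (𝟙 Z) ψ) (hφ : IsConormalDiff i d φ) :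
    ψ ≫ φ = 0 := by
  refine hom_ext_stalk fun z => hom_eq_of_unitStalk (𝟙 Z) _ _ fun t => ?_
  obtain ⟨δ, -, hzero, hδ, -⟩ := exists_pullDer i z hd
  obtain ⟨κ, -, hκ, -⟩ := exists_conormal i z i.isEmbedding.isInducing
  obtain ⟨κ', hκ'smul, hκ', hκ'u⟩ := exists_conormal j ((𝟙 Z : Z ⟶ Z) z) j.isEmbedding.isInducing
  let : Module (Z.presheaf.stalk ((𝟙 Z : Z ⟶ Z) z))
      (((Scheme.Modules.pullback i).obj Ω).presheaf.stalk z) :=
    Module.compHom _ ((𝟙 Z : Z ⟶ Z).stalkMap z).hom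
  let L : (Omega.conormal j).presheaf.stalk ((𝟙 Z : Z ⟶ Z) z) →ₗ[Z.presheaf.stalk ((𝟙 Z : Z ⟶ Z) z)]
      ((Scheme.Modules.pullback i).obj Ω).presheaf.stalk z :=
    { toFun := fun m => stalkLin (ψ ≫ φ) z (unitStalkHom (𝟙 Z) _ z m)
      map_add' := fun a b => (congrArg (stalkLin (ψ ≫ φ) z) (map_add (unitStalkHom (𝟙 Z) _ z).hom a b)).trans (map_add _ _ _)
      map_smul' := fun b m => by
        rw [RingHom.id_apply]
        exact (congrArg (stalkLin (ψ ≫ φ) z) (unitStalkHom_smul (𝟙 Z) _ z b m)).trans (map_smul _ _ _) }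
  have hL : L = 0 := IsKerUniv.hom_ext (κ := κ') hκ'u hκ'smul fun a => by
    change stalkLin (ψ ≫ φ) z (unitStalkHom (𝟙 Z) _ z (κ' a)) = 0
    have ha : σ hψ.1 z a.1 ∈ RingHom.ker (i.stalkMap z).hom := by
      change i.stalkMap z _ = 0
      rw [stalkMap_σ, show j.stalkMap _ a.1 = 0 from a.2, map_zero]
    rw [stalkLin_comp, conormalMap_stalk i.isEmbedding.isInducing j.isEmbedding.isInducing hψ z κ hκ κ' hκ' a ha,
      conormalDiff_stalk i.isEmbedding.isInducing hφ z κ hκ δ hδ]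
    exact hzero _
  rw [stalkLin_zero]
  exact congr($hL t)

theorem stalk_exact (hd : IsUniversal d) (hψ : IsConormalMap i j p (𝟙 Z) ψ) (hφ : IsConormalDiff i d φ)
    (z : Z) :
    Function.Surjective (stalkLin φ z) ∧
      LinearMap.ker (stalkLin φ z) ≤ LinearMap.range (stalkLin ψ z) := by
  obtain ⟨δ, hmul, hzero, hδ, hu⟩ := exists_pullDer i z hd
  obtain ⟨κ, hsmul, hκ, hκu⟩ := exists_conormal i z i.isEmbedding.isInducing
  obtain ⟨κ', -, hκ', -⟩ := exists_conormal j ((𝟙 Z : Z ⟶ Z) z) j.isEmbedding.isInducing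
  have hA : Function.Surjective ((i.stalkMap z).hom.comp (σ hψ.1 z).hom) := by
    intro c
    obtain ⟨c', hc'⟩ := (stalkMap_id_bijective z).2 c
    obtain ⟨a, ha⟩ := j.stalkMap_surjective ((𝟙 Z : Z ⟶ Z) z) c'
    exact ⟨a, (stalkMap_σ hψ.1 z a).trans ((congrArg _ ha).trans hc')⟩
  refine exact_of_surjective (π := (i.stalkMap z).hom) (σ := (σ hψ.1 z).hom) hA hsmul hmul (fun a => hzero _) ?_ hκu
    (conormalDiff_stalk i.isEmbedding.isInducing hφ z κ hκ δ hδ) ?_
  · intro N _ _ e he he₀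
    refine hu N e he fun c => ?_
    obtain ⟨a, ha⟩ := exists_σ_eq hψ.1 z c
    rw [← ha]
    exact he₀ a
  · intro a ha
    have ha' : a ∈ RingHom.ker (j.stalkMap ((𝟙 Z : Z ⟶ Z) z)).hom := by
      refine (stalkMap_id_bijective z).1 ?_
      rw [map_zero, ← stalkMap_σ hψ.1 z a]
      exact ha
    exact ⟨_, conormalMap_stalk i.isEmbedding.isInducing j.isEmbedding.isInducing hψ z κ hκ κ' hκ' ⟨a, ha'⟩ ha⟩

theorem exact_and_epi (hd : IsUniversal d) (hψ : IsConormalMap i j p (𝟙 Z) ψ) (hφ : IsConormalDiff i d φ) :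
    ∃ w : ψ ≫ φ = 0, (ShortComplex.mk ψ φ w).Exact ∧ Epi φ :=
  ⟨comp_eq_zero hd hψ hφ, exact_of_stalk _ fun z => (stalk_exact hd hψ hφ z).2,
    epi_of_stalk fun z => (stalk_exact hd hψ hφ z).1⟩

end Groth.Agent.Omega.ConormalSeq

end
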