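import Groth.Agent.Omega.QuasiSmooth
import Groth.Agent.Omega.QuasiRegular
import Groth.Agent.Omega.SmoothPoint
import Groth.Agent.Omega.Chart
import Groth.Agent.RegImm44.Comp
import Groth.Agent.RegImm44.Local
import Groth.Agent.RegImm38.Smooth
import Groth.Agent.RegImm38.BaseChange

/-!
# Smoothness along quasi-regular immersions of smooth schemes
-/

set_option autoImplicit false
set_option linter.style.haveILetI false

universe u

open CategoryTheory CategoryTheory.Limits AlgebraicGeometry TopologicalSpace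

namespace Groth.Agent.Omega.QuasiSmooth

variable {X Y S : Scheme.{u}}

/-- A regular immersion followed by an open immersion. -/
theorem isRegularImmersionAt_comp_open {W : Scheme.{u}} (j : Y ⟶ W) (o : W ⟶ X) [IsOpenImmersion o]
    (k : RegImm.Kind) (y : Y) (h : RegImm.IsRegularImmersionAt k j y) :
    RegImm.IsRegularImmersionAt k (j ≫ o) y := by
  obtain ⟨⟨D', hD'⟩, hy, hci, rs, hrs, hker⟩ := h
  haveI := hci
  have hD : IsAffineOpen (o ''ᵁ D') := hD'.image_of_isOpenImmersion o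
  have hpre : D' = o ⁻¹ᵁ (o ''ᵁ D') := (o.preimage_image_eq D').symm
  have hle : o ''ᵁ D' ≤ o.opensRange := Set.image_subset_range _ _
  generalize o ''ᵁ D' = D at hD hpre hle
  subst hpre
  haveI : IsIso (o ∣_ D) := by
    rw [isIso_iff_isOpenImmersion_and_surjective]
    refine ⟨inferInstance, ⟨fun z => ?_⟩⟩
    obtain ⟨w, hw⟩ := hle z.2
    exact ⟨⟨w, show o w ∈ D from hw ▸ z.2⟩, Subtype.ext (by rw [morphismRestrict_base_coe]; exact hw)⟩
  haveI := o.isIso_app D hle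
  have hci' : IsClosedImmersion ((j ≫ o) ∣_ D) := by
    rw [morphismRestrict_comp]
    haveI : IsClosedImmersion (o ∣_ D) := MorphismProperty.of_isIso @IsClosedImmersion _
    exact IsClosedImmersion.comp (j ∣_ o ⁻¹ᵁ D) (o ∣_ D)
  let e := (asIso (o.app D)).commRingCatIsoToRingEquiv
  have hk : RingHom.ker ((j ≫ o).app D).hom = Ideal.ofList (rs.map e.symm.toRingHom) := by
    rw [← Ideal.map_ofList, ← hker, show Ideal.map e.symm.toRingHom (RingHom.ker (j.app (o ⁻¹ᵁ D)).hom) =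
      Ideal.comap e (RingHom.ker (j.app (o ⁻¹ᵁ D)).hom) from Ideal.map_symm e]
    rw [Scheme.Hom.comp_app]
    rfl
  exact ⟨⟨D, hD⟩, hy, hci', _, RegImm38.seq_map_flat k _ (RingHom.Flat.of_bijective e.symm.bijective) hrs
    (RegImm38.ofList_ne_top (j ≫ o) hD y hy hk), hk⟩

/-- If `Y` is smooth over `S` at `y` and quasi-regularly immersed in `X` near `y`, then `X` is smooth over
`S` at the image of `y`. -/
theorem mem_smoothLocus_of_quasi (f : X ⟶ S) [LocallyOfFinitePresentation f] (j : Y ⟶ X) (h : Y ⟶ S)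
    [LocallyOfFinitePresentation h] (hj : j ≫ f = h) (y : Y) (hy : y ∈ h.smoothLocus)
    (hreg : RegImm.IsRegularImmersionAt RegImm.Kind.quasi j y) : j y ∈ f.smoothLocus := by
  obtain ⟨⟨U₀, hU₀⟩, hyU₀, hci, rs₀, hrs₀, hker₀⟩ := hreg
  haveI := hci
  obtain ⟨V, hV, U', hU', hyU', hUW, hUV⟩ := Chart.exists_affine_pair f (j y) (W := U₀) hyU₀
  haveI := RegImm44.isClosedImmersion_restrict_of_le j hUW
  let ρ := (X.presheaf.map (homOfLE hUW).op).hom
  have hker : RingHom.ker (j.app U').hom = Ideal.ofList (rs₀.map ρ) := by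
    rw [RegImm44.ker_app_restrict j hU₀ hU' hUW, hker₀, Ideal.map_ofList]
  have hrs : RegImm.Kind.quasi.Seq Γ(X, U') (rs₀.map ρ) :=
    RegImm38.seq_map_flat .quasi ρ (RegImm44.flat_restrictionMap hU₀ hU' hUW) hrs₀
      (RegImm38.ofList_ne_top j hU' y hyU' hker)
  have hW : IsAffineOpen (j ⁻¹ᵁ U') := RegImm44.isAffineOpen_preimage j hU'
  have hWV : j ⁻¹ᵁ U' ≤ h ⁻¹ᵁ V := by
    rw [← hj]
    exact fun z hz => hUV hz
  have hcomp : f.appLE V U' hUV ≫ j.app U' = h.appLE V (j ⁻¹ᵁ U') hWV := by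
    subst hj
    rw [Scheme.Hom.app_eq_appLE, Scheme.Hom.appLE_comp_appLE]
  rw [Scheme.Hom.mem_smoothLocus, formallySmooth_stalkMap_iff V hV (j ⁻¹ᵁ U') hW hWV hyU'] at hy
  rw [Scheme.Hom.mem_smoothLocus, formallySmooth_stalkMap_iff V hV U' hU' hUV hyU']
  letI := (f.appLE V U' hUV).hom.toAlgebra
  letI := (h.appLE V (j ⁻¹ᵁ U') hWV).hom.toAlgebra
  haveI : Algebra.FinitePresentation Γ(S, V) Γ(X, U') :=
    f.finitePresentation_appLE hV hU' hUV
  let π : Γ(X, U') →ₐ[Γ(S, V)] Γ(Y, j ⁻¹ᵁ U') :=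
    { (j.app U').hom with commutes' := fun a => congrArg (fun g => g.hom a) hcomp }
  haveI : Algebra.IsSmoothAt Γ(S, V) (hW.primeIdealOf ⟨y, hyU'⟩).asIdeal := hy
  have hP : (hU'.primeIdealOf ⟨j y, hyU'⟩).asIdeal = (hW.primeIdealOf ⟨y, hyU'⟩).asIdeal.comap π := by
    have := IsAffineOpen.comap_primeIdealOf_appLE (f := j) U' hU' (j ⁻¹ᵁ U') hW (le_refl _) (x := y) hyU'
    rw [← Scheme.Hom.app_eq_appLE] at this
    exact congrArg PrimeSpectrum.asIdeal this.symm
  have := isSmoothAt_of_quasi (A := Γ(S, V)) (rs₀.map ρ).get hrs π (RegImm44.app_surjective j hU')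
    (by rw [Set.range_list_get]; exact hker) (hW.primeIdealOf ⟨y, hyU'⟩).asIdeal
  change Algebra.FormallySmooth Γ(S, V) (Localization.AtPrime (hU'.primeIdealOf ⟨j y, hyU'⟩).asIdeal)
  exact (congrArg (fun P : PrimeSpectrum Γ(X, U') => Algebra.FormallySmooth Γ(S, V) (Localization.AtPrime P.asIdeal))
    (PrimeSpectrum.ext hP : hU'.primeIdealOf ⟨j y, hyU'⟩ = PrimeSpectrum.comap π.toRingHom (hW.primeIdealOf ⟨y, hyU'⟩))).mpr this

/-- A section is a quasi-regular immersion near the points where the morphism is smooth. -/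
theorem exists_isRegularImmersion_section (f : X ⟶ S) [LocallyOfFinitePresentation f] (u : S ⟶ X)
    (hu : u ≫ f = 𝟙 S) (s : S) (hs : u s ∈ f.smoothLocus) :
    ∃ V : S.Opens, s ∈ V ∧ RegImm.IsRegularImmersion RegImm.Kind.quasi (V.ι ≫ u) := by
  let W := f.smoothLocus
  let V := u ⁻¹ᵁ W
  let j : (V : Scheme.{u}) ⟶ W := u ∣_ W
  have hjW : j ≫ W.ι = V.ι ≫ u := morphismRestrict_ι u W
  have hji : j ≫ (W.ι ≫ f) = V.ι := by rw [← Category.assoc, hjW, Category.assoc, hu, Category.comp_id]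
  haveI : Smooth (W.ι ≫ f) := by
    rw [← Scheme.Hom.smoothLocus_eq_top_iff, ← Scheme.Hom.preimage_smoothLocus_eq]
    exact W.ι_preimage_self
  haveI : IsImmersion (j ≫ (W.ι ≫ f)) := by rw [hji]; infer_instance
  haveI : IsImmersion j := IsImmersion.of_comp j (W.ι ≫ f)
  refine ⟨V, hs, ⟨hjW ▸ inferInstance, fun z => ?_⟩⟩
  have hi : RegImm.IsRegularImmersionAt RegImm.Kind.regular V.ι z := by
    obtain ⟨U, hU, hzU, hUV⟩ := exists_isAffineOpen_mem_and_subset (U := V) (show V.ι z ∈ V from z.2)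
    have hci : IsClosedImmersion (V.ι ∣_ U) := by
      haveI : IsIso (V.ι ∣_ U) := by
        rw [isIso_iff_isOpenImmersion_and_surjective]
        exact ⟨inferInstance, ⟨fun w => ⟨⟨⟨w.1, hUV w.2⟩, w.2⟩, Subtype.ext (morphismRestrict_base_coe _ _ _)⟩⟩⟩
      exact MorphismProperty.of_isIso @IsClosedImmersion _
    haveI : Nonempty U := ⟨⟨_, hzU⟩⟩
    have hk : RingHom.ker (V.ι.app U).hom = Ideal.ofList [] := by
      rw [Ideal.ofList_nil, ← RingHom.injective_iff_ker_eq_bot]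
      haveI := V.ι.isIso_app U (by rw [Scheme.Opens.opensRange_ι]; exact hUV)
      exact (ConcreteCategory.bijective_of_isIso (V.ι.app U)).1
    exact ⟨⟨U, hU⟩, hzU, hci, [], ⟨RingTheory.Sequence.IsWeaklyRegular.nil _ _, by simp⟩, hk⟩
  have := RegImm38.Smooth.isRegularImmersionAt_of_smooth V.ι j (W.ι ≫ f) hji z hi
  obtain ⟨U, hz, hci, rs, hrs, hker⟩ := this
  rw [← hjW]
  exact isRegularImmersionAt_comp_open j W.ι _ z ⟨U, hz, hci, rs, quasi_of_isRegular hrs, hker⟩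

theorem mem_smoothLocus_section_iff (f : X ⟶ S) [LocallyOfFinitePresentation f] (u : S ⟶ X)
    (hu : u ≫ f = 𝟙 S) (s : S) :
    u s ∈ f.smoothLocus ↔ ∃ V : S.Opens, s ∈ V ∧ RegImm.IsRegularImmersion RegImm.Kind.quasi (V.ι ≫ u) := by
  refine ⟨exists_isRegularImmersion_section f u hu s, fun ⟨V, hs, h⟩ => ?_⟩
  exact mem_smoothLocus_of_quasi f (V.ι ≫ u) V.ι (by rw [Category.assoc, hu, Category.comp_id]) ⟨s, hs⟩
    (by rw [Scheme.Hom.smoothLocus_eq_top]; trivial) (h.2 ⟨s, hs⟩)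

/-- Regularity at a point is seen on an open subscheme of the source. -/
theorem isRegularImmersionAt_of_open_comp {U : Scheme.{u}} (i : Y ⟶ X) [IsImmersion i] (o : U ⟶ Y)
    [IsOpenImmersion o] (k : RegImm.Kind) (z : U) (h : RegImm.IsRegularImmersionAt k (o ≫ i) z) :
    RegImm.IsRegularImmersionAt k i (o z) := by
  obtain ⟨⟨U₀, hU₀⟩, hz₀, hci₀, rs, hrs, hker⟩ := h
  haveI := hci₀
  obtain ⟨D, hD, hzD, hci, hci', heq⟩ := RegImm44.exists_chart_open_comp i o z
  haveI := hci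
  haveI := hci'
  obtain ⟨U', hU', hz', hle⟩ := exists_isAffineOpen_mem_and_subset (show i (o z) ∈ U₀ ⊓ D from ⟨hz₀, hzD⟩)
  have hleU : U' ≤ U₀ := le_trans (show U' ≤ U₀ ⊓ D from hle) inf_le_left
  have hleD : U' ≤ D := le_trans (show U' ≤ U₀ ⊓ D from hle) inf_le_right
  haveI := RegImm44.isClosedImmersion_restrict_of_le i hleD
  have hk : RingHom.ker (i.app U').hom = Ideal.ofList (rs.map (X.presheaf.map (homOfLE hleU).op).hom) := by
    rw [RegImm44.ker_app_restrict i hD hU' hleD, ← heq, ← RegImm44.ker_app_restrict (o ≫ i) hD hU' hleD,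
      RegImm44.ker_app_restrict (o ≫ i) hU₀ hU' hleU, hker, Ideal.map_ofList]
  exact ⟨⟨U', hU'⟩, hz', inferInstance, _, RegImm38.seq_map_flat k _
    (RegImm44.flat_restrictionMap hU₀ hU' hleU) hrs (RegImm38.ofList_ne_top i hU' (o z) hz' hk), hk⟩

end Groth.Agent.Omega.QuasiSmooth
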