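import Groth.Agent.Omega.RankDimGen
import Groth.Agent.S9442
import Mathlib.RingTheory.LocalProperties.Reduced

/-!
# Regular = smooth over a perfect field
-/

set_option autoImplicit false

universe u

noncomputable section

namespace Groth.Agent.Omega.RegularSmooth

variable (k : Type u) [Field k] (A : Type u) [CommRing A] [Algebra k A] [Algebra.FiniteType k A]

theorem isRegularRing_iff_formallySmooth [PerfectField k] :
    IsRegularRing A ↔ Algebra.FormallySmooth k A := by
  haveI : Algebra.FinitePresentation k A := Algebra.FinitePresentation.of_finiteType.mp inferInstance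
  haveI : IsNoetherianRing A := Algebra.FiniteType.isNoetherianRing k A
  rw [isRegularRing_iff, ← Algebra.smoothLocus_eq_univ_iff, Set.eq_univ_iff_forall]
  constructor
  · intro h q
    haveI : Algebra.IsGeometricallyReduced k q.asIdeal.ResidueField :=
      (FieldSep.MacLane.formallySmooth_iff k _).mp (FieldSep.Cartier.formallySmooth_of_perfectField k _)
    exact (S9442.result k A q.asIdeal).mpr (h q.asIdeal)
  · intro h p hp
    exact RankDim.isRegularLocalRing_of_isSmoothAt k A p (h ⟨p, hp⟩)

theorem isReduced_of_formallySmooth [Algebra.FormallySmooth k A] : IsReduced A := by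
  haveI : IsNoetherianRing A := Algebra.FiniteType.isNoetherianRing k A
  refine isReduced_ofLocalizationMaximal A fun m hm => ?_
  haveI : Algebra.FormallySmooth A (Localization.AtPrime m) :=
    Algebra.FormallySmooth.of_isLocalization m.primeCompl
  haveI := RankDim.isRegularLocalRing_of_isSmoothAt k A m (Algebra.FormallySmooth.comp k A _)
  haveI := RegLoc.isDomain (Localization.AtPrime m)
  infer_instance

theorem eq_nilradical_of_mem_minimalPrimes {A : Type u} [CommRing A] (hirr : (nilradical A).IsPrime)
    (p : Ideal A) (hp : p ∈ minimalPrimes A) : p = nilradical A := by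
  haveI := hp.1.1
  exact le_antisymm (hp.2 ⟨hirr, bot_le⟩ (nilradical_le_prime p)) (nilradical_le_prime p)

theorem ringKrullDim_quot_nilradical (A : Type u) [CommRing A] :
    ringKrullDim (A ⧸ nilradical A) = ringKrullDim A := by
  refine le_antisymm (ringKrullDim_quotient_le _) ?_
  rw [ringKrullDim_quotient]
  exact Order.krullDim_le_of_strictMono
    (fun x : PrimeSpectrum A => (⟨x, fun t ht => nilradical_le_prime x.asIdeal ht⟩ :
      PrimeSpectrum.zeroLocus (nilradical A : Set A)))
    fun _ _ h => h

include k in
theorem localDim_eq_of_irreducible (hirr : (nilradical A).IsPrime) (n : ℕ) (hn : ringKrullDim A = n)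
    (q : Ideal A) [q.IsPrime] : FlatMor.localDim (PrimeSpectrum A) ⟨q, inferInstance⟩ = (n : WithBot ℕ∞) := by
  have hd : ringKrullDim (A ⧸ nilradical A) = n := by
    rw [ringKrullDim_quot_nilradical, hn]
  rw [CAlgLib.LocalDimSpec.localDim_eq k q]
  refine le_antisymm (iSup_le fun p => ?_) ?_
  · exact ((ringKrullDim_eq_of_ringEquiv (Ideal.quotEquivOfEq
      (eq_nilradical_of_mem_minimalPrimes hirr p.1 p.2.1))).trans hd).le
  · obtain ⟨p, hp, hpq⟩ := Ideal.exists_minimalPrimes_le (bot_le : (⊥ : Ideal A) ≤ q)
    refine le_iSup_of_le (⟨p, hp, hpq⟩ : CAlgLib.LocalDimSpec.Mins q) ?_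
    exact ((ringKrullDim_eq_of_ringEquiv (Ideal.quotEquivOfEq
      (eq_nilradical_of_mem_minimalPrimes hirr p hp))).trans hd).ge

end Groth.Agent.Omega.RegularSmooth

end
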