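import Groth.Agent.Omega.Basic
import Groth.Agent.Omega.LocDer

/-!
# Derivations on affine schemes are determined by, and extend from, global sections
-/

set_option autoImplicit false

universe u

open CategoryTheory CategoryTheory.Limits AlgebraicGeometry TopologicalSpace Opposite

namespace Groth.Agent.Omega.Affine

open OmegaSh Basic

variable {X Y : Scheme.{u}}

theorem le_iSup_basicOpen [IsAffine X] (U : X.Opens) :
    U ≤ ⨆ g : {g : Γ(X, ⊤) // X.basicOpen g ≤ U}, X.basicOpen g.1 := by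
  intro x hx
  obtain ⟨_, ⟨_, ⟨g, rfl⟩, rfl⟩, hxg, hg⟩ :=
    (isBasis_basicOpen X).exists_subset_of_mem_open hx U.isOpen
  exact Opens.mem_iSup.mpr ⟨⟨g, hg⟩, hxg⟩

variable (F : X.Modules)

theorem sect_ext [IsAffine X] {U : X.Opens} {s t : Γ(F, U)}
    (h : ∀ (g : Γ(X, ⊤)) (e : X.basicOpen g ≤ U),
      F.presheaf.map (homOfLE e).op s = F.presheaf.map (homOfLE e).op t) : s = t :=
  TopCat.Sheaf.eq_of_locally_eq' ⟨F.presheaf, F.isSheaf⟩
    (fun g : {g : Γ(X, ⊤) // X.basicOpen g ≤ U} => X.basicOpen g.1) U (fun g => homOfLE g.2)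
    (le_iSup_basicOpen U) s t (fun g => h g.1 g.2)

/-- Two Leibniz maps out of the functions on a basic open agree if they agree on global functions. -/
theorem basic_ext [IsAffine X] (g : Γ(X, ⊤)) {W : X.Opens} (e : W ≤ X.basicOpen g)
    {D D' : Γ(X, X.basicOpen g) →+ Γ(F, W)}
    (hD : ∀ a b, D (a * b) = X.presheaf.map (homOfLE e).op a • D b + X.presheaf.map (homOfLE e).op b • D a)
    (hD' : ∀ a b, D' (a * b) = X.presheaf.map (homOfLE e).op a • D' b + X.presheaf.map (homOfLE e).op b • D' a)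
    (h : ∀ b : Γ(X, ⊤), D (X.presheaf.map (homOfLE (le_top (a := X.basicOpen g))).op b) =
      D' (X.presheaf.map (homOfLE (le_top (a := X.basicOpen g))).op b)) : D = D' := by
  let : Module Γ(X, X.basicOpen g) Γ(F, W) := Module.compHom _ (X.presheaf.map (homOfLE e).op).hom
  exact LocDer.ext_of_localization (Submonoid.powers g) hD hD' h

variable (f : X ⟶ Y)

theorem der_ext_of_top [IsAffine X] {D D' : Der f F} (h : D.app ⊤ = D'.app ⊤) : D = D' := by
  refine der_ext fun U s => sect_ext F fun g e => ?_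
  rw [← der_map, ← der_map]
  refine DFunLike.congr_fun (basic_ext F g le_rfl ?_ ?_ ?_) _
  · intro a b; simpa using der_mul D _ a b
  · intro a b; simpa using der_mul D' _ a b
  · intro b
    rw [der_map, der_map, h]

variable (δ : Γ(X, ⊤) →+ Γ(F, ⊤)) (hδ : ∀ a b : Γ(X, ⊤), δ (a * b) = a • δ b + b • δ a)

section Extend

variable [IsAffine X]

include hδ in
theorem exists_basic (g : Γ(X, ⊤)) :
    ∃ D : Γ(X, X.basicOpen g) →+ Γ(F, X.basicOpen g),
      (∀ a b, D (a * b) = a • D b + b • D a) ∧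
      ∀ b, D (X.presheaf.map (homOfLE le_top).op b) = F.presheaf.map (homOfLE le_top).op (δ b) :=
  LocDer.exists_extension (Submonoid.powers g)
    ((F.presheaf.map (homOfLE (le_top (a := X.basicOpen g))).op).hom.comp δ) fun a b => by
      change F.presheaf.map _ (δ (a * b)) = _
      rw [hδ, map_add, Scheme.Modules.map_smul, Scheme.Modules.map_smul]
      rfl

/-- The value of the extension on a basic open. -/
noncomputable def onBasic (g : Γ(X, ⊤)) : Γ(X, X.basicOpen g) →+ Γ(F, X.basicOpen g) :=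
  (exists_basic F δ hδ g).choose

theorem onBasic_mul (g : Γ(X, ⊤)) (a b : Γ(X, X.basicOpen g)) :
    onBasic F δ hδ g (a * b) = a • onBasic F δ hδ g b + b • onBasic F δ hδ g a :=
  (exists_basic F δ hδ g).choose_spec.1 a b

theorem onBasic_map (g b : Γ(X, ⊤)) :
    onBasic F δ hδ g (X.presheaf.map (homOfLE le_top).op b) =
      F.presheaf.map (homOfLE le_top).op (δ b) :=
  (exists_basic F δ hδ g).choose_spec.2 b

theorem onBasic_res {g g' : Γ(X, ⊤)} (e : X.basicOpen g' ≤ X.basicOpen g)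
    (a : Γ(X, X.basicOpen g)) :
    onBasic F δ hδ g' (X.presheaf.map (homOfLE e).op a) =
      F.presheaf.map (homOfLE e).op (onBasic F δ hδ g a) := by
  refine DFunLike.congr_fun (basic_ext F g e
    (D := (onBasic F δ hδ g').comp (X.presheaf.map (homOfLE e).op).hom.toAddMonoidHom)
    (D' := (F.presheaf.map (homOfLE e).op).hom.comp (onBasic F δ hδ g)) ?_ ?_ ?_) a
  · intro a b
    change onBasic F δ hδ g' (X.presheaf.map (homOfLE e).op (a * b)) = _
    rw [map_mul, onBasic_mul]
    rfl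
  · intro a b
    change F.presheaf.map (homOfLE e).op (onBasic F δ hδ g (a * b)) = _
    rw [onBasic_mul, map_add, Scheme.Modules.map_smul, Scheme.Modules.map_smul]
    rfl
  · intro b
    change onBasic F δ hδ g' (X.presheaf.map (homOfLE e).op (X.presheaf.map _ b)) =
      F.presheaf.map (homOfLE e).op (onBasic F δ hδ g (X.presheaf.map _ b))
    rw [onBasic_map, res_res, resM_resM, homOfLE_comp]
    exact onBasic_map F δ hδ g' b

theorem existsUnique_sect (U : X.Opens) (s : Γ(X, U)) :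
    ∃! t : Γ(F, U), ∀ g : {g : Γ(X, ⊤) // X.basicOpen g ≤ U},
      F.presheaf.map (homOfLE g.2).op t =
        onBasic F δ hδ g.1 (X.presheaf.map (homOfLE g.2).op s) := by
  refine TopCat.Sheaf.existsUnique_gluing' ⟨F.presheaf, F.isSheaf⟩
    (fun g : {g : Γ(X, ⊤) // X.basicOpen g ≤ U} => X.basicOpen g.1) U (fun g => homOfLE g.2)
    (le_iSup_basicOpen U)
    (fun g => onBasic F δ hδ g.1 (X.presheaf.map (homOfLE g.2).op s)) fun g g' => ?_
  refine sect_ext F fun k ek => ?_
  change F.presheaf.map (homOfLE ek).op (F.presheaf.map (homOfLE inf_le_left).op _) =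
    F.presheaf.map (homOfLE ek).op (F.presheaf.map (homOfLE inf_le_right).op _)
  rw [resM_resM, resM_resM, homOfLE_comp, homOfLE_comp, ← onBasic_res, ← onBasic_res, res_res,
    res_res]

/-- The value of the extension on any open. -/
noncomputable def onOpen (U : X.Opens) (s : Γ(X, U)) : Γ(F, U) :=
  (existsUnique_sect F δ hδ U s).exists.choose

theorem onOpen_res (U : X.Opens) (s : Γ(X, U)) (g : Γ(X, ⊤)) (e : X.basicOpen g ≤ U) :
    F.presheaf.map (homOfLE e).op (onOpen F δ hδ U s) =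
      onBasic F δ hδ g (X.presheaf.map (homOfLE e).op s) :=
  (existsUnique_sect F δ hδ U s).exists.choose_spec ⟨g, e⟩

theorem onOpen_add (U : X.Opens) (a b : Γ(X, U)) :
    onOpen F δ hδ U (a + b) = onOpen F δ hδ U a + onOpen F δ hδ U b := by
  refine sect_ext F fun g e => ?_
  simp only [map_add, onOpen_res]

theorem onOpen_mul (U : X.Opens) (a b : Γ(X, U)) :
    onOpen F δ hδ U (a * b) = a • onOpen F δ hδ U b + b • onOpen F δ hδ U a := by
  refine sect_ext F fun g e => ?_
  simp only [map_add, Scheme.Modules.map_smul, onOpen_res, map_mul, onBasic_mul]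

theorem onOpen_map {U V : X.Opens} (i : V ⟶ U) (s : Γ(X, U)) :
    onOpen F δ hδ V (X.presheaf.map i.op s) = F.presheaf.map i.op (onOpen F δ hδ U s) := by
  refine sect_ext F fun g e => ?_
  rw [onOpen_res, resM_resM]
  rw [show i = homOfLE i.le from rfl, res_res, homOfLE_comp, onOpen_res]

theorem onOpen_top : ∀ s, onOpen F δ hδ ⊤ s = δ s := fun s =>
  sect_ext F fun g e => by rw [onOpen_res, onBasic_map]

variable [IsAffine Y] (hY : ∀ c : Γ(Y, ⊤), δ (f.appTop c) = 0)

include hY in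
theorem onOpen_app (V : Y.Opens) (c : Γ(Y, V)) : onOpen F δ hδ (f ⁻¹ᵁ V) (f.app V c) = 0 := by
  refine TopCat.Sheaf.eq_of_locally_eq' ⟨F.presheaf, F.isSheaf⟩
    (fun a : {a : Γ(Y, ⊤) // Y.basicOpen a ≤ V} => X.basicOpen (f.appTop a.1)) (f ⁻¹ᵁ V)
    (fun a => homOfLE ((Scheme.preimage_basicOpen_top f a.1).ge.trans (f.preimage_mono a.2)))
    ?_ _ _ fun a => ?_
  · intro x hx
    obtain ⟨⟨a, ha⟩, hxa⟩ := Opens.mem_iSup.mp (le_iSup_basicOpen V hx)
    exact Opens.mem_iSup.mpr ⟨⟨a, ha⟩, (Scheme.preimage_basicOpen_top f a).le hxa⟩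
  have ea : X.basicOpen (f.appTop a.1) ≤ f ⁻¹ᵁ Y.basicOpen a.1 :=
    (Scheme.preimage_basicOpen_top f a.1).ge
  change F.presheaf.map (homOfLE (ea.trans (f.preimage_mono a.2))).op _ = F.presheaf.map _ 0
  rw [map_zero, onOpen_res]
  have h1 : ∀ c : Γ(Y, V), X.presheaf.map (homOfLE (ea.trans (f.preimage_mono a.2))).op (f.app V c) =
      f.appLE (Y.basicOpen a.1) (X.basicOpen (f.appTop a.1)) ea (Y.presheaf.map (homOfLE a.2).op c) := by
    intro c
    rw [← ConcreteCategory.comp_apply, ← ConcreteCategory.comp_apply, Scheme.Hom.map_appLE]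
    rfl
  rw [h1]
  let : Module Γ(Y, Y.basicOpen a.1) Γ(F, X.basicOpen (f.appTop a.1)) :=
    Module.compHom _ (f.appLE (Y.basicOpen a.1) (X.basicOpen (f.appTop a.1)) ea).hom
  refine DFunLike.congr_fun (LocDer.ext_of_localization (Submonoid.powers a.1)
    (D := (onBasic F δ hδ (f.appTop a.1)).comp (f.appLE (Y.basicOpen a.1) _ ea).hom.toAddMonoidHom)
    (D' := 0) ?_ ?_ ?_) _
  · intro x y
    change onBasic F δ hδ _ (f.appLE (Y.basicOpen a.1) _ ea (x * y)) = _
    rw [map_mul, onBasic_mul]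
    rfl
  · simp
  · intro b
    change onBasic F δ hδ _ (f.appLE (Y.basicOpen a.1) _ ea
      (Y.presheaf.map (homOfLE (le_top (a := Y.basicOpen a.1))).op b)) = 0
    have h2 : f.appLE (Y.basicOpen a.1) _ ea (Y.presheaf.map (homOfLE (le_top (a := Y.basicOpen a.1))).op b) =
        X.presheaf.map (homOfLE (le_top (a := X.basicOpen (f.appTop a.1)))).op (f.appTop b) := by
      rw [← ConcreteCategory.comp_apply, ← ConcreteCategory.comp_apply, Scheme.Hom.map_appLE]
      rfl
    rw [h2, onBasic_map, hY, map_zero]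

/-- The derivation extending a derivation of the global functions. -/
noncomputable def extend : Der f F where
  d {U} := AddMonoidHom.mk' (onOpen F δ hδ U.unop) (onOpen_add F δ hδ U.unop)
  d_mul {U} a b := onOpen_mul F δ hδ U.unop a b
  d_map i s := onOpen_map F δ hδ i.unop s
  d_app {V} c := onOpen_app F f δ hδ hY V.unop c

theorem extend_app_top : (extend F f δ hδ hY).app ⊤ = δ :=
  AddMonoidHom.ext (onOpen_top F δ hδ)

end Extend

theorem exists_der_iff [IsAffine X] [IsAffine Y] (δ : Γ(X, ⊤) →+ Γ(F, ⊤)) :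
    ((∀ a b : Γ(X, ⊤), δ (a * b) = a • δ b + b • δ a) ∧ ∀ c : Γ(Y, ⊤), δ (f.appTop c) = 0) ↔
      ∃ D : Der f F, D.app ⊤ = δ := by
  refine ⟨fun ⟨h₁, h₂⟩ => ⟨extend F f δ h₁ h₂, extend_app_top F f δ h₁ h₂⟩, ?_⟩
  rintro ⟨D, rfl⟩
  exact ⟨fun a b => der_mul D ⊤ a b, fun c => der_app D ⊤ c⟩

end Groth.Agent.Omega.Affine
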