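import Groth.Agent.Omega.ThickSeq
import Mathlib.Algebra.TrivSqZeroExt.Basic

/-!
# Derivations of local rings as morphisms from trivial square-zero extensions
-/

set_option autoImplicit false

universe u

open CategoryTheory CategoryTheory.Limits AlgebraicGeometry TopologicalSpace Opposite

noncomputable section

namespace Groth.Agent.Omega.DerLift

variable {C N : Type u} [CommRing C] [AddCommGroup N] [Module C N] [Module Cᵐᵒᵖ N] [IsCentralScalar C N]

/-- The ring map of a derivation along `ρ`. -/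
def derHom {A : Type u} [CommRing A] (ρ : A →+* C) (e : A →+ N)
    (he : ∀ a b, e (a * b) = ρ a • e b + ρ b • e a) : A →+* TrivSqZeroExt C N where
  toFun a := TrivSqZeroExt.inl (ρ a) + TrivSqZeroExt.inr (e a)
  map_one' := by
    have he1 : e 1 = 0 := by simpa using he 1 1
    ext <;> simp [he1]
  map_mul' a b := by ext <;> simp [he]
  map_zero' := by ext <;> simp
  map_add' a b := by ext <;> simp

theorem fst_derHom {A : Type u} [CommRing A] (ρ : A →+* C) (e : A →+ N)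
    (he : ∀ a b, e (a * b) = ρ a • e b + ρ b • e a) (a : A) :
    TrivSqZeroExt.fst (derHom ρ e he a) = ρ a := by simp [derHom]

theorem snd_derHom {A : Type u} [CommRing A] (ρ : A →+* C) (e : A →+ N)
    (he : ∀ a b, e (a * b) = ρ a • e b + ρ b • e a) (a : A) :
    TrivSqZeroExt.snd (derHom ρ e he a) = e a := by simp [derHom]

theorem snd_map_mul {A : Type u} [CommRing A] (φ : A →+* TrivSqZeroExt C N) (a b : A) :
    TrivSqZeroExt.snd (φ (a * b)) = TrivSqZeroExt.fst (φ a) • TrivSqZeroExt.snd (φ b) +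
      TrivSqZeroExt.fst (φ b) • TrivSqZeroExt.snd (φ a) := by
  simp [op_smul_eq_smul]

/-- A ring map into a trivial extension, as a derivation. -/
def sndHom {A : Type u} [CommRing A] (φ : A →+* TrivSqZeroExt C N) : A →+ N :=
  AddMonoidHom.mk' (fun a => TrivSqZeroExt.snd (φ a)) fun a b => by simp

theorem isLocalHom_fst : IsLocalHom ((TrivSqZeroExt.fstHom C C N).toRingHom) :=
  ⟨fun _ ha => TrivSqZeroExt.isUnit_iff_isUnit_fst.mpr ha⟩

/-- Morphisms from a local scheme are given by local rings, at a prescribed point. -/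
theorem exists_stalkHom {R C : CommRingCat.{u}} [IsLocalRing R] [IsLocalRing C] (ε : R ⟶ C) [IsLocalHom ε.hom]
    {W : Scheme.{u}} (w : W) (ρ : W.presheaf.stalk w ⟶ C) [IsLocalHom ρ.hom] (m : Spec R ⟶ W)
    (hm : Spec.map ε ≫ m = Spec.map ρ ≫ W.fromSpecStalk w) :
    ∃ ψ : W.presheaf.stalk w ⟶ R, Spec.map ψ ≫ W.fromSpecStalk w = m ∧ ψ ≫ ε = ρ := by
  have hcp : m (IsLocalRing.closedPoint R) = w := by
    have h₁ : m (Spec.map ε (IsLocalRing.closedPoint C)) =
        W.fromSpecStalk w (Spec.map ρ (IsLocalRing.closedPoint C)) :=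
      congr($hm (IsLocalRing.closedPoint C))
    rw [show Spec.map ρ (IsLocalRing.closedPoint C) = IsLocalRing.closedPoint (W.presheaf.stalk w) from
      IsLocalRing.comap_closedPoint ρ.hom, Scheme.fromSpecStalk_closedPoint] at h₁
    exact (congrArg m (IsLocalRing.comap_closedPoint ε.hom).symm).trans h₁
  let ψ : W.presheaf.stalk w ⟶ R :=
    W.presheaf.stalkSpecializes (Specializes.of_eq hcp) ≫ Scheme.stalkClosedPointTo m
  have hψ : Spec.map ψ ≫ W.fromSpecStalk w = m := by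
    rw [Spec.map_comp, Category.assoc, Scheme.SpecMap_stalkSpecializes_fromSpecStalk]
    exact Scheme.Spec_stalkClosedPointTo_fromSpecStalk m
  refine ⟨ψ, hψ, ThickSeq.hom_eq_of_fromSpecStalk ?_⟩
  rw [Spec.map_comp, Category.assoc, hψ, hm]

end Groth.Agent.Omega.DerLift

namespace Groth.Agent.Omega.DerLift

variable {X Y S Z : Scheme.{u}} {a : X ⟶ S} {b : Y ⟶ S} {p : Z ⟶ X} {q : Z ⟶ Y}

/-- A derivation of a local ring of a fibre product is a pair of derivations. -/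
theorem existsUnique_der_pullback (hZ : IsPullback p q a b) (z : Z) (N : Type u) [AddCommGroup N]
    [Module (Z.presheaf.stalk z) N] (δ₁ : X.presheaf.stalk (p z) →+ N)
    (hδ₁ : ∀ x y, δ₁ (x * y) = p.stalkMap z x • δ₁ y + p.stalkMap z y • δ₁ x)
    (hδ₁₀ : ∀ c, δ₁ (a.stalkMap (p z) c) = 0) (δ₂ : Y.presheaf.stalk (q z) →+ N)
    (hδ₂ : ∀ x y, δ₂ (x * y) = q.stalkMap z x • δ₂ y + q.stalkMap z y • δ₂ x)
    (hδ₂₀ : ∀ c, δ₂ (b.stalkMap (q z) c) = 0) :
    ∃! D : Z.presheaf.stalk z →+ N, (∀ x y, D (x * y) = x • D y + y • D x) ∧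
      (∀ x, D (p.stalkMap z x) = δ₁ x) ∧ ∀ y, D (q.stalkMap z y) = δ₂ y := by
  let C := Z.presheaf.stalk z
  let : Module Cᵐᵒᵖ N := Module.compHom _ ((RingHom.id C).fromOpposite mul_comm)
  have : IsCentralScalar C N := ⟨fun c x => rfl⟩
  let R := CommRingCat.of (TrivSqZeroExt C N)
  let ε : R ⟶ C := CommRingCat.ofHom (TrivSqZeroExt.fstHom C C N).toRingHom
  have hloc : IsLocalHom ε.hom := isLocalHom_fst (C := Z.presheaf.stalk z) (N := N)
  have : IsLocalRing R := RingHom.domain_isLocalRing ε.hom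
  let φ₁ : X.presheaf.stalk (p z) ⟶ R :=
    CommRingCat.ofHom (derHom (C := Z.presheaf.stalk z) (p.stalkMap z).hom δ₁ hδ₁)
  let φ₂ : Y.presheaf.stalk (q z) ⟶ R :=
    CommRingCat.ofHom (derHom (C := Z.presheaf.stalk z) (q.stalkMap z).hom δ₂ hδ₂)
  have hφ₁ : φ₁ ≫ ε = p.stalkMap z := CommRingCat.hom_ext (RingHom.ext fun x =>
    fst_derHom (C := Z.presheaf.stalk z) (p.stalkMap z).hom δ₁ hδ₁ x)
  have hφ₂ : φ₂ ≫ ε = q.stalkMap z := CommRingCat.hom_ext (RingHom.ext fun x =>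
    fst_derHom (C := Z.presheaf.stalk z) (q.stalkMap z).hom δ₂ hδ₂ x)
  -- both composites to `S` are the constant extension
  let ι : C ⟶ R := CommRingCat.ofHom (TrivSqZeroExt.inlHom (Z.presheaf.stalk z) N)
  have hS₁ : a.stalkMap (p z) ≫ φ₁ = (a.stalkMap (p z) ≫ p.stalkMap z) ≫ ι :=
    CommRingCat.hom_ext (RingHom.ext fun c => TrivSqZeroExt.ext
      ((congr($hφ₁ (a.stalkMap (p z) c))).trans (TrivSqZeroExt.fst_inl _ _).symm)
      ((snd_derHom (C := Z.presheaf.stalk z) (p.stalkMap z).hom δ₁ hδ₁ _).trans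
        ((hδ₁₀ c).trans (TrivSqZeroExt.snd_inl _ _).symm)))
  have hS₂ : b.stalkMap (q z) ≫ φ₂ = (b.stalkMap (q z) ≫ q.stalkMap z) ≫ ι :=
    CommRingCat.hom_ext (RingHom.ext fun c => TrivSqZeroExt.ext
      ((congr($hφ₂ (b.stalkMap (q z) c))).trans (TrivSqZeroExt.fst_inl _ _).symm)
      ((snd_derHom (C := Z.presheaf.stalk z) (q.stalkMap z).hom δ₂ hδ₂ _).trans
        ((hδ₂₀ c).trans (TrivSqZeroExt.snd_inl _ _).symm)))
  have hw : (Spec.map φ₁ ≫ X.fromSpecStalk (p z)) ≫ a = (Spec.map φ₂ ≫ Y.fromSpecStalk (q z)) ≫ b := by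
    rw [Category.assoc, Category.assoc, ← Scheme.SpecMap_stalkMap_fromSpecStalk,
      ← Scheme.SpecMap_stalkMap_fromSpecStalk, ← Category.assoc, ← Category.assoc (Spec.map φ₂),
      ← Spec.map_comp, ← Spec.map_comp, hS₁, hS₂]
    simp only [Spec.map_comp, Category.assoc, Scheme.SpecMap_stalkMap_fromSpecStalk]
    rw [Scheme.SpecMap_stalkMap_fromSpecStalk_assoc, Scheme.SpecMap_stalkMap_fromSpecStalk_assoc, hZ.w]
  let m := hZ.lift _ _ hw
  have hm : Spec.map ε ≫ m = Spec.map (𝟙 (Z.presheaf.stalk z)) ≫ Z.fromSpecStalk z := by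
    rw [Spec.map_id, Category.id_comp]
    refine hZ.hom_ext ?_ ?_
    · rw [Category.assoc, hZ.lift_fst, ← Category.assoc, ← Spec.map_comp, hφ₁,
        Scheme.SpecMap_stalkMap_fromSpecStalk]
    · rw [Category.assoc, hZ.lift_snd, ← Category.assoc, ← Spec.map_comp, hφ₂,
        Scheme.SpecMap_stalkMap_fromSpecStalk]
  have : IsLocalHom (𝟙 (Z.presheaf.stalk z) : _ ⟶ C).hom := ⟨fun _ h => h⟩
  obtain ⟨ψ, hψ, hψε⟩ := exists_stalkHom ε z (𝟙 _) m hm
  have hψ₁ : p.stalkMap z ≫ ψ = φ₁ := ThickSeq.hom_eq_of_fromSpecStalk (by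
    rw [Spec.map_comp, Category.assoc, Scheme.SpecMap_stalkMap_fromSpecStalk, ← Category.assoc, hψ,
      hZ.lift_fst])
  have hψ₂ : q.stalkMap z ≫ ψ = φ₂ := ThickSeq.hom_eq_of_fromSpecStalk (by
    rw [Spec.map_comp, Category.assoc, Scheme.SpecMap_stalkMap_fromSpecStalk, ← Category.assoc, hψ,
      hZ.lift_snd])
  have hfst : ∀ x, TrivSqZeroExt.fst (ψ x) = x := fun x => congr($hψε x)
  refine ⟨sndHom (C := Z.presheaf.stalk z) (N := N) ψ.hom, ⟨fun x y => ?_, fun x => ?_, fun y => ?_⟩,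
    fun D ⟨hD, hD₁, hD₂⟩ => ?_⟩
  · exact (snd_map_mul (C := Z.presheaf.stalk z) (N := N) ψ.hom x y).trans (by rw [hfst, hfst]; rfl)
  · exact (congrArg TrivSqZeroExt.snd congr($hψ₁ x)).trans
      (snd_derHom (C := Z.presheaf.stalk z) (p.stalkMap z).hom δ₁ hδ₁ x)
  · exact (congrArg TrivSqZeroExt.snd congr($hψ₂ y)).trans
      (snd_derHom (C := Z.presheaf.stalk z) (q.stalkMap z).hom δ₂ hδ₂ y)
  · let ψ' : Z.presheaf.stalk z ⟶ R :=
      CommRingCat.ofHom (derHom (C := Z.presheaf.stalk z) (RingHom.id _) D hD)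
    have h₁ : p.stalkMap z ≫ ψ' = φ₁ := CommRingCat.hom_ext (RingHom.ext fun x => TrivSqZeroExt.ext
      ((fst_derHom (C := Z.presheaf.stalk z) (RingHom.id _) D hD _).trans
        (fst_derHom (C := Z.presheaf.stalk z) (p.stalkMap z).hom δ₁ hδ₁ x).symm)
      ((snd_derHom (C := Z.presheaf.stalk z) (RingHom.id _) D hD _).trans
        ((hD₁ x).trans (snd_derHom (C := Z.presheaf.stalk z) (p.stalkMap z).hom δ₁ hδ₁ x).symm)))
    have h₂ : q.stalkMap z ≫ ψ' = φ₂ := CommRingCat.hom_ext (RingHom.ext fun x => TrivSqZeroExt.ext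
      ((fst_derHom (C := Z.presheaf.stalk z) (RingHom.id _) D hD _).trans
        (fst_derHom (C := Z.presheaf.stalk z) (q.stalkMap z).hom δ₂ hδ₂ x).symm)
      ((snd_derHom (C := Z.presheaf.stalk z) (RingHom.id _) D hD _).trans
        ((hD₂ x).trans (snd_derHom (C := Z.presheaf.stalk z) (q.stalkMap z).hom δ₂ hδ₂ x).symm)))
    have e : ψ' = ψ := ThickSeq.hom_eq_of_fromSpecStalk (hψ.symm ▸ hZ.hom_ext
      (by rw [Category.assoc, ← Scheme.SpecMap_stalkMap_fromSpecStalk, ← Category.assoc, ← Spec.map_comp, h₁,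
        hZ.lift_fst])
      (by rw [Category.assoc, ← Scheme.SpecMap_stalkMap_fromSpecStalk, ← Category.assoc, ← Spec.map_comp, h₂,
        hZ.lift_snd]))
    ext x
    exact (snd_derHom (C := Z.presheaf.stalk z) (RingHom.id _) D hD x).symm.trans
      (congrArg TrivSqZeroExt.snd congr($e x))

end Groth.Agent.Omega.DerLift

end
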