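import Groth.Agent.Omega.RankDimGen
import Mathlib.RingTheory.Smooth.Kaehler
import Mathlib.Algebra.CharP.Algebra

/-!
# Characteristic zero: free differentials force reducedness at generic points
-/

set_option autoImplicit false

universe u

open TensorProduct IsLocalRing

noncomputable section

namespace Groth.Agent.Omega.DiffSimple

theorem isField_of_free_of_nilpotent (k B : Type u) [Field k] [CharZero k] [CommRing B] [Algebra k B]
    [IsLocalRing B] [IsNoetherianRing B] (hnil : IsNilpotent (maximalIdeal B))
    [Module.Free B Ω[B⁄k]] [Algebra.FormallySmooth k (ResidueField B)] : IsField B := by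
  rw [IsLocalRing.isField_iff_maximalIdeal_eq]
  obtain ⟨N₀, hN₀⟩ := hnil
  let κ := ResidueField B
  have hs : Function.Surjective (algebraMap B κ) := residue_surjective
  let q : B →ₐ[k] κ := IsScalarTower.toAlgHom k B κ
  have hq : Function.Surjective q := hs
  have hsq : Function.Surjective q.kerSquareLift := fun x => by
    obtain ⟨b, rfl⟩ := hq x
    exact ⟨Ideal.Quotient.mk _ b, rfl⟩
  have hsqnil : IsNilpotent (RingHom.ker (q.kerSquareLift : B ⧸ RingHom.ker q.toRingHom ^ 2 →+* κ)) := by
    refine ⟨2, ?_⟩
    rw [show RingHom.ker (q.kerSquareLift : B ⧸ RingHom.ker q.toRingHom ^ 2 →+* κ) = (RingHom.ker q.toRingHom).cotangentIdeal from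
      AlgHom.ker_kerSquareLift q]
    exact Ideal.cotangentIdeal_square _
  let g := Algebra.FormallySmooth.liftOfSurjective (AlgHom.id k κ) q.kerSquareLift hsq hsqnil
  obtain ⟨l, hl⟩ := (retractionKerCotangentToTensorEquivSection (R := k) (P := B) (S := κ) hs).symm
    ⟨g, Algebra.FormallySmooth.comp_liftOfSurjective _ _ _ _⟩
  let b := Module.Free.chooseBasis B Ω[B⁄k]
  have key : ∀ x ∈ maximalIdeal B, x ∈ maximalIdeal B ^ 2 := by
    intro x hx
    by_contra hx2
    have hxker : x ∈ RingHom.ker (algebraMap B κ) := by
      rw [RingHom.mem_ker, ResidueField.algebraMap_eq]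
      exact (residue_eq_zero_iff _).mpr hx
    have hne : (1 : κ) ⊗ₜ[B] KaehlerDifferential.D k B x ≠ 0 := fun h => by
      have h' : KaehlerDifferential.kerCotangentToTensor k B κ ((RingHom.ker (algebraMap B κ)).toCotangent ⟨x, hxker⟩) = 0 := h
      have := congrArg l h'
      rw [← LinearMap.comp_apply, hl, map_zero, LinearMap.id_apply, Ideal.toCotangent_eq_zero] at this
      have e : RingHom.ker (algebraMap B κ) ^ 2 = maximalIdeal B ^ 2 :=
        congrArg (· ^ 2) (show RingHom.ker (algebraMap B κ) = maximalIdeal B from ker_residue)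
      exact hx2 (e.le this)
    obtain ⟨i, hi⟩ : ∃ i, IsUnit (b.coord i (KaehlerDifferential.D k B x)) := by
      by_contra hne'
      push Not at hne'
      refine hne ?_
      rw [← b.linearCombination_repr (KaehlerDifferential.D k B x), Finsupp.linearCombination_apply,
        Finsupp.sum, tmul_sum]
      refine Finset.sum_eq_zero fun i _ => ?_
      rw [← smul_tmul, Algebra.smul_def, ResidueField.algebraMap_eq,
        (residue_eq_zero_iff (b.repr (KaehlerDifferential.D k B x) i)).mpr
          ((IsLocalRing.mem_maximalIdeal _).mpr (hne' i)), zero_mul, zero_tmul]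
    let D := (b.coord i).compDer (KaehlerDifferential.D k B)
    haveI : CharZero B := charZero_of_injective_algebraMap (algebraMap k B).injective
    have hall : ∀ n : ℕ, x ^ (n + 1) = 0 → x ^ n = 0 := fun n h => by
      have := congrArg D h
      rw [map_zero, Derivation.leibniz_pow, Nat.add_sub_cancel, ← Nat.cast_smul_eq_nsmul B,
        smul_smul, smul_eq_mul] at this
      have hu : IsUnit ((↑(n + 1) : B)) := by
        have := (isUnit_iff_ne_zero.mpr (Nat.cast_ne_zero.mpr (Nat.succ_ne_zero n) : ((n + 1 : ℕ) : k) ≠ 0)).map (algebraMap k B)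
        rwa [map_natCast] at this
      exact (hu.mul_right_eq_zero).mp ((IsUnit.mul_left_eq_zero hi).mp this)
    have : ∀ n : ℕ, x ^ n = 0 → x ^ 0 = 0 := by
      intro n
      induction n with
      | zero => exact id
      | succ n ih => exact fun h => ih (hall n h)
    have h0 : x ^ N₀ = 0 := by
      have := Ideal.pow_mem_pow hx N₀
      rwa [hN₀] at this
    exact one_ne_zero (show (1 : B) = 0 from (pow_zero x).symm.trans (this N₀ h0))
  have hidem : maximalIdeal B = maximalIdeal B ^ 2 :=
    le_antisymm key (Ideal.pow_le_self two_ne_zero)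
  refine Submodule.eq_bot_of_le_smul_of_le_jacobson_bot (maximalIdeal B) _ ((isNoetherianRing_iff_ideal_fg B).mp inferInstance _) ?_
    (IsLocalRing.maximalIdeal_le_jacobson _)
  rw [smul_eq_mul, ← pow_two, ← hidem]

end Groth.Agent.Omega.DiffSimple

end
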