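import Groth.Agent.EGA4Lib.FiniteRestrict
import Groth.Agent.Wt.QFShift
import Mathlib

/-!
# Noether normalisation by `p`-th powers

Variables may be changed by `p`-th powers, keeping the differentials.
-/

set_option autoImplicit false

universe u

open MvPolynomial

namespace Groth.Agent.Omega.EtaleNormalization

section Leading

variable {k : Type u} [Field k] {n : ℕ} (f : MvPolynomial (Fin (n + 1)) k)
variable (v w : Fin (n + 1) →₀ ℕ)

local notation3 "up" => 2 + f.totalDegree

local notation3 "r" => fun (i : Fin (n + 1)) ↦ up ^ i.1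

/-- `X_i ↦ X_i + X_0 ^ r i`. -/
noncomputable abbrev T : MvPolynomial (Fin (n + 1)) k →ₐ[k] MvPolynomial (Fin (n + 1)) k :=
  aeval fun i ↦ if i = 0 then X 0 else X i + X 0 ^ r i

theorem sum_r_mul_ne (vlt : ∀ i, v i < up) (wlt : ∀ i, w i < up) (ne : v ≠ w) :
    ∑ x : Fin (n + 1), r x * v x ≠ ∑ x : Fin (n + 1), r x * w x := by
  intro h
  refine ne <| Finsupp.ext <| congrFun <| List.ofFn_inj.mp ?_
  apply Nat.ofDigits_inj_of_len_eq (Nat.lt_add_right f.totalDegree one_lt_two)
    (by simp) (by grind) (by grind)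
  simpa only [Nat.ofDigits_eq_sum_mapIdx, List.mapIdx_eq_ofFn, List.get_ofFn, List.length_ofFn,
    Fin.val_cast, mul_comm, List.sum_ofFn] using! h

theorem finSuccEquiv_T_monomial (v : Fin (n + 1) →₀ ℕ) (a : k) (ha : a ≠ 0) :
    (finSuccEquiv k n (T f (monomial v a))).natDegree = ∑ i : Fin (n + 1), (r i) * v i ∧
      (finSuccEquiv k n (T f (monomial v a))).leadingCoeff = C a := by
  have hX : ∀ j, (finSuccEquiv k n (T f (X j))).natDegree = r j ∧
      (finSuccEquiv k n (T f (X j))).leadingCoeff = 1 := fun j => by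
    by_cases h : j = 0
    · subst h
      simp [T, finSuccEquiv_X_zero]
    · obtain ⟨i, rfl⟩ := Fin.exists_succ_eq.mpr h
      have h1 : 0 < up ^ (i.succ : Fin (n + 1)).1 := by positivity
      simp only [T, aeval_X, if_neg h, map_add, map_pow, finSuccEquiv_X_succ, finSuccEquiv_X_zero]
      rw [add_comm (Polynomial.C _), Polynomial.natDegree_X_pow_add_C,
        Polynomial.leadingCoeff_X_pow_add_C h1]
      exact ⟨rfl, rfl⟩
  have hne : ∀ j, finSuccEquiv k n (T f (X j)) ≠ 0 := fun j h => by
    have h1 := (hX j).2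
    rw [h, Polynomial.leadingCoeff_zero] at h1
    exact zero_ne_one h1
  have hC : finSuccEquiv k n (T f (C a)) = Polynomial.C (C a) := by
    simp [T, finSuccEquiv_apply]
  rw [monomial_eq, Finsupp.prod_fintype _ _ (fun i => pow_zero _), map_mul, map_prod, map_mul,
    map_prod, hC]
  simp only [map_pow]
  refine ⟨?_, ?_⟩
  · rw [Polynomial.natDegree_C_mul (by simpa using ha),
      Polynomial.natDegree_prod _ _ (fun i _ => pow_ne_zero _ (hne i))]
    exact Finset.sum_congr rfl fun i _ => by rw [Polynomial.natDegree_pow, (hX i).1, mul_comm]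
  · rw [Polynomial.leadingCoeff_mul, Polynomial.leadingCoeff_C, Polynomial.leadingCoeff_prod]
    rw [Finset.prod_eq_one fun i _ => by rw [Polynomial.leadingCoeff_pow, (hX i).2, one_pow], mul_one]

theorem isUnit_leadingCoeff (fne : f ≠ 0) : IsUnit (finSuccEquiv k n (T f f)).leadingCoeff := by
  classical
  set h := fun w ↦ finSuccEquiv k n (T f (monomial w (coeff w f))) with hh
  obtain ⟨v, vin, vs⟩ := Finset.exists_max_image f.support (fun v ↦ (h v).natDegree)
    (support_nonempty.mpr fne)
  have hdeg : ∀ x ∈ f.support, (h x).natDegree = ∑ i : Fin (n + 1), (r i) * x i := fun x hx =>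
    (finSuccEquiv_T_monomial f x _ (mem_support_iff.1 hx)).1
  have hlt : ∀ x ∈ f.support \ {v}, (h x).degree < (h v).degree := by
    intro x hx
    obtain ⟨h1, h2⟩ := Finset.mem_sdiff.mp hx
    refine Polynomial.degree_lt_degree (lt_of_le_of_ne (vs x h1) ?_)
    rw [hdeg x h1, hdeg v vin]
    refine sum_r_mul_ne f x v (fun i ↦ ?_) (fun i ↦ ?_) (Finset.notMem_singleton.1 h2) <;>
      exact lt_of_le_of_lt ((monomial_le_degreeOf i ‹_›).trans (degreeOf_le_totalDegree f i)) (by lia)
  have hsum : finSuccEquiv k n (T f f) = h v + ∑ x ∈ f.support \ {v}, h x := by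
    conv_lhs => arg 2; arg 2; rw [← f.support_sum_monomial_coeff]
    rw [map_sum, map_sum, Finset.sum_eq_add_sum_sdiff_singleton_of_mem vin]
  have hv := (finSuccEquiv_T_monomial f v _ (mem_support_iff.1 vin)).2
  have hv0 : h v ≠ 0 := fun e => by
    have h1 : (h v).leadingCoeff = C (coeff v f) := hv
    rw [e, Polynomial.leadingCoeff_zero] at h1
    exact mem_support_iff.1 vin (C_injective _ _ (h1.symm.trans (map_zero C).symm))
  rw [hsum, add_comm, Polynomial.leadingCoeff_add_of_degree_lt ((lt_of_le_of_lt (Polynomial.degree_sum_le _ _))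
    ((Finset.sup_lt_iff (Ne.bot_lt fun e => hv0 (Polynomial.degree_eq_bot.1 e))).2 hlt)), hv]
  exact (mem_support_iff.1 vin).isUnit.map C

end Leading

variable {k : Type u} [Field k] {C : Type u} [CommRing C] [Algebra k C]

/-- Transitivity of integrality for subalgebras. -/
theorem isIntegral_of_le {R' S : Subalgebra k C} (h : ∀ s ∈ S, IsIntegral R' s) {c : C}
    (hc : IsIntegral S c) : IsIntegral R' c := by
  let φ : S →+* integralClosure R' C := (algebraMap S C).codRestrict _ fun s => h s s.2
  letI : Algebra S (integralClosure R' C) := φ.toAlgebra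
  haveI : IsScalarTower S (integralClosure R' C) C := .of_algebraMap_eq fun _ => rfl
  exact isIntegral_trans c (hc.tower_top (A := integralClosure R' C))

/-- One normalisation step. -/
theorem step {p : ℕ} (hp : 0 < p) {N : ℕ} (u : C) (w : Fin N → C)
    (hint : ∀ c : C, IsIntegral (Algebra.adjoin k (insert u (Set.range w))) c)
    (hdep : ¬ Function.Injective (aeval (R := k) (Fin.cons (u ^ p) w : Fin (N + 1) → C))) :
    ∃ r : Fin N → ℕ,
      ∀ c : C, IsIntegral (Algebra.adjoin k (Set.range fun j => w j - (u ^ p) ^ r j)) c := by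
  obtain ⟨f, hf, hf0⟩ : ∃ f, aeval (R := k) (Fin.cons (u ^ p) w : Fin (N + 1) → C) f = 0 ∧ f ≠ 0 := by
    rw [injective_iff_map_eq_zero] at hdep
    push Not at hdep
    exact hdep
  refine ⟨fun j => (2 + f.totalDegree) ^ (j.succ : Fin (N + 1)).1, fun c => ?_⟩
  set w' : Fin N → C := fun j => w j - (u ^ p) ^ ((2 + f.totalDegree) ^ (j.succ : Fin (N + 1)).1) with hw'
  set R' := Algebra.adjoin k (Set.range w')
  let ψ : MvPolynomial (Fin N) k →ₐ[k] R' :=
    aeval fun j => ⟨w' j, Algebra.subset_adjoin ⟨j, rfl⟩⟩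
  let F := finSuccEquiv k N (T f f)
  have hkey : ∀ g, Polynomial.eval₂ ((algebraMap R' C).comp ψ.toRingHom) (u ^ p) (finSuccEquiv k N (T f g)) =
      aeval (R := k) (Fin.cons (u ^ p) w : Fin (N + 1) → C) g := by
    intro g
    induction g using MvPolynomial.induction_on with
    | C a =>
      simp [T, finSuccEquiv_apply, ψ]
    | add g g' hg hg' => rw [map_add, map_add, Polynomial.eval₂_add, hg, hg', map_add]
    | mul_X g j hg =>
      rw [map_mul, map_mul, Polynomial.eval₂_mul, hg, map_mul]
      congr 1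
      refine Fin.cases ?_ (fun i => ?_) j
      · simp [T, finSuccEquiv_X_zero]
      · simp [T, Fin.succ_ne_zero, finSuccEquiv_X_succ, finSuccEquiv_X_zero, ψ, hw']
  have hU : IsIntegral R' (u ^ p) := by
    obtain ⟨e, he⟩ := isUnit_leadingCoeff f hf0
    refine ⟨(Polynomial.C (↑e⁻¹ : MvPolynomial (Fin N) k) * F).map ψ.toRingHom,
      (Polynomial.monic_C_mul_of_mul_leadingCoeff_eq_one (by rw [← he]; exact e.inv_mul)).map _, ?_⟩
    rw [Polynomial.eval₂_map, Polynomial.eval₂_mul, show Polynomial.eval₂ _ (u ^ p) F = _ from hkey f, hf,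
      mul_zero]
  refine isIntegral_of_le (fun s hs => ?_) (hint c)
  refine (Algebra.adjoin_le (S := (integralClosure R' C).restrictScalars k) ?_ hs : _)
  rintro _ (rfl | ⟨j, rfl⟩)
  · exact IsIntegral.of_pow hp hU
  · have h1 : IsIntegral R' (w' j) := isIntegral_algebraMap (x := (⟨w' j, Algebra.subset_adjoin ⟨j, rfl⟩⟩ : R'))
    have h2 := h1.add (hU.pow ((2 + f.totalDegree) ^ (j.succ : Fin (N + 1)).1))
    rwa [hw', sub_add_cancel] at h2

/-- Dimension bound: more than `dim C` elements over which `C` is integral are dependent. -/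
theorem not_injective_of_isIntegral {N : ℕ} (hdim : ringKrullDim C < (N : WithBot ℕ∞)) (v : Fin N → C)
    (hint : ∀ c : C, IsIntegral (Algebra.adjoin k (Set.range v)) c) :
    ¬ Function.Injective (aeval (R := k) v) := by
  intro hinj
  have e := (AlgEquiv.ofInjective _ hinj).trans
    (Subalgebra.equivOfEq _ _ (Algebra.adjoin_range_eq_range_aeval k v).symm)
  haveI : Algebra.IsIntegral (Algebra.adjoin k (Set.range v)) C := ⟨hint⟩
  have h1 := EGA4Lib.FiniteRestrict.ringKrullDim_eq_of_integral (Algebra.adjoin k (Set.range v)) C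
    Subtype.val_injective
  rw [← ringKrullDim_eq_of_ringEquiv e.toRingEquiv, MvPolynomial.ringKrullDim_of_isNoetherianRing,
    ringKrullDim_eq_zero_of_field] at h1
  simp only [zero_add, Nat.card_eq_fintype_card, Fintype.card_fin] at h1
  rw [h1] at hdim
  exact lt_irrefl _ hdim

/-- Normalisation by changes of variables preserving differentials. -/
theorem exists_normalized {p : ℕ} (hpC : (p : C) = 0) (hp : 0 < p) {n : ℕ} (hdim : ringKrullDim C ≤ (n : WithBot ℕ∞)) :
    ∀ (m : ℕ) (x : Fin n → C) (g : Fin m → C),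
      (∀ c : C, IsIntegral (Algebra.adjoin k (Set.range x ∪ Set.range g)) c) →
      ∃ x' : Fin n → C, (∀ i, KaehlerDifferential.D k C (x' i) = KaehlerDifferential.D k C (x i)) ∧
        ∀ c : C, IsIntegral (Algebra.adjoin k (Set.range x')) c
  | 0, x, g, h => by
    refine ⟨x, fun _ => rfl, fun c => ?_⟩
    have hg : Set.range g = ∅ := Set.range_eq_empty g
    have he : Set.range x ∪ Set.range g = Set.range x := by rw [hg, Set.union_empty]
    exact he ▸ h c
  | m + 1, x, g, h => by
    let u := g (Fin.last m)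
    let w : Fin (n + m) → C := Fin.append x (g ∘ Fin.castSucc)
    have hw : ∀ (a : Fin n → C) (b : Fin m → C), Set.range (Fin.append a b) = Set.range a ∪ Set.range b := by
      intro a b
      ext y
      constructor
      · rintro ⟨i, rfl⟩
        refine Fin.addCases (fun j => ?_) (fun j => ?_) i
        · rw [Fin.append_left]; exact Or.inl ⟨j, rfl⟩
        · rw [Fin.append_right]; exact Or.inr ⟨j, rfl⟩
      · rintro (⟨j, rfl⟩ | ⟨j, rfl⟩)
        · exact ⟨Fin.castAdd m j, Fin.append_left a b j⟩
        · exact ⟨Fin.natAdd n j, Fin.append_right a b j⟩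
    have hins : insert u (Set.range w) = Set.range x ∪ Set.range g := by
      have hg : Set.range g = insert u (Set.range (g ∘ Fin.castSucc)) := by
        ext y
        constructor
        · rintro ⟨i, rfl⟩
          refine Fin.lastCases (Or.inl rfl) (fun j => Or.inr ⟨j, rfl⟩) i
        · rintro (rfl | ⟨j, rfl⟩)
          · exact ⟨Fin.last m, rfl⟩
          · exact ⟨_, rfl⟩
      rw [hw, hg, Set.union_insert]
    have hint : ∀ c : C, IsIntegral (Algebra.adjoin k (insert u (Set.range w))) c := by rwa [hins]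
    have hintU : ∀ c : C, IsIntegral (Algebra.adjoin k (Set.range (Fin.cons (u ^ p) w : Fin (n + m + 1) → C))) c := by
      intro c
      refine isIntegral_of_le (fun s hs => ?_) (hint c)
      refine (Algebra.adjoin_le (S := (integralClosure (Algebra.adjoin k (Set.range (Fin.cons (u ^ p) w :
        Fin (n + m + 1) → C))) C).restrictScalars k) ?_ hs : _)
      intro y hy
      rcases hy with rfl | ⟨j, rfl⟩
      · exact IsIntegral.of_pow hp (isIntegral_algebraMap
          (x := (⟨u ^ p, Algebra.subset_adjoin ⟨0, by simp⟩⟩ :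
            Algebra.adjoin k (Set.range (Fin.cons (u ^ p) w : Fin (n + m + 1) → C)))))
      · exact isIntegral_algebraMap (x := (⟨w j, Algebra.subset_adjoin ⟨j.succ, by simp⟩⟩ :
            Algebra.adjoin k (Set.range (Fin.cons (u ^ p) w : Fin (n + m + 1) → C))))
    obtain ⟨r, hr⟩ := step hp u w hint
      (not_injective_of_isIntegral (lt_of_le_of_lt hdim (by exact_mod_cast (by omega : n < n + m + 1))) _ hintU)
    let x₁ : Fin n → C := fun i => x i - (u ^ p) ^ r (Fin.castAdd m i)
    let g₁ : Fin m → C := fun j => g j.castSucc - (u ^ p) ^ r (Fin.natAdd n j)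
    have heq : (fun j => w j - (u ^ p) ^ r j) = Fin.append x₁ g₁ := by
      funext j
      refine Fin.addCases (fun i => ?_) (fun i => ?_) j
      · rw [Fin.append_left]; show Fin.append x _ _ - _ = _; rw [Fin.append_left]
      · rw [Fin.append_right]; show Fin.append x _ _ - _ = _; rw [Fin.append_right]; rfl
    rw [heq, hw] at hr
    obtain ⟨x', hx', hint'⟩ := exists_normalized hpC hp hdim m x₁ g₁ hr
    refine ⟨x', fun i => (hx' i).trans ?_, hint'⟩
    rw [map_sub, ← pow_mul, mul_comm, pow_mul, Derivation.leibniz_pow, ← Nat.cast_smul_eq_nsmul C,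
      hpC, zero_smul, sub_zero]

end Groth.Agent.Omega.EtaleNormalization
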