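import Groth.Agent.LimLib.FGSub
import Groth.Agent.LimLib.Smooth

/-!
# Models over finitely generated subrings with a descending property
-/

set_option autoImplicit false

universe v u

open CategoryTheory Limits AlgebraicGeometry Opposite

namespace Groth.Agent.Omega.FGModelP

open LimLib

theorem exists_fg_model_of_descends {P : MorphismProperty Scheme.{u}}
    (hP : Descends.{u} P @LocallyOfFinitePresentation) (R : Type v) (A : Type u) [CommRing R] [CommRing A]
    [Algebra R A] {X : Scheme.{u}} (f : X ⟶ Spec (CommRingCat.of A))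
    [LocallyOfFinitePresentation f] [QuasiCompact f] [QuasiSeparated f] (hf : P f) :
    ∃ A₀ : Subalgebra R A, A₀.FG ∧ ∃ (X₀ : Scheme.{u}) (f₀ : X₀ ⟶ Spec (CommRingCat.of A₀))
      (g : X ⟶ X₀), P f₀ ∧ LocallyOfFinitePresentation f₀ ∧ QuasiCompact f₀ ∧
      IsPullback g f f₀ (Spec.map (CommRingCat.ofHom A₀.val.toRingHom)) := by
  classical
  have : CompactSpace X := QuasiCompact.compactSpace_of_compactSpace f
  have : QuasiSeparatedSpace X := quasiSeparatedSpace_of_quasiSeparated f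
  obtain ⟨i, X₁, f₁, g, h₁, h₂, h₃, h⟩ :=
    @hasModel _ _ _ _ _ (isLimitFgCone R A) _ _ _ X f ‹_› ‹_› ‹_›
  obtain ⟨j, φ, hφ⟩ := hP (fgDiagram R A) (fgCone R A) (isLimitFgCone R A) (fun _ _ _ => inferInstance)
    (fun _ => inferInstance) (fun _ => inferInstance) i X₁ f₁ h₂ h₃ h₁ X g f h hf
  obtain ⟨k₁, k₂, k₃, k₄⟩ := HasModel.at_finer (c := fgCone R A) (f := f) (g := g) h₁ h₂ h₃ h φ
  exact ⟨Algebra.adjoin R (j.unop : Set A), ⟨j.unop, rfl⟩, _, _, _, hφ, k₁,
    quasiCompact_of_compactSpace _, k₄⟩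

end Groth.Agent.Omega.FGModelP
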