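import Groth.Agent.Omega.RegularSmooth
import Mathlib

/-! Generic smoothness: a regular point over the generic point of a perfect field base is a smooth point. -/

set_option autoImplicit false
universe u

open scoped TensorProduct
open CategoryTheory AlgebraicGeometry

namespace Groth.Agent.Omega.GenericSmooth

attribute [local instance] Algebra.TensorProduct.rightAlgebra in
/-- A regular point of a finitely presented algebra lying over the generic point of a domain with
perfect fraction field is a smooth point. -/
theorem isSmoothAt_of_generic (A : Type u) [CommRing A] [IsDomain A] (K : Type u) [Field K] [Algebra A K]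
    [IsFractionRing A K] [PerfectField K] (B : Type u) [CommRing B] [Algebra A B]
    [Algebra.FinitePresentation A B] (q : Ideal B) [q.IsPrime] (hq : q.comap (algebraMap A B) = ⊥)
    (hreg : IsRegularLocalRing (Localization.AtPrime q)) : Algebra.IsSmoothAt A q := by
  let C := K ⊗[A] B
  let M := Algebra.algebraMapSubmonoid B (nonZeroDivisors A)
  have hd : Disjoint (M : Set B) (q : Set B) := by
    rw [Set.disjoint_left]
    rintro _ ⟨a, ha, rfl⟩ h
    exact nonZeroDivisors.ne_zero ha (by
      have : a ∈ q.comap (algebraMap A B) := h
      rwa [hq, Ideal.mem_bot] at this)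
  let q' := q.map (algebraMap B C)
  haveI hq' : q'.IsPrime := IsLocalization.isPrime_of_isPrime_disjoint M C q inferInstance hd
  haveI hl : IsLocalization.AtPrime (Localization.AtPrime q') (q'.comap (algebraMap B C)) :=
    IsLocalization.isLocalization_isLocalization_atPrime_isLocalization M (Localization.AtPrime q') q'
  have hc : q'.comap (algebraMap B C) = q := IsLocalization.comap_map_of_isPrime_disjoint M C ‹_› hd
  haveI : IsLocalization q.primeCompl (Localization.AtPrime q') := by
    have he : q.primeCompl = (q'.comap (algebraMap B C)).primeCompl := by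
      ext x
      change x ∉ q ↔ x ∉ q'.comap (algebraMap B C)
      rw [hc]
    rw [he]
    exact hl
  let e : Localization.AtPrime q ≃ₐ[B] Localization.AtPrime q' :=
    IsLocalization.algEquiv q.primeCompl _ _
  haveI := IsRegularLocalRing.of_ringEquiv e.toRingEquiv
  haveI : Algebra.IsGeometricallyReduced K q'.ResidueField :=
    (FieldSep.MacLane.formallySmooth_iff K _).mp (FieldSep.Cartier.formallySmooth_of_perfectField K _)
  have hs : Algebra.FormallySmooth K (Localization.AtPrime q') := (S9442.result K C q').mpr inferInstance
  haveI : Algebra.FormallySmooth A K := Algebra.FormallySmooth.of_isLocalization (nonZeroDivisors A)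
  haveI : Algebra.FormallySmooth A (Localization.AtPrime q') := Algebra.FormallySmooth.comp A K _
  exact Algebra.FormallySmooth.of_equiv (e.restrictScalars A).symm

/-- A point of regular local ring over the generic point of an integral scheme with perfect function
field lies in the smooth locus. -/
theorem mem_smoothLocus {X Y : Scheme.{u}} [IsIntegral Y] [PerfectField Y.functionField]
    (f : X ⟶ Y) [LocallyOfFinitePresentation f] (x : X) (hx : f x = genericPoint Y)
    (hreg : IsRegularLocalRing (X.presheaf.stalk x)) : x ∈ f.smoothLocus := by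
  obtain ⟨_, ⟨W, hW, rfl⟩, hxW, -⟩ :=
    Y.isBasis_affineOpens.exists_subset_of_mem_open (Set.mem_univ (f x)) isOpen_univ
  obtain ⟨_, ⟨U, hU, rfl⟩, hxU, hUW⟩ :=
    X.isBasis_affineOpens.exists_subset_of_mem_open hxW (W.2.preimage f.continuous)
  haveI : Nonempty W := ⟨⟨f x, hxW⟩⟩
  rw [Scheme.Hom.mem_smoothLocus, formallySmooth_stalkMap_iff W hW U hU hUW hxU]
  let := (f.appLE W U hUW).hom.toAlgebra
  haveI : Algebra.FinitePresentation Γ(Y, W) Γ(X, U) := f.finitePresentation_appLE hW hU hUW
  haveI := functionField_isFractionRing_of_isAffineOpen Y W hW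
  letI := TopCat.Presheaf.algebra_section_stalk X.presheaf (⟨x, hxU⟩ : U)
  haveI := hU.isLocalization_stalk ⟨x, hxU⟩
  refine isSmoothAt_of_generic Γ(Y, W) Y.functionField Γ(X, U) (hU.primeIdealOf ⟨x, hxU⟩).asIdeal ?_ ?_
  · have h := congrArg PrimeSpectrum.asIdeal
      (IsAffineOpen.comap_primeIdealOf_appLE W hW U hU hUW hxU)
    refine h.trans ?_
    have h2 : (⟨f x, hUW hxU⟩ : W) = ⟨genericPoint Y,
        ((genericPoint_spec Y).mem_open_set_iff W.isOpen).mpr (by simpa using ‹Nonempty W›)⟩ :=
      Subtype.ext hx
    rw [h2, hW.primeIdealOf_genericPoint, genericPoint_eq_bot_of_affine]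
    rfl
  · exact @IsRegularLocalRing.of_ringEquiv _ _ hreg _ _
      (IsLocalization.algEquiv (hU.primeIdealOf ⟨x, hxU⟩).asIdeal.primeCompl
        (X.presheaf.stalk x) (Localization.AtPrime (hU.primeIdealOf ⟨x, hxU⟩).asIdeal)).toRingEquiv

end Groth.Agent.Omega.GenericSmooth
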