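import Groth.Agent.GeomLoc.Smooth
import Groth.Agent.GeomLoc.SmoothRegular
import Groth.Agent.FlatMor.FibreStalk
import Groth.Agent.FlatOpen.SmoothAt

/-!
# Geometric regularity of `B/mB` for a stalk map: the fibre is smooth at the point
-/

set_option autoImplicit false

universe u

open Groth.Agent.FBase
open CategoryTheory CategoryTheory.Limits AlgebraicGeometry TopologicalSpace IsLocalRing

noncomputable section

namespace Groth.Agent.Omega.GeomRegFibre

theorem specMap_stalkMap {k : Type u} [Field k] (F : Scheme.{u}) [F.Over (Spec (CommRingCat.of k))] (z : F) :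
    Spec.map (CommRingCat.ofHom (Curv2.stalkMap k F z)) =
      F.fromSpecStalk z ≫ (F ↘ Spec (CommRingCat.of k)) := by
  have h : CommRingCat.ofHom (Curv2.stalkMap k F z) = (Scheme.ΓSpecIso (CommRingCat.of k)).inv ≫
      (F ↘ Spec (CommRingCat.of k)).appTop ≫ F.presheaf.germ ⊤ z trivial := rfl
  rw [h, Spec.map_comp, Spec.map_comp, ← Scheme.fromSpecStalk_toSpecΓ, Category.assoc, Category.assoc,
    ← Category.assoc F.toSpecΓ, ← Scheme.toSpecΓ_naturality, ← SpecMap_ΓSpecIso_hom,
    Category.assoc, ← Spec.map_comp, Iso.inv_hom_id, Spec.map_id, Category.comp_id]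

variable {X Y : Scheme.{u}} (f : X ⟶ Y) [LocallyOfFiniteType f]

/-- A chart of the fibre at a point, with its local ring `B/mB`. -/
theorem exists_chart (x : X) :
    letI φ := (f.stalkMap x).hom
    letI 𝔪 := IsLocalRing.maximalIdeal ↑(Y.presheaf.stalk (f.base x))
    letI : Algebra (IsLocalRing.ResidueField ↑(Y.presheaf.stalk (f.base x))) (↑(X.presheaf.stalk x) ⧸ 𝔪.map φ) :=
      (Ideal.quotientMap (𝔪.map φ) φ Ideal.le_comap_map).toAlgebra
    ∃ (A : Type u) (_ : CommRing A) (_ : Algebra (IsLocalRing.ResidueField ↑(Y.presheaf.stalk (f x))) A)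
      (j : Spec (CommRingCat.of A) ⟶ f.fiber (f x)) (p : PrimeSpectrum A),
      IsOpenImmersion j ∧ j p = f.asFiber x ∧
      j ≫ f.fiberToSpecResidueField (f x) =
        Spec.map (CommRingCat.ofHom (algebraMap (IsLocalRing.ResidueField ↑(Y.presheaf.stalk (f x))) A)) ∧
      Algebra.FinitePresentation (IsLocalRing.ResidueField ↑(Y.presheaf.stalk (f x))) A ∧
      ∃ e : (↑(X.presheaf.stalk x) ⧸ 𝔪.map φ) ≃+* Localization.AtPrime p.asIdeal,
        ∀ r, e (algebraMap (IsLocalRing.ResidueField ↑(Y.presheaf.stalk (f.base x))) _ r) =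
          algebraMap (IsLocalRing.ResidueField ↑(Y.presheaf.stalk (f x))) (Localization.AtPrime p.asIdeal) r := by
  let s := f x
  letI : (f.fiber s).Over (Spec (CommRingCat.of (IsLocalRing.ResidueField ↑(Y.presheaf.stalk s)))) := ⟨f.fiberToSpecResidueField s⟩
  haveI : LocallyOfFiniteType (f.fiber s ↘ Spec (CommRingCat.of (IsLocalRing.ResidueField ↑(Y.presheaf.stalk s)))) :=
    inferInstanceAs (LocallyOfFiniteType (pullback.snd f (Y.fromSpecResidueField s)))
  haveI := GeomLoc.locallyOfFinitePresentation (k := IsLocalRing.ResidueField ↑(Y.presheaf.stalk s)) (X := f.fiber s)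
  obtain ⟨A, _, _, j, p, e, hjo, hjp, hj, he⟩ := GeomLoc.exists_chart (IsLocalRing.ResidueField ↑(Y.presheaf.stalk s)) (f.fiber s) (f.asFiber x)
  refine ⟨A, inferInstance, inferInstance, j, p, hjo, hjp, hj, GeomLoc.finitePresentation_of_chart j hj, ?_⟩
  suffices H : ∀ x' (hx : f.fiberι s (f.asFiber x) = x') (hs : f x' = s),
      ∃ e₁ : (X.presheaf.stalk x' ⧸ (maximalIdeal (Y.presheaf.stalk (f x'))).map (f.stalkMap x').hom) ≃+*
        (f.fiber s).presheaf.stalk (f.asFiber x), ∀ (r : Y.presheaf.stalk (f x')),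
          e₁ (Ideal.Quotient.mk _ ((f.stalkMap x').hom r)) = Curv2.stalkMap (IsLocalRing.ResidueField ↑(Y.presheaf.stalk s)) (f.fiber s)
            (f.asFiber x) (Y.residue s ((Y.presheaf.stalkSpecializes (specializes_of_eq hs.symm)) r)) by
    obtain ⟨e₁, he₁⟩ := H x (f.fiberι_asFiber x) rfl
    refine ⟨e₁.trans e, fun r => ?_⟩
    obtain ⟨r, rfl⟩ := Ideal.Quotient.mk_surjective r
    refine Eq.trans (congrArg e (he₁ r)) ((he _).trans (congrArg (algebraMap (IsLocalRing.ResidueField ↑(Y.presheaf.stalk s)) _) ?_))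
    rw [TopCat.Presheaf.stalkSpecializes_refl]
    rfl
  rintro _ rfl hs
  let z := f.asFiber x
  let ι := f.fiberι s
  refine ⟨(Ideal.quotEquivOfEq (FlatMor.FibreStalk.ker_stalkMap_fiberι f s z).symm).trans
    (RingHom.quotientKerEquivOfSurjective (ι.stalkMap_surjective z)), fun r => ?_⟩
  change (ι.stalkMap z).hom ((f.stalkMap (ι z)).hom r) = _
  have key : f.stalkMap (ι z) ≫ ι.stalkMap z =
      (Y.presheaf.stalkSpecializes (specializes_of_eq hs.symm)) ≫ Y.residue s ≫
        CommRingCat.ofHom (Curv2.stalkMap (IsLocalRing.ResidueField ↑(Y.presheaf.stalk s)) (f.fiber s) z) := by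
    apply Spec.map_injective
    rw [← cancel_mono (Y.fromSpecStalk (f (ι z)))]
    simp only [Spec.map_comp, Category.assoc, Scheme.SpecMap_stalkMap_fromSpecStalk,
      Scheme.SpecMap_stalkMap_fromSpecStalk_assoc]
    refine Eq.trans ?_ (congrArg (fun m => m ≫ Spec.map (Y.residue s) ≫ _)
      (specMap_stalkMap (k := IsLocalRing.ResidueField ↑(Y.presheaf.stalk s)) (f.fiber s) z)).symm
    rw [show ι ≫ f = f.fiberToSpecResidueField s ≫ Y.fromSpecResidueField s from f.fiber_fac s]
    refine Eq.trans ?_ (Category.assoc _ _ _).symm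
    refine congrArg (fun m => (f.fiber s).fromSpecStalk z ≫ f.fiberToSpecResidueField s ≫ m) ?_
    rw [Scheme.SpecMap_stalkSpecializes_fromSpecStalk]
    rfl
  exact congrArg (fun k => k.hom r) key

/-- A geometrically regular closed fibre ring gives a smooth point of the fibre, which is geometrically reduced. -/
theorem of_isGeometricallyRegular (x : X)
    (h : letI φ := (f.stalkMap x).hom
      letI 𝔪 := IsLocalRing.maximalIdeal ↑(Y.presheaf.stalk (f.base x))
      letI : Algebra (IsLocalRing.ResidueField ↑(Y.presheaf.stalk (f.base x))) (↑(X.presheaf.stalk x) ⧸ 𝔪.map φ) :=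
        (Ideal.quotientMap (𝔪.map φ) φ Ideal.le_comap_map).toAlgebra
      CAlg.IsGeometricallyRegular (IsLocalRing.ResidueField ↑(Y.presheaf.stalk (f.base x)))
          (↑(X.presheaf.stalk x) ⧸ 𝔪.map φ)) :
    ((f.fiberToSpecResidueField (f x)).stalkMap (f.asFiber x)).hom.FormallySmooth ∧
      FBase.IsGeomReducedAt (f.fiberToSpecResidueField (f x)) (f.asFiber x) := by
  obtain ⟨A, _, _, j, p, hjo, hjp, hj, hfp, e, he⟩ := exists_chart f x
  haveI := hjo
  haveI := hfp
  let k := IsLocalRing.ResidueField ↑(Y.presheaf.stalk (f x))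
  letI : Algebra k (X.presheaf.stalk x ⧸ (maximalIdeal (Y.presheaf.stalk (f x))).map (f.stalkMap x).hom) :=
    (Ideal.quotientMap _ (f.stalkMap x).hom Ideal.le_comap_map).toAlgebra
  have hA : CAlg.IsGeometricallyRegular k (Localization.AtPrime p.asIdeal) := fun L _ _ hL =>
    GeomLoc.isRegularRing_tensor_congr (AlgEquiv.ofRingEquiv (f := e) he) L (h L hL)
  haveI hs : Algebra.IsSmoothAt k p.asIdeal :=
    GeomLoc.isSmoothAt_of_pi p.asIdeal fun L _ _ hf _ => hA L hf
  letI : (f.fiber (f x)).Over (Spec (CommRingCat.of k)) := ⟨f.fiberToSpecResidueField (f x)⟩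
  haveI : LocallyOfFiniteType (f.fiber (f x) ↘ Spec (CommRingCat.of k)) :=
    inferInstanceAs (LocallyOfFiniteType (pullback.snd f (Y.fromSpecResidueField (f x))))
  haveI := GeomLoc.locallyOfFinitePresentation (k := k) (X := f.fiber (f x))
  rw [← hjp]
  refine ⟨(GeomLoc.mem_smoothLocus_iff_chart (k := k) (X := f.fiber (f x)) j hj p).mpr hs, ?_⟩
  rw [PointScheme.isGeomReducedAt_iff (f.fiberToSpecResidueField (f x)) j hj p,
    ← GeomLoc.isGeomReducedAt_iff_chart (k := k) (X := f.fiber (f x)) j hj p]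
  refine (GeomLoc.isGeomReducedAt_of_isGeomRegularAt (j p) ?_)
  exact (GeomLoc.isGeomRegularAt_iff_mem_smoothLocus (j p)).mpr ((GeomLoc.mem_smoothLocus_iff_chart (k := k) (X := f.fiber (f x)) j hj p).mpr hs)

/-- A smooth point of the fibre has geometrically regular local fibre ring. -/
theorem isGeometricallyRegular_of_fibre (x : X)
    (h : ((f.fiberToSpecResidueField (f x)).stalkMap (f.asFiber x)).hom.FormallySmooth) :
    letI φ := (f.stalkMap x).hom
    letI 𝔪 := IsLocalRing.maximalIdeal ↑(Y.presheaf.stalk (f.base x))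
    letI : Algebra (IsLocalRing.ResidueField ↑(Y.presheaf.stalk (f.base x))) (↑(X.presheaf.stalk x) ⧸ 𝔪.map φ) :=
      (Ideal.quotientMap (𝔪.map φ) φ Ideal.le_comap_map).toAlgebra
    CAlg.IsGeometricallyRegular (IsLocalRing.ResidueField ↑(Y.presheaf.stalk (f.base x)))
      (↑(X.presheaf.stalk x) ⧸ 𝔪.map φ) := by
  obtain ⟨A, _, _, j, p, hjo, hjp, hj, hfp, e, he⟩ := exists_chart f x
  haveI := hjo
  haveI := hfp
  let k := IsLocalRing.ResidueField ↑(Y.presheaf.stalk (f x))
  letI : Algebra k (X.presheaf.stalk x ⧸ (maximalIdeal (Y.presheaf.stalk (f x))).map (f.stalkMap x).hom) :=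
    (Ideal.quotientMap _ (f.stalkMap x).hom Ideal.le_comap_map).toAlgebra
  letI : (f.fiber (f x)).Over (Spec (CommRingCat.of k)) := ⟨f.fiberToSpecResidueField (f x)⟩
  haveI : LocallyOfFiniteType (f.fiber (f x) ↘ Spec (CommRingCat.of k)) :=
    inferInstanceAs (LocallyOfFiniteType (pullback.snd f (Y.fromSpecResidueField (f x))))
  haveI := GeomLoc.locallyOfFinitePresentation (k := k) (X := f.fiber (f x))
  haveI : Algebra.IsSmoothAt k p.asIdeal := (GeomLoc.mem_smoothLocus_iff_chart (k := k) (X := f.fiber (f x)) j hj p).mp (by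
    rw [hjp]; exact h)
  intro L _ _ hL
  haveI : FiniteDimensional k L := hL
  exact GeomLoc.isRegularRing_tensor_congr (AlgEquiv.ofRingEquiv (f := e) he).symm L
    (GeomLoc.isRegularRing_tensor_atPrime_of_smoothAt p.asIdeal L)

end Groth.Agent.Omega.GeomRegFibre

end
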