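import Groth.Agent.ExtPowSt.Stalk
import Mathlib.Topology.Sheaves.SheafCondition.UniqueGluing
import Mathlib.LinearAlgebra.ExteriorPower.Basis
import Mathlib.AlgebraicGeometry.FunctionField

/-!
# The wedge of global sections
-/

set_option autoImplicit false

universe u

open CategoryTheory AlgebraicGeometry Opposite TopologicalSpace

noncomputable section

namespace Groth.Agent.Omega.GlobalWedge

open Groth.Agent.ExtPowSt Groth.Agent.PullStalk.Sky Groth.Agent.QCoh

variable {X : Scheme.{u}} {i : ℕ} {E L : X.Modules}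

/-- Global sections wedge to a global section of the exterior power. -/
theorem exists_wedge (Φ : Sys i E L) (σ : Fin i → Γ(E, ⊤)) :
    ∃ w : Γ(L, ⊤), ∀ V : X.affineOpens,
      res L (le_top : V.1 ≤ ⊤) w =
        (Φ.1 V).symm (exteriorPower.ιMulti _ i fun j => res E (le_top : V.1 ≤ ⊤) (σ j)) := by
  let sf : ∀ V : X.affineOpens, Γ(L, V.1) := fun V =>
    (Φ.1 V).symm (exteriorPower.ιMulti _ i fun j => res E (le_top : V.1 ≤ ⊤) (σ j))
  have hres : ∀ (U V : X.affineOpens) (h : V.1 ≤ U.1), res L h (sf U) = sf V := fun U V h => by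
    refine (Φ.2 U V h _).trans ?_
    refine congrArg (fun e => (Φ.1 V).symm (exteriorPower.ιMulti _ i e)) (funext fun j => ?_)
    exact res_res E le_top h (σ j)
  let F : TopCat.Sheaf Ab X := ⟨L.presheaf, L.isSheaf⟩
  obtain ⟨w, hw, -⟩ := F.existsUnique_gluing' (fun V : X.affineOpens => V.1) ⊤ (fun V => homOfLE le_top)
    ((iSup_affineOpens_eq_top X).ge) sf (fun U V => by
      refine TopCat.Presheaf.section_ext F _ _ _ fun x hx => ?_
      obtain ⟨_, ⟨W, hW, rfl⟩, hxW, hle⟩ :=
        X.isBasis_affineOpens.exists_subset_of_mem_open (a := x) hx (U.1 ⊓ V.1).2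
      refine Eq.trans (L.presheaf.germ_res_apply _ x hx _) (Eq.trans ?_ (L.presheaf.germ_res_apply _ x hx _).symm)
      change germM L U.1 x hx.1 (sf U) = germM L V.1 x hx.2 (sf V)
      rw [← Groth.Agent.HomShQC.germM_res L (le_trans hle inf_le_left) x hxW, ← Groth.Agent.HomShQC.germM_res L (le_trans hle inf_le_right) x hxW,
        hres U ⟨W, hW⟩, hres V ⟨W, hW⟩])
  exact ⟨w, hw⟩

/-- A wedge of global sections independent at the generic point gives nonzero sections. -/
theorem exists_ne_zero [IsIntegral X] (Φ : Sys i E L) (σ : Fin i → Γ(E, ⊤))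
    (hσ : LinearIndependent (X.presheaf.stalk (genericPoint X))
      fun j => germM E ⊤ (genericPoint X) trivial (σ j))
    (U : X.Opens) (hU : genericPoint X ∈ U) : ∃ s : L.val.obj (op U), s ≠ 0 := by
  obtain ⟨w, hw⟩ := exists_wedge Φ σ
  refine ⟨res L (le_top : U ≤ ⊤) w, fun h0 => ?_⟩
  let ξ := genericPoint X
  obtain ⟨_, ⟨W, hW, rfl⟩, hxW, hle⟩ :=
    X.isBasis_affineOpens.exists_subset_of_mem_open (a := ξ) hU U.2
  have h1 : (ExtPowSt.stalkMap Φ ξ) (germS L ξ hxW (res L (le_top : W ≤ ⊤) w)) =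
      exteriorPower.ιMulti _ i fun j => germM E ⊤ ξ trivial (σ j) := by
    rw [stalkMap_germ Φ ⟨W, hW⟩, hw ⟨W, hW⟩, germExt, LinearEquiv.apply_symm_apply, extσ_ιMulti]
    exact congrArg _ (funext fun j => Groth.Agent.HomShQC.germM_res E le_top ξ hxW (σ j))
  rw [← res_res L (le_top : U ≤ ⊤) (hle : W ≤ U), h0] at h1
  erw [map_zero, map_zero, map_zero] at h1
  let K := X.functionField
  have hσ' : LinearIndependent K (M := E.presheaf.stalk ξ) fun j => germM E ⊤ ξ trivial (σ j) := hσ
  have hb := exteriorPower.ιMulti_family_linearIndependent_field (K := K) (n := i) hσ'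
  refine hb.ne_zero (Set.powersetCard.ofFinEmbEquiv (RelEmbedding.refl (· ≤ ·) : Fin i ↪o Fin i)) ?_
  rw [exteriorPower.ιMulti_family, Equiv.symm_apply_apply]
  exact h1.symm

end Groth.Agent.Omega.GlobalWedge

end
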