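import Groth.Agent.Omega.GrSectionAlg
import Groth.Prelude.Def_FlatMod2

/-!
# Base change of the graded pieces of a section
-/

set_option autoImplicit false

universe u

open CategoryTheory CategoryTheory.Limits AlgebraicGeometry TopologicalSpace Opposite

noncomputable section

namespace Groth.Agent.Omega.GrSection

open PrinPart OmegaSh Stalks StalkConormal StalkSeq StalkAlg ThickSeq SectionAlg GrStalk
open Groth.Agent.PullStalk.Sky Groth.Agent.PullStalk.Exact Groth.Agent.PullStalk.Basic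

variable {X Y X' Y' : Scheme.{u}} {g : X ⟶ Y} {f : Y ⟶ X} {u : Y' ⟶ Y} {v : X' ⟶ X} {g' : X' ⟶ Y'}
  {f' : Y' ⟶ X'}

theorem isPullback_section (hf : f ≫ g = 𝟙 Y) (hsq : IsPullback v g' g u) (hf' : f' ≫ g' = 𝟙 Y')
    (hf'v : f' ≫ v = u ≫ f) : IsPullback f' u v f := by
  refine IsPullback.of_right ?_ hf'v hsq.flip
  rw [hf', hf]
  exact IsPullback.of_horiz_isIso ⟨by simp⟩

theorem isIso_grMap [IsClosedImmersion f] (hf : f ≫ g = 𝟙 Y) (hsq : IsPullback v g' g u)
    (hf' : f' ≫ g' = 𝟙 Y') (hf'v : f' ≫ v = u ≫ f) {n : ℕ}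
    (hflat : ∀ k < n, k = 0 ∨ FlatMod.IsFlat (grMod f k))
    {φ : (Scheme.Modules.pullback u).obj (grMod f n) ⟶ grMod f' n}
    (hφ : IsGrMap f' f v u n φ) : IsIso φ := by
  have hsec := isPullback_section hf hsq hf' hf'v
  have : IsClosedImmersion f' := GrBC.isClosedImmersion_of_sq hsec.flip
  have hi' : Topology.IsInducing f' := f'.isEmbedding.isInducing
  have hi : Topology.IsInducing f := f.isEmbedding.isInducing
  have hepi := (epi_and_isIso hsec hφ).1
  refine isIso_of_stalk fun z => ⟨?_, ?_⟩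
  swap
  · obtain ⟨κ, hκsmul, hκ, hP⟩ := exists_gr f' hi' n z
    obtain ⟨κ', hκ'smul, hκ', hP'⟩ := exists_gr f hi n (u z)
    let uu := (unitStalkHom u (grMod f n) z).hom
    have hJ : Ideal.map (σ hφ.1 z).hom (RingHom.ker (f.stalkMap (u z)).hom ^ n) =
        RingHom.ker (f'.stalkMap z).hom ^ n := by
      rw [Ideal.map_pow, ← ConormalBC.ker_stalkMap_eq_map hsec hφ.1 z]
    exact surjective_of_map_eq' (κ' := uu.comp κ') hκsmul hP hJ fun a =>
      ⟨hJ.le (Ideal.mem_map_of_mem _ a.2), grMap_stalk hi hφ z κ hκ κ' hκ' a _⟩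
  -- the retraction at the point `y`
  let y := u z
  have w₀ : 𝟙 Y ≫ 𝟙 Y = f ≫ g := by rw [hf, Category.id_comp]
  let R := Y.presheaf.stalk y
  let A := X.presheaf.stalk (f y)
  let R' := Y'.presheaf.stalk z
  let s : R ⟶ A := σ w₀ y
  have hs : ∀ a, f.stalkMap y (s a) = a := fun a => by
    refine (stalkMap_σ w₀ y a).trans ?_
    rw [Scheme.Hom.stalkMap_id, Scheme.Hom.stalkMap_id]
    rfl
  let : Algebra R A := s.hom.toAlgebra
  let : Algebra R R' := (u.stalkMap z).hom.toAlgebra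
  let π : A →ₐ[R] R := { (f.stalkMap y).hom with commutes' := hs }
  have hflat' : ∀ j < n, Module.Flat R (gr π j) := fun j hj => by
    rcases hflat j hj with rfl | h
    · exact flat_gr_zero π
    · obtain ⟨κj, hκj, -, hPj⟩ := exists_gr f hi j y
      have : Module.Flat R ((grMod f j).presheaf.stalk y) := h y
      exact flat_gr_of_isIdUniv π j (κ := κj) hκj hPj
  let B := BC π (R' := R') n
  let j₁ : R' ⟶ CommRingCat.of B := CommRingCat.ofHom (algebraMap R' B)
  let j₂ : A ⟶ CommRingCat.of B := CommRingCat.ofHom (bcHom π n)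
  let πB : CommRingCat.of B ⟶ R' := CommRingCat.ofHom (bcAug π n).toRingHom
  let p : Spec (CommRingCat.of B) ⟶ X := Spec.map j₂ ≫ X.fromSpecStalk (f y)
  let q : Spec (CommRingCat.of B) ⟶ Y' := Spec.map j₁ ≫ Y'.fromSpecStalk z
  have hcomm : s ≫ j₂ = u.stalkMap z ≫ j₁ :=
    CommRingCat.hom_ext (RingHom.ext fun r => bcHom_algebraMap π (R' := R') n r)
  have hpq : p ≫ g = q ≫ u :=
    calc p ≫ g = Spec.map j₂ ≫ (X.fromSpecStalk (f y) ≫ g) := Category.assoc _ _ _
      _ = Spec.map j₂ ≫ (Spec.map s ≫ Y.fromSpecStalk y) :=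
        congrArg (Spec.map j₂ ≫ ·) (SpecMap_σ_fromSpecStalk w₀ y).symm
      _ = Spec.map (s ≫ j₂) ≫ Y.fromSpecStalk y := by rw [Spec.map_comp, Category.assoc]
      _ = Spec.map (u.stalkMap z ≫ j₁) ≫ Y.fromSpecStalk y := by rw [hcomm]
      _ = q ≫ u := by
        rw [Spec.map_comp, Category.assoc, Category.assoc]
        exact congrArg (Spec.map j₁ ≫ ·) (Scheme.SpecMap_stalkMap_fromSpecStalk u)
  let l := hsq.lift p q hpq
  have hlv : l ≫ v = p := hsq.lift_fst _ _ _
  have hlg : l ≫ g' = q := hsq.lift_snd _ _ _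
  have hπj₂ : j₂ ≫ πB = f.stalkMap y ≫ u.stalkMap z :=
    CommRingCat.hom_ext (RingHom.ext fun a => bcAug_bcHom π (R' := R') n a)
  have hπj₁ : j₁ ≫ πB = 𝟙 R' := CommRingCat.hom_ext (RingHom.ext fun r => (bcAug π n).commutes r)
  have hlπ : Spec.map πB ≫ l = Y'.fromSpecStalk z ≫ f' := by
    apply hsq.hom_ext
    · rw [Category.assoc, Category.assoc, hlv, hf'v]
      change Spec.map πB ≫ Spec.map j₂ ≫ _ = _
      rw [← Category.assoc, ← Spec.map_comp, hπj₂, Spec.map_comp, Category.assoc,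
        Scheme.SpecMap_stalkMap_fromSpecStalk, ← Category.assoc, Scheme.SpecMap_stalkMap_fromSpecStalk,
        Category.assoc]
    · rw [Category.assoc, Category.assoc, hlg, hf', Category.comp_id]
      change Spec.map πB ≫ Spec.map j₁ ≫ _ = _
      rw [← Category.assoc, ← Spec.map_comp, hπj₁, Spec.map_id, Category.id_comp]
  have hloc : IsLocalHom πB.hom := isLocalHom_bcAug π (R' := R') n
  have : IsLocalRing (CommRingCat.of B) := RingHom.domain_isLocalRing πB.hom
  have hcp : l (IsLocalRing.closedPoint (CommRingCat.of B)) = f' z := by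
    have h₁ : l (Spec.map πB (IsLocalRing.closedPoint R')) = f' (Y'.fromSpecStalk z (IsLocalRing.closedPoint R')) :=
      congr($hlπ (IsLocalRing.closedPoint R'))
    rwa [Scheme.fromSpecStalk_closedPoint, show Spec.map πB (IsLocalRing.closedPoint R') =
      IsLocalRing.closedPoint (CommRingCat.of B) from IsLocalRing.comap_closedPoint πB.hom] at h₁
  let θ : X'.presheaf.stalk (f' z) ⟶ CommRingCat.of B :=
    X'.presheaf.stalkSpecializes (Specializes.of_eq hcp) ≫ Scheme.stalkClosedPointTo l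
  have hθ : Spec.map θ ≫ X'.fromSpecStalk (f' z) = l := by
    rw [Spec.map_comp, Category.assoc, Scheme.SpecMap_stalkSpecializes_fromSpecStalk]
    exact Scheme.Spec_stalkClosedPointTo_fromSpecStalk l
  have hθσ : σ hφ.1 z ≫ θ = j₂ := hom_eq_of_fromSpecStalk (by
    rw [Spec.map_comp, Category.assoc, SpecMap_σ_fromSpecStalk hφ.1 z, ← Category.assoc, hθ, hlv])
  have hθπ : θ ≫ πB = f'.stalkMap z := hom_eq_of_fromSpecStalk (by
    rw [Spec.map_comp, Category.assoc, hθ, hlπ, Scheme.SpecMap_stalkMap_fromSpecStalk])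
  obtain ⟨κ, hκsmul, hκ, hP⟩ := exists_gr f' hi' n z
  obtain ⟨κ', hκ'smul, hκ', hP'⟩ := exists_gr f hi n y
  let uu := (unitStalkHom u (grMod f n) z).hom
  have hJ : Ideal.map (σ hφ.1 z).hom (RingHom.ker (f.stalkMap y).hom ^ n) =
      RingHom.ker (f'.stalkMap z).hom ^ n := by
    rw [Ideal.map_pow, ← ConormalBC.ker_stalkMap_eq_map hsec hφ.1 z]
  refine injective_of_flat_gr (π := π) (R' := R') n hflat' (σ := (σ hφ.1 z).hom) (π' := (f'.stalkMap z).hom)
    θ.hom (fun a => congr($hθσ a)) (fun b => congr($hθπ b)) hJ hP (κ' := uu.comp κ') (fun b a => ?_)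
    (fun l hl => hom_ext_unit_gr z hκ'smul hP' (l' := LinearMap.id) hl)
    (fun a => ⟨hJ.le (Ideal.mem_map_of_mem _ a.2), grMap_stalk hi hφ z κ hκ κ' hκ' a _⟩)
  change uu (κ' (b • a)) = _
  rw [hκ'smul]
  exact unitStalkHom_smul u _ z _ _

end Groth.Agent.Omega.GrSection

end
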