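import Groth.Agent.Omega.GrStalk
import Groth.Agent.IdealSh.RelFlat
import Mathlib.RingTheory.Flat.Equalizer
import Mathlib.RingTheory.TensorProduct.Basic
import Mathlib.LinearAlgebra.TensorProduct.Tower

/-!
# Graded pieces of a retraction of rings and base change
-/

set_option autoImplicit false

universe u

noncomputable section

namespace Groth.Agent.Omega.SectionAlg

open TensorProduct StalkAlg

variable {R A : Type u} [CommRing R] [CommRing A] [Algebra R A] (π : A →ₐ[R] R)

/-- The augmentation ideal. -/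
abbrev aug : Ideal A := RingHom.ker π.toRingHom

/-- `I^n / I^(n+1)` inside `A / I^(n+1)`. -/
abbrev gr (n : ℕ) : Submodule R (A ⧸ aug π ^ (n + 1)) :=
  (Ideal.map (Ideal.Quotient.mk (aug π ^ (n + 1))) (aug π ^ n)).restrictScalars R

/-- The class map. -/
def grMk (n : ℕ) : ↥(aug π ^ n) →ₗ[R] gr π n :=
  LinearMap.codRestrict _
    (((Ideal.Quotient.mkₐ R (aug π ^ (n + 1))).toLinearMap).comp
      ((aug π ^ n).subtype.restrictScalars R))
    fun a => Ideal.mem_map_of_mem _ a.2

theorem coe_grMk (n : ℕ) (a : ↥(aug π ^ n)) :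
    (grMk π n a : A ⧸ aug π ^ (n + 1)) = Ideal.Quotient.mk _ a.1 := rfl

theorem grMk_surjective (n : ℕ) : Function.Surjective (grMk π n) := fun g => by
  obtain ⟨a, ha, h⟩ := (Ideal.mem_map_iff_of_surjective _ Ideal.Quotient.mk_surjective).mp g.2
  exact ⟨⟨a, ha⟩, Subtype.ext h⟩

theorem sub_mem_aug (b : A) : b - algebraMap R A (π b) ∈ aug π := by
  change π.toRingHom (b - algebraMap R A (π b)) = 0
  rw [map_sub]
  simp

theorem grMk_smul (n : ℕ) (b : A) (a : ↥(aug π ^ n)) : grMk π n (b • a) = π b • grMk π n a := by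
  rw [← LinearMap.map_smul]
  refine Subtype.ext ?_
  rw [coe_grMk, coe_grMk, Ideal.Quotient.mk_eq_mk_iff_sub_mem]
  change b * a.1 - π b • a.1 ∈ _
  rw [Algebra.smul_def, ← sub_mul, pow_succ']
  exact Ideal.mul_mem_mul (sub_mem_aug π b) a.2

/-- Semilinear maps factor through the graded piece. -/
theorem exists_grLift (n : ℕ) {P : Type u} [AddCommGroup P] [Module R P] (k : ↥(aug π ^ n) →+ P)
    (hk : ∀ b a, k (b • a) = π b • k a) :
    ∃ l : gr π n →ₗ[R] P, ∀ a, l (grMk π n a) = k a := by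
  let k' : ↥(aug π ^ n) →ₗ[R] P :=
    { toFun := k
      map_add' := map_add k
      map_smul' := fun r a => by
        rw [RingHom.id_apply, ← algebraMap_smul A r a, hk]
        simp }
  have hker : LinearMap.ker (grMk π n) ≤ LinearMap.ker k' := fun a ha => by
    have ha' : a.1 ∈ aug π ^ (n + 1) :=
      Ideal.Quotient.eq_zero_iff_mem.mp (congrArg Subtype.val (LinearMap.mem_ker.mp ha))
    have key : ∀ x : A, x ∈ aug π * aug π ^ n → ∃ h : x ∈ aug π ^ n, k ⟨x, h⟩ = 0 := fun x hx => by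
      refine Submodule.mul_induction_on hx (fun i hi c hc => ?_) fun x y ⟨h₁, ih₁⟩ ⟨h₂, ih₂⟩ => ?_
      · refine ⟨Ideal.mul_mem_left _ _ hc, ?_⟩
        rw [show (⟨i * c, _⟩ : ↥(aug π ^ n)) = i • ⟨c, hc⟩ from rfl, hk,
          show π i = 0 from hi, zero_smul]
      · refine ⟨add_mem h₁ h₂, ?_⟩
        rw [show (⟨x + y, _⟩ : ↥(aug π ^ n)) = ⟨x, h₁⟩ + ⟨y, h₂⟩ from rfl, map_add, ih₁, ih₂, add_zero]
    exact (key a.1 (by rwa [← pow_succ'])).2
  exact ⟨((LinearMap.ker (grMk π n)).liftQ k' hker).comp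
    (LinearMap.quotKerEquivOfSurjective _ (grMk_surjective π n)).symm.toLinearMap, fun a => by
      change (LinearMap.ker (grMk π n)).liftQ k' hker _ = k a
      rw [show (LinearMap.quotKerEquivOfSurjective _ (grMk_surjective π n)).symm.toLinearMap (grMk π n a) =
        Submodule.Quotient.mk a from (LinearEquiv.symm_apply_eq _).mpr rfl]
      rfl⟩

/-- A universal semilinear target is the graded piece. -/
theorem flat_gr_of_isIdUniv (n : ℕ) {P : Type u} [AddCommGroup P] [Module R P] [Module.Flat R P]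
    {κ : ↥(aug π ^ n) →+ P} (hκ : ∀ b a, κ (b • a) = π b • κ a)
    (hP : IsIdUniv π.toRingHom (aug π ^ n) κ) : Module.Flat R (gr π n) := by
  obtain ⟨l, hl⟩ := exists_grLift π n κ hκ
  obtain ⟨l', hl', -⟩ := hP (gr π n) (grMk π n).toAddMonoidHom (grMk_smul π n)
  have h₁ : l ∘ₗ l' = LinearMap.id := IsIdUniv.hom_ext hP hκ fun a => by
    rw [LinearMap.comp_apply, hl']
    exact hl a
  have h₂ : l' ∘ₗ l = LinearMap.id := LinearMap.ext fun g => by
    obtain ⟨a, rfl⟩ := grMk_surjective π n g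
    rw [LinearMap.comp_apply, hl, hl']
    rfl
  exact Module.Flat.of_linearEquiv (LinearEquiv.ofLinearMap l l' h₁ h₂)

theorem flat_gr_zero : Module.Flat R (gr π 0) := by
  let l : R →ₗ[R] gr π 0 := LinearMap.toSpanSingleton R _ (grMk π 0 ⟨1, by simp⟩)
  have hl : Function.Bijective l := by
    refine ⟨(injective_iff_map_eq_zero l).mpr fun r hr => ?_, fun g => ?_⟩
    · rw [show l r = r • grMk π 0 ⟨1, by simp⟩ from rfl, ← LinearMap.map_smul] at hr
      have h := Ideal.Quotient.eq_zero_iff_mem.mp (congrArg Subtype.val hr)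
      rw [zero_add, pow_one] at h
      have h' : π.toRingHom (r • (1 : A)) = 0 := h
      simpa [Algebra.smul_def] using h'
    · obtain ⟨a, rfl⟩ := grMk_surjective π 0 g
      refine ⟨π a.1, ?_⟩
      rw [show l (π a.1) = π a.1 • grMk π 0 ⟨1, by simp⟩ from rfl, ← grMk_smul]
      congr 1
      exact Subtype.ext (mul_one a.1)
  exact Module.Flat.of_linearEquiv (LinearEquiv.ofBijective l hl).symm

theorem flat_quot : ∀ {n : ℕ}, (∀ j < n, Module.Flat R (gr π j)) → Module.Flat R (A ⧸ aug π ^ n)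
  | 0, _ => by
    have : Subsingleton (A ⧸ aug π ^ 0) :=
      Ideal.Quotient.subsingleton_iff.mpr (by rw [pow_zero, Ideal.one_eq_top])
    infer_instance
  | n + 1, h => by
    have := flat_quot (n := n) fun j hj => h j (by omega)
    have := h n (Nat.lt_succ_self n)
    let p : A ⧸ aug π ^ (n + 1) →ₐ[R] A ⧸ aug π ^ n :=
      Ideal.Quotient.factorₐ R (Ideal.pow_le_pow_right (Nat.le_succ n))
    refine IdealSh.RelFlat.flat_middle_of_exact (gr π n).subtype p.toLinearMap ?_ ?_
      (Submodule.injective_subtype _)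
    · intro x
      obtain ⟨a, rfl⟩ := Ideal.Quotient.mk_surjective x
      refine ⟨fun h => ?_, ?_⟩
      · exact ⟨⟨_, Ideal.mem_map_of_mem _ (Ideal.Quotient.eq_zero_iff_mem.mp h)⟩, rfl⟩
      · rintro ⟨⟨y, hy⟩, hya⟩
        obtain ⟨b, hb, hb'⟩ := (Ideal.mem_map_iff_of_surjective _ Ideal.Quotient.mk_surjective).mp hy
        rw [← hya]
        change p y = 0
        rw [← hb']
        exact Ideal.Quotient.eq_zero_iff_mem.mpr hb
    · exact Ideal.Quotient.factor_surjective (Ideal.pow_le_pow_right (Nat.le_succ n))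

variable {R' : Type u} [CommRing R'] [Algebra R R'] (n : ℕ)

/-- The base change of `A / I^(n+1)`. -/
abbrev BC : Type u := R' ⊗[R] (A ⧸ aug π ^ (n + 1))

/-- The map from `A`. -/
def bcHom : A →+* BC π (R' := R') n :=
  (Algebra.TensorProduct.includeRight (R := R) (A := R')).toRingHom.comp (Ideal.Quotient.mk _)

theorem bcHom_algebraMap (r : R) : bcHom π (R' := R') n (algebraMap R A r) = algebraMap R' _ (algebraMap R R' r) := by
  change (1 : R') ⊗ₜ[R] (algebraMap R (A ⧸ aug π ^ (n + 1)) r) = algebraMap R R' r ⊗ₜ 1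
  rw [Algebra.algebraMap_eq_smul_one, Algebra.algebraMap_eq_smul_one, TensorProduct.smul_tmul]

/-- The augmentation of the base change. -/
def bcAug : BC π (R' := R') n →ₐ[R'] R' :=
  Algebra.TensorProduct.lift (Algebra.ofId R' R')
    ((Algebra.ofId R R').comp (Ideal.Quotient.liftₐ _ π fun a ha =>
      Ideal.pow_le_self (Nat.succ_ne_zero n) ha)) fun _ _ => Commute.all _ _

theorem bcAug_bcHom (a : A) : bcAug π (R' := R') n (bcHom π n a) = algebraMap R R' (π a) := by
  simp [bcAug, bcHom]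

theorem bcAug_surjective : Function.Surjective (bcAug π (R' := R') n) := fun r =>
  ⟨algebraMap R' _ r, (bcAug π n).commutes r⟩

theorem ker_bcAug_le : RingHom.ker (bcAug π (R' := R') n) ≤ (aug π).map (bcHom π n) := by
  intro x hx
  suffices h : ∀ y, y - algebraMap R' _ (bcAug π n y) ∈ (aug π).map (bcHom π (R' := R') n) by
    have := h x
    rwa [RingHom.mem_ker.mp hx, map_zero, sub_zero] at this
  intro y
  induction y using TensorProduct.induction_on with
  | zero => simp
  | add x y hx hy =>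
    rw [map_add, map_add, add_sub_add_comm]
    exact add_mem hx hy
  | tmul r c =>
    obtain ⟨a, rfl⟩ := Ideal.Quotient.mk_surjective c
    have hrc : (r ⊗ₜ[R] Ideal.Quotient.mk _ a : BC π (R' := R') n) = algebraMap R' _ r * bcHom π n a := by
      change _ = (r ⊗ₜ[R] (1 : A ⧸ aug π ^ (n + 1))) * ((1 : R') ⊗ₜ Ideal.Quotient.mk _ a)
      simp
    rw [hrc, map_mul, AlgHom.commutes, bcAug_bcHom, map_mul, ← bcHom_algebraMap, Algebra.algebraMap_self,
      RingHom.id_apply, ← mul_sub, ← map_sub]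
    exact Ideal.mul_mem_left _ _ (Ideal.mem_map_of_mem _ (sub_mem_aug π a))

theorem map_bcHom_pow : (aug π).map (bcHom π (R' := R') n) ^ (n + 1) = ⊥ := by
  rw [← Ideal.map_pow, eq_bot_iff, Ideal.map_le_iff_le_comap]
  intro a ha
  rw [Ideal.mem_comap, bcHom, RingHom.comp_apply, Ideal.Quotient.eq_zero_iff_mem.mpr ha, map_zero]
  exact zero_mem _

theorem isLocalHom_bcAug : IsLocalHom (bcAug π (R' := R') n).toRingHom := by
  refine ⟨fun x hx => ?_⟩
  obtain ⟨v, hv⟩ := hx
  have hm : x * algebraMap R' _ ↑v⁻¹ - 1 ∈ (aug π).map (bcHom π n) := ker_bcAug_le π n (by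
    rw [RingHom.mem_ker, map_sub, map_mul, AlgHom.commutes, map_one]
    change (bcAug π n x) * _ - 1 = 0
    rw [← show (v : R') = bcAug π n x from hv]
    simp)
  have hnil : IsNilpotent (x * algebraMap R' _ ↑v⁻¹ - 1) :=
    ⟨n + 1, Ideal.mem_bot.mp ((map_bcHom_pow π n).le (Ideal.pow_mem_pow hm _))⟩
  have := hnil.isUnit_one_add
  rw [add_sub_cancel] at this
  exact (IsUnit.mul_iff.mp this).1

theorem injective_of_flat_gr {A' : Type u} [CommRing A'] {σ : A →+* A'} {π' : A' →+* R'}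
    (hflat : ∀ j < n, Module.Flat R (gr π j))
    (θ : A' →+* BC π (R' := R') n) (hθσ : ∀ a, θ (σ a) = bcHom π n a)
    (hθπ : ∀ b, bcAug π n (θ b) = π' b)
    {I' : Ideal A'} (hJ : (aug π ^ n).map σ = I')
    {P P' : Type u} [AddCommGroup P] [Module R' P] [AddCommGroup P'] [Module R' P']
    {κ : I' →+ P} (hP : IsIdUniv π' I' κ)
    {κ' : ↥(aug π ^ n) →+ P'} (hκ' : ∀ b a, κ' (b • a) = algebraMap R R' (π b) • κ' a)
    (hP' : ∀ l : P' →ₗ[R'] P', (∀ a, l (κ' a) = κ' a) → l = LinearMap.id) {ψ : P' →ₗ[R'] P}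
    (hψ : ∀ a : ↥(aug π ^ n), ∃ h : σ a.1 ∈ I', ψ (κ' a) = κ ⟨σ a.1, h⟩) : Function.Injective ψ := by
  have := flat_quot π hflat
  let : Module R P' := Module.compHom P' (algebraMap R R')
  have : IsScalarTower R R' P' := IsScalarTower.of_algebraMap_smul fun _ _ => rfl
  obtain ⟨lG, hlG⟩ := exists_grLift π n κ' fun b a => hκ' b a
  let ι : R' ⊗[R] gr π n →ₗ[R'] BC π (R' := R') n := (gr π n).subtype.baseChange R'
  have hι : Function.Injective ι := by
    let p : A ⧸ aug π ^ (n + 1) →ₐ[R] A ⧸ aug π ^ n :=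
      Ideal.Quotient.factorₐ R (Ideal.pow_le_pow_right (Nat.le_succ n))
    refine LinearMap.lTensor_injective_of_exact_of_flat p.toLinearMap
      (Ideal.Quotient.factor_surjective (Ideal.pow_le_pow_right (Nat.le_succ n))) (gr π n).subtype (Submodule.injective_subtype _) ?_ R'
    intro x
    obtain ⟨a, rfl⟩ := Ideal.Quotient.mk_surjective x
    refine ⟨fun h => ?_, ?_⟩
    · exact ⟨⟨_, Ideal.mem_map_of_mem _ (Ideal.Quotient.eq_zero_iff_mem.mp h)⟩, rfl⟩
    · rintro ⟨⟨y, hy⟩, hya⟩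
      obtain ⟨b, hb, hb'⟩ := (Ideal.mem_map_iff_of_surjective _ Ideal.Quotient.mk_surjective).mp hy
      rw [← hya]
      change p y = 0
      rw [← hb']
      exact Ideal.Quotient.eq_zero_iff_mem.mpr hb
  have hmul : ∀ (b : BC π (R' := R') n) x, b * ι x ∈ LinearMap.range ι := fun b x => by
    induction x using TensorProduct.induction_on with
    | zero => simp
    | add x y hx hy => rw [map_add, mul_add]; exact add_mem hx hy
    | tmul r g =>
      induction b using TensorProduct.induction_on with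
      | zero => simp
      | add b b' hb hb' => rw [add_mul]; exact add_mem hb hb'
      | tmul r' c => exact ⟨(r' * r) ⊗ₜ ⟨c * g.1, Ideal.mul_mem_left _ c g.2⟩, by simp [ι]⟩
  let L : Ideal (BC π (R' := R') n) :=
    { carrier := LinearMap.range ι
      add_mem' := fun h h' => add_mem h h'
      zero_mem' := zero_mem _
      smul_mem' := by rintro b _ ⟨x, rfl⟩; exact hmul b x }
  have hL : (aug π ^ n).map (bcHom π (R' := R') n) ≤ L := Ideal.map_le_iff_le_comap.mpr fun a ha =>
    ⟨1 ⊗ₜ grMk π n ⟨a, ha⟩, rfl⟩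
  have hθI : I'.map θ ≤ (aug π ^ n).map (bcHom π (R' := R') n) := by
    rw [← hJ, Ideal.map_map]
    exact le_of_eq (congrArg (fun F => Ideal.map F (aug π ^ n)) (RingHom.ext hθσ))
  let e := LinearEquiv.ofInjective ι hι
  let g : R' ⊗[R] gr π n →ₗ[R'] P' := lG.liftBaseChange R'
  let k : I' →+ P' := AddMonoidHom.mk'
    (fun a => g (e.symm ⟨θ a.1, hL (hθI (Ideal.mem_map_of_mem _ a.2))⟩)) fun a b => by
      rw [← map_add, ← map_add]
      congr 2
      exact Subtype.ext (map_add θ a.1 b.1)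
  have hk : ∀ b a, k (b • a) = π' b • k a := fun b a => by
    change g _ = π' b • g _
    rw [← map_smul, ← map_smul]
    congr 2
    refine Subtype.ext ?_
    change θ (b * a.1) = π' b • θ a.1
    refine (map_mul θ b a.1).trans (Eq.trans ?_ (Algebra.smul_def (π' b) (θ a.1)).symm)
    rw [← sub_eq_zero, ← sub_mul]
    have h1 : θ b - algebraMap R' _ (π' b) ∈ RingHom.ker (bcAug π (R' := R') n) := by
      rw [RingHom.mem_ker, map_sub, AlgHom.commutes, hθπ, Algebra.algebraMap_self, RingHom.id_apply,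
        sub_self]
    have h2 := Ideal.mul_mem_mul (ker_bcAug_le π n h1) (hθI (Ideal.mem_map_of_mem θ a.2))
    rw [← Ideal.map_mul, ← pow_succ', Ideal.map_pow, map_bcHom_pow] at h2
    exact Ideal.mem_bot.mp h2
  obtain ⟨l, hl, -⟩ := hP P' k hk
  have hlψ : l ∘ₗ ψ = LinearMap.id := hP' _ fun a => by
    obtain ⟨h, he⟩ := hψ a
    rw [LinearMap.comp_apply, he, hl]
    change g (e.symm ⟨θ (σ a.1), _⟩) = _
    rw [show e.symm ⟨θ (σ a.1), hL (hθI (Ideal.mem_map_of_mem _ h))⟩ = 1 ⊗ₜ grMk π n a from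
      e.symm_apply_eq.mpr (Subtype.ext (hθσ a.1))]
    simp [g, hlG]
  exact Function.LeftInverse.injective (g := l) fun x => congr($hlψ x)

end Groth.Agent.Omega.SectionAlg

end
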