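import Groth.Agent.Omega.LiftMod
import Mathlib.RingTheory.Etale.Kaehler
import Mathlib.RingTheory.Etale.Field

/-!
# `H¹` of the cotangent complex along a separable extension of fields
-/

set_option autoImplicit false
set_option linter.style.haveILetI false

universe u

open TensorProduct Algebra

noncomputable section

namespace Groth.Agent.Omega.H1Etale

/-- Extension of an ideal along a flat map. -/
theorem bijective_lift {A C : Type u} [CommRing A] [CommRing C] [Algebra A C] [Module.Flat A C]
    (I : Ideal A) (J : Ideal C) (hJ : J = I.map (algebraMap A C)) (m : I →ₗ[A] J)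
    (hm : ∀ i : I, (m i : C) = algebraMap A C i) : Function.Bijective (m.liftBaseChange C) := by
  let L := m.liftBaseChange C
  have key : ∀ z : C ⊗[A] I, TensorProduct.rid A C (LinearMap.lTensor C I.subtype z) = (L z : C) := fun z => by
    induction z using TensorProduct.induction_on with
    | zero => simp [L]
    | add a b ha hb => simp [L, map_add, ha, hb]
    | tmul c i =>
      simp only [L, LinearMap.lTensor_tmul, Submodule.coe_subtype, TensorProduct.rid_tmul,
        LinearMap.liftBaseChange_tmul, SetLike.val_smul, hm, smul_eq_mul, Algebra.smul_def, Algebra.algebraMap_self,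
        RingHom.id_apply]
      ring
  constructor
  · intro x y hxy
    refine Module.Flat.lTensor_preserves_injective_linearMap _ (Submodule.injective_subtype I)
      ((TensorProduct.rid A C).injective ?_)
    rw [key, key]
    exact congrArg Subtype.val hxy
  · rintro ⟨c, hc⟩
    have hle : I.map (algebraMap A C) ≤ LinearMap.range (J.subtype ∘ₗ L) := by
      refine Ideal.map_le_iff_le_comap.mpr fun i hi => ⟨(1 : C) ⊗ₜ ⟨i, hi⟩, ?_⟩
      simp [L, hm]
    obtain ⟨z, hz⟩ := hle (hJ ▸ hc)
    exact ⟨z, Subtype.ext hz⟩

set_option maxHeartbeats 1000000 in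
set_option backward.isDefEq.respectTransparency false in
theorem bijective_liftBaseChange (R S T : Type u) [CommRing R] [Field S] [Field T] [Algebra R S]
    [Algebra R T] [Algebra S T] [IsScalarTower R S T] [Algebra.Etale S T] :
    Function.Bijective ((Algebra.H1Cotangent.map R R S T).liftBaseChange T) := by
  let P : Extension R S := (Generators.self R S).toExtension
  let A := P.Ring
  let I : Ideal A := P.ker
  let e : (A ⧸ I) ≃+* S := RingHom.quotientKerEquivOfSurjective (f := algebraMap A S) P.algebraMap_surjective
  letI : Algebra (A ⧸ I) T := ((algebraMap S T).comp e.toRingHom).toAlgebra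
  letI : Algebra A T := ((algebraMap S T).comp (algebraMap A S)).toAlgebra
  haveI : IsScalarTower A (A ⧸ I) T := IsScalarTower.of_algebraMap_eq fun _ => rfl
  haveI : IsScalarTower A S T := IsScalarTower.of_algebraMap_eq fun _ => rfl
  haveI : Algebra.Etale (A ⧸ I) T :=
    RingHom.etale_algebraMap.mp (RingHom.Etale.stableUnderComposition _ _
      (RingHom.Etale.of_bijective (f := e.toRingHom) e.bijective) (RingHom.etale_algebraMap.mpr ‹_›))
  obtain ⟨g, hg, C, iC, iA, ψ, hC, hψ, hker⟩ := LiftMod.exists_etale I (⊥ : Ideal T)
  have hb : Function.Bijective (algebraMap T (Localization.Away g)) :=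
    (IsLocalization.atUnit T (Localization.Away g) g (isUnit_iff_ne_zero.mpr fun h => hg (by simp [h]))).bijective
  let ε : T ≃ₐ[T] Localization.Away g := AlgEquiv.ofBijective (Algebra.ofId T _) hb
  let ψT : C →ₐ[A] T := (ε.symm.toAlgHom.restrictScalars A).comp ψ
  have hψT : Function.Surjective ψT := ε.symm.surjective.comp hψ
  have hkerT : RingHom.ker ψT = I.map (algebraMap A C) := by
    rw [← hker]
    ext c
    simp only [RingHom.mem_ker]
    exact map_eq_zero_iff ε.symm ε.symm.injective
  letI : Algebra R C := ((algebraMap A C).comp (algebraMap R A)).toAlgebra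
  haveI : IsScalarTower R A C := IsScalarTower.of_algebraMap_eq fun _ => rfl
  have hRT : ∀ r, algebraMap A T (algebraMap R A r) = algebraMap R T r := fun r => by
    rw [IsScalarTower.algebraMap_apply A S T, ← IsScalarTower.algebraMap_apply R A S,
      ← IsScalarTower.algebraMap_apply R S T]
  let fQ : C →ₐ[R] T := { ψT.toRingHom with commutes' := fun r => (ψT.commutes _).trans (hRT r) }
  let Q : Extension R T := Extension.ofSurjective fQ hψT
  let f : P.Hom Q :=
    { toRingHom := algebraMap A C
      toRingHom_algebraMap := fun x => rfl
      algebraMap_toRingHom := fun x => ψT.commutes x }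
  haveI hP : FormallySmooth R P.Ring :=
    show @FormallySmooth R (Generators.self R S).toExtension.Ring _ _ _ from inferInstanceAs (FormallySmooth R (Generators.self R S).Ring)
  haveI : Algebra.FormallySmooth A C := inferInstance
  haveI : FormallySmooth R C := .comp R A C
  haveI : FormallySmooth R Q.Ring := this
  haveI : Module.Flat A C := inferInstance
  letI : Algebra P.Ring Q.Ring := iA
  have hQk : RingHom.ker (algebraMap Q.Ring T) = Ideal.map (algebraMap P.Ring Q.Ring) P.ker := hkerT
  haveI : Module.Flat P.Ring Q.Ring := ‹Module.Flat A C›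
  have H₂ : Function.Bijective ((f.mapKer (alg := iA) rfl).liftBaseChange Q.Ring) :=
    bijective_lift P.ker _ hQk _ fun i => rfl
  let e₁ := Extension.tensorH1CotangentOfFormallyEtale (alg := iA) f rfl
    (RingHom.formallyEtale_algebraMap.mpr (inferInstanceAs (Algebra.FormallyEtale A C))) H₂
  let e₂ := Extension.equivH1CotangentOfFormallySmooth Q
  suffices (e₁ ≪≫ₗ e₂).toLinearMap = (Algebra.H1Cotangent.map R R S T).liftBaseChange T by
    rw [← this]
    exact (e₁ ≪≫ₗ e₂).bijective
  ext x : 3
  simp only [AlgebraTensorModule.curry_apply, curry_apply, LinearMap.coe_restrictScalars,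
    LinearEquiv.coe_coe, LinearMap.liftBaseChange_tmul, one_smul]
  simp only [e₁, e₂, Extension.tensorH1CotangentOfFormallyEtale,
    LinearEquiv.ofBijective_apply, LinearMap.liftBaseChange_tmul, one_smul,
    Extension.equivH1CotangentOfFormallySmooth, LinearEquiv.trans_apply]
  let g' : (Generators.self R T).toExtension.Hom Q :=
    { toRingHom := (MvPolynomial.aeval Q.σ).toRingHom
      toRingHom_algebraMap := (MvPolynomial.aeval Q.σ).commutes
      algebraMap_toRingHom := by
        have : (IsScalarTower.toAlgHom R Q.Ring T).comp (MvPolynomial.aeval Q.σ) =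
            IsScalarTower.toAlgHom _ (Generators.self R T).toExtension.Ring _ := by
          ext i
          change _ = algebraMap (Generators.self R T).Ring _ (.X i)
          simp
        exact DFunLike.congr_fun this }
  rw [← Extension.H1Cotangent.equivOfFormallySmooth_symm, LinearEquiv.symm_apply_eq,
    @Extension.H1Cotangent.equivOfFormallySmooth_apply (f := g'),
    Algebra.H1Cotangent.map]
  erw [LinearMap.liftBaseChange_tmul, one_smul]
  rw [← (Extension.H1Cotangent.map g').coe_restrictScalars S,
    ← LinearMap.comp_apply, ← Extension.H1Cotangent.map_comp, Extension.H1Cotangent.map_eq]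

end Groth.Agent.Omega.H1Etale

end
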