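import Groth.Agent.Omega.ThickSeq
import Mathlib.CategoryTheory.Abelian.Exact

/-!
# The conormal sequence of two immersions
-/

set_option autoImplicit false

universe u

open CategoryTheory CategoryTheory.Limits AlgebraicGeometry TopologicalSpace Opposite

noncomputable section

namespace Groth.Agent.Omega.ImmersionSeq

open OmegaSh Basic Stalks StalkConormal StalkSeq StalkAlg ThickSeq
open Groth.Agent.PullStalk.Sky Groth.Agent.PullStalk.Exact Groth.Agent.PullStalk.Basic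

variable {Y' Y X : Scheme.{u}} {f : Y ⟶ X} [IsImmersion f] [QuasiCompact f]
  {j : Y' ⟶ Y} [IsImmersion j] [QuasiCompact j]

theorem exact_and_epi
    {φ₁ : (Scheme.Modules.pullback j).obj (Omega.conormal f) ⟶ Omega.conormal (j ≫ f)}
    (hφ₁ : IsConormalMap (j ≫ f) f (𝟙 X) j φ₁)
    {φ₂ : (Scheme.Modules.pullback (𝟙 Y')).obj (Omega.conormal (j ≫ f)) ⟶ Omega.conormal j}
    (hφ₂ : IsConormalMap j (j ≫ f) f (𝟙 Y') φ₂) :
    ∃ w : (Scheme.Modules.pullback (𝟙 Y')).map φ₁ ≫ φ₂ = 0, (ShortComplex.mk _ _ w).Exact ∧ Epi φ₂ := by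
  refine exact_and_epi_of_stalks (fun w₂ w₁ z => ?_) hφ₁ hφ₂
  let μ : X.presheaf.stalk (f (j z)) ⟶ X.presheaf.stalk ((j ≫ f) z) := σ w₁ z
  let ν : X.presheaf.stalk ((j ≫ f) z) ⟶ Y.presheaf.stalk (j z) := σ w₂ z
  have hμν : μ ≫ ν = f.stalkMap (j z) := hom_eq_of_fromSpecStalk (by
    rw [Spec.map_comp, Category.assoc, show Spec.map μ ≫ X.fromSpecStalk (f (j z)) = _ from
      SpecMap_σ_fromSpecStalk w₁ z, Category.comp_id, show Spec.map ν ≫ X.fromSpecStalk ((j ≫ f) z) = _ from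
      SpecMap_σ_fromSpecStalk w₂ z, Scheme.SpecMap_stalkMap_fromSpecStalk])
  have hμ : Function.Surjective μ := by
    intro a
    have h₁ : Function.Bijective ((𝟙 X : X ⟶ X).stalkMap ((j ≫ f) z)) := ConcreteCategory.bijective_of_isIso _
    obtain ⟨a', ha'⟩ := h₁.2 a
    obtain ⟨c, hc⟩ := exists_σ_eq w₁ z a'
    exact ⟨c, hc.trans ha'⟩
  refine ⟨fun y => ?_, le_antisymm (fun x hx => ?_) (Ideal.map_le_iff_le_comap.mpr fun k hk => ?_)⟩
  · obtain ⟨c, hc⟩ := f.stalkMap_surjective (j z) y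
    exact ⟨μ c, congr($hμν c).trans hc⟩
  · obtain ⟨c, rfl⟩ := hμ x
    exact Ideal.mem_map_of_mem _ ((congr($hμν c)).symm.trans hx)
  · exact congr($hμν k).trans hk

theorem epi_and_image_eq_kernel
    {φ₁ : (Scheme.Modules.pullback j).obj (Omega.conormal f) ⟶ Omega.conormal (j ≫ f)}
    (hφ₁ : IsConormalMap (j ≫ f) f (𝟙 X) j φ₁)
    {φ₂ : (Scheme.Modules.pullback (𝟙 Y')).obj (Omega.conormal (j ≫ f)) ⟶ Omega.conormal j}
    (hφ₂ : IsConormalMap j (j ≫ f) f (𝟙 Y') φ₂) :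
    Epi φ₂ ∧ imageSubobject φ₁ =
      kernelSubobject ((Scheme.Modules.pullbackId Y').inv.app (Omega.conormal (j ≫ f)) ≫ φ₂) := by
  obtain ⟨w, hex, hepi⟩ := exact_and_epi hφ₁ hφ₂
  refine ⟨hepi, ?_⟩
  let e := Scheme.Modules.pullbackId Y'
  have w' : φ₁ ≫ e.inv.app _ ≫ φ₂ = 0 := by
    rw [← Category.assoc, show φ₁ ≫ e.inv.app _ = e.inv.app _ ≫ (Scheme.Modules.pullback (𝟙 Y')).map φ₁ from
      e.inv.naturality φ₁]
    exact (Category.assoc _ _ _).trans ((congrArg _ w).trans comp_zero)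
  let iso : ShortComplex.mk ((Scheme.Modules.pullback (𝟙 Y')).map φ₁) φ₂ w ≅
      ShortComplex.mk φ₁ (e.inv.app _ ≫ φ₂) w' :=
    ShortComplex.isoMk (e.app _) (e.app _) (Iso.refl _) (e.hom.naturality φ₁).symm
      ((Category.assoc _ _ _).symm.trans ((congrArg (· ≫ φ₂) (e.hom_inv_id_app _)).trans ((Category.id_comp φ₂).trans (Category.comp_id φ₂).symm)))
  exact (ShortComplex.exact_iff_image_eq_kernel _).mp (ShortComplex.exact_of_iso iso hex)

end Groth.Agent.Omega.ImmersionSeq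

end
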