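import Groth.Agent.Omega.LciThickRing
import Groth.Agent.Omega.ImmersionSeq
import Groth.Agent.Omega.ConormalSplit
import Groth.Agent.Omega.ConormalZero
import Groth.Agent.RegImm44.Affine
import Groth.Agent.KReg44.Syzygy

/-!
# Left exactness of the conormal sequence of immersions
-/

set_option autoImplicit false
set_option linter.style.haveILetI false

universe u

open CategoryTheory CategoryTheory.Limits AlgebraicGeometry TopologicalSpace

noncomputable section

namespace Groth.Agent.Omega.KoszulMono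

open OmegaSh Basic Stalks StalkConormal StalkSeq StalkAlg LciThick
open Groth.Agent.PullStalk.Sky Groth.Agent.PullStalk.Exact Groth.Agent.PullStalk.Basic

variable {X Y Z : Scheme.{u}} {i : Y ⟶ X} [IsImmersion i] [QuasiCompact i] {j : Z ⟶ Y} [IsImmersion j]

/-- The kernel of a Koszul-regular immersion on a local ring is generated by an `H₁`-regular sequence. -/
theorem exists_h1Regular (hj : RegImm.IsRegularImmersion .koszul j) (z : Z) :
    ∃ (n : ℕ) (g : Fin n → Y.presheaf.stalk (j z)), CAlgX.IsH1Regular g ∧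
      Ideal.span (Set.range g) = RingHom.ker (j.stalkMap z).hom := by
  obtain ⟨⟨V, hV⟩, hzV, hci, rs, hrs, hker⟩ := hj.2 z
  haveI := hci
  letI : Algebra Γ(Y, V) (Y.presheaf.stalk (j z)) := Y.presheaf.algebra_section_stalk ⟨j z, hzV⟩
  haveI := hV.isLocalization_stalk ⟨j z, hzV⟩
  let φ := (Y.presheaf.germ V (j z) hzV).hom
  have hφ : φ.Flat := RingHom.flat_algebraMap_iff.mpr
    (IsLocalization.flat (Y.presheaf.stalk (j z)) (hV.primeIdealOf ⟨j z, hzV⟩).asIdeal.primeCompl)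
  have hk := KReg44.isKoszulRegularSeq_map φ hφ hrs
  refine ⟨(rs.map φ).length, fun k => (rs.map φ).get k, KReg44.isH1Regular _ (by rwa [List.ofFn_get]), ?_⟩
  rw [KReg44.span_range_eq_ofList, List.ofFn_get, ← Ideal.map_ofList, ← hker,
    ← ConormalZero.ker_stalkMap_eq j hV (RegImm44.isAffineOpen_preimage j hV) hzV (RegImm44.app_surjective j hV)]

/-- The kernel of `j` on each local ring is generated by an `H₁`-regular sequence. -/
def HasH1Gen (j : Z ⟶ Y) : Prop :=
  ∀ z : Z, ∃ (n : ℕ) (g : Fin n → Y.presheaf.stalk (j z)), CAlgX.IsH1Regular g ∧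
    Ideal.span (Set.range g) = RingHom.ker (j.stalkMap z).hom

theorem mono_conormalMap_of_gen [QuasiCompact j] (hj : HasH1Gen j)
    {φ₁ : (Scheme.Modules.pullback j).obj (Omega.conormal i) ⟶ Omega.conormal (j ≫ i)}
    (hφ₁ : IsConormalMap (j ≫ i) i (𝟙 X) j φ₁)
    (w₂ : (𝟙 Z) ≫ j ≫ i = j ≫ i) : Mono φ₁ := by
  refine mono_of_stalk fun z => ?_
  let μ : X.presheaf.stalk (i (j z)) ⟶ X.presheaf.stalk ((j ≫ i) z) := σ hφ₁.1 z
  let ν : X.presheaf.stalk ((j ≫ i) z) ⟶ Y.presheaf.stalk (j z) := σ w₂ z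
  let A := X.presheaf.stalk ((j ≫ i) z)
  let π : A ⟶ Z.presheaf.stalk z := (j ≫ i).stalkMap z
  have hμν : μ ≫ ν = i.stalkMap (j z) := ThickSeq.hom_eq_of_fromSpecStalk (by
    rw [Spec.map_comp, Category.assoc, show Spec.map μ ≫ X.fromSpecStalk (i (j z)) = _ from
      ThickSeq.SpecMap_σ_fromSpecStalk hφ₁.1 z, Category.comp_id, show Spec.map ν ≫ X.fromSpecStalk ((j ≫ i) z) = _ from
      ThickSeq.SpecMap_σ_fromSpecStalk w₂ z, Scheme.SpecMap_stalkMap_fromSpecStalk])
  have hνπ : ν ≫ j.stalkMap z = π := ThickSeq.hom_eq_of_fromSpecStalk (by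
    rw [Spec.map_comp, Category.assoc, show Spec.map ν ≫ X.fromSpecStalk ((j ≫ i) z) = _ from
      ThickSeq.SpecMap_σ_fromSpecStalk w₂ z, Scheme.SpecMap_stalkMap_fromSpecStalk_assoc,
      Scheme.SpecMap_stalkMap_fromSpecStalk])
  have hμ : Function.Bijective μ.hom := by
    have e₁ : i (j z) = (𝟙 X : X ⟶ X) ((j ≫ i) z) := congr($(hφ₁.1) z)
    have h₁ : Function.Bijective ((𝟙 X : X ⟶ X).stalkMap ((j ≫ i) z)).hom := ConcreteCategory.bijective_of_isIso _
    exact h₁.comp (ConormalSplit.bijective_stalkSpecializes X e₁.symm)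
  have hν : Function.Surjective ν.hom := fun y => by
    obtain ⟨c, rfl⟩ := i.stalkMap_surjective (j z) y
    exact ⟨μ c, congr($hμν c)⟩
  have hπ : Function.Surjective π.hom := fun y => (j ≫ i).stalkMap_surjective z y
  obtain ⟨n, g, hg, hgK⟩ := hj z
  choose g' hg' using fun k => hν (g k)
  have hkerπ : RingHom.ker π.hom = RingHom.ker ν.hom ⊔ Ideal.span (Set.range g') := by
    rw [← hνπ, CommRingCat.hom_comp, ← RingHom.comap_ker, ← hgK,
      show Ideal.span (Set.range g) = (Ideal.span (Set.range g')).map ν.hom by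
        rw [Ideal.map_span, ← Set.range_comp, show ν.hom ∘ g' = g from funext hg'],
      Ideal.comap_map_of_surjective _ hν, sup_comm, ← RingHom.ker_eq_comap_bot]
  have hinf : RingHom.ker π.hom ^ 2 ⊓ RingHom.ker ν.hom ≤ RingHom.ker ν.hom * RingHom.ker π.hom := by
    rw [hkerπ]
    exact inf_le_mul ν.hom g' (by rwa [show (fun k => ν.hom (g' k)) = g from funext hg']) hν
  -- the `C`-module `L/L²`
  let L := RingHom.ker π.hom
  let eC : (A ⧸ L) ≃+* Z.presheaf.stalk z := RingHom.quotientKerEquivOfSurjective hπ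
  letI : Module (Z.presheaf.stalk z) L.Cotangent := Module.compHom _ eC.symm.toRingHom
  have hsmul : ∀ (t : A) (v : L.Cotangent), π.hom t • v = t • v := fun t v => by
    change eC.symm (π.hom t) • v = t • v
    rw [show π.hom t = eC (Ideal.Quotient.mk L t) from rfl, RingEquiv.symm_apply_apply]
    exact algebraMap_smul (A ⧸ L) t v
  obtain ⟨κ', -, hκ', hP'⟩ := exists_conormal (j ≫ i) z (j ≫ i).isEmbedding.isInducing
  obtain ⟨κ, hκsmul, hκ, hP⟩ := exists_conormal i (j z) i.isEmbedding.isInducing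
  obtain ⟨Λ, hΛ, -⟩ := hP' L.Cotangent L.toCotangent.toAddMonoidHom fun r a => by
    refine Eq.trans ?_ (hsmul r _).symm
    exact map_smul L.toCotangent r a
  let P := ((Scheme.Modules.pullback j).obj (Omega.conormal i)).presheaf.stalk z
  let u := (unitStalkHom j (Omega.conormal i) z).hom
  have hu : ∀ (r : X.presheaf.stalk (i (j z))) (a : RingHom.ker (i.stalkMap (j z)).hom),
      u (κ (r • a)) = π.hom (μ.hom r) • u (κ a) := fun r a => by
    rw [hκsmul]
    refine (unitStalkHom_smul j _ z _ _).trans (congrArg (· • _) ?_)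
    rw [← hνπ]
    exact congrArg (j.stalkMap z).hom (congr($hμν r)).symm
  have hgen : ∀ w : P, ∃ (n : ℕ) (a : Fin n → RingHom.ker (i.stalkMap (j z)).hom) (x : Fin n → Z.presheaf.stalk z),
      w = ∑ k, x k • u (κ (a k)) := by
    have htop : Submodule.span (Z.presheaf.stalk z) (Set.range fun a => u (κ a)) = ⊤ := by
      let S := Submodule.span (Z.presheaf.stalk z) (Set.range fun a => u (κ a))
      change S = ⊤
      rw [← S.ker_mkQ, LinearMap.ker_eq_top]
      refine hom_eq_of_unitStalk j _ _ fun t => ?_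
      let : Module (Y.presheaf.stalk (j z)) (P ⧸ S) := Module.compHom _ (j.stalkMap z).hom
      let Lm : (Omega.conormal i).presheaf.stalk (j z) →ₗ[Y.presheaf.stalk (j z)] P ⧸ S :=
        { toFun := fun t => S.mkQ (u t)
          map_add' := fun a a' => (congrArg S.mkQ (map_add u a a')).trans (map_add _ _ _)
          map_smul' := fun r a => (congrArg S.mkQ (unitStalkHom_smul j _ z r a)).trans (map_smul _ _ _) }
      have hL : Lm = 0 := IsKerUniv.hom_ext hP hκsmul fun a =>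
        (Submodule.Quotient.mk_eq_zero S).mpr (Submodule.subset_span ⟨a, rfl⟩)
      exact congr($hL t)
    intro w
    obtain ⟨n, x, a, h⟩ := Submodule.mem_span_set'.mp (htop ▸ Submodule.mem_top : w ∈ _)
    choose a' ha' using fun k => (a k).2
    exact ⟨n, a', x, by rw [← h]; exact Finset.sum_congr rfl fun k _ => congrArg (x k • ·) (ha' k).symm⟩
  have key : ∀ y ∈ RingHom.ker ν.hom * RingHom.ker π.hom,
      ∃ b : RingHom.ker (i.stalkMap (j z)).hom, μ.hom b.1 = y ∧ u (κ b) = 0 := fun y hy => by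
    induction hy using Submodule.mul_induction_on' with
    | mem_mul_mem e he k hk =>
      obtain ⟨a, rfl⟩ := hμ.2 e
      obtain ⟨k₀, rfl⟩ := hμ.2 k
      have ha : a ∈ RingHom.ker (i.stalkMap (j z)).hom := by
        rw [RingHom.mem_ker, ← hμν]; exact he
      refine ⟨k₀ • ⟨a, ha⟩, (map_mul μ.hom k₀ a).trans (mul_comm _ _), ?_⟩
      rw [hu, RingHom.mem_ker.mp hk, zero_smul]
    | add a _ b _ ha hb =>
      obtain ⟨v, rfl, hv⟩ := ha; obtain ⟨w, rfl, hw⟩ := hb
      exact ⟨v + w, map_add μ.hom _ _, by rw [map_add, map_add, hv, hw, add_zero]⟩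
  rw [injective_iff_map_eq_zero]
  intro w hw
  obtain ⟨n, a, x, rfl⟩ := hgen w
  choose r hr using fun k => hπ (x k)
  choose r₀ hr₀ using fun k => hμ.2 (r k)
  have hmem : ∀ k, μ.hom (a k).1 ∈ L := fun k =>
    (stalkMap_σ hφ₁.1 z (a k).1).trans ((congrArg _ (a k).2).trans (map_zero _))
  let b := ∑ k, r₀ k • a k
  have hb : u (κ b) = ∑ k, x k • u (κ (a k)) := by
    simp only [b, map_sum, hu, hr₀, hr]
  have hbL : μ.hom b.1 ∈ L := by
    simp only [b, Submodule.coe_sum, map_sum, Submodule.coe_smul, smul_eq_mul, map_mul]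
    exact Ideal.sum_mem _ fun k _ => Ideal.mul_mem_left _ _ (hmem k)
  have hcot : L.toCotangent ⟨μ.hom b.1, hbL⟩ = Λ (stalkLin φ₁ z (u (κ b))) := by
    rw [show stalkLin φ₁ z (u (κ b)) = κ' ⟨μ.hom b.1, hbL⟩ from
      conormalMap_stalk (j ≫ i).isEmbedding.isInducing i.isEmbedding.isInducing hφ₁ z κ' hκ' κ hκ b hbL]
    exact (hΛ _).symm
  rw [hb, hw, map_zero, Ideal.toCotangent_eq_zero] at hcot
  obtain ⟨b', hb', hb'0⟩ := key _ (hinf ⟨hcot, by
    rw [SetLike.mem_coe, RingHom.mem_ker]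
    exact (congr($hμν b.1)).trans b.2⟩)
  rw [← hb, ← hb'0]
  exact congrArg (fun t => u (κ t)) (Subtype.ext (hμ.1 hb')).symm

theorem mono_conormalMap [QuasiCompact j] (hj : RegImm.IsRegularImmersion .koszul j)
    {φ₁ : (Scheme.Modules.pullback j).obj (Omega.conormal i) ⟶ Omega.conormal (j ≫ i)}
    (hφ₁ : IsConormalMap (j ≫ i) i (𝟙 X) j φ₁)
    (w₂ : (𝟙 Z) ≫ j ≫ i = j ≫ i) : Mono φ₁ :=
  mono_conormalMap_of_gen (exists_h1Regular hj) hφ₁ w₂

theorem shortExact_of_gen [QuasiCompact j] (hj : HasH1Gen j)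
    {φ₁ : (Scheme.Modules.pullback j).obj (Omega.conormal i) ⟶ Omega.conormal (j ≫ i)}
    (hφ₁ : IsConormalMap (j ≫ i) i (𝟙 X) j φ₁)
    {φ₂ : (Scheme.Modules.pullback (𝟙 Z)).obj (Omega.conormal (j ≫ i)) ⟶ Omega.conormal j}
    (hφ₂ : IsConormalMap j (j ≫ i) i (𝟙 Z) φ₂) :
    ∃ w : φ₁ ≫ ((Scheme.Modules.pullbackId Z).inv.app (Omega.conormal (j ≫ i)) ≫ φ₂) = 0,
      (ShortComplex.mk φ₁ ((Scheme.Modules.pullbackId Z).inv.app (Omega.conormal (j ≫ i)) ≫ φ₂) w).ShortExact := by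
  obtain ⟨hepi, him⟩ := ImmersionSeq.epi_and_image_eq_kernel hφ₁ hφ₂
  obtain ⟨w₀, -, -⟩ := ImmersionSeq.exact_and_epi hφ₁ hφ₂
  let e := Scheme.Modules.pullbackId Z
  have w : φ₁ ≫ e.inv.app _ ≫ φ₂ = 0 := by
    rw [← Category.assoc, show φ₁ ≫ e.inv.app _ = e.inv.app _ ≫ (Scheme.Modules.pullback (𝟙 Z)).map φ₁ from
      e.inv.naturality φ₁]
    exact (Category.assoc _ _ _).trans ((congrArg _ w₀).trans comp_zero)
  refine ⟨w, { exact := (ShortComplex.exact_iff_image_eq_kernel _).mpr him, mono_f := ?_, epi_g := ?_ }⟩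
  · exact mono_conormalMap_of_gen hj hφ₁ hφ₂.1
  · exact @epi_comp _ _ _ _ _ (e.inv.app _) (inferInstance : Epi (e.app _).inv) _ hepi

theorem shortExact [QuasiCompact j] (hj : RegImm.IsRegularImmersion .koszul j)
    {φ₁ : (Scheme.Modules.pullback j).obj (Omega.conormal i) ⟶ Omega.conormal (j ≫ i)}
    (hφ₁ : IsConormalMap (j ≫ i) i (𝟙 X) j φ₁)
    {φ₂ : (Scheme.Modules.pullback (𝟙 Z)).obj (Omega.conormal (j ≫ i)) ⟶ Omega.conormal j}
    (hφ₂ : IsConormalMap j (j ≫ i) i (𝟙 Z) φ₂) :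
    ∃ w : φ₁ ≫ ((Scheme.Modules.pullbackId Z).inv.app (Omega.conormal (j ≫ i)) ≫ φ₂) = 0,
      (ShortComplex.mk φ₁ ((Scheme.Modules.pullbackId Z).inv.app (Omega.conormal (j ≫ i)) ≫ φ₂) w).ShortExact :=
  shortExact_of_gen (exists_h1Regular hj) hφ₁ hφ₂

end Groth.Agent.Omega.KoszulMono

end
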