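import Groth.Agent.Omega.Thick
import Mathlib.AlgebraicGeometry.Stalk
import Mathlib.Algebra.TrivSqZeroExt.Basic

/-!
# Universal thickenings on local rings
-/

set_option autoImplicit false

universe u

open CategoryTheory CategoryTheory.Limits AlgebraicGeometry TopologicalSpace Opposite IsLocalRing

noncomputable section

namespace Groth.Agent.Omega.ThickStalk

variable {Z X Z' : Scheme.{u}} {h : Z ⟶ X} {i : Z ⟶ Z'} {h' : Z' ⟶ X}

/-- A square-zero extension of a local ring receives the local ring of a universal thickening. -/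
theorem existsUnique_stalkLift (hu : OmegaSh.IsUnivThickening h i h') (z : Z) {R : CommRingCat.{u}}
    (ε : R ⟶ Z.presheaf.stalk z) (hε : Function.Surjective ε.hom) (hsq : RingHom.ker ε.hom ^ 2 = ⊥)
    (φ : X.presheaf.stalk (h' (i z)) ⟶ R) (hφ : φ ≫ ε = h'.stalkMap (i z) ≫ i.stalkMap z) :
    ∃! ψ : Z'.presheaf.stalk (i z) ⟶ R, ψ ≫ ε = i.stalkMap z ∧ h'.stalkMap (i z) ≫ ψ = φ := by
  obtain ⟨-, hih, huniv⟩ := hu
  have hloc : IsLocalHom ε.hom := ⟨fun x hx => by
    obtain ⟨y, hy⟩ := hx.exists_right_inv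
    obtain ⟨y, rfl⟩ := hε y
    have hk : x * y - 1 ∈ RingHom.ker ε.hom := by
      rw [RingHom.mem_ker, map_sub, map_mul, map_one, hy, sub_self]
    have hn : IsNilpotent (x * y - 1) := ⟨2, (Submodule.mem_bot R).mp (hsq ▸ Ideal.pow_mem_pow hk 2)⟩
    have hxy : IsUnit (x * y) := by simpa using hn.isUnit_one_add
    exact isUnit_of_mul_isUnit_left hxy⟩
  have : IsLocalRing R := RingHom.domain_isLocalRing ε.hom
  have hfot : MoreMor.IsFirstOrderThickening (Spec.map ε) := Thick.isFOT_spec ε hε hsq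
  have hsq' : Spec.map ε ≫ Spec.map φ ≫ X.fromSpecStalk _ = Z.fromSpecStalk z ≫ h := by
    rw [← Category.assoc, ← Spec.map_comp, hφ, Spec.map_comp, Category.assoc,
      Scheme.SpecMap_stalkMap_fromSpecStalk, Scheme.SpecMap_stalkMap_fromSpecStalk_assoc, hih]
  obtain ⟨a', ⟨ha₁, ha₂⟩, hun⟩ := huniv _ _ _ _ _ hfot hsq'
  have hcp : a' (closedPoint R) = i z := by
    have h₁ : a' (Spec.map ε (closedPoint (Z.presheaf.stalk z))) =
        i (Z.fromSpecStalk z (closedPoint (Z.presheaf.stalk z))) :=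
      congr($ha₁ (closedPoint (Z.presheaf.stalk z)))
    rw [Scheme.fromSpecStalk_closedPoint] at h₁
    exact (congrArg a' (IsLocalRing.comap_closedPoint ε.hom).symm).trans h₁
  obtain ⟨ψ, hψ⟩ : ∃ ψ : Z'.presheaf.stalk (i z) ⟶ R, Spec.map ψ ≫ Z'.fromSpecStalk (i z) = a' := by
    refine ⟨Z'.presheaf.stalkSpecializes (Specializes.of_eq hcp) ≫ Scheme.stalkClosedPointTo a', ?_⟩
    rw [Spec.map_comp, Category.assoc, Scheme.SpecMap_stalkSpecializes_fromSpecStalk]
    exact Scheme.Spec_stalkClosedPointTo_fromSpecStalk a'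
  have hinj : ∀ {S : CommRingCat.{u}} {W : Scheme.{u}} {w : W} (f g : W.presheaf.stalk w ⟶ S),
      Spec.map f ≫ W.fromSpecStalk w = Spec.map g ≫ W.fromSpecStalk w → f = g :=
    fun f g e => Spec.map_injective ((cancel_mono _).mp e)
  refine ⟨ψ, ⟨hinj _ _ ?_, hinj _ _ ?_⟩, fun ψ' hψ' => hinj _ _ ?_⟩
  · rw [Spec.map_comp, Category.assoc, hψ, ha₁, Scheme.SpecMap_stalkMap_fromSpecStalk]
  · rw [Spec.map_comp, Category.assoc, Scheme.SpecMap_stalkMap_fromSpecStalk, ← Category.assoc, hψ, ha₂]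
  · rw [hψ]
    refine hun _ ⟨?_, ?_⟩
    · rw [← Category.assoc, ← Spec.map_comp, hψ'.1, Scheme.SpecMap_stalkMap_fromSpecStalk]
    · rw [Category.assoc, ← Scheme.SpecMap_stalkMap_fromSpecStalk, ← Category.assoc, ← Spec.map_comp, hψ'.2]

/-- Derivations extend uniquely to the local rings of a universal thickening. -/
theorem existsUnique_der (hu : OmegaSh.IsUnivThickening h i h') (z : Z) (N : Type u) [AddCommGroup N]
    [Module (Z.presheaf.stalk z) N] (δ : X.presheaf.stalk (h' (i z)) →+ N)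
    (hδ : ∀ a b, δ (a * b) = i.stalkMap z (h'.stalkMap (i z) a) • δ b +
      i.stalkMap z (h'.stalkMap (i z) b) • δ a) :
    ∃! D : Z'.presheaf.stalk (i z) →+ N,
      (∀ a b, D (a * b) = i.stalkMap z a • D b + i.stalkMap z b • D a) ∧
        ∀ a, D (h'.stalkMap (i z) a) = δ a := by
  let C := Z.presheaf.stalk z
  let : Module Cᵐᵒᵖ N := Module.compHom _ ((RingHom.id C).fromOpposite mul_comm)
  have : IsCentralScalar C N := ⟨fun c x => rfl⟩
  let R := CommRingCat.of (TrivSqZeroExt C N)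
  let ε : R ⟶ C := CommRingCat.ofHom (TrivSqZeroExt.fstHom C C N).toRingHom
  have hsq : RingHom.ker ε.hom ^ 2 = ⊥ := by
    rw [pow_two, eq_bot_iff, Ideal.mul_le]
    intro x hx y hy
    have hx' : TrivSqZeroExt.fst x = 0 := hx
    have hy' : TrivSqZeroExt.fst y = 0 := hy
    rw [Ideal.mem_bot]
    refine TrivSqZeroExt.ext ?_ ?_
    · exact (TrivSqZeroExt.fst_mul _ _).trans (by rw [hx', zero_mul]; rfl)
    · exact (TrivSqZeroExt.snd_mul _ _).trans (by rw [hx', hy']; simp)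
  -- a derivation gives a ring map
  have mk : ∀ {A : CommRingCat.{u}} (ρ : A ⟶ C) (E : A →+ N),
      (∀ a b, E (a * b) = ρ a • E b + ρ b • E a) →
      ∃ e : A ⟶ R, e ≫ ε = ρ ∧ ∀ a, TrivSqZeroExt.snd (e a) = E a := by
    intro A ρ E hE
    have hE1 : E 1 = 0 := by simpa using hE 1 1
    exact ⟨CommRingCat.ofHom
      { toFun := fun a => TrivSqZeroExt.inl (ρ a) + TrivSqZeroExt.inr (E a)
        map_one' := by ext <;> simp [hE1]
        map_mul' := fun a b => by ext <;> simp [hE]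
        map_zero' := by ext <;> simp
        map_add' := fun a b => by ext <;> simp },
      CommRingCat.hom_ext (RingHom.ext fun a => by
        change TrivSqZeroExt.fst (TrivSqZeroExt.inl (ρ a) + TrivSqZeroExt.inr (E a)) = ρ a
        simp), fun a => by simp⟩
  obtain ⟨φ, hφ₁, hφ₂⟩ := mk (h'.stalkMap (i z) ≫ i.stalkMap z) δ hδ
  obtain ⟨ψ, ⟨hψ₁, hψ₂⟩, hun⟩ := existsUnique_stalkLift hu z ε (fun c => ⟨TrivSqZeroExt.inl c, rfl⟩) hsq φ hφ₁
  have hfst : ∀ a, TrivSqZeroExt.fst (ψ a) = i.stalkMap z a := fun a => congr($hψ₁ a)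
  refine ⟨AddMonoidHom.mk' (fun a => TrivSqZeroExt.snd (ψ a)) fun a b =>
      (congrArg TrivSqZeroExt.snd (map_add ψ.hom a b)).trans (TrivSqZeroExt.snd_add _ _), ⟨fun a b => ?_, fun a => ?_⟩,
    fun D' hD' => ?_⟩
  · change TrivSqZeroExt.snd (ψ (a * b)) = _
    rw [map_mul]
    exact (TrivSqZeroExt.snd_mul _ _).trans (by rw [hfst, hfst, op_smul_eq_smul]; rfl)
  · exact (congrArg TrivSqZeroExt.snd congr($hψ₂ a)).trans (hφ₂ a)
  · obtain ⟨ψ', hψ'₁, hψ'₂⟩ := mk (i.stalkMap z) D' hD'.1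
    have e : ψ' = ψ := hun ψ' ⟨hψ'₁, CommRingCat.hom_ext (RingHom.ext fun a =>
      TrivSqZeroExt.ext (congr($hψ'₁ (h'.stalkMap (i z) a)).trans congr($hφ₁ a).symm)
        ((hψ'₂ _).trans ((hD'.2 a).trans (hφ₂ a).symm)))⟩
    ext a
    rw [← hψ'₂, e]
    rfl

end Groth.Agent.Omega.ThickStalk

end
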