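import Groth.Agent.Omega.ThickDiff
import Groth.Agent.Omega.ThickStalk
import Groth.Agent.Omega.ConormalSplit

/-!
# The conormal sequence of a composition of formally unramified morphisms
-/

set_option autoImplicit false

universe u

open CategoryTheory CategoryTheory.Limits AlgebraicGeometry TopologicalSpace Opposite

noncomputable section

namespace Groth.Agent.Omega.StalkAlg

variable {B' B'' C : Type u} [CommRing B'] [CommRing B''] [CommRing C] {π' : B'' →+* C} {ν : B' →+* B''}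
  {P P' : Type u} [AddCommGroup P] [Module C P] [AddCommGroup P'] [Module C P']
  {κ : RingHom.ker (π'.comp ν) →+ P} {κ' : RingHom.ker π' →+ P'}

/-- The conormal module of a quotient of a thickening. -/
theorem exact_of_quotient (hν : Function.Surjective ν) (hκ : ∀ b a, κ (b • a) = π' (ν b) • κ a)
    (hP : IsKerUniv (π'.comp ν) κ) (hκ' : ∀ b a, κ' (b • a) = π' b • κ' a) (hP' : IsKerUniv π' κ')
    {ψ : P →ₗ[C] P'} (hψ : ∀ a, ∃ h : ν a.1 ∈ RingHom.ker π', ψ (κ a) = κ' ⟨ν a.1, h⟩) {K : Submodule C P}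
    (hK : ∀ b (hb : ν b = 0), κ ⟨b, (congrArg π' hb).trans (map_zero π')⟩ ∈ K) :
    Function.Surjective ψ ∧ LinearMap.ker ψ ≤ K := by
  let t : B'' → B' := Function.surjInv hν
  have ht : ∀ x, ν (t x) = x := Function.surjInv_eq hν
  have htmem : ∀ a : RingHom.ker π', t a.1 ∈ RingHom.ker (π'.comp ν) := fun a => by
    rw [RingHom.mem_ker, RingHom.comp_apply, ht]; exact a.2
  have key : ∀ x (hx : x ∈ RingHom.ker (π'.comp ν)) y (hy : y ∈ RingHom.ker (π'.comp ν)), ν x = ν y →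
      K.mkQ (κ ⟨x, hx⟩) = K.mkQ (κ ⟨y, hy⟩) := fun x hx y hy h => by
    rw [← sub_eq_zero, ← map_sub, ← map_sub]
    exact (Submodule.Quotient.mk_eq_zero K).mpr (hK (x - y) (by rw [map_sub, h, sub_self]))
  refine ⟨?_, ?_⟩
  · rw [← LinearMap.range_eq_top]
    have hmk : (LinearMap.range ψ).mkQ = 0 := IsKerUniv.hom_ext hP' hκ' fun a => by
      obtain ⟨h, he⟩ := hψ ⟨t a.1, htmem a⟩
      refine (Submodule.Quotient.mk_eq_zero _).mpr ⟨κ ⟨t a.1, htmem a⟩, he.trans ?_⟩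
      exact congrArg κ' (Subtype.ext (ht a.1))
    rw [← Submodule.ker_mkQ (LinearMap.range ψ), hmk, LinearMap.ker_zero]
  let k : RingHom.ker π' →+ P ⧸ K := AddMonoidHom.mk' (fun a => K.mkQ (κ ⟨t a.1, htmem a⟩)) fun a b => by
    rw [← map_add, ← map_add]
    exact key _ _ _ _ (by simp [ht])
  have hk : ∀ b a, k (b • a) = π' b • k a := fun b a => by
    rw [← ht b, show π' (ν (t b)) • k a = K.mkQ (κ (t b • ⟨t a.1, htmem a⟩)) by
      rw [hκ, map_smul]; rfl]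
    exact key _ _ _ _ (by simp [ht])
  obtain ⟨l, hl, -⟩ := hP' _ k hk
  have hlψ : l.comp ψ = K.mkQ := IsKerUniv.hom_ext hP hκ fun a => by
    obtain ⟨h, he⟩ := hψ a
    rw [LinearMap.comp_apply, he, hl]
    exact key _ _ a.1 a.2 (ht _)
  intro p hp
  rw [← K.ker_mkQ, LinearMap.mem_ker, ← hlψ]
  simp [LinearMap.mem_ker.mp hp]

end Groth.Agent.Omega.StalkAlg

namespace Groth.Agent.Omega.ThickSeq

open OmegaSh Basic Stalks StalkConormal StalkSeq StalkAlg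
open Groth.Agent.PullStalk.Sky Groth.Agent.PullStalk.Exact Groth.Agent.PullStalk.Basic

theorem SpecMap_σ_fromSpecStalk {X Z X' Z' : Scheme.{u}} {i : Z ⟶ X} {i' : Z' ⟶ X'} {g : X ⟶ X'}
    {gZ : Z ⟶ Z'} (w : gZ ≫ i' = i ≫ g) (z : Z) :
    Spec.map (σ w z) ≫ X'.fromSpecStalk (i' (gZ z)) = X.fromSpecStalk (i z) ≫ g := by
  rw [σ, Spec.map_comp, Category.assoc, Scheme.SpecMap_stalkSpecializes_fromSpecStalk]
  exact Scheme.SpecMap_stalkMap_fromSpecStalk g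

theorem hom_eq_of_fromSpecStalk {S : CommRingCat.{u}} {W : Scheme.{u}} {w : W} {f g : W.presheaf.stalk w ⟶ S}
    (e : Spec.map f ≫ W.fromSpecStalk w = Spec.map g ≫ W.fromSpecStalk w) : f = g :=
  Spec.map_injective ((cancel_mono _).mp e)

theorem stalkMap_ker_sq {T T' : Scheme.{u}} (f : T ⟶ T') [IsClosedImmersion f] (h : f.ker * f.ker = ⊥)
    (x : T) : RingHom.ker (f.stalkMap x).hom ^ 2 = ⊥ := by
  rw [pow_two, eq_bot_iff, Ideal.mul_le]
  intro a ha a' ha'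
  obtain ⟨U, hU, s, hs⟩ := exists_ker_germ f.isEmbedding.isInducing x ⟨a, ha⟩
  obtain ⟨U', hU', s', hs'⟩ := exists_ker_germ f.isEmbedding.isInducing x ⟨a', ha'⟩
  obtain ⟨_, ⟨W, hW, rfl⟩, hxW, hWU⟩ := T'.isBasis_affineOpens.exists_subset_of_mem_open
    (show f x ∈ U ⊓ U' from ⟨hU, hU'⟩) (U ⊓ U').isOpen
  let r := T'.presheaf.map (homOfLE (show W ≤ U from fun y hy => (hWU hy).1)).op (idealSect f.ker U s)
  let r' := T'.presheaf.map (homOfLE (show W ≤ U' from fun y hy => (hWU hy).2)).op (idealSect f.ker U' s')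
  have hr : f.app W r = 0 := by
    simp only [r]; rw [← idealSect_map, app_idealSect]
  have hr' : f.app W r' = 0 := by
    simp only [r']; rw [← idealSect_map, app_idealSect]
  have hmem : r * r' ∈ RingHom.ker (f.app W).hom ^ 2 := by
    rw [pow_two]; exact Ideal.mul_mem_mul hr hr'
  rw [Thick.ker_app_sq f h hW, Ideal.mem_bot] at hmem
  change a * a' = 0
  rw [← show T'.presheaf.germ U (f x) hU (idealSect f.ker U s) = a from hs,
    ← show T'.presheaf.germ U' (f x) hU' (idealSect f.ker U' s') = a' from hs',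
    ← T'.presheaf.germ_res_apply (homOfLE (show W ≤ U from fun y hy => (hWU hy).1)) (f x) hxW,
    ← T'.presheaf.germ_res_apply (homOfLE (show W ≤ U' from fun y hy => (hWU hy).2)) (f x) hxW, ← map_mul]
  exact (congrArg _ hmem).trans (map_zero _)

variable {Z Y X Z' Y' Z'' : Scheme.{u}} {i : Z ⟶ Y} {b : Y ⟶ X}
  {i' : Z ⟶ Z'} {c : Z' ⟶ X} {j : Y ⟶ Y'} {d : Y' ⟶ X} {m : Z' ⟶ Y'} {i'' : Z ⟶ Z''} {e : Z'' ⟶ Y}
  {n : Z'' ⟶ Z'}

/-- On local rings `Z'' = Z' ×_{Y'} Y`. -/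
theorem surjective_and_ker_le (hZ' : IsUnivThickening (i ≫ b) i' c) (hY' : IsUnivThickening b j d)
    (hm₁ : i' ≫ m = i ≫ j) (hm₂ : m ≫ d = c) (hZ'' : IsUnivThickening i i'' e)
    (w₂ : (𝟙 Z) ≫ i' = i'' ≫ n) (hn₂ : n ≫ c = e ≫ b) (w₁ : i ≫ j = i' ≫ m) (z : Z) :
    Function.Surjective (σ w₂ z).hom ∧
      RingHom.ker (σ w₂ z).hom =
        Ideal.map (σ w₁ z).hom (RingHom.ker (j.stalkMap (i z)).hom) := by
  obtain ⟨⟨⟨hcj, -⟩, -⟩, hjd, hunivY⟩ := hY'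
  obtain ⟨⟨⟨hci', -⟩, hksq'⟩, hic', hunivZ'⟩ := hZ'
  obtain ⟨⟨⟨hci'', -⟩, hksq''⟩, hie, hunivZ''⟩ := id hZ''
  have hn₁ : i'' ≫ n = i' := w₂.symm.trans (Category.id_comp i')
  -- `n ≫ m = e ≫ j`
  have hnm : n ≫ m = e ≫ j := by
    refine (hunivY Z Z'' i'' (e ≫ b) i hZ''.1 (by rw [← Category.assoc, hie])).unique ⟨?_, ?_⟩ ⟨?_, ?_⟩
    · rw [← Category.assoc, hn₁, hm₁]
    · rw [Category.assoc, hm₂, hn₂]
    · rw [← Category.assoc, hie]
    · rw [Category.assoc, hjd]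
  let π' := i'.stalkMap z
  let π'' := i''.stalkMap z
  let ν : Z'.presheaf.stalk (i' z) ⟶ Z''.presheaf.stalk (i'' z) := σ w₂ z
  let μ : Y'.presheaf.stalk (j (i z)) ⟶ Z'.presheaf.stalk (i' z) := σ w₁ z
  let L : Ideal (Z'.presheaf.stalk (i' z)) := Ideal.map μ.hom (RingHom.ker (j.stalkMap (i z)).hom)
  have hνπ : ν ≫ π'' = π' := hom_eq_of_fromSpecStalk (by
    rw [Spec.map_comp, Category.assoc, show Spec.map ν ≫ Z'.fromSpecStalk (i' z) = _ from
      SpecMap_σ_fromSpecStalk w₂ z, Scheme.SpecMap_stalkMap_fromSpecStalk_assoc,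
      Scheme.SpecMap_stalkMap_fromSpecStalk, hn₁])
  have hμν : μ ≫ ν = j.stalkMap (i z) ≫ σ (show (𝟙 Z) ≫ i = i'' ≫ e by rw [Category.id_comp, hie]) z :=
    hom_eq_of_fromSpecStalk (by
      rw [Spec.map_comp, Category.assoc, show Spec.map μ ≫ Y'.fromSpecStalk (j (i z)) = _ from
        SpecMap_σ_fromSpecStalk w₁ z, ← Category.assoc, show Spec.map ν ≫ Z'.fromSpecStalk (i' z) = _ from
        SpecMap_σ_fromSpecStalk w₂ z, Category.assoc, hnm, Spec.map_comp, Category.assoc,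
        Scheme.SpecMap_stalkMap_fromSpecStalk]
      refine ((Category.assoc _ _ _).symm.trans ?_).trans (Category.assoc _ _ _)
      exact (congrArg (· ≫ j) (SpecMap_σ_fromSpecStalk _ z)).symm)
  have hLν : L ≤ RingHom.ker ν.hom := Ideal.map_le_iff_le_comap.mpr fun k hk => by
    rw [Ideal.mem_comap, RingHom.mem_ker, ← RingHom.comp_apply, ← CommRingCat.hom_comp, hμν,
      CommRingCat.hom_comp, RingHom.comp_apply, RingHom.mem_ker.mp hk, map_zero]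
  have hLπ : L ≤ RingHom.ker π'.hom := fun x hx => by
    rw [RingHom.mem_ker, ← hνπ]
    exact (congrArg π''.hom (hLν hx)).trans (map_zero _)
  -- the square-zero extension `B' ⧸ L`
  let R : CommRingCat.{u} := CommRingCat.of (_ ⧸ L)
  let mk : Z'.presheaf.stalk (i' z) ⟶ R := CommRingCat.ofHom (Ideal.Quotient.mk L)
  let ε : R ⟶ Z.presheaf.stalk z := CommRingCat.ofHom (Ideal.Quotient.lift L π'.hom hLπ)
  have hε : Function.Surjective ε.hom := fun y => by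
    obtain ⟨x, hx⟩ := i'.stalkMap_surjective z y
    exact ⟨Ideal.Quotient.mk L x, hx⟩
  have hsq' : RingHom.ker π'.hom ^ 2 = ⊥ := stalkMap_ker_sq i' hksq' z
  have hεsq : RingHom.ker ε.hom ^ 2 = ⊥ := by
    have : RingHom.ker ε.hom ≤ (RingHom.ker π'.hom).map (Ideal.Quotient.mk L) := fun x hx => by
      obtain ⟨y, rfl⟩ := Ideal.Quotient.mk_surjective x
      exact Ideal.mem_map_of_mem _ hx
    refine le_bot_iff.mp ((Ideal.pow_right_mono this 2).trans ?_)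
    rw [← Ideal.map_pow, hsq', Ideal.map_bot]
  -- `A → B' ⧸ L`
  obtain ⟨φ, hφ⟩ : ∃ φ : Y.presheaf.stalk (i z) ⟶ R, j.stalkMap (i z) ≫ φ = μ ≫ mk := by
    refine ⟨CommRingCat.ofHom ((j.stalkMap (i z)).hom.liftOfSurjective (j.stalkMap_surjective (i z))
      ⟨(Ideal.Quotient.mk L).comp μ.hom, fun k hk => Ideal.Quotient.eq_zero_iff_mem.mpr
        (Ideal.mem_map_of_mem _ hk)⟩), CommRingCat.hom_ext ?_⟩
    exact RingHom.liftOfRightInverse_comp _ _ _ _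
  let aC := Z.fromSpecStalk z
  have hq : Spec.map ε ≫ (Spec.map mk ≫ Z'.fromSpecStalk (i' z)) = aC ≫ i' := by
    rw [← Category.assoc, ← Spec.map_comp, show mk ≫ ε = π' from rfl,
      Scheme.SpecMap_stalkMap_fromSpecStalk]
  let β : Spec R ⟶ Y := Spec.map φ ≫ Y.fromSpecStalk (i z)
  have hqm : (Spec.map mk ≫ Z'.fromSpecStalk (i' z)) ≫ m = β ≫ j := by
    rw [Category.assoc, ← show Spec.map μ ≫ Y'.fromSpecStalk (j (i z)) = Z'.fromSpecStalk (i' z) ≫ m from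
      SpecMap_σ_fromSpecStalk w₁ z, ← Category.assoc, ← Spec.map_comp, ← hφ, Spec.map_comp, Category.assoc,
      Scheme.SpecMap_stalkMap_fromSpecStalk, Category.assoc]
  have hβ : Spec.map ε ≫ β = aC ≫ i := by
    have : Mono j := inferInstance
    refine (cancel_mono j).mp ?_
    rw [Category.assoc, ← hqm, ← Category.assoc, hq, Category.assoc, hm₁, Category.assoc]
  have hfot : MoreMor.IsFirstOrderThickening (Spec.map ε) := Thick.isFOT_spec ε hε hεsq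
  obtain ⟨p, ⟨hp₁, hp₂⟩, -⟩ := hunivZ'' _ _ _ β aC hfot hβ
  have hpn : p ≫ n = Spec.map mk ≫ Z'.fromSpecStalk (i' z) := by
    refine (hunivZ' _ _ _ (β ≫ b) aC hfot (by rw [← Category.assoc, hβ, Category.assoc])).unique
      ⟨?_, ?_⟩ ⟨hq, ?_⟩
    · rw [← Category.assoc, hp₁, Category.assoc, hn₁]
    · rw [Category.assoc, hn₂, ← Category.assoc, hp₂]
    · rw [← hm₂, ← Category.assoc, hqm, Category.assoc, hjd]
  obtain ⟨ψ, ⟨hψ₁, hψ₂⟩, -⟩ := ThickStalk.existsUnique_stalkLift hZ'' z ε hε hεsq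
    (Y.presheaf.stalkSpecializes (Specializes.of_eq (show i z = e (i'' z) from congr($hie.symm z))) ≫ φ)
    (hom_eq_of_fromSpecStalk (by
      rw [Category.assoc, Spec.map_comp, Spec.map_comp, Category.assoc, Category.assoc,
        Scheme.SpecMap_stalkSpecializes_fromSpecStalk, hβ, Spec.map_comp, Category.assoc,
        Scheme.SpecMap_stalkMap_fromSpecStalk, Scheme.SpecMap_stalkMap_fromSpecStalk_assoc, hie]))
  have hp : Spec.map ψ ≫ Z''.fromSpecStalk (i'' z) = p := by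
    refine (hunivZ'' _ _ _ β aC hfot hβ).unique ⟨?_, ?_⟩ ⟨hp₁, hp₂⟩
    · rw [← Category.assoc, ← Spec.map_comp, hψ₁, Scheme.SpecMap_stalkMap_fromSpecStalk]
    · rw [Category.assoc, ← Scheme.SpecMap_stalkMap_fromSpecStalk, ← Category.assoc, ← Spec.map_comp,
        hψ₂, Spec.map_comp, Category.assoc, Scheme.SpecMap_stalkSpecializes_fromSpecStalk]
  have hνψ : ν ≫ ψ = mk := hom_eq_of_fromSpecStalk (by
    rw [Spec.map_comp, Category.assoc, show Spec.map ν ≫ Z'.fromSpecStalk (i' z) = _ from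
      SpecMap_σ_fromSpecStalk w₂ z, ← Category.assoc, hp, hpn])
  -- a left inverse
  let nb : R ⟶ Z''.presheaf.stalk (i'' z) := CommRingCat.ofHom (Ideal.Quotient.lift L ν.hom hLν)
  have hnbε : nb ≫ π'' = ε := CommRingCat.hom_ext (Ideal.Quotient.ringHom_ext
    (RingHom.ext fun x => congr($hνπ x)))
  have hφnb : φ ≫ nb = σ (show (𝟙 Z) ≫ i = i'' ≫ e by rw [Category.id_comp, hie]) z := by
    refine CommRingCat.hom_ext (RingHom.ext fun a => ?_)
    obtain ⟨a', rfl⟩ := j.stalkMap_surjective (i z) a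
    exact (congrArg nb.hom (congr($hφ a'))).trans congr($hμν a')
  have hψnb : ψ ≫ nb = 𝟙 _ := by
    refine hom_eq_of_fromSpecStalk ?_
    rw [Spec.map_comp, Category.assoc, hp, Spec.map_id, Category.id_comp]
    refine (hunivZ'' _ _ _ (Z''.fromSpecStalk (i'' z) ≫ e) aC
      (Thick.isFOT_spec π'' (i''.stalkMap_surjective z) (stalkMap_ker_sq i'' hksq'' z))
      (by rw [Scheme.SpecMap_stalkMap_fromSpecStalk_assoc, hie])).unique ⟨?_, ?_⟩ ⟨?_, rfl⟩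
    · rw [← Category.assoc, ← Spec.map_comp, hnbε, hp₁]
    · rw [Category.assoc, hp₂, ← Category.assoc, ← Spec.map_comp, hφnb]
      exact SpecMap_σ_fromSpecStalk _ z
    · rw [Scheme.SpecMap_stalkMap_fromSpecStalk]
  refine ⟨fun y => ?_, le_antisymm (fun x hx => ?_) hLν⟩
  · obtain ⟨x, hx⟩ := Ideal.Quotient.mk_surjective (ψ y)
    refine ⟨x, ?_⟩
    exact (congrArg nb.hom hx).trans congr($hψnb y)
  · refine Ideal.Quotient.eq_zero_iff_mem.mp ((congr($hνψ x)).symm.trans ?_)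
    exact (congrArg ψ.hom hx).trans (map_zero _)

theorem exact_and_epi_of_stalks [IsImmersion i'] [QuasiCompact i'] [IsImmersion j] [QuasiCompact j]
    [IsImmersion i''] [QuasiCompact i'']
    (H : ∀ (w₂ : (𝟙 Z) ≫ i' = i'' ≫ n) (w₁ : i ≫ j = i' ≫ m) (z : Z),
      Function.Surjective (σ w₂ z).hom ∧
        RingHom.ker (σ w₂ z).hom = Ideal.map (σ w₁ z).hom (RingHom.ker (j.stalkMap (i z)).hom))
    {ψ₁ : (Scheme.Modules.pullback i).obj (Omega.conormal j) ⟶ Omega.conormal i'}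
    (hψ₁ : IsConormalMap i' j m i ψ₁)
    {ψ₂ : (Scheme.Modules.pullback (𝟙 Z)).obj (Omega.conormal i') ⟶ Omega.conormal i''}
    (hψ₂ : IsConormalMap i'' i' n (𝟙 Z) ψ₂) :
    ∃ w : (Scheme.Modules.pullback (𝟙 Z)).map ψ₁ ≫ ψ₂ = 0, (ShortComplex.mk _ _ w).Exact ∧ Epi ψ₂ := by
  have hi' := i'.isEmbedding.isInducing
  have hi'' := i''.isEmbedding.isInducing
  have hj := j.isEmbedding.isInducing
  -- on stalks
  have hst : ∀ z : Z, ∀ k, ∃ t : ((Scheme.Modules.pullback i).obj (Omega.conormal j)).presheaf.stalk z,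
      ∀ (κ' : RingHom.ker (i'.stalkMap z).hom →+ (Omega.conormal i').presheaf.stalk z)
        (_ : ∀ U (hx : i' z ∈ U) s (h : Z'.presheaf.germ U (i' z) hx (idealSect i'.ker U s) ∈
          RingHom.ker (i'.stalkMap z).hom),
          κ' ⟨_, h⟩ = germM _ (i' ⁻¹ᵁ U) z hx (conormalSect i' U s))
        (h : σ hψ₁.1 z k ∈ RingHom.ker (i'.stalkMap z).hom)
        (_ : k ∈ RingHom.ker (j.stalkMap (i z)).hom),
        stalkLin ψ₁ z t = κ' ⟨_, h⟩ := fun z k => by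
    by_cases hk : k ∈ RingHom.ker (j.stalkMap (i z)).hom
    · obtain ⟨κ, -, hκ, -⟩ := exists_conormal j (i z) hj
      exact ⟨_, fun κ' hκ' h _ => conormalMap_stalk hi' hj hψ₁ z κ' hκ' κ hκ ⟨k, hk⟩ h⟩
    · exact ⟨0, fun _ _ _ h => absurd h hk⟩
  have w : (Scheme.Modules.pullback (𝟙 Z)).map ψ₁ ≫ ψ₂ = 0 := by
    refine hom_ext_stalk fun z => hom_eq_of_unitStalk (𝟙 Z) _ _ fun t => ?_
    obtain ⟨κ'', -, hκ'', -⟩ := exists_conormal i'' z hi''
    obtain ⟨κ', hκ'smul, hκ', hP'⟩ := exists_conormal i' ((𝟙 Z : Z ⟶ Z) z) hi'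
    obtain ⟨κ, hκsmul, hκ, hP⟩ := exists_conormal j (i ((𝟙 Z : Z ⟶ Z) z)) hj
    rw [stalkLin_comp, ThickDiff.stalkLin_pullback_map, stalkLin_zero]
    let F : ((Scheme.Modules.pullback i).obj (Omega.conormal j)).presheaf.stalk ((𝟙 Z : Z ⟶ Z) z) →+
        (Omega.conormal i'').presheaf.stalk z :=
      AddMonoidHom.mk' (fun t => stalkLin ψ₂ z (unitStalkHom (𝟙 Z) _ z (stalkLin ψ₁ _ t)))
        fun a b => (congrArg _ ((congrArg _ (map_add (stalkLin ψ₁ _) a b)).trans (map_add _ _ _))).trans (map_add _ _ _)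
    let : Module (Z.presheaf.stalk ((𝟙 Z : Z ⟶ Z) z)) ((Omega.conormal i'').presheaf.stalk z) :=
      Module.compHom _ ((𝟙 Z : Z ⟶ Z).stalkMap z).hom
    let L : ((Scheme.Modules.pullback i).obj (Omega.conormal j)).presheaf.stalk ((𝟙 Z : Z ⟶ Z) z)
        →ₗ[Z.presheaf.stalk ((𝟙 Z : Z ⟶ Z) z)] (Omega.conormal i'').presheaf.stalk z :=
      { toFun := F, map_add' := map_add F
        map_smul' := fun r a => by
          change stalkLin ψ₂ z (unitStalkHom (𝟙 Z) _ z (stalkLin ψ₁ _ (r • a))) = _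
          rw [map_smul]
          exact (congrArg _ (unitStalkHom_smul (𝟙 Z) _ z r _)).trans (map_smul _ _ _) }
    suffices hL : L = 0 from congr($hL t)
    refine hom_eq_of_unitStalk i _ _ fun t' => ?_
    let : Module (Y.presheaf.stalk (i ((𝟙 Z : Z ⟶ Z) z))) ((Omega.conormal i'').presheaf.stalk z) :=
      Module.compHom _ ((((𝟙 Z : Z ⟶ Z).stalkMap z).hom).comp (i.stalkMap ((𝟙 Z : Z ⟶ Z) z)).hom)
    let L' : (Omega.conormal j).presheaf.stalk (i ((𝟙 Z : Z ⟶ Z) z))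
        →ₗ[Y.presheaf.stalk (i ((𝟙 Z : Z ⟶ Z) z))] (Omega.conormal i'').presheaf.stalk z :=
      { toFun := fun a => L (unitStalkHom i _ ((𝟙 Z : Z ⟶ Z) z) a)
        map_add' := fun a b => (congrArg L (map_add _ a b)).trans (map_add L _ _)
        map_smul' := fun r a => (congrArg L (unitStalkHom_smul i _ _ r a)).trans (map_smul L _ _) }
    suffices hL' : L' = 0 from congr($hL' t')
    refine IsKerUniv.hom_ext hP hκsmul fun k => ?_
    have h₁ : σ hψ₁.1 ((𝟙 Z : Z ⟶ Z) z) k.1 ∈ RingHom.ker (i'.stalkMap ((𝟙 Z : Z ⟶ Z) z)).hom :=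
      (stalkMap_σ hψ₁.1 _ k.1).trans ((congrArg _ k.2).trans (map_zero _))
    change stalkLin ψ₂ z (unitStalkHom (𝟙 Z) _ z (stalkLin ψ₁ _ (unitStalkHom i _ _ (κ k)))) = 0
    rw [conormalMap_stalk hi' hj hψ₁ _ κ' hκ' κ hκ k h₁]
    have h₂ : σ hψ₂.1 z (σ hψ₁.1 ((𝟙 Z : Z ⟶ Z) z) k.1) = 0 :=
      (H hψ₂.1 hψ₁.1 z).2.ge (Ideal.mem_map_of_mem _ k.2)
    refine (conormalMap_stalk hi'' hi' hψ₂ z κ'' hκ'' κ' hκ' ⟨_, h₁⟩
      ((congrArg _ h₂).trans (map_zero _))).trans ?_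
    exact (congrArg κ'' (Subtype.ext h₂)).trans (map_zero κ'')
  refine ⟨w, ?_⟩
  suffices hh : ∀ z, Function.Surjective (stalkLin ψ₂ z) ∧ LinearMap.ker (stalkLin ψ₂ z) ≤
      LinearMap.range (stalkLin ((Scheme.Modules.pullback (𝟙 Z)).map ψ₁) z) from
    ⟨exact_of_stalk _ fun z => (hh z).2, epi_of_stalk fun z => (hh z).1⟩
  intro z
  obtain ⟨κ'', hκ''smul, hκ'', hP''⟩ := exists_conormal i'' z hi''
  obtain ⟨κ', hκ'smul, hκ', hP'⟩ := exists_conormal i' ((𝟙 Z : Z ⟶ Z) z) hi'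
  let s := (σ hψ₂.1 z).hom
  let π := (i''.stalkMap z).hom
  obtain ⟨κ₀, hκ₀smul, hκ₀, hP₀⟩ := ConormalSplit.exists_conormal_pull i' (𝟙 Z) z
    (ConormalSeq.stalkMap_id_bijective z) (π.comp s) (stalkMap_σ hψ₂.1 z) κ' hκ'smul hP'
  obtain ⟨hsurj, hker⟩ := H hψ₂.1 hψ₁.1 z
  refine exact_of_quotient (ν := s) hsurj hκ₀smul hP₀ hκ''smul hP'' (fun a => ⟨a.2, ?_⟩) ?_
  · obtain ⟨h, he⟩ := hκ₀ a
    rw [he]
    exact conormalMap_stalk hi'' hi' hψ₂ z κ'' hκ'' κ' hκ' ⟨a.1, h⟩ a.2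
  intro x hx
  have hx' : x ∈ Ideal.map (σ hψ₁.1 ((𝟙 Z : Z ⟶ Z) z)).hom
      (RingHom.ker (j.stalkMap (i ((𝟙 Z : Z ⟶ Z) z))).hom) := hker.le hx
  suffices Hx : ∀ h : x ∈ RingHom.ker (π.comp s), κ₀ ⟨x, h⟩ ∈
      LinearMap.range (stalkLin ((Scheme.Modules.pullback (𝟙 Z)).map ψ₁) z) from Hx _
  have hle : Ideal.map (σ hψ₁.1 ((𝟙 Z : Z ⟶ Z) z)).hom
      (RingHom.ker (j.stalkMap (i ((𝟙 Z : Z ⟶ Z) z))).hom) ≤ RingHom.ker (π.comp s) :=
    fun y hy => (congrArg π (hker.ge hy)).trans (map_zero π)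
  clear hx
  induction hx' using Submodule.span_induction with
  | mem y hy =>
    intro h
    obtain ⟨k, hk, rfl⟩ := hy
    obtain ⟨h', he⟩ := hκ₀ ⟨_, h⟩
    obtain ⟨t, ht⟩ := hst _ k
    refine ⟨unitStalkHom (𝟙 Z) _ z t, ?_⟩
    rw [ThickDiff.stalkLin_pullback_map, ht κ' hκ' h' hk, he]
  | zero =>
    intro h
    rw [show (⟨0, h⟩ : RingHom.ker (π.comp s)) = 0 from rfl, map_zero]
    exact zero_mem _
  | add y₁ y₂ hy₁ hy₂ ih₁ ih₂ =>
    intro h
    rw [show (⟨y₁ + y₂, h⟩ : RingHom.ker (π.comp s)) = ⟨y₁, hle hy₁⟩ + ⟨y₂, hle hy₂⟩ from rfl, map_add]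
    exact add_mem (ih₁ _) (ih₂ _)
  | smul r y hy ih =>
    intro h
    rw [show (⟨r • y, h⟩ : RingHom.ker (π.comp s)) = r • ⟨y, hle hy⟩ from rfl, hκ₀smul]
    exact Submodule.smul_mem _ _ (ih _)


theorem exact_and_epi (hZ' : IsUnivThickening (i ≫ b) i' c) (hY' : IsUnivThickening b j d)
    (hm₁ : i' ≫ m = i ≫ j) (hm₂ : m ≫ d = c) (hZ'' : IsUnivThickening i i'' e) (hn₂ : n ≫ c = e ≫ b)
    {ψ₁ : (Scheme.Modules.pullback i).obj (Omega.conormal j) ⟶ Omega.conormal i'}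
    (hψ₁ : IsConormalMap i' j m i ψ₁)
    {ψ₂ : (Scheme.Modules.pullback (𝟙 Z)).obj (Omega.conormal i') ⟶ Omega.conormal i''}
    (hψ₂ : IsConormalMap i'' i' n (𝟙 Z) ψ₂) :
    ∃ w : (Scheme.Modules.pullback (𝟙 Z)).map ψ₁ ≫ ψ₂ = 0, (ShortComplex.mk _ _ w).Exact ∧ Epi ψ₂ := by
  have : IsClosedImmersion i' := hZ'.1.1.1
  have : IsClosedImmersion j := hY'.1.1.1
  have : IsClosedImmersion i'' := hZ''.1.1.1
  exact exact_and_epi_of_stalks
    (fun w₂ w₁ z => surjective_and_ker_le hZ' hY' hm₁ hm₂ hZ'' w₂ hn₂ w₁ z) hψ₁ hψ₂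

end Groth.Agent.Omega.ThickSeq

end
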