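import Groth.Agent.Omega.LciThickRing
import Groth.Agent.Omega.ThickSeq
import Groth.Agent.FlatMor.LCIChart

/-!
# Left exactness of the conormal sequence along a local complete intersection
-/

set_option autoImplicit false
set_option linter.style.haveILetI false

universe u

open CategoryTheory CategoryTheory.Limits AlgebraicGeometry TopologicalSpace Opposite
open scoped TensorProduct

noncomputable section

namespace Groth.Agent.Omega.LciMono

open OmegaSh Basic Stalks StalkConormal StalkSeq StalkAlg LciThick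
open Groth.Agent.PullStalk.Sky Groth.Agent.PullStalk.Exact Groth.Agent.PullStalk.Basic

variable {Z Y X Z' Y' : Scheme.{u}} {i : Z ⟶ Y} {b : Y ⟶ X}
  {i' : Z ⟶ Z'} {c : Z' ⟶ X} {j : Y ⟶ Y'} {d : Y' ⟶ X} {m : Z' ⟶ Y'}

/-- The local ring of a point of a Koszul morphism receives a square-zero extension detecting `J ⊗ C`. -/
theorem exists_stalk_thickening (hlci : ∀ z : Z, Synt.IsKoszulAt i z) (z : Z) {B' : Type u} [CommRing B']
    (p : B' →+* Y.presheaf.stalk (i z)) (hp : Function.Surjective p) :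
    letI := ((i.stalkMap z).hom.comp p).toAlgebra
    ∃ (T : Type u) (_ : CommRing T) (ε : T →+* Z.presheaf.stalk z) (τ : B' →+* T), Function.Surjective ε ∧
      RingHom.ker ε ^ 2 = ⊥ ∧ ε.comp τ = algebraMap B' (Z.presheaf.stalk z) ∧
        ∀ (n : ℕ) (a : Fin n → RingHom.ker p) (t : Fin n → T), ∑ k, τ (a k).1 * t k = 0 →
          ∑ k, a k ⊗ₜ[B'] ε (t k) = 0 := by
  letI := ((i.stalkMap z).hom.comp p).toAlgebra
  obtain ⟨V, hV, hzV, -⟩ := exists_isAffineOpen_mem_and_subset (show i z ∈ (⊤ : Y.Opens) from trivial)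
  obtain ⟨U, hU, hzU, e⟩ := exists_isAffineOpen_mem_and_subset (show z ∈ i ⁻¹ᵁ V from hzV)
  have hlci' := FlatMor.LCIChart.isLCI_of_isKoszulAt i hlci U V hU hV e
  let φ := i.appLE V U e
  letI := φ.hom.toAlgebra
  obtain ⟨-, n, α₀, hα₀, hK⟩ := hlci'
  letI : Algebra Γ(Y, V) (Y.presheaf.stalk (i z)) := Y.presheaf.algebra_section_stalk ⟨i z, hzV⟩
  letI : Algebra Γ(Z, U) (Z.presheaf.stalk z) := Z.presheaf.algebra_section_stalk ⟨z, hzU⟩
  haveI := hV.isLocalization_stalk ⟨i z, hzV⟩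
  haveI := hU.isLocalization_stalk ⟨z, hzU⟩
  let g : Γ(Z, U) →+* Z.presheaf.stalk z := algebraMap _ _
  refine exists_thickening (A := Γ(Y, V)) (hV.primeIdealOf ⟨i z, hzV⟩).asIdeal.primeCompl p hp
    (i.stalkMap z).hom rfl (g.comp α₀.toRingHom) ?_ (RingHom.ker α₀.toRingHom) hK
    (fun a ha => by rw [RingHom.mem_ker, RingHom.comp_apply, RingHom.mem_ker.mp ha, map_zero]) ?_ ?_
  · ext a
    have h1 : α₀ (MvPolynomial.C a) = φ a := α₀.commutes a
    change Z.presheaf.germ U z hzU (α₀ (MvPolynomial.C a)) = i.stalkMap z (Y.presheaf.germ V (i z) hzV a)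
    rw [h1, Scheme.Hom.germ_stalkMap_apply]
    exact Z.presheaf.germ_res_apply (homOfLE e) z hzU _
  · intro x
    obtain ⟨⟨a, s⟩, hs⟩ := IsLocalization.surj (hU.primeIdealOf ⟨z, hzU⟩).asIdeal.primeCompl x
    obtain ⟨a', ha'⟩ := hα₀ a
    obtain ⟨s', hs'⟩ := hα₀ s.1
    refine ⟨a', s', ?_, ?_⟩
    · change IsUnit (g (α₀ s'))
      rw [hs']; exact IsLocalization.map_units _ s
    · change g (α₀ s') * x = g (α₀ a')
      rw [hs', ha', mul_comm]; exact hs
  · intro a ha
    obtain ⟨s, hs⟩ := (IsLocalization.map_eq_zero_iff (hU.primeIdealOf ⟨z, hzU⟩).asIdeal.primeCompl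
      (Z.presheaf.stalk z) (α₀ a)).mp ha
    obtain ⟨s', hs'⟩ := hα₀ s.1
    refine ⟨s', ?_, ?_⟩
    · change IsUnit (g (α₀ s'))
      rw [hs']; exact IsLocalization.map_units _ s
    · change α₀ (s' * a) = 0
      rw [map_mul, hs', hs]

set_option backward.isDefEq.respectTransparency false in
/-- For an lci morphism the first map of the conormal sequence is injective. -/
theorem mono_conormalMap (hlci : ∀ z : Z, Synt.IsKoszulAt i z) (hZ' : IsUnivThickening (i ≫ b) i' c)
    (hY' : IsUnivThickening b j d) (hm₁ : i' ≫ m = i ≫ j) (hm₂ : m ≫ d = c)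
    {ψ₁ : (Scheme.Modules.pullback i).obj (Omega.conormal j) ⟶ Omega.conormal i'}
    (hψ₁ : IsConormalMap i' j m i ψ₁) : Mono ψ₁ := by
  have : IsClosedImmersion i' := hZ'.1.1.1
  have : IsClosedImmersion j := hY'.1.1.1
  have hi' := i'.isEmbedding.isInducing
  have hj := j.isEmbedding.isInducing
  refine mono_of_stalk fun z => ?_
  let p := (j.stalkMap (i z)).hom
  letI := ((i.stalkMap z).hom.comp p).toAlgebra
  obtain ⟨T, _, ε, τ, hε, hsq, hετ, hinj⟩ := exists_stalk_thickening hlci z p (j.stalkMap_surjective (i z))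
  let R := CommRingCat.of T
  let εC : R ⟶ Z.presheaf.stalk z := CommRingCat.ofHom ε
  let τC : Y'.presheaf.stalk (j (i z)) ⟶ R := CommRingCat.ofHom τ
  have hτε : τC ≫ εC = j.stalkMap (i z) ≫ i.stalkMap z := CommRingCat.hom_ext hετ
  have hpt : c (i' z) = d (j (i z)) := by
    rw [← hm₂, Scheme.Hom.comp_apply, ← Scheme.Hom.comp_apply i' m, hm₁, Scheme.Hom.comp_apply]
  let φ : X.presheaf.stalk (c (i' z)) ⟶ R :=
    X.presheaf.stalkSpecializes (Specializes.of_eq hpt.symm) ≫ d.stalkMap (j (i z)) ≫ τC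
  have hφs : Spec.map φ ≫ X.fromSpecStalk _ = Spec.map τC ≫ Y'.fromSpecStalk (j (i z)) ≫ d := by
    simp only [φ, Spec.map_comp, Category.assoc, Scheme.SpecMap_stalkSpecializes_fromSpecStalk,
      Scheme.SpecMap_stalkMap_fromSpecStalk]
  have hετs : Spec.map εC ≫ Spec.map τC ≫ Y'.fromSpecStalk (j (i z)) = (Z.fromSpecStalk z ≫ i) ≫ j := by
    rw [← Spec.map_comp_assoc, hτε, Spec.map_comp, Category.assoc, Scheme.SpecMap_stalkMap_fromSpecStalk,
      Scheme.SpecMap_stalkMap_fromSpecStalk_assoc, Category.assoc]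
  obtain ⟨ψ, ⟨hψε, hψc⟩, -⟩ := ThickStalk.existsUnique_stalkLift hZ' z εC hε hsq φ
    (ThickSeq.hom_eq_of_fromSpecStalk (by
      rw [Spec.map_comp, Category.assoc, hφs, Spec.map_comp, Category.assoc,
        Scheme.SpecMap_stalkMap_fromSpecStalk, Scheme.SpecMap_stalkMap_fromSpecStalk_assoc, hZ'.2.1,
        reassoc_of% hετs, hY'.2.1]))
  let μ : Y'.presheaf.stalk (j (i z)) ⟶ Z'.presheaf.stalk (i' z) := σ hψ₁.1 z
  have hμψ : μ ≫ ψ = τC := ThickSeq.hom_eq_of_fromSpecStalk (by
    refine (hY'.2.2 _ _ (Spec.map εC) (Spec.map φ ≫ X.fromSpecStalk _) (Z.fromSpecStalk z ≫ i)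
      (Thick.isFOT_spec εC hε hsq) (by rw [hφs, reassoc_of% hετs, hY'.2.1, Category.assoc])).unique
      ⟨?_, ?_⟩ ⟨hετs, by rw [hφs, Category.assoc]⟩
    · rw [← Spec.map_comp_assoc, Category.assoc μ, hψε, Spec.map_comp, Category.assoc,
        show Spec.map μ ≫ Y'.fromSpecStalk (j (i z)) = _ from ThickSeq.SpecMap_σ_fromSpecStalk hψ₁.1 z,
        Scheme.SpecMap_stalkMap_fromSpecStalk_assoc, hm₁, Category.assoc]
    · rw [Spec.map_comp, Category.assoc, Category.assoc, ← Category.assoc (Spec.map μ),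
        show Spec.map μ ≫ Y'.fromSpecStalk (j (i z)) = _ from ThickSeq.SpecMap_σ_fromSpecStalk hψ₁.1 z,
        Category.assoc, hm₂, ← Scheme.SpecMap_stalkMap_fromSpecStalk, ← Spec.map_comp_assoc, hψc])
  -- the `C`-module `ker ε`
  let I := RingHom.ker ε
  let eC : (T ⧸ I) ≃+* Z.presheaf.stalk z := RingHom.quotientKerEquivOfSurjective hε
  letI : Module (Z.presheaf.stalk z) I.Cotangent := Module.compHom _ eC.symm.toRingHom
  have hsmul : ∀ (t : T) (v : I.Cotangent), ε t • v = t • v := fun t v => by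
    change eC.symm (ε t) • v = t • v
    rw [show ε t = eC (Ideal.Quotient.mk I t) from rfl, RingEquiv.symm_apply_apply]
    exact algebraMap_smul (T ⧸ I) t v
  obtain ⟨κ', hκ'smul, hκ', hP'⟩ := exists_conormal i' z hi'
  obtain ⟨κ, hκsmul, hκ, hP⟩ := exists_conormal j (i z) hj
  have hψker : ∀ a : RingHom.ker (i'.stalkMap z).hom, ψ.hom a.1 ∈ I := fun a => by
    change ε (ψ.hom a.1) = 0
    exact (congr($hψε a.1)).trans a.2
  let k : RingHom.ker (i'.stalkMap z).hom →+ I.Cotangent :=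
    AddMonoidHom.mk' (fun a => I.toCotangent ⟨ψ.hom a.1, hψker a⟩) fun a a' => by
      rw [← map_add]; exact congrArg _ (Subtype.ext (map_add ψ.hom a.1 a'.1))
  obtain ⟨Λ, hΛ, -⟩ := hP' I.Cotangent k fun r a => by
    change I.toCotangent ⟨ψ.hom (r * a.1), _⟩ = (i'.stalkMap z).hom r • I.toCotangent ⟨ψ.hom a.1, _⟩
    rw [show (i'.stalkMap z).hom r = ε (ψ.hom r) from congr($hψε r).symm]
    refine Eq.trans ?_ (hsmul _ _).symm
    rw [← map_smul]
    exact congrArg _ (Subtype.ext (map_mul ψ.hom r a.1))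
  -- generators of `i^* C_j`
  let P := ((Scheme.Modules.pullback i).obj (Omega.conormal j)).presheaf.stalk z
  let u := (unitStalkHom i (Omega.conormal j) z).hom
  let Φ : (RingHom.ker p) ⊗[Y'.presheaf.stalk (j (i z))] Z.presheaf.stalk z →+ P :=
    TensorProduct.liftAddHom
      (AddMonoidHom.mk' (fun a => AddMonoidHom.mk' (fun x : Z.presheaf.stalk z => x • u (κ a))
          fun x y => add_smul x y _)
        fun a a' => AddMonoidHom.ext fun x => by
          change x • u (κ (a + a')) = x • u (κ a) + x • u (κ a')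
          rw [map_add, map_add, smul_add])
      fun r a x => by
        change x • u (κ (r • a)) = (r • x) • u (κ a)
        rw [hκsmul, Algebra.smul_def, mul_comm, mul_smul]
        exact congrArg (x • ·) (unitStalkHom_smul i _ z _ _)
  have hΦ : ∀ w : P, ∃ (n : ℕ) (a : Fin n → RingHom.ker p) (x : Fin n → Z.presheaf.stalk z),
      w = ∑ k, x k • u (κ (a k)) := by
    have htop : Submodule.span (Z.presheaf.stalk z) (Set.range fun a => u (κ a)) = ⊤ := by
      let S := Submodule.span (Z.presheaf.stalk z) (Set.range fun a => u (κ a))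
      change S = ⊤
      rw [← S.ker_mkQ, LinearMap.ker_eq_top]
      refine hom_eq_of_unitStalk i _ _ fun t => ?_
      let : Module (Y.presheaf.stalk (i z)) (P ⧸ S) := Module.compHom _ (i.stalkMap z).hom
      let L : (Omega.conormal j).presheaf.stalk (i z) →ₗ[Y.presheaf.stalk (i z)] P ⧸ S :=
        { toFun := fun t => S.mkQ (u t)
          map_add' := fun a a' => (congrArg S.mkQ (map_add u a a')).trans (map_add _ _ _)
          map_smul' := fun r a => (congrArg S.mkQ (unitStalkHom_smul i _ z r a)).trans (map_smul _ _ _) }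
      have hL : L = 0 := IsKerUniv.hom_ext hP hκsmul fun a =>
        (Submodule.Quotient.mk_eq_zero S).mpr (Submodule.subset_span ⟨a, rfl⟩)
      exact congr($hL t)
    intro w
    obtain ⟨n, x, a, h⟩ := Submodule.mem_span_set'.mp (htop ▸ Submodule.mem_top : w ∈ _)
    choose a' ha' using fun k => (a k).2
    exact ⟨n, a', x, by rw [← h]; exact Finset.sum_congr rfl fun k _ => congrArg (x k • ·) (ha' k).symm⟩
  rw [injective_iff_map_eq_zero]
  intro w hw
  obtain ⟨n, a, x, rfl⟩ := hΦ w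
  choose t ht using fun k => hε (x k)
  have hmem : ∀ k, (σ hψ₁.1 z).hom (a k).1 ∈ RingHom.ker (i'.stalkMap z).hom := fun k =>
    (stalkMap_σ hψ₁.1 z (a k).1).trans ((congrArg _ (a k).2).trans (map_zero _))
  have key : Λ (stalkLin ψ₁ z (∑ k, x k • u (κ (a k)))) =
      I.toCotangent ⟨∑ k, τ (a k).1 * t k, Ideal.sum_mem _ fun k _ => Ideal.mul_mem_right _ _
        (show ε (τ (a k).1) = 0 from (congr($hετ (a k).1)).trans ((congrArg (i.stalkMap z).hom (a k).2).trans (map_zero _)))⟩ := by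
    rw [map_sum, map_sum]
    refine Eq.trans (Finset.sum_congr rfl fun k _ => ?_)
      ((map_sum I.toCotangent (fun k => (⟨τ (a k).1 * t k, Ideal.mul_mem_right _ _
        (show ε (τ (a k).1) = 0 from (congr($hετ (a k).1)).trans ((congrArg (i.stalkMap z).hom (a k).2).trans
          (map_zero _)))⟩ : I)) Finset.univ).symm.trans
        (congrArg _ (Subtype.ext (by rw [Submodule.coe_sum]))))
    rw [map_smul, show stalkLin ψ₁ z (u (κ (a k))) = κ' ⟨(σ hψ₁.1 z).hom (a k).1, hmem k⟩ from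
      conormalMap_stalk hi' hj hψ₁ z κ' hκ' κ hκ (a k) (hmem k), map_smul, hΛ, ← ht k, hsmul]
    change t k • I.toCotangent ⟨ψ.hom (μ.hom (a k).1), _⟩ = _
    rw [← map_smul]
    refine congrArg _ (Subtype.ext ?_)
    change t k * ψ.hom (μ.hom (a k).1) = τ (a k).1 * t k
    rw [show ψ.hom (μ.hom (a k).1) = τ (a k).1 from congr($hμψ (a k).1), mul_comm]
  rw [hw, map_zero, eq_comm, Ideal.toCotangent_eq_zero, hsq, Ideal.mem_bot] at key
  have hsum := congrArg Φ (hinj n a t key)
  rw [map_sum, map_zero] at hsum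
  refine (Finset.sum_congr rfl fun k _ => ?_).trans hsum
  rw [ht k]
  rfl

end Groth.Agent.Omega.LciMono

end
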