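import Groth.Agent.KReg44.Ideal
import Groth.Agent.KReg44.Syzygy
import Mathlib.RingTheory.MvPolynomial.Localization
import Mathlib.RingTheory.Localization.Algebra
import Mathlib.RingTheory.Flat.Localization

/-!
# A thickening detecting the conormal module of the base
-/

set_option autoImplicit false
set_option linter.style.haveILetI false

universe u

open TensorProduct

noncomputable section

namespace Groth.Agent.Omega.LciThick

/-- Along an `H₁`-regular sequence the kernel of a quotient meets a lifted ideal in the product. -/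
theorem inf_le_mul {R' R : Type u} [CommRing R'] [CommRing R] (q : R' →+* R) {n : ℕ} (g : Fin n → R')
    (hg : CAlgX.IsH1Regular fun i => q (g i)) (hq : Function.Surjective q) :
    (RingHom.ker q ⊔ Ideal.span (Set.range g)) ^ 2 ⊓ RingHom.ker q ≤
      RingHom.ker q * (RingHom.ker q ⊔ Ideal.span (Set.range g)) := by
  let J := RingHom.ker q
  let G := Ideal.span (Set.range g)
  rintro x ⟨hx, hxJ⟩
  have hle : (J ⊔ G) ^ 2 ≤ J * (J ⊔ G) ⊔ G := by
    rw [pow_two, Ideal.sup_mul]
    exact sup_le_sup_left Ideal.mul_le_left _ |>.trans le_rfl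
  obtain ⟨y, hy, z, hz, rfl⟩ := Submodule.mem_sup.mp (hle hx)
  refine add_mem hy ?_
  have hzJ : q z = 0 := by
    have hyJ : q y = 0 := (Ideal.mul_le_left : J * (J ⊔ G) ≤ J) hy
    have : q (y + z) = 0 := hxJ
    rwa [map_add, hyJ, zero_add] at this
  obtain ⟨a, rfl⟩ := (Submodule.mem_span_range_iff_exists_fun R').mp hz
  simp only [smul_eq_mul] at hzJ ⊢
  have hrel : ∑ i, q (a i) * q (g i) = 0 := by rw [← hzJ, map_sum]; simp
  have key : ∀ v ∈ Submodule.span R {v : Fin n → R | ∃ i j : Fin n, v = Pi.single i (q (g j)) - Pi.single j (q (g i))},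
      ∃ v' : Fin n → R', (fun i => q (v' i)) = v ∧ ∑ i, v' i * g i = 0 := by
    intro v hv
    induction hv using Submodule.span_induction with
    | mem v hv =>
      obtain ⟨i, j, rfl⟩ := hv
      refine ⟨Pi.single i (g j) - Pi.single j (g i), ?_, ?_⟩
      · funext k
        simp [Pi.single_apply, apply_ite q]
      · simp [sub_mul, Finset.sum_sub_distrib, Pi.single_apply, ite_mul, mul_comm (g j) (g i)]
    | zero => exact ⟨0, funext fun _ => map_zero q, by simp⟩
    | add v w _ _ hv hw =>
      obtain ⟨v', rfl, hv'⟩ := hv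
      obtain ⟨w', rfl, hw'⟩ := hw
      exact ⟨v' + w', funext fun i => map_add q _ _, by simp [add_mul, Finset.sum_add_distrib, hv', hw']⟩
    | smul r v _ hv =>
      obtain ⟨v', rfl, hv'⟩ := hv
      obtain ⟨r', rfl⟩ := hq r
      exact ⟨r' • v', funext fun i => map_mul q _ _, by simp [mul_assoc, ← Finset.mul_sum, hv']⟩
  obtain ⟨v', hv', hsum⟩ := key _ (hg _ hrel)
  rw [show ∑ i, a i * g i = ∑ i, (a i - v' i) * g i by simp [sub_mul, Finset.sum_sub_distrib, hsum]]
  exact Ideal.sum_mem _ fun i _ => Ideal.mul_mem_mul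
    (by rw [RingHom.mem_ker, map_sub, congr_fun hv' i, sub_self])
    (Ideal.mem_sup_right (Ideal.subset_span ⟨i, rfl⟩))

/-- For a flat algebra `R'` the multiplication `J ⊗ C → R' / K'²` is injective as soon as `J R' ∩ K'² ≤ J R' K'`. -/
theorem sum_tmul_eq_zero {B' R' C : Type u} [CommRing B'] [CommRing R'] [CommRing C] [Algebra B' R']
    [Algebra B' C] [Module.Flat B' R'] (π : R' →+* C) (hπ : π.comp (algebraMap B' R') = algebraMap B' C)
    (J : Ideal B') (hJ : RingHom.ker π ^ 2 ⊓ J.map (algebraMap B' R') ≤ J.map (algebraMap B' R') * RingHom.ker π)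
    {n : ℕ} (j : Fin n → J) (r : Fin n → R')
    (h : ∑ k, algebraMap B' R' (j k) * r k ∈ RingHom.ker π ^ 2) :
    ∑ k, j k ⊗ₜ[B'] π (r k) = 0 := by
  let πl : R' →ₗ[B'] C :=
    { toFun := π, map_add' := map_add π
      map_smul' := fun b r => by
        rw [RingHom.id_apply, Algebra.smul_def, Algebra.smul_def, map_mul, ← hπ, RingHom.comp_apply] }
  let m : J ⊗[B'] R' →ₗ[B'] R' := (TensorProduct.lid B' R').toLinearMap ∘ₗ (Submodule.subtype J).rTensor R'
  have hm : Function.Injective m := (TensorProduct.lid B' R').injective.comp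
    (Module.Flat.rTensor_preserves_injective_linearMap _ Subtype.val_injective)
  have hmt : ∀ (x : J) (s : R'), m (x ⊗ₜ s) = algebraMap B' R' x.1 * s := fun x s => by
    simp [m, Algebra.smul_def]
  have hmk : ∀ (s : R') (w : J ⊗[B'] R'), m ((LinearMap.mulLeft B' s).lTensor _ w) = s * m w := fun s w => by
    induction w with
    | zero => simp
    | tmul x t => simp [hmt, mul_left_comm]
    | add a b ha hb => simp [map_add, mul_add, ha, hb]
  have hJm : ∀ x ∈ J.map (algebraMap B' R'), ∃ w, m w = x := fun x hx => by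
    rw [Ideal.map] at hx
    induction hx using Submodule.span_induction with
    | mem x hx => obtain ⟨b, hb, rfl⟩ := hx; exact ⟨⟨b, hb⟩ ⊗ₜ 1, by rw [hmt, mul_one]⟩
    | zero => exact ⟨0, map_zero m⟩
    | add a b _ _ ha hb =>
      obtain ⟨v, rfl⟩ := ha; obtain ⟨w, rfl⟩ := hb
      exact ⟨v + w, map_add m v w⟩
    | smul s x _ ha =>
      obtain ⟨v, rfl⟩ := ha
      exact ⟨(LinearMap.mulLeft B' s).lTensor _ v, hmk s v⟩
  have key : ∀ x ∈ J.map (algebraMap B' R') * RingHom.ker π, ∃ v, m v = x ∧ πl.lTensor J v = 0 := fun x hx => by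
    induction hx using Submodule.mul_induction_on' with
    | mem_mul_mem a ha k hk =>
      obtain ⟨w, rfl⟩ := hJm a ha
      refine ⟨(LinearMap.mulLeft B' k).lTensor _ w, (hmk k w).trans (mul_comm _ _), ?_⟩
      rw [← LinearMap.lTensor_comp_apply, show πl ∘ₗ LinearMap.mulLeft B' k = 0 from LinearMap.ext fun t => by
        change π (k * t) = 0
        rw [map_mul, hk, zero_mul], LinearMap.lTensor_zero, LinearMap.zero_apply]
    | add a _ b _ ha hb =>
      obtain ⟨v, rfl, hv⟩ := ha; obtain ⟨w, rfl, hw⟩ := hb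
      exact ⟨v + w, map_add m v w, by rw [map_add, hv, hw, add_zero]⟩
  obtain ⟨v, hv, hv0⟩ := key _ (hJ ⟨h, Ideal.sum_mem _ fun k _ =>
    Ideal.mul_mem_right _ _ (Ideal.mem_map_of_mem _ (j k).2)⟩)
  have : v = ∑ k, j k ⊗ₜ[B'] r k := hm (by simp only [hv, map_sum, hmt])
  rw [this, map_sum] at hv0
  exact hv0

/-- For a local ring presented by a Koszul-regular ideal over a localisation `B`, a surjection `B' → B` extends
to a square-zero extension `T → C` in which `J ⊗ C` embeds. -/
theorem exists_thickening {A B B' C : Type u} [CommRing A] [CommRing B] [CommRing B'] [CommRing C]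
    [IsLocalRing C] [Algebra A B] (M : Submonoid A) [IsLocalization M B] [Algebra B' C]
    (p : B' →+* B) (hp : Function.Surjective p) (β : B →+* C) (hβ : β.comp p = algebraMap B' C)
    {n : ℕ} (α : MvPolynomial (Fin n) A →+* C) (hα : α.comp MvPolynomial.C = β.comp (algebraMap A B))
    (K : Ideal (MvPolynomial (Fin n) A)) (hK : LCI.IsKoszulRegularIdeal K) (hKα : K ≤ RingHom.ker α)
    (hsurj : ∀ c, ∃ a s, IsUnit (α s) ∧ α s * c = α a)
    (hker : ∀ a, α a = 0 → ∃ s, IsUnit (α s) ∧ s * a ∈ K) :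
    ∃ (T : Type u) (_ : CommRing T) (ε : T →+* C) (τ : B' →+* T), Function.Surjective ε ∧
      RingHom.ker ε ^ 2 = ⊥ ∧ ε.comp τ = algebraMap B' C ∧
        ∀ (m : ℕ) (j : Fin m → RingHom.ker p) (t : Fin m → T), ∑ k, τ (j k).1 * t k = 0 →
          ∑ k, j k ⊗ₜ[B'] ε (t k) = 0 := by
  classical
  letI : Algebra (MvPolynomial (Fin n) A) (MvPolynomial (Fin n) B) := MvPolynomial.algebraMvPolynomial
  -- `B[x] → C` and `B'[x] → C`
  let αB : MvPolynomial (Fin n) B →+* C := MvPolynomial.eval₂Hom β fun i => α (MvPolynomial.X i)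
  have hαB : αB.comp (MvPolynomial.map (algebraMap A B)) = α := by
    ext a <;> simp [αB]
    exact congr($hα.symm a)
  let μ : MvPolynomial (Fin n) B' →+* MvPolynomial (Fin n) B := MvPolynomial.map p
  have hμ : Function.Surjective μ := MvPolynomial.map_surjective p hp
  let π₀ := αB.comp μ
  let Q : Ideal (MvPolynomial (Fin n) B') := (IsLocalRing.maximalIdeal C).comap π₀
  haveI : Q.IsPrime := Ideal.comap_isPrime π₀ _
  let R' := Localization.AtPrime Q
  let N : Submonoid (MvPolynomial (Fin n) B) := Q.primeCompl.map μ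
  let L := Localization N
  have hmap : Q.primeCompl.map μ = N := rfl
  let q : R' →+* L := IsLocalization.map L μ (hmap ▸ Q.primeCompl.le_comap_map)
  have hN : ∀ x : N, IsUnit (αB x) := by
    rintro ⟨_, x, hx, rfl⟩
    by_contra h
    exact hx ((IsLocalRing.mem_maximalIdeal _).mpr h)
  let σ : L →+* C := IsLocalization.lift hN
  let π : R' →+* C := σ.comp q
  have hunit : ∀ x, IsUnit (αB x) → IsUnit (algebraMap _ L x) := fun x hx => by
    obtain ⟨y, rfl⟩ := hμ x
    exact IsLocalization.map_units L (⟨μ y, y, fun hy => (IsLocalRing.mem_maximalIdeal _).mp hy hx, rfl⟩ : N)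
  let jA : MvPolynomial (Fin n) A →+* L :=
    (algebraMap (MvPolynomial (Fin n) B) L).comp (algebraMap (MvPolynomial (Fin n) A) (MvPolynomial (Fin n) B))
  have hσA : σ.comp jA = α := by
    rw [← RingHom.comp_assoc, IsLocalization.lift_comp]
    exact hαB
  have hjAunit : ∀ s, IsUnit (α s) → IsUnit (jA s) := fun s hs => hunit _ (by
    exact (congr($hαB s)).symm ▸ hs)
  have hflat : jA.Flat := by
    refine RingHom.Flat.comp ?_ ?_
    · exact RingHom.flat_algebraMap_iff.mpr
        (IsLocalization.flat (MvPolynomial (Fin n) B) (M.map (MvPolynomial.C (σ := Fin n))))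
    · exact RingHom.flat_algebraMap_iff.mpr (IsLocalization.flat L N)
  have hσ : Function.Surjective σ := fun c => by
    obtain ⟨a, s, hs, h⟩ := hsurj c
    obtain ⟨w, hw⟩ := (hjAunit s hs).exists_left_inv
    refine ⟨w * jA a, ?_⟩
    rw [map_mul, show σ (jA a) = α a from congr($hσA a), ← h, show α s = σ (jA s) from congr($hσA.symm s),
      ← mul_assoc, ← map_mul, hw, map_one, one_mul]
  have hKσ : K.map jA = RingHom.ker σ := by
    refine le_antisymm (Ideal.map_le_iff_le_comap.mpr fun a ha => ?_) fun l hl => ?_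
    · exact (congr($hσA a)).trans (hKα ha)
    obtain ⟨⟨b, ⟨d, hd⟩⟩, hbd⟩ := IsLocalization.surj N l
    obtain ⟨⟨a, ⟨_, e, he, rfl⟩⟩, hae⟩ := IsLocalization.surj (M.map (MvPolynomial.C (σ := Fin n))) b
    have hu : IsUnit (algebraMap _ L d * jA (MvPolynomial.C e)) :=
      (IsLocalization.map_units L (⟨d, hd⟩ : N)).mul ((IsLocalization.map_units (MvPolynomial (Fin n) B)
        (⟨_, e, he, rfl⟩ : M.map (MvPolynomial.C (σ := Fin n)))).map (algebraMap (MvPolynomial (Fin n) B) L))
    have hla : l * (algebraMap _ L d * jA (MvPolynomial.C e)) = jA a := by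
      rw [← mul_assoc, hbd]
      change algebraMap _ L b * algebraMap (MvPolynomial (Fin n) B) L (algebraMap _ _ (MvPolynomial.C e)) =
        algebraMap (MvPolynomial (Fin n) B) L (algebraMap _ _ a)
      rw [← map_mul, hae]
    obtain ⟨s, hs, hsa⟩ := hker a (by
      rw [← hσA, RingHom.comp_apply, ← hla, map_mul, RingHom.mem_ker.mp hl, zero_mul])
    refine (Ideal.mul_unit_mem_iff_mem _ (hu.mul (hjAunit s hs))).mp ?_
    rw [← mul_assoc, hla, ← map_mul, mul_comm a s]
    exact Ideal.mem_map_of_mem _ hsa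
  -- a regular sequence generating the kernel
  let P : Ideal (MvPolynomial (Fin n) A) := (IsLocalRing.maximalIdeal C).comap α
  haveI : P.IsPrime := Ideal.comap_isPrime α _
  have hP : ∀ x : P.primeCompl, IsUnit (jA x) := fun ⟨x, hx⟩ =>
    hjAunit x (by by_contra h; exact hx ((IsLocalRing.mem_maximalIdeal _).mpr h))
  let ψ : Localization.AtPrime P →+* L := IsLocalization.lift hP
  have hψ : ψ.comp (algebraMap _ _) = jA := IsLocalization.lift_comp hP
  have hψflat : ψ.Flat := by
    letI := ψ.toAlgebra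
    have hj : jA = algebraMap (MvPolynomial (Fin n) A) L :=
      (IsScalarTower.algebraMap_eq (MvPolynomial (Fin n) A) (MvPolynomial (Fin n) B) L).symm
    rw [hj, RingHom.flat_algebraMap_iff] at hflat
    haveI : IsScalarTower (MvPolynomial (Fin n) A) (Localization.AtPrime P) L :=
      IsScalarTower.of_algebraMap_eq' (hj.symm.trans hψ.symm)
    exact (Module.flat_iff_of_isLocalization (Localization.AtPrime P) P.primeCompl L).mpr hflat
  obtain ⟨l₀, hl₀, hl₀K⟩ := KReg44.exists_local hK P inferInstance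
    fun a ha => show α a ∈ IsLocalRing.maximalIdeal C by rw [RingHom.mem_ker.mp (hKα ha)]; exact zero_mem _
  obtain ⟨l, hl, hlI⟩ := KReg44.exists_map ψ hψflat ⟨l₀, hl₀, hl₀K⟩
  rw [Ideal.map_map, hψ, hKσ] at hlI
  have hq : Function.Surjective q := fun y => by
    obtain ⟨x, ⟨_, z, hz, rfl⟩, rfl⟩ := IsLocalization.exists_mk'_eq N y
    obtain ⟨x, rfl⟩ := hμ x
    exact ⟨IsLocalization.mk' R' x ⟨z, hz⟩, IsLocalization.map_mk' _ x ⟨z, hz⟩⟩
  choose g hg using fun i : Fin l.length => hq l[i]
  haveI : Module.Flat B' R' := inferInstance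
  have hkerq : RingHom.ker q = (RingHom.ker p).map (algebraMap B' R') := by
    rw [show RingHom.ker q = _ from IsLocalization.ker_map (S := R') L μ hmap, MvPolynomial.ker_map, Ideal.map_map,
      IsScalarTower.algebraMap_eq B' (MvPolynomial (Fin n) B') R', MvPolynomial.algebraMap_eq]
  have hkerπ : RingHom.ker π = RingHom.ker q ⊔ Ideal.span (Set.range g) := by
    have h1 : RingHom.ker σ = (Ideal.span (Set.range g)).map q := by
      rw [Ideal.map_span, ← Set.range_comp, show q ∘ g = fun i => l.get i from funext hg, ← hlI,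
        KReg44.span_range_eq_ofList, List.ofFn_get]
    rw [show RingHom.ker π = (RingHom.ker σ).comap q from rfl, h1, Ideal.comap_map_of_surjective q hq,
      sup_comm, ← RingHom.ker_eq_comap_bot]
  have hπB : π.comp (algebraMap B' R') = algebraMap B' C := by
    ext b
    simp only [π, σ, q, RingHom.comp_apply]
    rw [IsScalarTower.algebraMap_apply B' (MvPolynomial (Fin n) B') R' b, IsLocalization.map_eq,
      IsLocalization.lift_eq, ← hβ]
    simp [αB, μ]
  have hπ : Function.Surjective π := hσ.comp hq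
  refine ⟨R' ⧸ RingHom.ker π ^ 2, inferInstance,
    Ideal.Quotient.lift _ π fun a ha => Ideal.pow_le_self two_ne_zero ha,
    (Ideal.Quotient.mk _).comp (algebraMap B' R'), ?_, ?_, ?_, fun m j t ht => ?_⟩
  · intro c
    obtain ⟨r, rfl⟩ := hπ c
    exact ⟨Ideal.Quotient.mk _ r, rfl⟩
  · refine le_bot_iff.mp ((pow_two _).le.trans (Ideal.mul_le.mpr fun a ha b hb => ?_))
    obtain ⟨a, rfl⟩ := Ideal.Quotient.mk_surjective a
    obtain ⟨b, rfl⟩ := Ideal.Quotient.mk_surjective b
    rw [Ideal.mem_bot, ← map_mul, Ideal.Quotient.eq_zero_iff_mem, pow_two]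
    exact Ideal.mul_mem_mul ha hb
  · ext b; exact congr($hπB b)
  choose r hr using fun k => Ideal.Quotient.mk_surjective (t k)
  have hmem : ∑ k, algebraMap B' R' (j k).1 * r k ∈ RingHom.ker π ^ 2 := by
    rw [← Ideal.Quotient.eq_zero_iff_mem, map_sum, ← ht]
    simp [hr]
  refine (Finset.sum_congr rfl fun k _ => ?_).trans (sum_tmul_eq_zero π hπB (RingHom.ker p) ?_ j r hmem)
  · rw [← hr k]; rfl
  · rw [← hkerq, hkerπ]
    refine inf_le_mul q g ?_ hq
    refine KReg44.isH1Regular _ ?_
    rwa [show List.ofFn (fun i => q (g i)) = l from by simp only [hg]; exact List.ofFn_getElem]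

end Groth.Agent.Omega.LciThick

end
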