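import Groth.Agent.Omega.Lift
import Groth.Agent.Omega.Exists
import Groth.Agent.Omega.Chart
import Mathlib.RingTheory.Kaehler.TensorProduct
import Mathlib.RingTheory.IsTensorProduct

/-!
# Extension of derivations on affine charts
-/

set_option autoImplicit false

universe u

open CategoryTheory CategoryTheory.Limits AlgebraicGeometry TopologicalSpace Opposite

namespace Groth.Agent.Omega.LiftAffine

open OmegaSh Basic Lift

variable {X Y X' Y' : Scheme.{u}}

/-- Changing the base along an open immersion downwards. -/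
theorem exists_der_base {Y₀ : Scheme.{u}} {g : X ⟶ Y₀} {v : Y₀ ⟶ Y} [IsOpenImmersion v]
    {F : X.Modules} (D : Der (g ≫ v) F) : ∃ D₀ : Der g F, ∀ W s, D₀.app W s = D.app W s := by
  obtain ⟨d₀, -, h₀⟩ := Restrict.isUniversal_of_mono_base v g rfl (Exists.isUniversal_d (g ≫ v))
  refine ⟨d₀.postcomp (desc (Exists.isUniversal_d (g ≫ v)) D).val, fun W s => ?_⟩
  rw [postcomp_app, h₀, desc_app]

/-- A derivation over an intermediate base is one over the base. -/
noncomputable def toBase {Y₀ : Scheme.{u}} {g : X ⟶ Y₀} (v : Y₀ ⟶ Y) {F : X.Modules} (D : Der g F) :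
    Der (g ≫ v) F where
  d {W} := D.app W.unop
  d_mul {W} a b := der_mul D W.unop a b
  d_map i s := der_map D i.unop s
  d_app {V} c := der_app D (v ⁻¹ᵁ V.unop) (v.app V.unop c)

theorem toBase_app {Y₀ : Scheme.{u}} {g : X ⟶ Y₀} (v : Y₀ ⟶ Y) {F : X.Modules} (D : Der g F)
    (W : X.Opens) (s : Γ(X, W)) : (toBase v D).app W s = D.app W s :=
  rfl

theorem res_roundtrip (G : X.Modules) {U V : X.Opens} (i : U ⟶ V) (i' : V ⟶ U) (x : Γ(G, U)) :
    G.presheaf.map i.op (G.presheaf.map i'.op x) = x := by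
  rw [resM_resM, show i ≫ i' = 𝟙 U from rfl, op_id, G.presheaf.map_id]
  rfl

section Target

variable {W : Scheme.{u}} (jW : W ⟶ X) [IsOpenImmersion jW] {f : X ⟶ Y} {f' : X' ⟶ Y'} {ψ : X' ⟶ W}

theorem exists_adjoint_der (G : W.Modules) (E0 : Der f ((Scheme.Modules.pushforward jW).obj G)) :
    ∃ D0 : Der (jW ≫ f) G, ∀ U s, D0.app (jW ⁻¹ᵁ U) (jW.app U s) = (E0.app U s : Γ(G, jW ⁻¹ᵁ U)) := by
  refine ⟨(Restrict.resDer jW E0).postcomp
    ((Scheme.Modules.restrictAdjunction jW).counit.app G).val, fun U s => ?_⟩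
  rw [postcomp_app, Restrict.resDer_app, Restrict.appIso_inv_app, der_map]
  exact res_roundtrip G _ _ (E0.app U s : Γ(G, jW ⁻¹ᵁ U))

theorem extSurj_comp (hS : ExtSurj (jW ≫ f) f' ψ) : ExtSurj f f' (ψ ≫ jW) := by
  intro F E
  obtain ⟨D0, hD0⟩ := exists_adjoint_der jW ((Scheme.Modules.pushforward ψ).obj F)
    (E.postcomp ((Scheme.Modules.pushforwardComp ψ jW).inv.app F).val)
  obtain ⟨D, hD⟩ := hS F D0
  refine ⟨D, fun U s => ?_⟩
  exact (hD (jW ⁻¹ᵁ U) (jW.app U s)).trans (hD0 U s)

theorem extInj_comp (hI : ExtInj f' ψ) : ExtInj f' (ψ ≫ jW) := by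
  intro F D D' h
  refine hI F D D' fun V s => ?_
  obtain ⟨r, rfl⟩ : ∃ r : Γ(X, jW ''ᵁ V), W.presheaf.map (eqToHom (jW.preimage_image_eq V).symm).op
      (jW.app (jW ''ᵁ V) r) = s := by
    refine ⟨(jW.appIso V).inv s, ?_⟩
    have := congr($(jW.appIso V |>.inv_hom_id) s)
    rw [jW.appIso_hom] at this
    exact this
  have key : ∀ E : Der f' F, E.app (ψ ⁻¹ᵁ V) (ψ.app V (W.presheaf.map (eqToHom (jW.preimage_image_eq V).symm).op
      (jW.app (jW ''ᵁ V) r))) = F.presheaf.map ((Opens.map ψ.base).map (eqToHom (jW.preimage_image_eq V).symm)).op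
        (E.app ((ψ ≫ jW) ⁻¹ᵁ (jW ''ᵁ V)) ((ψ ≫ jW).app (jW ''ᵁ V) r)) := by
    intro E
    rw [← ConcreteCategory.comp_apply]
    erw [ψ.naturality]
    exact der_map E ((Opens.map ψ.base).map (eqToHom (jW.preimage_image_eq V).symm)) _
  rw [key D, key D', h]

end Target

section Spec

open SpecDer

variable (A B A' B' : Type u) [CommRing A] [CommRing B] [Algebra A B] [CommRing A'] [CommRing B']
  [Algebra A' B'] [Algebra A A'] [Algebra B B'] [Algebra A B'] [IsScalarTower A A' B']
  [IsScalarTower A B B'] [SMulCommClass A' B B']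

omit [SMulCommClass A' B B'] in
theorem π_sq : π A' B' ≫ π A A' = π B B' ≫ π A B := by
  change Spec.map _ ≫ Spec.map _ = Spec.map _ ≫ Spec.map _
  rw [← Spec.map_comp, ← Spec.map_comp, ← CommRingCat.ofHom_comp, ← CommRingCat.ofHom_comp,
    ← IsScalarTower.algebraMap_eq, ← IsScalarTower.algebraMap_eq]

omit [Algebra A' B'] [Algebra A A'] [IsScalarTower A A' B'] [SMulCommClass A' B B'] [Algebra A B'] in
theorem push_smul_γ (F : (Spec (CommRingCat.of B')).Modules) (b : B) (x : Γ(F, ⊤)) :
    (b • (show Γ((Scheme.Modules.pushforward (π B B')).obj F, ⊤) from x)) =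
      (show Γ((Scheme.Modules.pushforward (π B B')).obj F, ⊤) from algebraMap B B' b • x) := by
  rw [smul_eq]
  change (π B B').appTop (γ B b) • x = algebraMap B B' b • x
  rw [appTop_γ, smul_eq]

variable {A B A' B'}

theorem extInj_spec (hb : IsBaseChange B' (KaehlerDifferential.map A A' B B')) :
    ExtInj (π A' B') (π B B') := by
  intro F D D' h
  let := moduleA A' B' F
  have := isScalarTowerA (A := A') F
  let : Module B Γ(F, ⊤) := Module.compHom _ (algebraMap B B')
  have : IsScalarTower B B' Γ(F, ⊤) := IsScalarTower.of_algebraMap_smul fun _ _ => rfl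
  obtain ⟨δ, hδ⟩ := exists_derivation D
  obtain ⟨δ', hδ'⟩ := exists_derivation D'
  have heq : δ.liftKaehlerDifferential = δ'.liftKaehlerDifferential := by
    refine hb.algHom_ext _ _ fun x => ?_
    have hx : x ∈ Submodule.span B (Set.range (KaehlerDifferential.D A B)) := by
      rw [KaehlerDifferential.span_range_derivation]; trivial
    induction hx using Submodule.span_induction with
    | mem y hy =>
      obtain ⟨b, rfl⟩ := hy
      rw [KaehlerDifferential.map_D, δ.liftKaehlerDifferential_comp_D, δ'.liftKaehlerDifferential_comp_D,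
        hδ, hδ']
      have h' := h ⊤ (γ B b)
      rw [show (π B B').app ⊤ (γ B b) = γ B' (algebraMap B B' b) from appTop_γ B B' b] at h'
      exact h'
    | zero => simp
    | add u v _ _ hu hv => simp [hu, hv]
    | smul a u _ hu =>
      rw [map_smul, ← IsScalarTower.algebraMap_smul B' a, map_smul, map_smul, hu]
  refine der_ext_γ fun b => ?_
  rw [← hδ, ← hδ', ← δ.liftKaehlerDifferential_comp_D b, ← δ'.liftKaehlerDifferential_comp_D b, heq]

variable (A B A' B') in
/-- Derivations of `B` into a `B'`-module extend to `B'`. -/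
def DerExt : Prop :=
  ∀ (M : Type u) [AddCommGroup M] [Module B' M] [Module B M] [Module A M] [IsScalarTower B B' M]
    [IsScalarTower A B M] (δ : Derivation A B M),
    ∃ D : B' →+ M, (∀ x y, D (x * y) = x • D y + y • D x) ∧ (∀ a, D (algebraMap A' B' a) = 0) ∧
      ∀ b, D (algebraMap B B' b) = δ b

theorem derExt_of_isBaseChange (hb : IsBaseChange B' (KaehlerDifferential.map A A' B B')) :
    DerExt A B A' B' := by
  intro M _ _ _ _ _ _ δ
  refine ⟨AddMonoidHom.mk' (fun b' => hb.lift δ.liftKaehlerDifferential (KaehlerDifferential.D A' B' b'))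
    fun a b => by simp, fun a b => by simp, fun a => by simp, fun b => ?_⟩
  change hb.lift δ.liftKaehlerDifferential (KaehlerDifferential.D A' B' (algebraMap B B' b)) = δ b
  rw [← KaehlerDifferential.map_D A A' B B' b, hb.lift_eq]
  exact δ.liftKaehlerDifferential_comp_D b

theorem extSurj_spec (hext : DerExt A B A' B') :
    ExtSurj (π A B) (π A' B') (π B B') := by
  intro F E
  let G := (Scheme.Modules.pushforward (π B B')).obj F
  let := moduleA A B G
  have := isScalarTowerA (A := A) G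
  obtain ⟨δ, hδ⟩ := exists_derivation E
  let : Module B Γ(F, ⊤) := Module.compHom _ (algebraMap B B')
  have : IsScalarTower B B' Γ(F, ⊤) := IsScalarTower.of_algebraMap_smul fun _ _ => rfl
  let : Module A Γ(F, ⊤) := Module.compHom _ (algebraMap A B)
  have : IsScalarTower A B Γ(F, ⊤) := IsScalarTower.of_algebraMap_smul fun _ _ => rfl
  let l : Γ(G, ⊤) →ₗ[B] Γ(F, ⊤) :=
    { toFun := fun x => x
      map_add' := fun x y => rfl
      map_smul' := fun b x => push_smul_γ B B' F b x }
  let δ' : Derivation A B Γ(F, ⊤) :=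
    Derivation.mk'
      { toFun := fun b => l (δ b)
        map_add' := fun a b => (congrArg l (map_add δ a b)).trans (map_add l (δ a) (δ b))
        map_smul' := fun a b => by
          refine (congrArg l ((δ.map_smul a b).trans (IsScalarTower.algebraMap_smul B a (δ b)).symm)).trans ?_
          exact (map_smul l (algebraMap A B a) (δ b)) }
      fun a b => (congrArg l (δ.leibniz a b)).trans
        ((map_add l (a • δ b) (b • δ a)).trans (congr_arg₂ (· + ·) (map_smul l a (δ b)) (map_smul l b (δ a))))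
  obtain ⟨D₀, hmul, hzero, hval⟩ := hext _ δ'
  obtain ⟨D, hD⟩ := exists_der (A := A') (F := F) D₀ hmul hzero
  refine ⟨D, ?_⟩
  have heq : push (π B B') (π_sq A B A' B') D = E := by
    refine der_ext_γ fun b => ?_
    rw [push_app]
    rw [show (π B B').app ⊤ (γ B b) = γ B' (algebraMap B B' b) from appTop_γ B B' b]
    exact ((hD (algebraMap B B' b)).trans (hval b)).trans (hδ b)
  intro U s
  rw [← push_app (π B B') (π_sq A B A' B') D, heq]

end Spec

section Charts

variable {A B A' B' : Type u} [CommRing A] [CommRing B] [Algebra A B] [CommRing A'] [CommRing B']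
  [Algebra A' B'] [Algebra A A'] [Algebra B B'] [Algebra A B'] [IsScalarTower A A' B']
  [IsScalarTower A B B'] [SMulCommClass A' B B']
  {f : X ⟶ Y} {f' : X' ⟶ Y'} {h : X' ⟶ X}
  {jW : Spec (CommRingCat.of B) ⟶ X} [IsOpenImmersion jW]
  {v : Spec (CommRingCat.of A) ⟶ Y} [IsOpenImmersion v]
  {j : Spec (CommRingCat.of B') ⟶ X'} [IsOpenImmersion j]
  {v' : Spec (CommRingCat.of A') ⟶ Y'} [IsOpenImmersion v']

theorem extSurj_chart (hb : DerExt A B A' B')
    (e₁ : SpecDer.π A B ≫ v = jW ≫ f) (e₂ : SpecDer.π A' B' ≫ v' = j ≫ f')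
    (e₃ : SpecDer.π B B' ≫ jW = j ≫ h) : ExtSurj f (j ≫ f') (j ≫ h) := by
  rw [← e₃, ← e₂]
  refine extSurj_comp jW ?_
  rw [← e₁]
  intro F E
  obtain ⟨E₀, hE₀⟩ := exists_der_base E
  obtain ⟨D, hD⟩ := extSurj_spec hb F E₀
  refine ⟨toBase v' D, fun U s => ?_⟩
  rw [toBase_app, hD U s, hE₀]

theorem extInj_chart (hb : IsBaseChange B' (KaehlerDifferential.map A A' B B'))
    (e₂ : SpecDer.π A' B' ≫ v' = j ≫ f')
    (e₃ : SpecDer.π B B' ≫ jW = j ≫ h) : ExtInj (j ≫ f') (j ≫ h) := by
  rw [← e₃, ← e₂]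
  refine extInj_comp jW ?_
  intro F D D' hDD'
  obtain ⟨D₀, hD₀⟩ := exists_der_base D
  obtain ⟨D₀', hD₀'⟩ := exists_der_base D'
  have := extInj_spec hb F D₀ D₀' fun U s => by rw [hD₀, hD₀', hDD']
  exact der_ext fun W s => by rw [← hD₀, ← hD₀', this]

end Charts

end Groth.Agent.Omega.LiftAffine
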