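import Mathlib.RingTheory.Smooth.Basic
import Mathlib.RingTheory.MvPolynomial.Ideal
import Mathlib.RingTheory.MvPolynomial.Homogeneous
import Groth.Agent.S5802

/-!
# Truncations along a quasi-regular sequence with formally smooth quotient
-/

set_option autoImplicit false
set_option linter.style.haveILetI false

universe v u

open MvPolynomial

namespace Groth.Agent.Omega.NilpThick

theorem prod_pow_mem {S : Type v} [CommRing S] {d : ℕ} (y : Fin d → S) (m : Fin d →₀ ℕ) :
    (∏ i ∈ m.support, y i ^ m i) ∈ Ideal.span (Set.range y) ^ m.degree := by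
  rw [show m.degree = ∑ i ∈ m.support, m i from rfl, ← Finset.prod_pow_eq_pow_sum]
  exact Ideal.prod_mem_prod fun i _ => Ideal.pow_mem_pow (Ideal.subset_span (Set.mem_range_self i)) _

variable {R : Type u} {A : Type v} [CommRing R] [CommRing A] [Algebra R A] {d : ℕ} (x : Fin d → A)

local notation "J" => Ideal.span (Set.range x)
local notation "B" => A ⧸ Ideal.span (Set.range x)

theorem exists_equiv (hq : CAlgX.IsQuasiRegular x) [Algebra.FormallySmooth R B] (N : ℕ) (hN : 1 ≤ N) :
    ∃ e : (A ⧸ J ^ N) ≃ₐ[R]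
        (MvPolynomial (Fin d) B ⧸ Ideal.span (Set.range (X : Fin d → MvPolynomial (Fin d) B)) ^ N),
      (∀ i : Fin d, e (Ideal.Quotient.mk _ (x i)) = Ideal.Quotient.mk _ (X i)) ∧
      ∀ a : A, e (Ideal.Quotient.mk _ a) - Ideal.Quotient.mk _ (C (Ideal.Quotient.mk _ a)) ∈
        (Ideal.span (Set.range (X : Fin d → MvPolynomial (Fin d) B))).map (Ideal.Quotient.mk _) := by
  classical
  let AN := A ⧸ J ^ N
  let y : Fin d → AN := fun i => Ideal.Quotient.mk _ (x i)
  let IT : Ideal (MvPolynomial (Fin d) B) := Ideal.span (Set.range X)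
  let pr : AN →ₐ[R] B := Ideal.Quotient.factorₐ R (Ideal.pow_le_self (by omega))
  have hpr : Function.Surjective pr := fun b => by
    obtain ⟨a, rfl⟩ := Ideal.Quotient.mk_surjective b
    exact ⟨Ideal.Quotient.mk _ a, rfl⟩
  have hyspan : Ideal.span (Set.range y) = Ideal.map (Ideal.Quotient.mk (J ^ N)) J := by
    rw [Ideal.map_span, ← Set.range_comp]; rfl
  have hyN : Ideal.span (Set.range y) ^ N = ⊥ := by
    rw [hyspan, ← Ideal.map_pow, Ideal.map_quotient_self]
  have hkerpr : ∀ z, pr z = 0 → z ∈ Ideal.span (Set.range y) := fun z hz => by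
    obtain ⟨a, rfl⟩ := Ideal.Quotient.mk_surjective z
    rw [hyspan]
    exact Ideal.mem_map_of_mem _ (Ideal.Quotient.eq_zero_iff_mem.1 hz)
  have hnil : IsNilpotent (RingHom.ker (pr : AN →+* B)) := by
    refine ⟨N, le_bot_iff.1 ?_⟩
    rw [← hyN]
    exact Ideal.pow_right_mono (fun z hz => hkerpr z hz) N
  let σ : B →ₐ[R] AN := Algebra.FormallySmooth.liftOfSurjective (AlgHom.id R B) pr hpr hnil
  have hσ : ∀ b, pr (σ b) = b := fun b => Algebra.FormallySmooth.liftOfSurjective_apply _ _ _ _ b
  let ψ₀ : MvPolynomial (Fin d) B →+* AN := MvPolynomial.eval₂Hom σ.toRingHom y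
  have hψX : ∀ i, ψ₀ (X i) = y i := fun i => MvPolynomial.eval₂Hom_X' _ _ _
  have hψC : ∀ b, ψ₀ (C b) = σ b := fun b => MvPolynomial.eval₂Hom_C _ _ _
  have hIT : IT.map ψ₀ = Ideal.span (Set.range y) := by
    rw [Ideal.map_span, ← Set.range_comp]
    congr 1
    exact congrArg Set.range (funext hψX)
  have hprψ : ∀ P, pr (ψ₀ P) = constantCoeff P := by
    intro P
    have : (pr : AN →+* B).comp ψ₀ = constantCoeff := by
      refine MvPolynomial.ringHom_ext (fun b => ?_) (fun i => ?_)
      · simp only [RingHom.comp_apply, hψC, constantCoeff_C]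
        exact hσ b
      · simp only [RingHom.comp_apply, hψX, constantCoeff_X]
        exact Ideal.Quotient.eq_zero_iff_mem.2 (Ideal.subset_span ⟨i, rfl⟩)
    exact RingHom.congr_fun this P
  have hsurj : ∀ k, ∀ z : AN, ∃ P, z - ψ₀ P ∈ Ideal.span (Set.range y) ^ k := by
    intro k
    induction k with
    | zero => exact fun z => ⟨0, by simp⟩
    | succ k ih =>
      intro z
      obtain ⟨P, hP⟩ := ih z
      obtain ⟨Q, hQ, hQe⟩ := (Ideal.mem_span_pow_iff_exists_isHomogeneous y _).1 hP
      refine ⟨P + Q.map (pr : AN →+* B), ?_⟩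
      rw [map_add, ← sub_sub, ← hQe, MvPolynomial.eval_eq]
      change _ - MvPolynomial.eval₂ σ.toRingHom y (Q.map (pr : AN →+* B)) ∈ _
      rw [MvPolynomial.eval₂_map, MvPolynomial.eval₂_eq, ← Finset.sum_sub_distrib]
      refine Ideal.sum_mem _ fun m hm => ?_
      rw [← sub_mul, pow_succ' (Ideal.span (Set.range y))]
      refine Ideal.mul_mem_mul (hkerpr _ ?_) ?_
      · change pr (Q.coeff m - σ (pr (Q.coeff m))) = 0
        rw [map_sub, hσ, sub_self]
      · have hdeg : m.degree = k := by
          rw [← hQ (MvPolynomial.mem_support_iff.1 hm), Finsupp.degree_eq_weight_one]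
          rfl
        exact hdeg ▸ prod_pow_mem y m
  have hinj : ∀ k, k ≤ N → ∀ P, ψ₀ P = 0 → P ∈ IT ^ k := by
    intro k
    induction k with
    | zero => simp
    | succ k ih =>
      intro hk P hP
      obtain ⟨Q, hQ, hQe⟩ := (Ideal.mem_span_pow_iff_exists_isHomogeneous _ _).1 (ih (by omega) P hP)
      obtain ⟨Q', hQ'⟩ := MvPolynomial.map_surjective (Ideal.Quotient.mk (J ^ N)) Ideal.Quotient.mk_surjective (Q.map ψ₀)
      let Qh := MvPolynomial.homogeneousComponent k Q'
      have hQh : Qh.map (Ideal.Quotient.mk (J ^ N)) = Q.map ψ₀ := by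
        ext m
        rw [MvPolynomial.coeff_map, MvPolynomial.coeff_homogeneousComponent]
        split_ifs with hm
        · rw [← MvPolynomial.coeff_map, hQ']
        · rw [map_zero, MvPolynomial.coeff_map, hQ.coeff_eq_zero hm, map_zero]
      have hev : MvPolynomial.eval x Qh ∈ J ^ (k + 1) := by
        refine Ideal.pow_le_pow_right hk ?_
        rw [← Ideal.Quotient.eq_zero_iff_mem, MvPolynomial.map_eval (Ideal.Quotient.mk (J ^ N)) x Qh, hQh]
        rw [← hP, ← hQe, MvPolynomial.map_eval ψ₀]
        congr 2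
        exact funext fun i => (hψX i).symm
      have hco := hq k Qh (MvPolynomial.homogeneousComponent_isHomogeneous k Q') hev
      rw [← hQe, MvPolynomial.eval_eq]
      refine Ideal.sum_mem _ fun m hm => ?_
      rw [pow_succ' IT]
      refine Ideal.mul_mem_mul ?_ ?_
      · have h1 : constantCoeff (Q.coeff m) = 0 := by
          rw [← hprψ, ← MvPolynomial.coeff_map, ← hQh, MvPolynomial.coeff_map]
          exact Ideal.Quotient.eq_zero_iff_mem.2 (hco m)
        have h2 : Q.coeff m ∈ MvPolynomial.idealOfVars (Fin d) B ^ 1 := by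
          rw [MvPolynomial.mem_pow_idealOfVars_iff']
          intro m' hm'
          have : m' = 0 := (Finsupp.degree_eq_zero_iff m').1 (by omega)
          subst this
          exact h1
        rwa [pow_one] at h2
      · have hdeg : m.degree = k := by
          rw [← hQ (MvPolynomial.mem_support_iff.1 hm), Finsupp.degree_eq_weight_one]
          rfl
        exact hdeg ▸ prod_pow_mem _ m
  let ψ : (MvPolynomial (Fin d) B ⧸ IT ^ N) →ₐ[R] AN :=
    { Ideal.Quotient.lift (IT ^ N) ψ₀ (fun P hP => by
        have := Ideal.mem_map_of_mem ψ₀ hP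
        rwa [Ideal.map_pow, hIT, hyN] at this) with
      commutes' := fun r => by
        change ψ₀ (C (algebraMap R B r)) = _
        rw [hψC, σ.commutes] }
  have hbij : Function.Bijective ψ := by
    refine ⟨(injective_iff_map_eq_zero ψ).2 fun z hz => ?_, fun z => ?_⟩
    · obtain ⟨P, rfl⟩ := Ideal.Quotient.mk_surjective z
      exact Ideal.Quotient.eq_zero_iff_mem.2 (hinj N le_rfl P hz)
    · obtain ⟨P, hP⟩ := hsurj N z
      rw [hyN, Ideal.mem_bot, sub_eq_zero] at hP
      exact ⟨Ideal.Quotient.mk _ P, hP.symm⟩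
  let e := (AlgEquiv.ofBijective ψ hbij).symm
  refine ⟨e, fun i => ?_, fun a => ?_⟩
  · refine (AlgEquiv.ofBijective ψ hbij).injective ?_
    rw [AlgEquiv.apply_symm_apply]
    exact (hψX i).symm
  · obtain ⟨P, hP⟩ := Ideal.Quotient.mk_surjective (e (Ideal.Quotient.mk _ a))
    rw [← hP, ← map_sub]
    refine Ideal.mem_map_of_mem _ ?_
    have hψP : ψ₀ P = Ideal.Quotient.mk _ a := by
      change ψ (Ideal.Quotient.mk _ P) = _
      rw [hP]
      exact (AlgEquiv.ofBijective ψ hbij).apply_symm_apply _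
    have h0 : P - C (Ideal.Quotient.mk _ a) ∈ MvPolynomial.idealOfVars (Fin d) B ^ 1 := by
      rw [MvPolynomial.mem_pow_idealOfVars_iff']
      intro m' hm'
      have : m' = 0 := (Finsupp.degree_eq_zero_iff m').1 (by omega)
      subst this
      change constantCoeff (P - C _) = 0
      rw [map_sub, constantCoeff_C, ← hprψ, hψP]
      exact sub_self _
    rwa [pow_one] at h0

end Groth.Agent.Omega.NilpThick
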