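import Groth.Agent.Omega.PPIso
import Groth.Agent.PP16.Maps

/-!
# Base change for sheaves of principal parts
-/

set_option autoImplicit false

universe u

open CategoryTheory CategoryTheory.Limits AlgebraicGeometry TopologicalSpace Opposite

noncomputable section

namespace Groth.Agent.Omega.PPBaseChange

open PrinPart Stalks ThickSeq PPStalk
open Groth.Agent.PullStalk.Sky Groth.Agent.PullStalk.Exact Groth.Agent.PullStalk.Basic

attribute [local instance] _root_.PP16.mapAlgebra _root_.PP16.isScalarTower_mapAlgebra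

variable {X S X' S' : Scheme.{u}} (f : X ⟶ S) (g : S' ⟶ S) (u : X' ⟶ X) (f' : X' ⟶ S')

/-- A surjection with nilpotent kernel is local. -/
theorem isLocalHom_of_ker {T C : Type u} [CommRing T] [CommRing C] (g : T →+* C)
    (hg : Function.Surjective g) (n : ℕ) (hn : RingHom.ker g ^ (n + 1) = ⊥) : IsLocalHom g := ⟨fun a ha => by
  obtain ⟨b, hb⟩ := hg ↑ha.unit⁻¹
  have h0 : 1 - a * b ∈ RingHom.ker g := by
    rw [RingHom.mem_ker, map_sub, map_one, map_mul, hb, IsUnit.mul_val_inv, sub_self]
  have h1 : (1 - a * b) ^ (n + 1) = 0 := by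
    rw [← Ideal.mem_bot, ← hn]; exact Ideal.pow_mem_pow h0 _
  have h2 : IsUnit (1 - (1 - a * b)) := IsNilpotent.isUnit_one_sub ⟨n + 1, h1⟩
  rw [sub_sub_cancel] at h2
  exact isUnit_of_mul_isUnit_left h2⟩

open scoped TensorProduct in
/-- The base change of an augmentation with nilpotent kernel. -/
theorem exists_aug_aux (n : ℕ) (B B' P₀ : Type u) [CommRing B] [CommRing B'] [CommRing P₀] [Algebra B B']
    [Algebra B P₀] (εP : P₀ →ₐ[B] B) (hεP : RingHom.ker εP.toRingHom ^ (n + 1) = ⊥) :
    ∃ εr : B' ⊗[B] P₀ →ₐ[B] B', IsLocalHom εr.toRingHom ∧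
      ∀ c p, εr (c ⊗ₜ[B] p) = c * algebraMap B B' (εP p) := by
  let εr : B' ⊗[B] P₀ →ₐ[B] B' :=
    Algebra.TensorProduct.lift (AlgHom.id B B') ((Algebra.ofId B B').comp εP) fun _ _ => Commute.all _ _
  have hεr : ∀ c p, εr (c ⊗ₜ[B] p) = c * algebraMap B B' (εP p) := fun c p => rfl
  refine ⟨εr, ?_, hεr⟩
  let L : Ideal (B' ⊗[B] P₀) :=
    (RingHom.ker εP.toRingHom).map (Algebra.TensorProduct.includeRight : P₀ →ₐ[B] B' ⊗[B] P₀).toRingHom
  have hL : L ^ (n + 1) = ⊥ :=
    (Ideal.map_pow _ _ (n + 1)).symm.trans ((congrArg _ hεP).trans Ideal.map_bot)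
  have hz : ∀ z : B' ⊗[B] P₀, z - εr z ⊗ₜ[B] (1 : P₀) ∈ L := by
    intro z
    induction z using TensorProduct.induction_on with
    | zero => simp
    | tmul c p =>
      have hp : p - algebraMap B P₀ (εP p) ∈ RingHom.ker εP.toRingHom := by
        rw [RingHom.mem_ker]
        change εP (p - algebraMap B P₀ (εP p)) = 0
        rw [map_sub, AlgHom.commutes]
        exact sub_self _
      have e : c ⊗ₜ[B] p - εr (c ⊗ₜ[B] p) ⊗ₜ[B] (1 : P₀) =
          (c ⊗ₜ[B] (1 : P₀)) * ((1 : B') ⊗ₜ[B] (p - algebraMap B P₀ (εP p))) := by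
        rw [Algebra.TensorProduct.tmul_mul_tmul, mul_one, one_mul, TensorProduct.tmul_sub, hεr,
          Algebra.algebraMap_eq_smul_one (A := P₀), ← TensorProduct.smul_tmul, Algebra.smul_def,
          mul_comm c]
      rw [e]
      exact Ideal.mul_mem_left _ _ (Ideal.mem_map_of_mem _ hp)
    | add a b ha hb => rw [map_add, TensorProduct.add_tmul, add_sub_add_comm]; exact add_mem ha hb
  have hker : RingHom.ker εr.toRingHom ≤ L := fun z hz0 => by
    have := hz z
    rwa [show εr z = 0 from hz0, TensorProduct.zero_tmul, sub_zero] at this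
  exact isLocalHom_of_ker εr.toRingHom (fun c => ⟨c ⊗ₜ[B] 1, by
    change εr _ = c
    rw [hεr, map_one, map_one, mul_one]⟩) n
    (eq_bot_iff.mpr ((Ideal.pow_right_mono hker _).trans hL.le))

open scoped TensorProduct in
/-- The augmentation of the base change of a ring of principal parts. -/
theorem exists_aug (n : ℕ) (A B B' : Type u) [CommRing A] [CommRing B] [CommRing B'] [Algebra A B]
    [Algebra B B'] :
    ∃ εr : B' ⊗[B] PP16.P n A B →ₐ[B] B', IsLocalHom εr.toRingHom ∧
      (∀ c b, εr (c ⊗ₜ[B] PP16.dn n A B b) = c * algebraMap B B' b) ∧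
      ∀ c, εr (c ⊗ₜ[B] (1 : PP16.P n A B)) = c := by
  let εP₀ : PP16.P n A B →+* B := Ideal.Quotient.lift (KaehlerDifferential.ideal A B ^ (n + 1))
    (Algebra.TensorProduct.lmul' A).toRingHom
    fun a ha => (Ideal.pow_le_self (Nat.succ_ne_zero n) ha : a ∈ KaehlerDifferential.ideal A B)
  let εP : PP16.P n A B →ₐ[B] B :=
    { εP₀ with commutes' := fun b => (Algebra.TensorProduct.lmul'_apply_tmul (R := A) b 1).trans (mul_one b) }
  have hmk : ∀ b c : B, εP (Ideal.Quotient.mk _ (b ⊗ₜ[A] c)) = b * c := fun b c =>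
    Algebra.TensorProduct.lmul'_apply_tmul (R := A) b c
  have hker : RingHom.ker εP.toRingHom ≤ PP16.augIdeal n A B := fun q hq => by
    obtain ⟨y, rfl⟩ := Ideal.Quotient.mk_surjective q
    exact Ideal.mem_map_of_mem _ (RingHom.mem_ker.mpr (RingHom.mem_ker.mp hq))
  have hP : PP16.augIdeal n A B ^ (n + 1) = ⊥ := by
    rw [PP16.augIdeal, ← Ideal.map_pow, Ideal.map_quotient_self]
  obtain ⟨εr, hloc, hεr⟩ := exists_aug_aux n B B' (PP16.P n A B) εP
    (eq_bot_iff.mpr ((Ideal.pow_right_mono hker _).trans hP.le))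
  refine ⟨εr, hloc, fun c b => ?_, fun c => by rw [hεr, map_one, map_one, mul_one]⟩
  rw [hεr, show εP (PP16.dn n A B b) = b from (hmk 1 b).trans (one_mul b)]

open scoped TensorProduct in
theorem isIso_pMap (hsq : IsPullback u f' f g) (n : ℕ)
    (φ : (Scheme.Modules.pullback u).obj (P f n) ⟶ P f' n) (hφ : IsPMap f f' u n φ) : IsIso φ := by
  refine isIso_of_stalk fun x' => ?_
  have hs : f (u x') = g (f' x') := by rw [← Scheme.Hom.comp_apply, hsq.w, Scheme.Hom.comp_apply]
  let A := S.presheaf.stalk (f (u x'))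
  let B := X.presheaf.stalk (u x')
  let A' := S'.presheaf.stalk (f' x')
  let B' := X'.presheaf.stalk x'
  let gA : A ⟶ A' := S.presheaf.stalkSpecializes (Specializes.of_eq hs.symm) ≫ g.stalkMap (f' x')
  let := algStalk f (u x')
  let := algStalk f' x'
  let : Algebra A A' := gA.hom.toAlgebra
  let : Algebra B B' := (u.stalkMap x').hom.toAlgebra
  let : Algebra A B' := ((u.stalkMap x').hom.comp (f.stalkMap (u x')).hom).toAlgebra
  have hcomm : f.stalkMap (u x') ≫ u.stalkMap x' = gA ≫ f'.stalkMap x' := by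
    refine hom_eq_of_fromSpecStalk ?_
    simp only [gA, Spec.map_comp, Category.assoc, Scheme.SpecMap_stalkSpecializes_fromSpecStalk,
      Scheme.SpecMap_stalkMap_fromSpecStalk, Scheme.SpecMap_stalkMap_fromSpecStalk_assoc, hsq.w]
  have : IsScalarTower A B B' := IsScalarTower.of_algebraMap_eq fun _ => rfl
  have : IsScalarTower A A' B' := IsScalarTower.of_algebraMap_eq fun a => congr($hcomm a)
  let P₀ := PP16.P n A B
  -- the base change of the ring of principal parts
  let R := CommRingCat.of (B' ⊗[B] P₀)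
  obtain ⟨εr, hloc, hεr, hεr1⟩ := exists_aug n A B B'
  let ε : R ⟶ B' := CommRingCat.ofHom εr.toRingHom
  have : IsLocalHom ε.hom := hloc
  have : IsLocalRing R := RingHom.domain_isLocalRing ε.hom
  let lB : B' ⟶ R := CommRingCat.ofHom (Algebra.TensorProduct.includeLeftRingHom (R := B) (A := B') (B := P₀))
  let rB : B ⟶ R := CommRingCat.ofHom
    ((Algebra.TensorProduct.includeRight : P₀ →ₐ[B] B' ⊗[B] P₀).toRingHom.comp (PP16.dn n A B).toRingHom)
  let lA : A' ⟶ R := f'.stalkMap x' ≫ lB
  have hlr : f.stalkMap (u x') ≫ rB = gA ≫ lA := by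
    ext a
    change (1 : B') ⊗ₜ[B] PP16.dn n A B (algebraMap A B a) = (f'.stalkMap x' (gA a)) ⊗ₜ[B] (1 : P₀)
    rw [AlgHom.commutes, IsScalarTower.algebraMap_apply A B P₀, Algebra.algebraMap_eq_smul_one,
      ← TensorProduct.smul_tmul, Algebra.smul_def, mul_one,
      show f'.stalkMap x' (gA a) = u.stalkMap x' (f.stalkMap (u x') a) from congr($hcomm a).symm]
    rfl
  let m : Spec R ⟶ X' := hsq.lift (Spec.map rB ≫ X.fromSpecStalk (u x'))
    (Spec.map lA ≫ S'.fromSpecStalk (f' x')) (by
      rw [Category.assoc, ← Scheme.SpecMap_stalkMap_fromSpecStalk, ← Category.assoc, ← Spec.map_comp, hlr,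
        Spec.map_comp, Category.assoc, Category.assoc]
      simp only [gA, Spec.map_comp, Category.assoc, Scheme.SpecMap_stalkSpecializes_fromSpecStalk,
        Scheme.SpecMap_stalkMap_fromSpecStalk])
  have hm : Spec.map ε ≫ m = X'.fromSpecStalk x' := by
    refine hsq.hom_ext ?_ ?_
    · rw [Category.assoc, hsq.lift_fst, ← Category.assoc, ← Spec.map_comp,
        ← Scheme.SpecMap_stalkMap_fromSpecStalk]
      congr 2
      ext b
      change εr ((1 : B') ⊗ₜ[B] PP16.dn n A B b) = u.stalkMap x' b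
      rw [hεr, one_mul]
      rfl
    · rw [Category.assoc, hsq.lift_snd, ← Category.assoc, ← Spec.map_comp,
        ← Scheme.SpecMap_stalkMap_fromSpecStalk]
      congr 2
      ext a
      change εr (f'.stalkMap x' a ⊗ₜ[B] (1 : P₀)) = f'.stalkMap x' a
      exact hεr1 _
  have hcp : m (IsLocalRing.closedPoint R) = x' := by
    have h₁ : m (Spec.map ε (IsLocalRing.closedPoint B')) =
        X'.fromSpecStalk x' (IsLocalRing.closedPoint B') := congr($hm (IsLocalRing.closedPoint B'))
    rw [Scheme.fromSpecStalk_closedPoint] at h₁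
    exact (congrArg m (IsLocalRing.comap_closedPoint ε.hom).symm).trans h₁
  let ψ : B' ⟶ R :=
    X'.presheaf.stalkSpecializes (Specializes.of_eq hcp) ≫ Scheme.stalkClosedPointTo m
  have hψ : Spec.map ψ ≫ X'.fromSpecStalk x' = m := by
    rw [Spec.map_comp, Category.assoc, Scheme.SpecMap_stalkSpecializes_fromSpecStalk]
    exact Scheme.Spec_stalkClosedPointTo_fromSpecStalk m
  have hψB : u.stalkMap x' ≫ ψ = rB := hom_eq_of_fromSpecStalk (by
    rw [Spec.map_comp, Category.assoc, Scheme.SpecMap_stalkMap_fromSpecStalk, ← Category.assoc, hψ,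
      hsq.lift_fst])
  have hψA : f'.stalkMap x' ≫ ψ = lA := hom_eq_of_fromSpecStalk (by
    rw [Spec.map_comp, Category.assoc, Scheme.SpecMap_stalkMap_fromSpecStalk, ← Category.assoc, hψ,
      hsq.lift_snd])
  let γ : B' →ₐ[A] B' ⊗[B] P₀ :=
    { ψ.hom with
      commutes' := fun a => by
        change ψ (algebraMap A B' a) = algebraMap A B' a ⊗ₜ[B] (1 : P₀)
        rw [IsScalarTower.algebraMap_apply A A' B']
        exact congr($hψA (algebraMap A A' a)) }
  have hext : ∀ {R : Type u} [CommRing R] (k k' : B' →+* R),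
      k.comp (algebraMap B B') = k'.comp (algebraMap B B') →
      k.comp (algebraMap A' B') = k'.comp (algebraMap A' B') → k = k' := by
    intro R _ k k' h₁ h₂
    suffices CommRingCat.ofHom k = CommRingCat.ofHom k' from congrArg CommRingCat.Hom.hom this
    refine hom_eq_of_fromSpecStalk (hsq.hom_ext ?_ ?_)
    · rw [Category.assoc, Category.assoc, ← Scheme.SpecMap_stalkMap_fromSpecStalk, ← Category.assoc,
        ← Category.assoc, ← Spec.map_comp, ← Spec.map_comp]
      exact congrArg (fun q => Spec.map q ≫ X.fromSpecStalk (u x')) (CommRingCat.hom_ext h₁)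
    · rw [Category.assoc, Category.assoc, ← Scheme.SpecMap_stalkMap_fromSpecStalk, ← Category.assoc,
        ← Category.assoc, ← Spec.map_comp, ← Spec.map_comp]
      exact congrArg (fun q => Spec.map q ≫ S'.fromSpecStalk (f' x')) (CommRingCat.hom_ext h₂)
  have hpo := Groth.Agent.PP16.isPushout_P n A B A' B' γ (fun b => congr($hψB b))
    (fun a => congr($hψA a)) hext
  -- compare with the stalks
  obtain ⟨Θ, hΘb, hΘs, hΘg⟩ := PPIso.exists_stalkEquiv f n (u x')
  obtain ⟨Θ', hΘ'b, hΘ's, hΘ'g⟩ := PPIso.exists_stalkEquiv f' n x'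
  let := moduleOver u (P f n) x'
  have : IsScalarTower B B' (((Scheme.Modules.pullback u).obj (P f n)).presheaf.stalk x') :=
    IsScalarTower.of_algebraMap_smul fun _ _ => rfl
  let T : ((Scheme.Modules.pullback u).obj (P f n)).presheaf.stalk x' →ₗ[B'] PP16.P n A' B' :=
    { toFun := fun τ => Θ' (stalkLin φ x' τ)
      map_add' := fun a b => by rw [map_add, map_add]
      map_smul' := fun c τ => by rw [map_smul, hΘ's]; rfl }
  let Θl : (P f n).presheaf.stalk (u x') ≃ₗ[B] PP16.P n A B :=
    LinearEquiv.ofBijective { toFun := Θ, map_add' := map_add Θ, map_smul' := hΘs } hΘb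
  let mp := (IsScalarTower.toAlgHom B (PP16.P n A B) (PP16.P n A' B')).toLinearMap
  have hb₁ := isBaseChange_unitStalk u (P f n) x'
  have hb₂ : IsBaseChange B' mp := hpo.out
  have key : ∀ τ, T (unitStalk u (P f n) x' τ) = mp (Θl τ) := by
    suffices H : ∀ q : PP16.P n A B, T (unitStalk u (P f n) x' (Θl.symm q)) = mp q from fun τ => by
      simpa using H (Θl τ)
    intro q
    have hq := (Groth.Agent.PP16.span_dn A (B := B) n).ge (Submodule.mem_top (x := q))
    induction hq using Submodule.span_induction with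
    | mem q hq =>
      obtain ⟨b, rfl⟩ := hq
      obtain ⟨U, hx, b, rfl⟩ := X.presheaf.exists_germ_eq (x := u x') b
      rw [show Θl.symm (PP16.dn n A B (X.presheaf.germ U (u x') hx b)) =
        germM (P f n) U (u x') hx (dn f n U b) from
          (LinearEquiv.symm_apply_eq Θl).mpr (hΘg U hx b).symm]
      change Θ' (stalkLin φ x' (unitStalkHom u (P f n) x' (germM (P f n) U (u x') hx (dn f n U b)))) =
        algebraMap (PP16.P n A B) (PP16.P n A' B') (PP16.dn n A B (X.presheaf.germ U (u x') hx b))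
      rw [show (algebraMap (PP16.P n A B) (PP16.P n A' B') : PP16.P n A B → PP16.P n A' B') = PP16.map n A B A' B' from rfl]
      rw [unitStalkHom_germ, stalkLin_germ, PP16.map_dn]
      refine (congrArg (fun m => Θ' (germM (P f' n) (u ⁻¹ᵁ U) x' hx m)) (hφ U b)).trans ?_
      rw [hΘ'g]
      exact congrArg _ (Scheme.Hom.germ_stalkMap_apply u U x' hx b).symm
    | zero => rw [map_zero, map_zero, map_zero, map_zero]
    | add a b _ _ ha hb => rw [map_add, map_add, map_add, map_add, ha, hb]
    | smul c a _ ha => rw [map_smul, map_smul, LinearMap.map_smul_of_tower, map_smul, ha]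
  let E := hb₁.equiv.symm ≪≫ₗ (LinearEquiv.baseChange B B' _ _ Θl) ≪≫ₗ hb₂.equiv
  have hTE : T = E.toLinearMap := hb₁.algHom_ext _ _ fun τ => by
    rw [key]
    change _ = hb₂.equiv (LinearEquiv.baseChange B B' _ _ Θl (hb₁.equiv.symm (unitStalk u (P f n) x' τ)))
    rw [IsBaseChange.equiv_symm_apply, LinearEquiv.baseChange_tmul, IsBaseChange.equiv_tmul, one_smul]
  have hT : Function.Bijective (fun τ => Θ' (stalkLin φ x' τ)) := by
    have h := E.bijective
    rwa [show (E : _ → _) = T from congrArg DFunLike.coe hTE.symm] at h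
  exact ⟨fun a b h => hT.1 (congrArg Θ' h), fun y => by
    obtain ⟨τ, hτ⟩ := hT.2 (Θ' y)
    exact ⟨τ, hΘ'b.1 hτ⟩⟩

end Groth.Agent.Omega.PPBaseChange

end
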