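import Groth.Agent.Omega.PPTop
import Groth.Agent.CycLib.ModStalk
import Groth.Agent.ZClosLib.CohDescent
import Mathlib.AlgebraicGeometry.Morphisms.Finite

/-!
# Finiteness of the neighbourhoods of the diagonal of a morphism locally of finite type
-/

set_option autoImplicit false

universe u

open CategoryTheory CategoryTheory.Limits AlgebraicGeometry TopologicalSpace Opposite

noncomputable section

namespace Groth.Agent.Omega.PPFinite

open PrinPart

variable {X S : Scheme.{u}} (f : X ⟶ S) (n : ℕ)

/-- A projection of the neighbourhood of the diagonal is finite as soon as it is lft. -/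
theorem isFinite_pr (p : nbhd f n ⟶ X) (hp : toNbhd f n ≫ p = 𝟙 X) [LocallyOfFiniteType p] :
    IsFinite p := by
  have : IsAffineHom p := PPTop.isAffineHom_pr f n p hp
  have : Surjective (toNbhd f n) := ⟨toInfNbhd_surjective (diagCl f) n⟩
  have : UniversallyClosed (toNbhd f n ≫ p) := by rw [hp]; infer_instance
  have : UniversallyClosed p := UniversallyClosed.of_comp_surjective (toNbhd f n) p
  exact (IsFinite.iff_isIntegralHom_and_locallyOfFiniteType (f := p)).mpr
    ⟨IsIntegralHom.iff_universallyClosed_and_isAffineHom.mpr ⟨inferInstance, inferInstance⟩,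
      inferInstance⟩

theorem locallyOfFiniteType_nbhdι : LocallyOfFiniteType (nbhdι f n) := by
  have : IsClosedImmersion (infNbhdι (diagCl f) n) :=
    inferInstanceAs (IsClosedImmersion ((diagCl f).ker ^ (n + 1)).subschemeι)
  unfold nbhdι
  infer_instance

theorem isFinite_pr1 [LocallyOfFiniteType f] : IsFinite (pr1 f n) := by
  have := locallyOfFiniteType_nbhdι f n
  have : LocallyOfFiniteType (pr1 f n) := by unfold pr1; infer_instance
  exact isFinite_pr f n _ (toNbhd_pr1 f n)

theorem isFinite_pr2 [LocallyOfFiniteType f] : IsFinite (pr2 f n) := by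
  have := locallyOfFiniteType_nbhdι f n
  have : LocallyOfFiniteType (pr2 f n) := by unfold pr2; infer_instance
  exact isFinite_pr f n _ (toNbhd_pr2 f n)

theorem isCoh_PMod [LocallyOfFiniteType f] (F : X.Modules) (hF : Coh.IsCoh F) :
    Coh.IsCoh (PMod f n F) := by
  have := isFinite_pr1 f n
  have h := ZClosLib.CohDescent.isCoh_pullback (f := pr2 f n) F hF
  have := h.1
  exact CycLib.isCoh_push _ (pr1 f n) h

end Groth.Agent.Omega.PPFinite

end
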