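import Groth.Prelude.Def_OmegaPn
import Groth.Agent.Omega.DiagUniv
import Groth.Agent.Omega.ConormalZero

/-!
# Sheaves of principal parts are locally generated by the sections `d^n t`
-/

set_option autoImplicit false

universe u

open CategoryTheory CategoryTheory.Limits AlgebraicGeometry TopologicalSpace Opposite

noncomputable section

namespace Groth.Agent.Omega.PPGen

open PrinPart OmegaSh Stalks StalkConormal StalkSeq ThickSeq
open Groth.Agent.PullStalk.Sky Groth.Agent.PullStalk.Exact Groth.Agent.PullStalk.Basic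

section Immersion

variable {X Y : Scheme.{u}} (i : Y ⟶ X) [IsClosedImmersion i] (n : ℕ)

omit [IsClosedImmersion i] in
theorem infNbhdι_stalkMap_surjective (z : infNbhd i n) :
    Function.Surjective ((infNbhdι i n).stalkMap z) := by
  have : IsClosedImmersion (infNbhdι i n) :=
    inferInstanceAs (IsClosedImmersion (i.ker ^ (n + 1)).subschemeι)
  exact (infNbhdι i n).stalkMap_surjective z

theorem toInfNbhd_ker_pow_eq_bot (y : Y) :
    RingHom.ker ((toInfNbhd i n).stalkMap y).hom ^ (n + 1) = ⊥ := by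
  let t := toInfNbhd i n
  let ι := infNbhdι i n
  have : IsClosedImmersion (t ≫ ι) := by rw [toInfNbhd_ι]; infer_instance
  obtain ⟨W, hW, hV, hy, -, hsurj⟩ := ConormalZero.exists_chart (t ≫ ι) y
  let S : CommRingCat := (infNbhd i n).presheaf.stalk (t y)
  let g : X.presheaf.stalk ((t ≫ ι) y) →+* S := (ι.stalkMap (t y)).hom
  have hs : Function.Surjective g := infNbhdι_stalkMap_surjective i n (t y)
  have hc : ((t ≫ ι).stalkMap y).hom = (t.stalkMap y).hom.comp g :=
    congrArg CommRingCat.Hom.hom (Scheme.Hom.stalkMap_comp t ι y)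
  have hker : RingHom.ker (t.stalkMap y).hom =
      (RingHom.ker ((t ≫ ι).stalkMap y).hom).map g := by
    rw [hc]
    exact ((congrArg (Ideal.map g) (RingHom.comap_ker (t.stalkMap y).hom g).symm).trans
      (Ideal.map_comap_of_surjective _ hs _)).symm
  rw [hker, ConormalZero.ker_stalkMap_eq (t ≫ ι) hW hV hy hsurj, Ideal.map_map, ← Ideal.map_pow,
    Ideal.map_eq_bot_iff_le_ker]
  intro a ha
  rw [show RingHom.ker ((t ≫ ι).app W).hom = i.ker.ideal ⟨W, hW⟩ from
      (Scheme.Hom.ker_apply (t ≫ ι) ⟨W, hW⟩).symm.trans (by rw [toInfNbhd_ι]),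
    show i.ker.ideal ⟨W, hW⟩ ^ (n + 1) = (i.ker ^ (n + 1)).ideal ⟨W, hW⟩ from rfl,
    ← Scheme.IdealSheafData.ker_subschemeι (I := i.ker ^ (n + 1)), Scheme.Hom.ker_apply] at ha
  change ι.stalkMap (t y) (X.presheaf.germ W _ hy a) = 0
  exact (Scheme.Hom.germ_stalkMap_apply ι W (t y) hy a).trans ((congrArg _ ha).trans (map_zero _))

theorem toInfNbhd_stalkMap_surjective (y : Y) :
    Function.Surjective ((toInfNbhd i n).stalkMap y) := by
  have h : Function.Surjective ((toInfNbhd i n ≫ infNbhdι i n).stalkMap y) := by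
    have : IsClosedImmersion (toInfNbhd i n ≫ infNbhdι i n) := by rw [toInfNbhd_ι]; infer_instance
    exact (toInfNbhd i n ≫ infNbhdι i n).stalkMap_surjective y
  rw [Scheme.Hom.stalkMap_comp] at h
  exact Function.Surjective.of_comp
    (f := (toInfNbhd i n).stalkMap y) (g := (infNbhdι i n).stalkMap (toInfNbhd i n y)) h

end Immersion

section Diagonal

variable {X S : Scheme.{u}} (f : X ⟶ S) (n : ℕ)

theorem nbhdι_stalkMap_surjective (z : nbhd f n) : Function.Surjective ((nbhdι f n).stalkMap z) := by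
  rw [nbhdι, Scheme.Hom.stalkMap_comp]
  have : IsIso ((pullback.diagonal f).coborderRange.ι.stalkMap (infNbhdι (diagCl f) n z)) := inferInstance
  exact (infNbhdι_stalkMap_surjective (diagCl f) n z).comp
    (ConcreteCategory.bijective_of_isIso
      ((pullback.diagonal f).coborderRange.ι.stalkMap (infNbhdι (diagCl f) n z))).2

theorem square_pr (p : nbhd f n ⟶ X) (hp : toNbhd f n ≫ p = 𝟙 X) :
    (𝟙 X) ≫ (𝟙 X) = toNbhd f n ≫ p := by rw [hp, Category.id_comp]

/-- A projection on local rings of the neighbourhood of the diagonal. -/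
abbrev prN (p : nbhd f n ⟶ X) (hp : toNbhd f n ≫ p = 𝟙 X) (x : X) :
    X.presheaf.stalk x ⟶ (nbhd f n).presheaf.stalk (toNbhd f n x) :=
  σ (square_pr f n p hp) x

theorem nbhdι_toNbhd (x : X) : nbhdι f n (toNbhd f n x) = pullback.diagonal f x :=
  congr($(toNbhd_ι f n) x)

/-- The canonical map of local rings `O_{X×X, Δx} ⟶ O_{N, x}`. -/
abbrev toN (x : X) :
    (pullback f f).presheaf.stalk (pullback.diagonal f x) ⟶ (nbhd f n).presheaf.stalk (toNbhd f n x) :=
  (pullback f f).presheaf.stalkSpecializes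
    (Specializes.of_eq (nbhdι_toNbhd f n x)) ≫ (nbhdι f n).stalkMap (toNbhd f n x)

theorem toN_surjective (x : X) : Function.Surjective (toN f n x) :=
  (nbhdι_stalkMap_surjective f n _).comp
    (ConcreteCategory.bijective_of_isIso ((pullback f f).presheaf.stalkCongr
      (.of_eq (nbhdι_toNbhd f n x).symm)).hom).2

theorem toN_stalkMap (x : X) :
    toN f n x ≫ (toNbhd f n).stalkMap x = (pullback.diagonal f).stalkMap x := by
  refine hom_eq_of_fromSpecStalk ?_
  simp only [toN, Spec.map_comp, Category.assoc, Scheme.SpecMap_stalkSpecializes_fromSpecStalk,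
    Scheme.SpecMap_stalkMap_fromSpecStalk, Scheme.SpecMap_stalkMap_fromSpecStalk_assoc, toNbhd_ι]

theorem pr_toN (x : X) (p₀ : pullback f f ⟶ X) (h₀ : pullback.diagonal f ≫ p₀ = 𝟙 X)
    (p : nbhd f n ⟶ X) (hp : toNbhd f n ≫ p = 𝟙 X) (hpp : nbhdι f n ≫ p₀ = p) :
    DiagUniv.pr f p₀ h₀ x ≫ toN f n x = prN f n p hp x := by
  refine hom_eq_of_fromSpecStalk ?_
  rw [Spec.map_comp, Category.assoc,
    show Spec.map (DiagUniv.pr f p₀ h₀ x) ≫ X.fromSpecStalk x = _ from
      ThickSeq.SpecMap_σ_fromSpecStalk (DiagUniv.square f p₀ h₀) x,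
    show Spec.map (prN f n p hp x) ≫ X.fromSpecStalk x = _ from
      ThickSeq.SpecMap_σ_fromSpecStalk (square_pr f n p hp) x]
  simp only [toN, Spec.map_comp, Category.assoc, Scheme.SpecMap_stalkSpecializes_fromSpecStalk_assoc,
    Scheme.SpecMap_stalkMap_fromSpecStalk_assoc, hpp]

/-- Elements of the local ring of the neighbourhood are generated by the two projections. -/
theorem mem_closure_stalk (x : X) (a : (nbhd f n).presheaf.stalk (toNbhd f n x)) :
    a ∈ AddSubgroup.closure (Set.range fun b : X.presheaf.stalk x × X.presheaf.stalk x =>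
      prN f n _ (toNbhd_pr1 f n) x b.1 * prN f n _ (toNbhd_pr2 f n) x b.2) := by
  set s₁ := prN f n _ (toNbhd_pr1 f n) x
  set s₂ := prN f n _ (toNbhd_pr2 f n) x
  let T := AddSubgroup.closure
    (Set.range fun b : X.presheaf.stalk x × X.presheaf.stalk x => s₁ b.1 * s₂ b.2)
  have hT1 : ∀ b₁ b₂, s₁ b₁ * s₂ b₂ ∈ T := fun b₁ b₂ => AddSubgroup.subset_closure ⟨(b₁, b₂), rfl⟩
  have hTmul : ∀ c ∈ T, ∀ d ∈ T, c * d ∈ T := fun c hc d hd => by
    induction hc using AddSubgroup.closure_induction with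
    | mem c hc =>
      obtain ⟨⟨b₁, b₂⟩, rfl⟩ := hc
      induction hd using AddSubgroup.closure_induction with
      | mem d hd =>
        obtain ⟨⟨c₁, c₂⟩, rfl⟩ := hd
        change s₁ b₁ * s₂ b₂ * (s₁ c₁ * s₂ c₂) ∈ T
        rw [show s₁ b₁ * s₂ b₂ * (s₁ c₁ * s₂ c₂) = s₁ (b₁ * c₁) * s₂ (b₂ * c₂) by
          rw [map_mul, map_mul]; ring]
        exact hT1 _ _
      | zero => rw [mul_zero]; exact T.zero_mem
      | add a b _ _ ha hb => rw [mul_add]; exact T.add_mem ha hb
      | neg a _ ha => rw [mul_neg]; exact T.neg_mem ha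
    | zero => rw [zero_mul]; exact T.zero_mem
    | add a b _ _ ha hb => rw [add_mul]; exact T.add_mem ha hb
    | neg a _ ha => rw [neg_mul]; exact T.neg_mem ha
  let K := RingHom.ker ((toNbhd f n).stalkMap x).hom
  have hKspan : K = Ideal.span (Set.range fun b => s₂ b - s₁ b) := by
    have hc : ((pullback.diagonal f).stalkMap x).hom =
        ((toNbhd f n).stalkMap x).hom.comp (toN f n x).hom :=
      congrArg CommRingCat.Hom.hom (toN_stalkMap f n x).symm
    have h := DiagUniv.ker_eq_span f x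
    rw [hc, ← RingHom.comap_ker] at h
    rw [show K = ((RingHom.ker ((toNbhd f n).stalkMap x).hom).comap (toN f n x).hom).map
      (toN f n x).hom from (Ideal.map_comap_of_surjective _ (toN_surjective f n x) _).symm, h,
      Ideal.map_span, ← Set.range_comp]
    congr 2
    funext b
    change toN f n x (DiagUniv.diff f x b) = s₂ b - s₁ b
    rw [DiagUniv.diff, map_sub]
    exact congr_arg₂ (· - ·) congr($(pr_toN f n x _ (pullback.diagonal_snd f) _ (toNbhd_pr2 f n) rfl) b)
      congr($(pr_toN f n x _ (pullback.diagonal_fst f) _ (toNbhd_pr1 f n) rfl) b)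
  have hmain : ∀ r, ∃ c, r - s₁ c ∈ K := fun r => by
    refine ⟨(toNbhd f n).stalkMap x r, ?_⟩
    rw [RingHom.mem_ker, map_sub, sub_eq_zero]
    refine ((stalkMap_σ (square_pr f n _ (toNbhd_pr1 f n)) x _).trans ?_).symm
    exact (congr($(Scheme.Hom.stalkMap_id X x) _)).trans (congr($(Scheme.Hom.stalkMap_id X x) _))
  have hdiff : ∀ b, s₂ b - s₁ b ∈ T := fun b => by
    have h1 := hT1 1 b
    have h2 := hT1 b 1
    rw [map_one, one_mul] at h1
    rw [map_one, mul_one] at h2
    exact T.sub_mem h1 h2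
  have hstep : ∀ j : ℕ, ∀ r ∈ K, ∃ t ∈ T, r - t ∈ K ^ (j + 1) := by
    intro j
    induction j with
    | zero => exact fun r hr => ⟨0, T.zero_mem, by simpa using hr⟩
    | succ j ih =>
      intro r hr
      obtain ⟨t, ht, hrt⟩ := ih r hr
      suffices H : ∀ r' ∈ K ^ (j + 1), ∃ t ∈ T, r' - t ∈ K ^ (j + 1 + 1) by
        obtain ⟨t', ht', hrt'⟩ := H _ hrt
        exact ⟨t + t', T.add_mem ht ht', by rwa [← sub_sub]⟩
      clear! r t
      intro r' hr'
      induction j generalizing r' with
      | zero =>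
        rw [zero_add, pow_one] at hr'
        have hr'' := hr'
        rw [hKspan] at hr''
        clear hr'
        induction hr'' using Submodule.span_induction with
        | mem y hy => obtain ⟨b, rfl⟩ := hy; exact ⟨_, hdiff b, by simp⟩
        | zero => exact ⟨0, T.zero_mem, by simp⟩
        | add a b _ _ ha hb =>
          obtain ⟨ta, hta, ha⟩ := ha
          obtain ⟨tb, htb, hb⟩ := hb
          exact ⟨ta + tb, T.add_mem hta htb, by rw [add_sub_add_comm]; exact add_mem ha hb⟩
        | smul c y hy hy' =>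
          obtain ⟨c₀, hc⟩ := hmain c
          obtain ⟨ty, hty, hy'⟩ := hy'
          refine ⟨s₁ c₀ * ty, hTmul _ (by simpa using hT1 c₀ 1) _ hty, ?_⟩
          rw [smul_eq_mul, show c * y - s₁ c₀ * ty = (c - s₁ c₀) * y + s₁ c₀ * (y - ty) by ring]
          refine add_mem ?_ (Ideal.mul_mem_left _ _ hy')
          rw [pow_succ, pow_one]
          exact Ideal.mul_mem_mul hc (hKspan.ge hy)
      | succ j ihj =>
        rw [pow_succ] at hr'
        induction hr' using Submodule.mul_induction_on' with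
        | mem_mul_mem a ha b hb =>
          obtain ⟨ta, hta, hta'⟩ := ihj (fun r hr => by
            obtain ⟨t, ht, hrt⟩ := ih r hr
            exact ⟨t, ht, Ideal.pow_le_pow_right (Nat.le_succ _) hrt⟩) a ha
          obtain ⟨tb, htb, htb'⟩ : ∃ t ∈ T, b - t ∈ K ^ 2 := by
            have hb' := hKspan.le hb
            clear hb
            induction hb' using Submodule.span_induction with
            | mem y hy => obtain ⟨b, rfl⟩ := hy; exact ⟨_, hdiff b, by simp⟩
            | zero => exact ⟨0, T.zero_mem, by simp⟩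
            | add a b _ _ ha hb =>
              obtain ⟨ta, hta, ha⟩ := ha
              obtain ⟨tb, htb, hb⟩ := hb
              exact ⟨ta + tb, T.add_mem hta htb, by rw [add_sub_add_comm]; exact add_mem ha hb⟩
            | smul c y hy hy' =>
              obtain ⟨c₀, hc⟩ := hmain c
              obtain ⟨ty, hty, hy'⟩ := hy'
              refine ⟨s₁ c₀ * ty, hTmul _ (by simpa using hT1 c₀ 1) _ hty, ?_⟩
              rw [smul_eq_mul, show c * y - s₁ c₀ * ty = (c - s₁ c₀) * y + s₁ c₀ * (y - ty) by ring]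
              refine add_mem ?_ (Ideal.mul_mem_left _ _ hy')
              rw [pow_two]
              exact Ideal.mul_mem_mul hc (hKspan.ge hy)
          refine ⟨ta * tb, hTmul _ hta _ htb, ?_⟩
          rw [show a * b - ta * tb = a * (b - tb) + (a - ta) * tb by ring]
          have htbK : tb ∈ K := by
            rw [show tb = b - (b - tb) by ring]
            exact sub_mem hb (Ideal.pow_le_self two_ne_zero htb')
          refine add_mem ?_ ?_
          · have := Ideal.mul_mem_mul ha htb'
            rwa [← pow_add] at this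
          · have := Ideal.mul_mem_mul hta' htbK
            rwa [← pow_succ] at this
        | add a _ b _ ha hb =>
          obtain ⟨ta, hta, ha⟩ := ha
          obtain ⟨tb, htb, hb⟩ := hb
          exact ⟨ta + tb, T.add_mem hta htb, by rw [add_sub_add_comm]; exact add_mem ha hb⟩
  obtain ⟨c, hc⟩ := hmain a
  obtain ⟨t, ht, hrt⟩ := hstep n _ hc
  rw [toInfNbhd_ker_pow_eq_bot (diagCl f) n x, Ideal.mem_bot, sub_eq_zero] at hrt
  rw [show a = s₁ c + t by rw [← hrt]; ring]
  exact T.add_mem (by simpa using hT1 c 1) ht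

variable (F : X.Modules)

theorem dP_germ (x : X) (U : X.Opens) (hx : x ∈ U) (t : Γ(F, U)) :
    germM ((Scheme.Modules.pullback (pr2 f n)).obj F) (pr1 f n ⁻¹ᵁ U) (toNbhd f n x)
        (show pr1 f n (toNbhd f n x) ∈ U by rwa [← Scheme.Hom.comp_apply, toNbhd_pr1]) (dP f n F U t) =
      unitStalkHom (pr2 f n) F (toNbhd f n x)
        (germM F U (pr2 f n (toNbhd f n x))
          (show pr2 f n (toNbhd f n x) ∈ U by rwa [← Scheme.Hom.comp_apply, toNbhd_pr2]) t) :=
  (TopCat.Presheaf.germ_res_apply ((Scheme.Modules.pullback (pr2 f n)).obj F).presheaf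
    (homOfLE (preimage_pr1 f n U).le) _ _ _).trans (unitStalkHom_germ (pr2 f n) F _ U _ t).symm

/-- Near each point a section of a sheaf of principal parts is a combination of sections `d^n t`. -/
theorem exists_local_span (U : X.Opens) (w : Γ(PMod f n F, U)) (x : X) (hx : x ∈ U) :
    ∃ (U' : X.Opens) (h : U' ≤ U), x ∈ U' ∧
      (PMod f n F).presheaf.map (homOfLE h).op w ∈
        Submodule.span Γ(X, U') (Set.range (dP f n F U')) := by
  let M := (Scheme.Modules.pullback (pr2 f n)).obj F
  let z := toNbhd f n x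
  have hz1 : pr1 f n z = x := congr($(toNbhd_pr1 f n) x)
  have hz2 : pr2 f n z = x := congr($(toNbhd_pr2 f n) x)
  have hmap : ∀ {A B : X.Opens} (h : B ≤ A) (v : Γ(PMod f n F, A)),
      v ∈ Submodule.span Γ(X, A) (Set.range (dP f n F A)) →
      (PMod f n F).presheaf.map (homOfLE h).op v ∈ Submodule.span Γ(X, B) (Set.range (dP f n F B)) := by
    intro A B h v hv
    induction hv using Submodule.span_induction with
    | mem v hv =>
      obtain ⟨t, rfl⟩ := hv
      rw [← dP_map]
      exact Submodule.subset_span ⟨_, rfl⟩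
    | zero => rw [map_zero]; exact Submodule.zero_mem _
    | add a b _ _ ha hb => rw [map_add]; exact Submodule.add_mem _ ha hb
    | smul r a _ ha => rw [Scheme.Modules.map_smul]; exact Submodule.smul_mem _ _ ha
  let T : Set (M.presheaf.stalk z) := {τ | ∃ (U' : X.Opens) (hx' : x ∈ U'),
    ∃ v ∈ Submodule.span Γ(X, U') (Set.range (dP f n F U')),
      germM M (pr1 f n ⁻¹ᵁ U') z (show pr1 f n z ∈ U' from hz1.symm ▸ hx') v = τ}
  have hT0 : (0 : M.presheaf.stalk z) ∈ T :=
    ⟨⊤, trivial, 0, Submodule.zero_mem _, map_zero _⟩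
  have hTadd : ∀ a ∈ T, ∀ b ∈ T, a + b ∈ T := by
    rintro _ ⟨A, hA, a, ha, rfl⟩ _ ⟨B, hB, b, hb, rfl⟩
    refine ⟨A ⊓ B, ⟨hA, hB⟩, _, Submodule.add_mem _ (hmap inf_le_left a ha) (hmap inf_le_right b hb), ?_⟩
    refine (map_add _ _ _).trans (congr_arg₂ (· + ·) ?_ ?_)
    · exact TopCat.Presheaf.germ_res_apply M.presheaf (homOfLE ((pr1 f n).preimage_mono inf_le_left)) _ _ a
    · exact TopCat.Presheaf.germ_res_apply M.presheaf (homOfLE ((pr1 f n).preimage_mono inf_le_right)) _ _ b
  have hTneg : ∀ a ∈ T, -a ∈ T := by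
    rintro _ ⟨A, hA, a, ha, rfl⟩
    exact ⟨A, hA, -a, Submodule.neg_mem _ ha, map_neg _ _⟩
  have hT1 : ∀ (c : X.presheaf.stalk x), ∀ a ∈ T,
      prN f n _ (toNbhd_pr1 f n) x c • a ∈ T := by
    rintro c _ ⟨A, hA, a, ha, rfl⟩
    obtain ⟨V, hV, c, rfl⟩ := X.presheaf.exists_germ_eq (x := x) c
    have hσ : prN f n _ (toNbhd_pr1 f n) x (X.presheaf.germ V x hV c) =
        (nbhd f n).presheaf.germ (pr1 f n ⁻¹ᵁ V) z (show pr1 f n z ∈ V from hz1.symm ▸ hV)
          ((pr1 f n).app V c) := σ_germ (square_pr f n _ (toNbhd_pr1 f n)) x V hV c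
    refine ⟨A ⊓ V, ⟨hA, hV⟩, X.presheaf.map (homOfLE inf_le_right).op c •
      (PMod f n F).presheaf.map (homOfLE inf_le_left).op a,
      Submodule.smul_mem _ _ (hmap inf_le_left a ha), ?_⟩
    change germM M (pr1 f n ⁻¹ᵁ (A ⊓ V)) z _ ((pr1 f n).app (A ⊓ V) (X.presheaf.map (homOfLE
      (inf_le_right : A ⊓ V ≤ V)).op c) • M.presheaf.map (homOfLE ((pr1 f n).preimage_mono
        (inf_le_left : A ⊓ V ≤ A))).op a) = _
    rw [germM_smul, hσ]
    refine congr_arg₂ (· • ·) ?_ (TopCat.Presheaf.germ_res_apply M.presheaf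
      (homOfLE ((pr1 f n).preimage_mono (inf_le_left : A ⊓ V ≤ A))) _ _ a)
    exact (congrArg _ (congr($((pr1 f n).naturality (homOfLE (inf_le_right : A ⊓ V ≤ V)).op) c))).trans
      ((nbhd f n).presheaf.germ_res_apply _ _ _ _)
  have hTu : ∀ τ : F.presheaf.stalk (pr2 f n z), unitStalkHom (pr2 f n) F z τ ∈ T := by
    intro τ
    obtain ⟨V, hV, t, rfl⟩ := exists_germM_eq F _ τ
    have hV' : x ∈ V := hz2 ▸ hV
    exact ⟨V, hV', dP f n F V t, Submodule.subset_span ⟨t, rfl⟩, dP_germ f n F x V hV' t⟩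
  have hTr : ∀ (r : (nbhd f n).presheaf.stalk z) τ, r • unitStalkHom (pr2 f n) F z τ ∈ T := by
    intro r τ
    induction mem_closure_stalk f n x r using AddSubgroup.closure_induction with
    | mem r hr =>
      obtain ⟨⟨b₁, b₂⟩, rfl⟩ := hr
      dsimp only
      rw [mul_smul]
      refine hT1 b₁ _ ?_
      rw [show prN f n _ (toNbhd_pr2 f n) x b₂ = (pr2 f n).stalkMap z
        (X.presheaf.stalkSpecializes (Specializes.of_eq hz2) b₂) from rfl, ← unitStalkHom_smul]
      exact hTu _
    | zero => rw [zero_smul]; exact hT0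
    | add a b _ _ ha hb => rw [add_smul]; exact hTadd _ ha _ hb
    | neg a _ ha => rw [neg_smul]; exact hTneg _ ha
  have hall : ∀ τ : M.presheaf.stalk z, τ ∈ T := by
    let L := Submodule.span ((nbhd f n).presheaf.stalk z) (Set.range (unitStalkHom (pr2 f n) F z))
    have h0 : L.mkQ = 0 := hom_eq_of_unitStalk _ _ _ fun t =>
      (Submodule.Quotient.mk_eq_zero L).mpr (Submodule.subset_span ⟨t, rfl⟩)
    intro τ
    have hτ : τ ∈ L := (Submodule.Quotient.mk_eq_zero L).mp (LinearMap.congr_fun h0 τ)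
    have : ∀ r : (nbhd f n).presheaf.stalk z, r • τ ∈ T := by
      induction hτ using Submodule.span_induction with
      | mem v hv => obtain ⟨t, rfl⟩ := hv; exact fun r => hTr r t
      | zero => exact fun r => by rw [smul_zero]; exact hT0
      | add a b _ _ ha hb => exact fun r => by rw [smul_add]; exact hTadd _ (ha r) _ (hb r)
      | smul s a _ ha => exact fun r => by rw [smul_smul]; exact ha _
    simpa using this 1
  have hzU : pr1 f n z ∈ U := hz1.symm ▸ hx
  obtain ⟨A, hA, v, hv, hva⟩ := hall (germM M (pr1 f n ⁻¹ᵁ U) z hzU w)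
  obtain ⟨W, hzW, i₁, i₂, he⟩ := M.presheaf.germ_eq z (show pr1 f n z ∈ A from hz1.symm ▸ hA) hzU v w hva
  let U' := A ⊓ U ⊓ toNbhd f n ⁻¹ᵁ W
  have hle : pr1 f n ⁻¹ᵁ U' ≤ W := by
    intro y hy
    obtain ⟨q, rfl⟩ := toInfNbhd_surjective (diagCl f) n y
    have hq : pr1 f n (toNbhd f n q) = q := congr($(toNbhd_pr1 f n) q)
    exact (show q ∈ U' from hq ▸ hy).2
  refine ⟨U', fun y hy => hy.1.2, ⟨⟨hA, hx⟩, hzW⟩, ?_⟩
  convert hmap (show U' ≤ A from fun y hy => hy.1.1) v hv using 1
  have := congrArg (M.presheaf.map (homOfLE hle).op) he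
  rw [resM_resM, resM_resM] at this
  exact this.symm

/-- An `O_X`-linear map out of a sheaf of principal parts is determined on the `d^n t`. -/
theorem hom_ext_dP {G : X.Modules} {a b : PMod f n F ⟶ G}
    (h : ∀ (U : X.Opens) (t : Γ(F, U)), a.app U (dP f n F U t) = b.app U (dP f n F U t)) : a = b := by
  ext U w
  refine TopCat.Sheaf.eq_of_locally_eq' ⟨G.presheaf, G.isSheaf⟩
    (fun q : {x : X // x ∈ U} => (exists_local_span f n F U w q.1 q.2).choose) U
    (fun q => homOfLE (exists_local_span f n F U w q.1 q.2).choose_spec.choose)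
    (fun y hy => TopologicalSpace.Opens.mem_iSup.mpr
      ⟨⟨y, hy⟩, (exists_local_span f n F U w y hy).choose_spec.choose_spec.1⟩) _ _ fun q => ?_
  obtain ⟨-, hspan⟩ := (exists_local_span f n F U w q.1 q.2).choose_spec.choose_spec
  set V := (exists_local_span f n F U w q.1 q.2).choose
  have hVU : V ≤ U := (exists_local_span f n F U w q.1 q.2).choose_spec.choose
  refine (NatTrans.naturality_apply a.mapPresheaf (homOfLE hVU).op w).symm.trans
    (Eq.trans ?_ (NatTrans.naturality_apply b.mapPresheaf (homOfLE hVU).op w))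
  change a.app V ((PMod f n F).presheaf.map (homOfLE hVU).op w) = b.app V _
  generalize (PMod f n F).presheaf.map (homOfLE hVU).op w = v at hspan ⊢
  induction hspan using Submodule.span_induction with
  | mem v hv => obtain ⟨t, rfl⟩ := hv; exact h V t
  | zero => rw [map_zero, map_zero]
  | add a' b' _ _ ha hb => rw [map_add, map_add, ha, hb]
  | smul r v _ hv => rw [Scheme.Modules.Hom.app_smul, Scheme.Modules.Hom.app_smul, hv]

end Diagonal

end Groth.Agent.Omega.PPGen

end
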