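import Groth.Agent.Omega.PPOp

/-!
# Differential operators satisfy the commutator conditions
-/

set_option autoImplicit false

universe u

open CategoryTheory CategoryTheory.Limits AlgebraicGeometry TopologicalSpace Opposite

noncomputable section

namespace Groth.Agent.Omega.PPNec

open PrinPart PPGen PPOp
open Groth.Agent.PullStalk.Sky

variable {X S : Scheme.{u}} (f : X ⟶ S) {F G : X.Modules}

/-- The map on sections of a map of abelian sheaves, linear over the integers. -/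
def secD (D : F.presheaf ⟶ G.presheaf) (U : X.Opens) : Γ(F, U) →ₗ[Zu.{u}] Γ(G, U) where
  toFun := D.app (op U)
  map_add' := map_add _
  map_smul' c t := map_zsmul (D.app (op U)).hom c.down t

/-- The order of a map of abelian sheaves, on sections. -/
def SectOrdLE (n : ℕ) (D : F.presheaf ⟶ G.presheaf) : Prop :=
  ∀ U : X.Opens, Diff16.IsDiffOpLE Zu.{u} Γ(X, U) Γ(F, U) Γ(G, U) n (secD D U)

/-- `d^n` with values in the sections of the pullback along the second projection. -/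
def dPN (n : ℕ) (F : X.Modules) (U : X.Opens) :
    Γ(F, U) →+ Γ((Scheme.Modules.pullback (pr2 f n)).obj F, pr1 f n ⁻¹ᵁ U) :=
  dP f n F U

/-- The comorphism of the second projection, over the preimage under the first one. -/
def s₂ (n : ℕ) (U : X.Opens) : Γ(X, U) →+* Γ(nbhd f n, pr1 f n ⁻¹ᵁ U) :=
  ((nbhd f n).presheaf.map (homOfLE (preimage_pr1 f n U).le).op).hom.comp ((pr2 f n).app U).hom

theorem dP_smul (n : ℕ) (U : X.Opens) (r : Γ(X, U)) (t : Γ(F, U)) :
    dPN f n F U (r • t) = s₂ f n U r • dPN f n F U t := by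
  change ((Scheme.Modules.pullback (pr2 f n)).obj F).presheaf.map _
      (OmegaSh.pullSect (pr2 f n) F U (r • t)) = _
  rw [OmegaSh.pullSect_smul, Scheme.Modules.map_smul]
  rfl

theorem germ_s₂ (n : ℕ) (U : X.Opens) (r : Γ(X, U)) (x : X) (hx : x ∈ U)
    (hz : pr1 f n (toNbhd f n x) ∈ U) :
    (nbhd f n).presheaf.germ (pr1 f n ⁻¹ᵁ U) (toNbhd f n x) hz (s₂ f n U r) =
      prN f n _ (toNbhd_pr2 f n) x (X.presheaf.germ U x hx r) := by
  refine ((nbhd f n).presheaf.germ_res_apply (homOfLE (preimage_pr1 f n U).le) _ hz _).trans ?_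
  exact (StalkSeq.σ_germ (square_pr f n _ (toNbhd_pr2 f n)) x U hx r).symm

theorem prod_delta_eq_zero (n : ℕ) (U : X.Opens) (b : Fin (n + 1) → Γ(X, U)) :
    ∏ i, (s₂ f n U (b i) - (pr1 f n).app U (b i)) = 0 := by
  refine TopCat.Presheaf.section_ext (nbhd f n).sheaf _ _ _ fun z hz => ?_
  obtain ⟨x, rfl⟩ := toInfNbhd_surjective (diagCl f) n z
  have hx : x ∈ U := by
    have h1 : pr1 f n (toNbhd f n x) = x := congr($(toNbhd_pr1 f n) x)
    exact h1 ▸ hz
  refine Eq.trans ?_ (map_zero _).symm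
  change ((nbhd f n).presheaf.germ (pr1 f n ⁻¹ᵁ U) (toNbhd f n x) hz).hom (∏ i, _) = 0
  rw [map_prod]
  have key : ∀ i, ((nbhd f n).presheaf.germ (pr1 f n ⁻¹ᵁ U) (toNbhd f n x) hz).hom
      (s₂ f n U (b i) - (pr1 f n).app U (b i)) ∈
        RingHom.ker ((toNbhd f n).stalkMap x).hom := fun i => by
    rw [RingHom.mem_ker, map_sub, map_sub, sub_eq_zero, germ_s₂ f n U (b i) x hx hz,
      ← show prN f n _ (toNbhd_pr1 f n) x (X.presheaf.germ U x hx (b i)) = _ from
        StalkSeq.σ_germ (square_pr f n _ (toNbhd_pr1 f n)) x U hx (b i)]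
    exact (StalkSeq.stalkMap_σ (square_pr f n _ (toNbhd_pr2 f n)) x _).trans
      (StalkSeq.stalkMap_σ (square_pr f n _ (toNbhd_pr1 f n)) x _).symm
  have h := Ideal.prod_mem_prod (s := Finset.univ)
    (I := fun _ : Fin (n + 1) => RingHom.ker ((toNbhd f n).stalkMap x).hom) fun i _ => key i
  rw [Finset.prod_const, Finset.card_univ, Fintype.card_fin, toInfNbhd_ker_pow_eq_bot] at h
  exact h

theorem sectOrdLE_of_isDiffOpLE {n : ℕ} {D : F.presheaf ⟶ G.presheaf}
    (hD : IsDiffOpLE f F G n D) : SectOrdLE n D := by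
  obtain ⟨u, hu⟩ := hD
  intro U
  let M := (Scheme.Modules.pullback (pr2 f n)).obj F
  let E (e : Γ(nbhd f n, pr1 f n ⁻¹ᵁ U)) : Γ(F, U) →ₗ[Zu.{u}] Γ(G, U) :=
    { toFun := fun t => u.app U
        (e • dPN f n F U t)
      map_add' := fun t t' =>
        (congrArg (u.app U) ((congrArg (e • ·) (map_add (dPN f n F U) t t')).trans
          (smul_add (A := Γ(M, pr1 f n ⁻¹ᵁ U)) e _ _))).trans (map_add (u.app U).hom _ _)
      map_smul' := fun c t =>
        (congrArg (u.app U) ((congrArg (e • ·) (map_zsmul (dPN f n F U) c.down t)).trans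
          (smul_comm (α := Γ(M, pr1 f n ⁻¹ᵁ U)) e c.down _))).trans (map_zsmul (u.app U).hom c.down _) }
  have h1 : secD D U = E 1 := LinearMap.ext fun t =>
    (hu U t).trans (congrArg (u.app U) (one_smul Γ(nbhd f n, pr1 f n ⁻¹ᵁ U)
      (dPN f n F U t)).symm)
  have hc : ∀ e b, Diff16.commutator Zu.{u} Γ(X, U) Γ(F, U) Γ(G, U) (E e) b =
      E (e * (s₂ f n U b - (pr1 f n).app U b)) := fun e b => LinearMap.ext fun t => by
    rw [Diff16.comm_apply]
    change u.app U _ - b • u.app U _ = u.app U _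
    rw [← Scheme.Modules.Hom.app_smul, ← map_sub, dP_smul]
    refine congrArg (u.app U) ?_
    change e • (s₂ f n U b • (dPN f n F U t)) -
      (pr1 f n).app U b • (e • (dPN f n F U t)) =
        (e * (s₂ f n U b - (pr1 f n).app U b)) • (dPN f n F U t)
    rw [smul_smul, smul_smul, ← sub_smul, mul_sub, mul_comm ((pr1 f n).app U b) e]
  have h0 : E 0 = 0 := LinearMap.ext fun t =>
    (congrArg (u.app U) (zero_smul Γ(nbhd f n, pr1 f n ⁻¹ᵁ U)
      (dPN f n F U t))).trans (map_zero (u.app U).hom)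
  have main : ∀ (k : ℕ) (e : Γ(nbhd f n, pr1 f n ⁻¹ᵁ U)),
      (∀ b : Fin (k + 1) → Γ(X, U), e * ∏ i, (s₂ f n U (b i) - (pr1 f n).app U (b i)) = 0) →
      Diff16.IsDiffOpLE Zu.{u} Γ(X, U) Γ(F, U) Γ(G, U) k (E e) := by
    intro k
    induction k with
    | zero =>
      intro e he
      refine (Diff16.isDiffOpLE_zero_iff_comm _).2 fun b => ?_
      have := he fun _ => b
      rw [Fin.prod_univ_one] at this
      rw [hc, this, h0]
    | succ k ih =>
      intro e he b
      rw [hc]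
      refine ih _ fun c => ?_
      have := he (Fin.cons b c)
      rw [Fin.prod_univ_succ] at this
      simpa [mul_assoc] using this
  rw [h1]
  exact main n 1 fun b => by rw [prod_delta_eq_zero, mul_zero]

theorem exists_common_rep {x : X} : ∀ (k : ℕ) (b : Fin k → X.presheaf.stalk x) (τ : F.presheaf.stalk x),
    ∃ (U : X.Opens) (hx : x ∈ U) (c : Fin k → Γ(X, U)) (t : Γ(F, U)),
      (∀ i, X.presheaf.germ U x hx (c i) = b i) ∧ germM F U x hx t = τ := by
  intro k
  induction k with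
  | zero =>
    intro b τ
    obtain ⟨U, hx, t, ht⟩ := exists_germM_eq F x τ
    exact ⟨U, hx, Fin.elim0, t, fun i => i.elim0, ht⟩
  | succ k ih =>
    intro b τ
    obtain ⟨U, hx, c, t, hc, ht⟩ := ih (b ∘ Fin.succ) τ
    obtain ⟨V, hV, c₀, hc₀⟩ := X.presheaf.exists_germ_eq (x := x) (b 0)
    refine ⟨U ⊓ V, ⟨hx, hV⟩, Fin.cons (X.presheaf.map (homOfLE inf_le_right).op c₀)
      (fun i => X.presheaf.map (homOfLE inf_le_left).op (c i)),
      F.presheaf.map (homOfLE inf_le_left).op t, fun i => ?_,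
      (F.presheaf.germ_res_apply (homOfLE inf_le_left) x _ t).trans ht⟩
    cases i using Fin.cases with
    | zero => exact (X.presheaf.germ_res_apply (homOfLE inf_le_right) x _ c₀).trans hc₀
    | succ i => exact (X.presheaf.germ_res_apply (homOfLE inf_le_left) x _ (c i)).trans (hc i)

theorem stalkOrdLE_of_sectOrdLE {n : ℕ} {D : F.presheaf ⟶ G.presheaf} (hD : SectOrdLE n D) :
    StalkOrdLE n D := by
  intro x
  rw [Diff16.isDiffOpLE_iff_altSum]
  intro b τ
  obtain ⟨U, hx, c, t, hc, ht⟩ := exists_common_rep (n + 1) b τ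
  have h0 := congrArg (germM G U x hx) ((Diff16.isDiffOpLE_iff_altSum n _).1 (hD U) c t)
  rw [Diff16.altSum] at h0
  rw [Diff16.altSum]
  refine Eq.trans ?_ (h0.trans (map_zero _))
  refine (Finset.sum_congr rfl fun H _ => ?_).trans
    (map_sum (G.presheaf.germ U x hx).hom _ _).symm
  refine Eq.trans ?_ (map_zsmul (G.presheaf.germ U x hx).hom _ _).symm
  congr 1
  refine Eq.trans ?_ (germM_smul G U x hx _ _).symm
  refine congr_arg₂ (· • ·) ?_ ?_
  · exact ((map_prod (X.presheaf.germ U x hx).hom _ _).trans (Finset.prod_congr rfl fun i _ => hc i)).symm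
  · refine Eq.trans ?_ (stalkD_germ D U x hx _)
    refine congrArg (stalkD D x) (Eq.trans ?_ (germM_smul F U x hx _ _).symm)
    rw [ht]
    exact congrArg (· • τ)
      ((map_prod (X.presheaf.germ U x hx).hom _ _).trans (Finset.prod_congr rfl fun i _ => hc i)).symm

theorem isBaseLinear_of_sections {D : F.presheaf ⟶ G.presheaf}
    (hlin : ∀ (V : S.Opens) (s : Γ(S, V)) (U : X.Opens) (hU : U ≤ f ⁻¹ᵁ V) (t : Γ(F, U)),
      D.app (op U) (X.presheaf.map (homOfLE hU).op (f.app V s) • t) =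
        X.presheaf.map (homOfLE hU).op (f.app V s) • D.app (op U) t) :
    IsBaseLinear f D := by
  intro x c τ
  obtain ⟨V, hV, s, rfl⟩ := S.presheaf.exists_germ_eq (x := f x) c
  obtain ⟨U, hx, t, rfl⟩ := exists_germM_eq F x τ
  rw [Scheme.Hom.germ_stalkMap_apply]
  have hW : x ∈ U ⊓ f ⁻¹ᵁ V := ⟨hx, hV⟩
  rw [← X.presheaf.germ_res_apply (homOfLE (inf_le_right : U ⊓ f ⁻¹ᵁ V ≤ f ⁻¹ᵁ V)) x hW,
    show germM F U x hx t = germM F (U ⊓ f ⁻¹ᵁ V) x hW (F.presheaf.map (homOfLE inf_le_left).op t) from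
      (F.presheaf.germ_res_apply (homOfLE inf_le_left) x hW t).symm,
    ← germM_smul, stalkD_germ, stalkD_germ, hlin V s (U ⊓ f ⁻¹ᵁ V) inf_le_right, germM_smul]

theorem isBaseLinear_of_isDiffOpLE {n : ℕ} {D : F.presheaf ⟶ G.presheaf}
    (hD : IsDiffOpLE f F G n D) : IsBaseLinear f D := by
  obtain ⟨u, hu⟩ := hD
  refine isBaseLinear_of_sections f fun V s U hU t => ?_
  rw [hu, hu, ← Scheme.Modules.Hom.app_smul]
  refine congrArg (u.app U) ((dP_smul f n U _ t).trans ?_)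
  change s₂ f n U _ • (dPN f n F U t) =
    (pr1 f n).app U _ • (dPN f n F U t)
  refine congrArg (· • (dPN f n F U t)) ?_
  have key : ∀ (W : (nbhd f n).Opens) (q : nbhd f n ⟶ S) (hq : pr2 f n ≫ f = q) (e₂ : W ≤ pr2 f n ⁻¹ᵁ U)
      (e : W ≤ q ⁻¹ᵁ V), (pr2 f n).appLE U W e₂ (f.appLE V U hU s) = q.appLE V W e s := by
    rintro W _ rfl e₂ e
    exact congr($(Scheme.Hom.appLE_comp_appLE (pr2 f n) f V U W hU e₂) s)
  have key₁ : ∀ (W : (nbhd f n).Opens) (q : nbhd f n ⟶ S) (hq : pr1 f n ≫ f = q) (e₁ : W ≤ pr1 f n ⁻¹ᵁ U)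
      (e : W ≤ q ⁻¹ᵁ V), (pr1 f n).appLE U W e₁ (f.appLE V U hU s) = q.appLE V W e s := by
    rintro W _ rfl e₁ e
    exact congr($(Scheme.Hom.appLE_comp_appLE (pr1 f n) f V U W hU e₁) s)
  have e : pr1 f n ⁻¹ᵁ U ≤ (pr1 f n ≫ f) ⁻¹ᵁ V := (pr1 f n).preimage_mono hU
  rw [Scheme.Hom.app_eq_appLE (pr1 f n)]
  exact (key _ _ (pr1_comp f n).symm (preimage_pr1 f n U).le e).trans (key₁ _ _ rfl le_rfl e).symm

theorem stalkOrdLE_of_isDiffOpLE {n : ℕ} {D : F.presheaf ⟶ G.presheaf}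
    (hD : IsDiffOpLE f F G n D) : StalkOrdLE n D :=
  stalkOrdLE_of_sectOrdLE (sectOrdLE_of_isDiffOpLE f hD)

end Groth.Agent.Omega.PPNec

end
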