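import Groth.Agent.Omega.PPGen
import Groth.Prelude.Def_PP16
import Mathlib.RingTheory.LocalRing.RingHom.Basic

/-!
# Local rings of infinitesimal neighbourhoods of the diagonal and rings of principal parts
-/

set_option autoImplicit false

universe u

open CategoryTheory CategoryTheory.Limits AlgebraicGeometry TopologicalSpace Opposite TensorProduct

noncomputable section

namespace Groth.Agent.Omega.PPStalk

open PrinPart Stalks StalkSeq ThickSeq PPGen

section Immersion

variable {X Y : Scheme.{u}} (i : Y ⟶ X) [IsClosedImmersion i] (n : ℕ)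

theorem mem_pow_of_infNbhdι_stalkMap_eq_zero (y : Y)
    (a : X.presheaf.stalk (infNbhdι i n (toInfNbhd i n y)))
    (ha : (infNbhdι i n).stalkMap (toInfNbhd i n y) a = 0) :
    a ∈ RingHom.ker (((toInfNbhd i n).stalkMap y).hom.comp
      ((infNbhdι i n).stalkMap (toInfNbhd i n y)).hom) ^ (n + 1) := by
  let t := toInfNbhd i n
  let ι := infNbhdι i n
  have : IsClosedImmersion (t ≫ ι) := by rw [toInfNbhd_ι]; infer_instance
  have hι : IsClosedImmersion ι := inferInstanceAs (IsClosedImmersion (i.ker ^ (n + 1)).subschemeι)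
  have hc : ((t ≫ ι).stalkMap y).hom = (t.stalkMap y).hom.comp (ι.stalkMap (t y)).hom :=
    congrArg CommRingCat.Hom.hom (Scheme.Hom.stalkMap_comp t ι y)
  obtain ⟨W, hW, hV, hy, -, hsurj⟩ := ConormalZero.exists_chart (t ≫ ι) y
  have hV' : IsAffineOpen (ι ⁻¹ᵁ W) := hW.preimage ι
  have hsurj' : Function.Surjective (ι.app W) := by
    have := ConormalZero.isClosedImmersion_morphismRestrict ι (W := W) (fun z _ => by
      rw [show ι.coborderRange = ⊤ from TopologicalSpace.Opens.ext
        (coborder_eq_univ_iff.mpr ι.isClosedEmbedding.isClosed_range)]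
      trivial)
    have : IsAffine (Scheme.Opens.toScheme (X := X) W) := hW
    obtain ⟨-, hs⟩ := IsClosedImmersion.isAffine_surjective_of_isAffine (f := ι ∣_ W)
    rw [← Scheme.Hom.resLE_eq_morphismRestrict] at hs
    rw [Scheme.Hom.app_eq_appLE]
    exact ((MorphismProperty.surjective CommRingCat).arrow_mk_iso_iff
      (arrowResLEAppIso ι W (ι ⁻¹ᵁ W) le_rfl)).1 hs
  have key := (ConormalZero.ker_stalkMap_eq ι hW hV' (y := t y) hy hsurj').le
    (show a ∈ RingHom.ker (ι.stalkMap (t y)).hom from ha)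
  rw [show RingHom.ker (ι.app W).hom = i.ker.ideal ⟨W, hW⟩ ^ (n + 1) from
    (Scheme.Hom.ker_apply ι ⟨W, hW⟩).symm.trans
      (congrArg (fun J => Scheme.IdealSheafData.ideal J ⟨W, hW⟩)
        (Scheme.IdealSheafData.ker_subschemeι (I := i.ker ^ (n + 1)))),
    Ideal.map_pow] at key
  refine Ideal.pow_right_mono ?_ _ key
  refine le_of_le_of_eq ?_ (congrArg RingHom.ker hc)
  rw [show i.ker.ideal ⟨W, hW⟩ = RingHom.ker ((t ≫ ι).app W).hom from
    ((Scheme.Hom.ker_apply (t ≫ ι) ⟨W, hW⟩).symm.trans (by rw [toInfNbhd_ι])).symm]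
  exact (ConormalZero.ker_stalkMap_eq (t ≫ ι) hW hV hy hsurj).ge

end Immersion

variable {X S : Scheme.{u}} (f : X ⟶ S) (n : ℕ)

/-- The algebra structure of a local ring of `X` over that of `S`. -/
abbrev algStalk (x : X) : Algebra (S.presheaf.stalk (f x)) (X.presheaf.stalk x) :=
  (f.stalkMap x).hom.toAlgebra

/-- The canonical map of local rings `O_{X×X, Δx} ⟶ O_{U, Δx}` into the open where the diagonal is closed. -/
abbrev toU (x : X) :
    (pullback f f).presheaf.stalk (pullback.diagonal f x) ⟶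
      (pullback.diagonal f).coborderRange.toScheme.presheaf.stalk
        (infNbhdι (diagCl f) n (toNbhd f n x)) :=
  (pullback f f).presheaf.stalkSpecializes (Specializes.of_eq (nbhdι_toNbhd f n x)) ≫
    (pullback.diagonal f).coborderRange.ι.stalkMap (infNbhdι (diagCl f) n (toNbhd f n x))

theorem toN_eq (x : X) :
    toN f n x = toU f n x ≫ (infNbhdι (diagCl f) n).stalkMap (toNbhd f n x) :=
  (congrArg (_ ≫ ·) (Scheme.Hom.stalkMap_comp (infNbhdι (diagCl f) n)
    (pullback.diagonal f).coborderRange.ι (toNbhd f n x))).trans (Category.assoc _ _ _).symm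

theorem ker_toN_le (x : X) :
    RingHom.ker (toN f n x).hom ≤ RingHom.ker ((pullback.diagonal f).stalkMap x).hom ^ (n + 1) := by
  intro a ha
  have hι : IsOpenImmersion (pullback.diagonal f).coborderRange.ι := inferInstance
  have : IsIso ((pullback.diagonal f).coborderRange.ι.stalkMap
      (infNbhdι (diagCl f) n (toNbhd f n x))) := inferInstance
  have : IsIso ((pullback f f).presheaf.stalkSpecializes (Specializes.of_eq (nbhdι_toNbhd f n x))) :=
    inferInstanceAs (IsIso ((pullback f f).presheaf.stalkCongr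
      (.of_eq (nbhdι_toNbhd f n x).symm)).hom)
  have : IsIso (toU f n x) := @IsIso.comp_isIso _ _ _ _ _ _ _ ‹_› ‹_›
  let θ := (asIso (toU f n x)).commRingCatIsoToRingEquiv
  let K := RingHom.ker (((toNbhd f n).stalkMap x).hom.comp
    ((infNbhdι (diagCl f) n).stalkMap (toNbhd f n x)).hom)
  have h0 : (infNbhdι (diagCl f) n).stalkMap (toNbhd f n x) (θ a) = 0 :=
    congr($(toN_eq f n x) a).symm.trans ha
  have h1 : θ a ∈ K ^ (n + 1) := mem_pow_of_infNbhdι_stalkMap_eq_zero (diagCl f) n x _ h0
  have h2 : K.map θ.symm.toRingHom ≤ RingHom.ker ((pullback.diagonal f).stalkMap x).hom := by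
    refine Ideal.map_le_iff_le_comap.mpr fun b hb => ?_
    obtain ⟨c, rfl⟩ := θ.surjective b
    rw [Ideal.mem_comap, show θ.symm.toRingHom (θ c) = c from θ.symm_apply_apply c, RingHom.mem_ker]
    rw [← show toN f n x ≫ (toNbhd f n).stalkMap x = _ from toN_stalkMap f n x, toN_eq,
      Category.assoc]
    exact hb
  have h3 := Ideal.mem_map_of_mem θ.symm.toRingHom h1
  rw [Ideal.map_pow, show θ.symm.toRingHom (θ a) = a from θ.symm_apply_apply a] at h3
  exact Ideal.pow_right_mono h2 _ h3

/-- The local ring of the `n`-th neighbourhood of the diagonal maps to the ring of principal parts. -/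
theorem exists_toPP (x : X) :
    letI := algStalk f x
    ∃ e : (nbhd f n).presheaf.stalk (toNbhd f n x) →+*
        PP16.P n (S.presheaf.stalk (f x)) (X.presheaf.stalk x),
      ∀ b, e (prN f n _ (toNbhd_pr1 f n) x b) = algebraMap (X.presheaf.stalk x) _ b ∧
        e (prN f n _ (toNbhd_pr2 f n) x b) = PP16.dn n _ _ b := by
  let := algStalk f x
  let A := S.presheaf.stalk (f x)
  let C := X.presheaf.stalk x
  let I := KaehlerDifferential.ideal A C
  let R := CommRingCat.of (PP16.P n A C)
  let εr : PP16.P n A C →+* C := Ideal.Quotient.lift (I ^ (n + 1))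
    (Algebra.TensorProduct.lmul' A).toRingHom
    fun a ha => (Ideal.pow_le_self (Nat.succ_ne_zero n) ha : a ∈ I)
  let ε : R ⟶ C := CommRingCat.ofHom εr
  let φ₁ : C ⟶ R := CommRingCat.ofHom (algebraMap C (PP16.P n A C))
  let φ₂ : C ⟶ R := CommRingCat.ofHom (PP16.dn n A C).toRingHom
  have hker : RingHom.ker εr ≤ I.map (Ideal.Quotient.mk (I ^ (n + 1))) := fun b hb => by
    obtain ⟨b, rfl⟩ := Ideal.Quotient.mk_surjective b
    exact Ideal.mem_map_of_mem _ hb
  have hnil : RingHom.ker εr ^ (n + 1) = ⊥ := by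
    refine eq_bot_iff.mpr ((Ideal.pow_right_mono hker _).trans ?_)
    rw [← Ideal.map_pow, Ideal.map_quotient_self]
  have hφ₁ε : φ₁ ≫ ε = 𝟙 _ := CommRingCat.hom_ext (RingHom.ext fun a =>
    (Algebra.TensorProduct.lmul'_apply_tmul (R := A) a 1).trans (mul_one a))
  have hφ₂ε : φ₂ ≫ ε = 𝟙 _ := CommRingCat.hom_ext (RingHom.ext fun a =>
    (Algebra.TensorProduct.lmul'_apply_tmul (R := A) 1 a).trans (one_mul a))
  have hfφ : f.stalkMap x ≫ φ₁ = f.stalkMap x ≫ φ₂ := CommRingCat.hom_ext (RingHom.ext fun c => by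
    change algebraMap C (PP16.P n A C) (algebraMap A C c) = PP16.dn n A C (algebraMap A C c)
    rw [AlgHom.commutes, ← IsScalarTower.algebraMap_apply A C (PP16.P n A C)])
  have hεsurj : Function.Surjective εr := fun c => ⟨algebraMap C _ c, congr($hφ₁ε c)⟩
  have hloc : IsLocalHom ε.hom := ⟨fun a ha => by
    change IsUnit (εr a) at ha
    obtain ⟨b, hb⟩ := hεsurj ↑ha.unit⁻¹
    have h0 : 1 - a * b ∈ RingHom.ker εr := by
      rw [RingHom.mem_ker, map_sub, map_one, map_mul, hb, IsUnit.mul_val_inv, sub_self]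
    have h1 : (1 - a * b) ^ (n + 1) = 0 := by
      rw [← Ideal.mem_bot, ← hnil]; exact Ideal.pow_mem_pow h0 _
    have h2 : IsUnit (1 - (1 - a * b)) := IsNilpotent.isUnit_one_sub ⟨n + 1, h1⟩
    rw [sub_sub_cancel] at h2
    exact isUnit_of_mul_isUnit_left h2⟩
  have : IsLocalRing R := RingHom.domain_isLocalRing ε.hom
  let m : Spec R ⟶ pullback f f := pullback.lift (Spec.map φ₁ ≫ X.fromSpecStalk x)
    (Spec.map φ₂ ≫ X.fromSpecStalk x) (by
      rw [Category.assoc, Category.assoc, ← Scheme.SpecMap_stalkMap_fromSpecStalk, ← Category.assoc,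
        ← Category.assoc, ← Spec.map_comp, ← Spec.map_comp, hfφ])
  have hm : Spec.map ε ≫ m = X.fromSpecStalk x ≫ pullback.diagonal f := by
    refine pullback.hom_ext ?_ ?_
    · rw [Category.assoc, pullback.lift_fst, Category.assoc, pullback.diagonal_fst, ← Category.assoc,
        ← Spec.map_comp, hφ₁ε, Spec.map_id, Category.id_comp, Category.comp_id]
    · rw [Category.assoc, pullback.lift_snd, Category.assoc, pullback.diagonal_snd, ← Category.assoc,
        ← Spec.map_comp, hφ₂ε, Spec.map_id, Category.id_comp, Category.comp_id]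
  have hcp : m (IsLocalRing.closedPoint R) = pullback.diagonal f x := by
    have h₁ : m (Spec.map ε (IsLocalRing.closedPoint C)) =
        pullback.diagonal f (X.fromSpecStalk x (IsLocalRing.closedPoint C)) :=
      congr($hm (IsLocalRing.closedPoint C))
    rw [Scheme.fromSpecStalk_closedPoint] at h₁
    exact (congrArg m (IsLocalRing.comap_closedPoint ε.hom).symm).trans h₁
  let ψ : (pullback f f).presheaf.stalk (pullback.diagonal f x) ⟶ R :=
    (pullback f f).presheaf.stalkSpecializes (Specializes.of_eq hcp) ≫ Scheme.stalkClosedPointTo m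
  have hψ : Spec.map ψ ≫ (pullback f f).fromSpecStalk _ = m := by
    rw [Spec.map_comp, Category.assoc, Scheme.SpecMap_stalkSpecializes_fromSpecStalk]
    exact Scheme.Spec_stalkClosedPointTo_fromSpecStalk m
  have hψε : ψ ≫ ε = (pullback.diagonal f).stalkMap x := hom_eq_of_fromSpecStalk (by
    rw [Spec.map_comp, Category.assoc, hψ, hm, Scheme.SpecMap_stalkMap_fromSpecStalk])
  have hψp : ∀ (p : pullback f f ⟶ X) (hp : pullback.diagonal f ≫ p = 𝟙 X) (φ : C ⟶ R),
      m ≫ p = Spec.map φ ≫ X.fromSpecStalk x → DiagUniv.pr f p hp x ≫ ψ = φ := fun p hp φ h => by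
    refine hom_eq_of_fromSpecStalk ?_
    rw [Spec.map_comp, Category.assoc, show Spec.map (DiagUniv.pr f p hp x) ≫ X.fromSpecStalk x = _ from
      SpecMap_σ_fromSpecStalk (DiagUniv.square f p hp) x, ← Category.assoc, hψ, h]
  have hle : RingHom.ker (toN f n x).hom ≤ RingHom.ker ψ.hom := by
    intro a ha
    have h1 := Ideal.mem_map_of_mem ψ.hom (ker_toN_le f n x ha)
    rw [Ideal.map_pow] at h1
    have h2 : (RingHom.ker ((pullback.diagonal f).stalkMap x).hom).map ψ.hom ≤ RingHom.ker εr := by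
      refine Ideal.map_le_iff_le_comap.mpr fun b hb => ?_
      exact (congr($hψε b)).trans hb
    exact Ideal.mem_bot.mp (hnil ▸ Ideal.pow_right_mono h2 _ h1)
  refine ⟨RingHom.liftOfSurjective (toN f n x).hom (toN_surjective f n x) ⟨ψ.hom, hle⟩, fun b => ?_⟩
  constructor
  · rw [← show DiagUniv.pr f _ (pullback.diagonal_fst f) x ≫ toN f n x =
      prN f n _ (toNbhd_pr1 f n) x from pr_toN f n x _ (pullback.diagonal_fst f) _ (toNbhd_pr1 f n) rfl]
    refine (RingHom.liftOfRightInverse_comp_apply _ _ _ _ _).trans ?_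
    exact congr($(hψp _ (pullback.diagonal_fst f) φ₁ (pullback.lift_fst _ _ _)) b)
  · rw [← show DiagUniv.pr f _ (pullback.diagonal_snd f) x ≫ toN f n x =
      prN f n _ (toNbhd_pr2 f n) x from pr_toN f n x _ (pullback.diagonal_snd f) _ (toNbhd_pr2 f n) rfl]
    refine (RingHom.liftOfRightInverse_comp_apply _ _ _ _ _).trans ?_
    exact congr($(hψp _ (pullback.diagonal_snd f) φ₂ (pullback.lift_snd _ _ _)) b)

end Groth.Agent.Omega.PPStalk

end
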