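import Groth.Agent.Omega.QuasiSmoothL
import Groth.Agent.CAlg48.QRBase
import Groth.Prelude.Def_CAlgX
import Mathlib.RingTheory.Unramified.LocalStructure
import Mathlib.RingTheory.FinitePresentation
import Mathlib.RingTheory.Finiteness.Nakayama

/-!
# Smoothness along a quasi-regularly embedded smooth closed subscheme
-/

set_option autoImplicit false
set_option linter.style.haveILetI false

universe u

open MvPolynomial TensorProduct

namespace Groth.Agent.Omega.QuasiSmooth

/-- Membership in the powers, for a surjection onto a ring with a quasi-regular sequence. -/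
theorem pow_mul_mem_pow {C B : Type u} [CommRing C] [CommRing B] {n : ℕ} (φ : C →+* B)
    (T : Fin n → C) (hq : CAlgX.IsQuasiRegular fun i => φ (T i))
    (r : C) (hr : ∀ c, φ c ∈ Ideal.span (Set.range fun i => φ (T i)) → r * c ∈ Ideal.span (Set.range T)) :
    ∀ (k : ℕ) (c : C), φ c ∈ Ideal.span (Set.range fun i => φ (T i)) ^ k →
      r ^ k * c ∈ Ideal.span (Set.range T) ^ k
  | 0, c, _ => by simp
  | k + 1, c, hc => by
    obtain ⟨Q, hQ, hQc⟩ := (Ideal.mem_span_pow_iff_exists_isHomogeneous T (r ^ k * c)).1
      (pow_mul_mem_pow φ T hq r hr k c (Ideal.pow_le_pow_right k.le_succ hc))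
    have hev : MvPolynomial.eval (fun i => φ (T i)) (Q.map φ) = φ (r ^ k * c) := by
      rw [← hQc]
      exact (MvPolynomial.map_eval φ T Q).symm
    have hcoef := hq k (Q.map φ) (hQ.map φ) (by rw [hev, map_mul]; exact Ideal.mul_mem_left _ _ hc)
    rw [pow_succ' r, mul_assoc, ← hQc, MvPolynomial.eval_eq, Finset.mul_sum]
    refine Ideal.sum_mem _ fun d hd => ?_
    rw [← mul_assoc, pow_succ' (Ideal.span (Set.range T))]
    refine Ideal.mul_mem_mul (hr _ ?_) ?_
    · have := hcoef d
      rwa [MvPolynomial.coeff_map] at this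
    · have hdeg : d.degree = k := by
        rw [← hQ (MvPolynomial.mem_support_iff.1 hd), Finsupp.degree_eq_weight_one]
        rfl
      rw [← hdeg, Finsupp.degree, AddMonoidHom.coe_mk, ZeroHom.coe_mk, ← Finset.prod_pow_eq_pow_sum]
      exact Ideal.prod_mem_prod fun i _ => Ideal.pow_mem_pow (Ideal.subset_span (Set.mem_range_self i)) _

section

variable {A : Type u} [CommRing A] {n : ℕ}

local notation "P" => MvPolynomial (Fin n) A

/-- The étale chart is an isomorphism near the point. -/
theorem exists_mul_eq_zero_of_quasi {C : Type u} [CommRing C] [Algebra P C] [Algebra.Etale P C]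
    [Algebra A C] [IsScalarTower A P C]
    {B : Type u} [CommRing B] [Algebra A B] (φ : C →ₐ[A] B) (hφ : Function.Surjective φ)
    (hJ : (RingHom.ker φ).FG)
    (hq : CAlgX.IsQuasiRegular fun i => φ (algebraMap P C (X i)))
    {Bbar : Type u} [CommRing Bbar] [Algebra A Bbar] [Algebra.FormallySmooth A Bbar]
    (π : B →ₐ[A] Bbar) (hπ : Function.Surjective π)
    (hker : RingHom.ker π = Ideal.span (Set.range fun i => φ (algebraMap P C (X i))))
    (qC : Ideal C) [qC.IsPrime] (hqC : RingHom.ker (π.comp φ) ≤ qC) :
    ∀ h ∈ RingHom.ker φ, ∃ s, s ∉ qC ∧ s * h = 0 := by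
  let T : Fin n → C := fun i => algebraMap P C (X i)
  let TC : Ideal C := Ideal.span (Set.range T)
  let mk : C →ₐ[A] C ⧸ TC := Ideal.Quotient.mkₐ A TC
  have hTle : TC ≤ RingHom.ker (π.comp φ) := Ideal.span_le.2 fun x ⟨i, hi⟩ => by
    have : φ x ∈ RingHom.ker π := hker ▸ Ideal.subset_span ⟨i, by rw [← hi]⟩
    exact this
  haveI : Algebra.FormallyUnramified A (C ⧸ TC) := by
    haveI : Algebra.FormallyUnramified P (C ⧸ TC) := Algebra.FormallyUnramified.comp P C (C ⧸ TC)
    have h0 : KaehlerDifferential.mapBaseChange A P (C ⧸ TC) = 0 := by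
      refine LinearMap.ext fun x => ?_
      induction x using TensorProduct.induction_on with
      | zero => simp
      | add x y hx hy => rw [map_add, hx, hy]; simp
      | tmul c ω =>
        have hω : KaehlerDifferential.map A A P (C ⧸ TC) ω = 0 := by
          have hω' : ω ∈ Submodule.span P (Set.range (KaehlerDifferential.D A P)) := by
            rw [KaehlerDifferential.span_range_derivation]; trivial
          induction hω' using Submodule.span_induction with
          | zero => simp
          | add x y _ _ hx hy => rw [map_add, hx, hy, add_zero]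
          | smul a x _ hx => rw [map_smul, hx, smul_zero]
          | mem x hx =>
            obtain ⟨p, rfl⟩ := hx
            rw [KaehlerDifferential.map_D]
            have hp : algebraMap P (C ⧸ TC) p = algebraMap A (C ⧸ TC) (constantCoeff p) := by
              have : (IsScalarTower.toAlgHom A P (C ⧸ TC)) =
                  (Algebra.ofId A (C ⧸ TC)).comp (MvPolynomial.aeval fun _ => (0 : A)) := by
                refine MvPolynomial.algHom_ext fun i => ?_
                simp only [IsScalarTower.coe_toAlgHom', AlgHom.comp_apply, MvPolynomial.aeval_X, map_zero]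
                exact Ideal.Quotient.eq_zero_iff_mem.2 (Ideal.subset_span ⟨i, rfl⟩)
              rw [show algebraMap P (C ⧸ TC) p = IsScalarTower.toAlgHom A P (C ⧸ TC) p from rfl, this]
              simp only [AlgHom.comp_apply, Algebra.ofId_apply]
              congr 1
              rw [MvPolynomial.aeval_eq_eval]
              exact congrFun (congrArg DFunLike.coe (MvPolynomial.eval_zero')) p
            rw [hp, Derivation.map_algebraMap]
        rw [KaehlerDifferential.mapBaseChange_tmul, hω, smul_zero]
        simp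
    rw [Algebra.formallyUnramified_iff]
    refine ⟨fun x y => ?_⟩
    have key : ∀ x, x = (0 : Ω[(C ⧸ TC)⁄A]) := fun x => by
      have hx : KaehlerDifferential.map A P (C ⧸ TC) (C ⧸ TC) x = 0 := Subsingleton.elim _ _
      obtain ⟨y, rfl⟩ := (KaehlerDifferential.exact_mapBaseChange_map A P (C ⧸ TC) x).1 hx
      rw [h0]
      rfl
    rw [key x, key y]
  let ρ : (C ⧸ TC) →ₐ[A] Bbar := Ideal.Quotient.liftₐ TC (π.comp φ) fun a ha => hTle ha
  have hρ : Function.Surjective ρ := fun y => by
    obtain ⟨c, rfl⟩ := (hπ.comp hφ) y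
    exact ⟨mk c, rfl⟩
  letI : Algebra (C ⧸ TC) Bbar := ρ.toRingHom.toAlgebra
  haveI : IsScalarTower A (C ⧸ TC) Bbar := IsScalarTower.of_algebraMap_eq' ρ.comp_algebraMap.symm
  haveI : Algebra.FormallySmooth (C ⧸ TC) Bbar := Algebra.FormallySmooth.of_restrictScalars A _ _
  let K := RingHom.ker (algebraMap (C ⧸ TC) Bbar)
  have hK : IsIdempotentElem K := (Algebra.FormallySmooth.iff_of_surjective hρ).1 inferInstance
  have hKmap : K = (RingHom.ker φ).map mk := by
    refine le_antisymm (fun x hx => ?_) (Ideal.map_le_iff_le_comap.2 fun x hx => ?_)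
    · obtain ⟨c, rfl⟩ := Ideal.Quotient.mkₐ_surjective A TC x
      have h1 : φ c ∈ TC.map φ.toRingHom := by
        rw [Ideal.map_span, ← Set.range_comp]
        exact hker ▸ (show π (φ c) = 0 from hx)
      obtain ⟨d, hd, hdc⟩ := (Ideal.mem_map_iff_of_surjective φ.toRingHom hφ).1 h1
      have : mk c = mk (c - d) := by
        rw [map_sub, show mk d = 0 from Ideal.Quotient.eq_zero_iff_mem.2 hd, sub_zero]
      rw [show (Ideal.Quotient.mkₐ A TC) c = mk (c - d) from this]
      exact Ideal.mem_map_of_mem _ (by
        rw [RingHom.mem_ker, map_sub, show φ d = φ c from hdc, sub_self])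
    · change π (φ x) = 0
      rw [show φ x = 0 from hx, map_zero]
  obtain ⟨r₁, hr₁, hr₁K⟩ := Submodule.exists_sub_one_mem_and_smul_eq_zero_of_fg_of_le_smul K K
    (hKmap ▸ hJ.map mk.toRingHom) (le_of_eq hK.symm)
  obtain ⟨r, rfl⟩ := Ideal.Quotient.mkₐ_surjective A TC r₁
  have hrq : r ∉ qC := fun h => (inferInstance : qC.IsPrime).ne_top ((Ideal.eq_top_iff_one _).2 (by
    have h1 : r - 1 ∈ qC := hqC (by
      change π (φ (r - 1)) = 0
      exact hr₁)
    simpa using qC.sub_mem h h1))
  have hr : ∀ c, φ c ∈ Ideal.span (Set.range fun i => φ (T i)) → r * c ∈ TC := fun c hc => by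
    rw [← Ideal.Quotient.eq_zero_iff_mem]
    have : mk c ∈ K := by
      change π (φ c) = 0
      exact (show φ c ∈ RingHom.ker π from hker ▸ hc)
    exact hr₁K _ this
  intro h hh
  let Cr := Localization.Away r
  haveI : Algebra.Smooth P Cr := Algebra.Smooth.comp P C Cr
  have hpow : ∀ k : ℕ, algebraMap C Cr h ∈ (MvPolynomial.idealOfVars (Fin n) A ^ k).map (algebraMap P Cr) := by
    intro k
    have h1 : r ^ k * h ∈ TC ^ k := pow_mul_mem_pow φ.toRingHom T hq r hr k h (by
      rw [show φ.toRingHom h = 0 from hh]
      exact zero_mem _)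
    have h2 := Ideal.mem_map_of_mem (algebraMap C Cr) h1
    rw [map_mul, map_pow, Ideal.unit_mul_mem_iff_mem _ ((IsLocalization.Away.algebraMap_isUnit r).pow k)] at h2
    rw [IsScalarTower.algebraMap_eq P C Cr, ← Ideal.map_map, Ideal.map_pow, MvPolynomial.idealOfVars,
      Ideal.map_span, ← Set.range_comp]
    exact h2
  have hdisj : Disjoint (Submonoid.powers r : Set C) qC :=
    (Ideal.disjoint_powers_iff_notMem_of_isPrime r).2 hrq
  haveI := IsLocalization.isPrime_of_isPrime_disjoint (Submonoid.powers r) Cr qC inferInstance hdisj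
  obtain ⟨s, hs, hs0⟩ := exists_mul_eq_zero (algebraMap C Cr h) hpow (qC.map (algebraMap C Cr)) (by
    rw [IsScalarTower.algebraMap_eq P C Cr, ← Ideal.map_map]
    refine Ideal.map_mono ?_
    rw [MvPolynomial.idealOfVars, Ideal.map_span, ← Set.range_comp]
    exact hTle.trans hqC)
  obtain ⟨s₁, ⟨_, m, rfl⟩, rfl⟩ := IsLocalization.exists_mk'_eq (Submonoid.powers r) s
  have h3 : algebraMap C Cr (s₁ * h) = 0 := by
    have := congrArg (algebraMap C Cr (r ^ m) * ·) hs0
    simp only [mul_zero, ← mul_assoc] at this
    rw [show algebraMap C Cr (r ^ m) * IsLocalization.mk' Cr s₁ (⟨r ^ m, ⟨m, rfl⟩⟩ : Submonoid.powers r) = algebraMap C Cr s₁ from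
      IsLocalization.mk'_spec' Cr s₁ (⟨r ^ m, ⟨m, rfl⟩⟩ : Submonoid.powers r)] at this
    rw [map_mul]
    exact this
  obtain ⟨⟨_, j, rfl⟩, hj⟩ := (IsLocalization.map_eq_zero_iff (Submonoid.powers r) Cr _).1 h3
  refine ⟨r ^ j * s₁, (inferInstance : qC.IsPrime).mul_notMem (mt ((inferInstance : qC.IsPrime).mem_of_pow_mem j) hrq) ?_,
    by rw [mul_assoc]; exact hj⟩
  intro h4
  exact hs (IsLocalization.mk'_mem_map_algebraMap_iff (Submonoid.powers r) Cr _ _ _ |>.2
    ⟨1, one_mem _, by simpa using h4⟩)

/-- The comparison map with affine space is unramified along the subscheme. -/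
theorem isUnramifiedAt_of_ker {B : Type u} [CommRing B] [Algebra P B] [Algebra.FiniteType P B]
    {Bbar : Type u} [CommRing Bbar] [Algebra B Bbar] [Algebra P Bbar] [IsScalarTower P B Bbar]
    [Algebra.FormallyUnramified P Bbar] (hπ : Function.Surjective (algebraMap B Bbar))
    (hker : RingHom.ker (algebraMap B Bbar) = Ideal.span (Set.range fun i => algebraMap P B (X i)))
    (q : Ideal B) [q.IsPrime] (hq : RingHom.ker (algebraMap B Bbar) ≤ q) :
    Algebra.IsUnramifiedAt P q := by
  have h0 : KaehlerDifferential.kerCotangentToTensor P B Bbar = 0 := by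
    refine LinearMap.ext fun x => ?_
    obtain ⟨⟨b, hb⟩, rfl⟩ := Ideal.toCotangent_surjective _ x
    rw [KaehlerDifferential.kerCotangentToTensor_toCotangent, LinearMap.zero_apply]
    change (1 : Bbar) ⊗ₜ[B] KaehlerDifferential.D P B b = 0
    rw [hker] at hb
    induction hb using Submodule.span_induction with
    | zero => simp
    | add x y _ _ hx hy => rw [map_add, tmul_add, hx, hy, add_zero]
    | mem x hx =>
      obtain ⟨i, rfl⟩ := hx
      simp
    | smul a x hx hxD =>
      have hx0 : algebraMap B Bbar x = 0 := by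
        rw [← RingHom.mem_ker, hker]; exact hx
      rw [smul_eq_mul, Derivation.leibniz, tmul_add, ← TensorProduct.smul_tmul, ← TensorProduct.smul_tmul,
        Algebra.smul_def a, Algebra.smul_def x, hx0, zero_mul, TensorProduct.zero_tmul, add_zero]
      have := congrArg (algebraMap B Bbar a • ·) hxD
      simpa [TensorProduct.smul_tmul', Algebra.algebraMap_eq_smul_one] using this
  have hsub : ∀ z : Bbar ⊗[B] Ω[B⁄P], z = 0 := fun z => by
    have : KaehlerDifferential.mapBaseChange P B Bbar z = 0 := Subsingleton.elim _ _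
    obtain ⟨y, rfl⟩ := (KaehlerDifferential.exact_kerCotangentToTensor_mapBaseChange P B Bbar hπ z).1 this
    rw [h0]
    rfl
  let I := RingHom.ker (algebraMap B Bbar)
  let eI : (B ⧸ I) ≃ₐ[B] Bbar := Ideal.quotientKerAlgEquivOfSurjective (f := Algebra.ofId B Bbar) hπ
  have hle : (⊤ : Submodule B Ω[B⁄P]) ≤ I • ⊤ := fun ω _ => by
    have h1 : ((Ideal.Quotient.mk I) 1 : B ⧸ I) ⊗ₜ[B] ω = 0 := by
      refine (TensorProduct.congr eI.toLinearEquiv (LinearEquiv.refl B Ω[B⁄P])).injective ?_
      rw [map_zero]
      exact hsub _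
    have h2 := congrArg (TensorProduct.quotTensorEquivQuotSMul (Ω[B⁄P]) I) h1
    rw [map_zero, TensorProduct.quotTensorEquivQuotSMul_mk_tmul, one_smul] at h2
    exact (Submodule.Quotient.mk_eq_zero _).1 h2
  obtain ⟨r, hr1, hr⟩ := Submodule.exists_sub_one_mem_and_smul_eq_zero_of_fg_of_le_smul I ⊤
    Module.Finite.fg_top hle
  have hrq : r ∉ q := fun h => (inferInstance : q.IsPrime).ne_top ((Ideal.eq_top_iff_one _).2 (by
    simpa using q.sub_mem h (hq hr1)))
  change (⟨q, inferInstance⟩ : PrimeSpectrum B) ∈ Algebra.unramifiedLocus P B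
  rw [Algebra.unramifiedLocus_eq_compl_support, Set.mem_compl_iff, Module.notMem_support_iff']
  exact fun m => ⟨r, hrq, hr m trivial⟩

/-- A finitely presented algebra is smooth along a quasi-regularly embedded closed subscheme that is étale
over the base. -/
theorem isSmoothAt_of_quasi_etale {B : Type u} [CommRing B] [Algebra A B] [Algebra.FinitePresentation A B]
    (t : Fin n → B) (ht : CAlgX.IsQuasiRegular t) {Bbar : Type u} [CommRing Bbar] [Algebra A Bbar]
    [Algebra.FormallyEtale A Bbar] (π : B →ₐ[A] Bbar) (hπ : Function.Surjective π)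
    (hker : RingHom.ker π = Ideal.span (Set.range t)) (q : Ideal B) [q.IsPrime]
    (hq : RingHom.ker π ≤ q) : Algebra.IsSmoothAt A q := by
  letI : Algebra P B := (MvPolynomial.aeval t).toRingHom.toAlgebra
  have hX : ∀ i, algebraMap P B (X i) = t i := fun i => MvPolynomial.aeval_X t i
  haveI : IsScalarTower A P B := IsScalarTower.of_algebraMap_eq' (MvPolynomial.aeval t).comp_algebraMap.symm
  letI : Algebra B Bbar := π.toRingHom.toAlgebra
  haveI : IsScalarTower A B Bbar := IsScalarTower.of_algebraMap_eq' π.comp_algebraMap.symm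
  letI : Algebra P Bbar := ((algebraMap B Bbar).comp (algebraMap P B)).toAlgebra
  haveI : IsScalarTower P B Bbar := IsScalarTower.of_algebraMap_eq' rfl
  haveI : IsScalarTower A P Bbar := IsScalarTower.of_algebraMap_eq' (by
    rw [IsScalarTower.algebraMap_eq A B Bbar, IsScalarTower.algebraMap_eq A P B, ← RingHom.comp_assoc]
    rfl)
  haveI : Algebra.FormallyUnramified P Bbar := Algebra.FormallyUnramified.of_restrictScalars A P Bbar
  haveI : Algebra.FinitePresentation P B := Algebra.FinitePresentation.of_restrict_scalars_finitePresentation A P B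
  haveI : Algebra.IsUnramifiedAt P q := isUnramifiedAt_of_ker hπ (by
    simp only [hX]; exact hker) q hq
  obtain ⟨s, hsq, ⟨Pr, φ, hφ⟩⟩ := Algebra.IsUnramifiedAt.exists_hasStandardEtaleSurjectionOn (R := P) q
  let C := Pr.Ring
  letI : Algebra A C := ((algebraMap P C).comp (algebraMap A P)).toAlgebra
  haveI : IsScalarTower A P C := IsScalarTower.of_algebraMap_eq' rfl
  let Bs := Localization.Away s
  let Bbs := Localization.Away (algebraMap B Bbar s)
  let πs : Bs →ₐ[A] Bbs :=
    { Localization.awayMap (algebraMap B Bbar) s with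
      commutes' := fun a => by
        change Localization.awayMap (algebraMap B Bbar) s (algebraMap A Bs a) = algebraMap A Bbs a
        rw [IsScalarTower.algebraMap_apply A B Bs, Localization.awayMap, IsLocalization.Away.map,
          IsLocalization.map_eq, ← IsScalarTower.algebraMap_apply A B Bbar, ← IsScalarTower.algebraMap_apply] }
  haveI : IsLocalization ((Submonoid.powers s).map (algebraMap B Bbar)) Bbs := by
    rw [Submonoid.map_powers]; infer_instance
  have hπs : Function.Surjective πs :=
    @IsLocalization.map_surjective_of_surjective B _ (Submonoid.powers s) Bs _ _ Bbar _ _ (algebraMap B Bbar) Bbs _ _ hπ _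
  have hfun : (fun i => φ (algebraMap P C (X i))) = fun i => algebraMap B Bs (t i) := funext fun i => by
    rw [← hX i, ← IsScalarTower.algebraMap_apply P B Bs]
    exact φ.commutes _
  have hkers : RingHom.ker πs = Ideal.span (Set.range fun i => φ (algebraMap P C (X i))) := by
    rw [hfun]
    change RingHom.ker (IsLocalization.map (M := Submonoid.powers s) (T := Submonoid.powers (algebraMap B Bbar s))
      Bbs (algebraMap B Bbar) (by rw [← Submonoid.map_le_iff_le_comap, Submonoid.map_powers]) : Bs →+* Bbs) = _
    rw [IsLocalization.ker_map (T := Submonoid.powers (algebraMap B Bbar s)) Bbs (algebraMap B Bbar)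
      (by rw [Submonoid.map_powers]), show RingHom.ker (algebraMap B Bbar) = _ from hker, Ideal.map_span,
      ← Set.range_comp]
    rfl
  haveI : Algebra.FormallySmooth Bbar Bbs :=
    Algebra.FormallySmooth.of_isLocalization (Submonoid.powers (algebraMap B Bbar s))
  haveI : Algebra.FormallySmooth A Bbs := Algebra.FormallySmooth.comp A Bbar Bbs
  have hts : CAlgX.IsQuasiRegular fun i => φ (algebraMap P C (X i)) := by
    rw [hfun]
    exact CAlg48.QRBase.isQuasiRegular_of_flat ht
  have hdisj : Disjoint (Submonoid.powers s : Set B) q := (Ideal.disjoint_powers_iff_notMem_of_isPrime s).2 hsq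
  haveI := IsLocalization.isPrime_of_isPrime_disjoint (Submonoid.powers s) Bs q inferInstance hdisj
  let qC : Ideal C := (q.map (algebraMap B Bs)).comap φ
  have hJ : (RingHom.ker (φ.restrictScalars A)).FG := by
    have : Algebra.FinitePresentation B Bs := IsLocalization.Away.finitePresentation s
    haveI : Algebra.FinitePresentation P Bs := Algebra.FinitePresentation.trans P B Bs
    exact Algebra.FinitePresentation.ker_fG_of_surjective φ hφ
  have key := exists_mul_eq_zero_of_quasi (φ.restrictScalars A) hφ hJ hts πs hπs hkers qC (by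
    intro c hc
    have h1 : φ c ∈ RingHom.ker πs := hc
    rw [hkers, hfun] at h1
    change φ c ∈ q.map (algebraMap B Bs)
    refine Ideal.span_le.2 ?_ h1
    rintro _ ⟨i, rfl⟩
    exact Ideal.mem_map_of_mem _ (hq (hker ▸ Ideal.subset_span ⟨i, rfl⟩)))
  have hcm : ∀ b, algebraMap B Bs b ∈ q.map (algebraMap B Bs) → b ∈ q := fun b hb =>
    (SetLike.ext_iff.1 (IsLocalization.under_map_of_isPrime_disjoint (Submonoid.powers s) Bs
      (inferInstance : q.IsPrime) hdisj) b).1 hb
  let L := Localization.AtPrime q
  let ι : Bs →+* L := IsLocalization.lift (M := Submonoid.powers s) (g := algebraMap B L) fun y =>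
    IsLocalization.map_units L (⟨y.1, fun hy => Set.disjoint_left.1 hdisj y.2 hy⟩ : q.primeCompl)
  have hι : ∀ b, ι (algebraMap B Bs b) = algebraMap B L b := fun b => IsLocalization.lift_eq _ b
  let φL : C →+* L := ι.comp φ.toRingHom
  letI : Algebra C L := φL.toAlgebra
  have hmem : ∀ c, c ∈ qC.primeCompl → IsUnit (φL c) := fun c hc => by
    obtain ⟨⟨b, u⟩, hb⟩ := IsLocalization.surj (Submonoid.powers s) (φ c)
    have hbq : b ∉ q := fun hbq => hc (by
      change φ c ∈ q.map (algebraMap B Bs)
      rw [← Ideal.mul_unit_mem_iff_mem _ (IsLocalization.map_units Bs u), hb]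
      exact Ideal.mem_map_of_mem _ hbq)
    have := congrArg ι hb
    rw [map_mul, hι, hι] at this
    exact isUnit_of_mul_isUnit_left (this ▸ IsLocalization.map_units L (⟨b, hbq⟩ : q.primeCompl))
  haveI : IsLocalization qC.primeCompl L := by
    rw [isLocalization_iff]
    refine ⟨fun c => hmem c c.2, ?_, ?_⟩
    · intro z
      obtain ⟨b, u, rfl⟩ := IsLocalization.exists_mk'_eq q.primeCompl z
      obtain ⟨c, hc⟩ := hφ (algebraMap B Bs b)
      obtain ⟨d, hd⟩ := hφ (algebraMap B Bs u)
      refine ⟨⟨c, ⟨d, fun hdq => u.2 ?_⟩⟩, ?_⟩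
      · have h1 : algebraMap B Bs u ∈ q.map (algebraMap B Bs) := hd ▸ hdq
        exact hcm _ h1
      · change _ * ι (φ d) = ι (φ c)
        rw [hd, hc, hι, hι, IsLocalization.mk'_spec]
    · intro c d hcd
      change φL c = φL d at hcd
      obtain ⟨⟨b, u⟩, hb⟩ := IsLocalization.surj (Submonoid.powers s) (φ (c - d))
      have hb0 : algebraMap B L b = 0 := by
        have := congrArg ι hb
        rw [map_mul, hι, hι] at this
        rw [← this]
        have : φL (c - d) = 0 := by
          rw [map_sub, sub_eq_zero]; exact hcd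
        change φL (c - d) * _ = 0
        rw [this, zero_mul]
      obtain ⟨w, hw⟩ := (IsLocalization.map_eq_zero_iff q.primeCompl L b).1 hb0
      obtain ⟨w', hw'⟩ := hφ (algebraMap B Bs w)
      have hker' : w' * (c - d) ∈ RingHom.ker φ := by
        rw [RingHom.mem_ker, map_mul, hw', ← (IsLocalization.map_units Bs u).mul_left_eq_zero, mul_assoc, hb,
          ← map_mul, hw, map_zero]
      obtain ⟨s', hs', hs0⟩ := key _ hker'
      have hw'q : w' ∉ qC := fun h => w.2 (by
        refine hcm _ ?_
        rw [← hw']
        exact h)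
      refine ⟨⟨s' * w', qC.primeCompl.mul_mem hs' hw'q⟩, ?_⟩
      change s' * w' * c = s' * w' * d
      rw [← sub_eq_zero, ← mul_sub, mul_assoc, hs0]
  haveI : Algebra.FormallySmooth C L := Algebra.FormallySmooth.of_isLocalization qC.primeCompl
  haveI : Algebra.FormallySmooth A C := Algebra.FormallySmooth.comp A P C
  haveI : IsScalarTower A C L := IsScalarTower.of_algebraMap_eq fun a => by
    change algebraMap A L a = ι (φ (algebraMap P C (algebraMap A P a)))
    rw [AlgHom.commutes, IsScalarTower.algebraMap_apply P B Bs, hι, ← IsScalarTower.algebraMap_apply A P B,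
      ← IsScalarTower.algebraMap_apply]
  exact Algebra.FormallySmooth.comp A C L

end

/-- A finitely presented algebra is smooth at the points of a quasi-regularly embedded closed subscheme
where the latter is smooth over the base. -/
theorem isSmoothAt_of_quasi {A : Type u} [CommRing A] {B : Type u} [CommRing B] [Algebra A B]
    [Algebra.FinitePresentation A B] {n : ℕ} (t : Fin n → B) (ht : CAlgX.IsQuasiRegular t) {Bbar : Type u}
    [CommRing Bbar] [Algebra A Bbar] (π : B →ₐ[A] Bbar) (hπ : Function.Surjective π)
    (hker : RingHom.ker π = Ideal.span (Set.range t)) (qbar : Ideal Bbar) [qbar.IsPrime]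
    [Algebra.IsSmoothAt A qbar] : Algebra.IsSmoothAt A (qbar.comap π) := by
  haveI : Algebra.FinitePresentation A Bbar :=
    Algebra.FinitePresentation.of_surjective hπ (hker ▸ Submodule.fg_span (Set.finite_range t))
  obtain ⟨fbar, hf, m, i₁, i₂, hSt⟩ := Algebra.IsSmoothAt.exists_isStandardEtale_mvPolynomial (R := A) (p := qbar)
  obtain ⟨f, rfl⟩ := hπ fbar
  letI := i₁
  haveI := i₂
  haveI := hSt
  let A' := MvPolynomial (Fin m) A
  let Bf := Localization.Away f
  let Bbf := Localization.Away (π f)
  haveI : IsLocalization ((Submonoid.powers f).map π.toRingHom) Bbf := by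
    rw [Submonoid.map_powers]
    exact (inferInstance : IsLocalization (Submonoid.powers (π f)) Bbf)
  let πf : Bf →+* Bbf := Localization.awayMap π.toRingHom f
  have hπf : Function.Surjective πf :=
    @IsLocalization.map_surjective_of_surjective B _ (Submonoid.powers f) Bf _ _ Bbar _ _ π.toRingHom Bbf _ _ hπ _
  choose b hb using fun j => hπf (algebraMap A' Bbf (X j))
  letI : Algebra A' Bf := (MvPolynomial.aeval b).toRingHom.toAlgebra
  haveI : IsScalarTower A A' Bf := IsScalarTower.of_algebraMap_eq' (MvPolynomial.aeval b).comp_algebraMap.symm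
  have hπfA : ∀ a, πf (algebraMap A Bf a) = algebraMap A Bbf a := fun a => by
    rw [IsScalarTower.algebraMap_apply A B Bf]
    change IsLocalization.map _ _ _ (algebraMap B Bf _) = _
    rw [IsLocalization.map_eq]
    change algebraMap Bbar Bbf (π (algebraMap A B a)) = _
    rw [π.commutes, ← IsScalarTower.algebraMap_apply]
  let π' : Bf →ₐ[A'] Bbf :=
    { πf with
      commutes' := fun p => by
        change πf (MvPolynomial.aeval b p) = algebraMap A' Bbf p
        let πA : Bf →ₐ[A] Bbf := { πf with commutes' := hπfA }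
        have : πA.comp (MvPolynomial.aeval b) = IsScalarTower.toAlgHom A A' Bbf :=
          MvPolynomial.algHom_ext fun j => by
            simp only [AlgHom.comp_apply, MvPolynomial.aeval_X, IsScalarTower.coe_toAlgHom']
            exact hb j
        exact DFunLike.congr_fun this p }
  haveI : Algebra.FinitePresentation A Bf :=
    haveI : Algebra.FinitePresentation B Bf := IsLocalization.Away.finitePresentation f
    Algebra.FinitePresentation.trans A B Bf
  haveI : Algebra.FinitePresentation A' Bf := Algebra.FinitePresentation.of_restrict_scalars_finitePresentation A A' Bf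
  have hkerf : RingHom.ker π' = Ideal.span (Set.range fun i => algebraMap B Bf (t i)) := by
    change RingHom.ker (IsLocalization.map (M := Submonoid.powers f) (T := Submonoid.powers (π f))
      Bbf π.toRingHom (by rw [← Submonoid.map_le_iff_le_comap, Submonoid.map_powers]; exact le_rfl) : Bf →+* Bbf) = _
    rw [IsLocalization.ker_map (T := Submonoid.powers (π f)) Bbf π.toRingHom (by rw [Submonoid.map_powers]; rfl),
      show RingHom.ker π.toRingHom = _ from hker, Ideal.map_span, ← Set.range_comp]
    rfl
  have hd : Disjoint (Submonoid.powers f : Set B) (qbar.comap π) :=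
    (Ideal.disjoint_powers_iff_notMem_of_isPrime f).2 hf
  haveI := IsLocalization.isPrime_of_isPrime_disjoint (Submonoid.powers f) Bf (qbar.comap π) inferInstance hd
  have hle : RingHom.ker π' ≤ (qbar.comap π).map (algebraMap B Bf) := by
    rw [hkerf, Ideal.span_le]
    rintro _ ⟨i, rfl⟩
    refine Ideal.mem_map_of_mem _ ?_
    have : π (t i) = 0 := by
      rw [← RingHom.mem_ker, hker]; exact Ideal.subset_span ⟨i, rfl⟩
    rw [Ideal.mem_comap, this]
    exact zero_mem _
  have hsm : Algebra.IsSmoothAt A' ((qbar.comap π).map (algebraMap B Bf)) :=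
    isSmoothAt_of_quasi_etale (fun i => algebraMap B Bf (t i)) (CAlg48.QRBase.isQuasiRegular_of_flat ht)
      π' hπf hkerf _ hle
  let L := Localization.AtPrime ((qbar.comap π).map (algebraMap B Bf))
  haveI : Algebra.FormallySmooth A' L := hsm
  haveI : Algebra.FormallySmooth A L := Algebra.FormallySmooth.comp A A' L
  haveI : IsLocalization.AtPrime L (((qbar.comap π).map (algebraMap B Bf)).under B) :=
    IsLocalization.isLocalization_isLocalization_atPrime_isLocalization (Submonoid.powers f) L _
  have hu : ((qbar.comap π).map (algebraMap B Bf)).under B = qbar.comap π :=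
    IsLocalization.under_map_of_isPrime_disjoint (Submonoid.powers f) Bf inferInstance hd
  haveI : IsLocalization (qbar.comap π).primeCompl L := by
    have h : IsLocalization (((qbar.comap π).map (algebraMap B Bf)).under B).primeCompl L := inferInstance
    convert h using 2
    exact hu.symm
  exact Algebra.FormallySmooth.of_equiv
    ((IsLocalization.algEquiv (qbar.comap π).primeCompl L (Localization.AtPrime (qbar.comap π))).restrictScalars A)

end Groth.Agent.Omega.QuasiSmooth
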