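import Mathlib.RingTheory.Smooth.NoetherianDescent
import Mathlib.RingTheory.MvPolynomial.Ideal
import Mathlib.RingTheory.Filtration
import Mathlib.RingTheory.Etale.Basic
import Mathlib.RingTheory.Smooth.Flat
import Mathlib.RingTheory.TensorProduct.Quotient

/-!
# Separatedness along the zero section of a smooth algebra over a polynomial ring
-/

set_option autoImplicit false
set_option linter.style.haveILetI false

universe u

open scoped TensorProduct

namespace Groth.Agent.Omega.QuasiSmooth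

variable {A : Type u} [CommRing A]

/-- In a polynomial ring, an element with coefficients in a subring lying in a power of the ideal of the
variables lies in that power over the subring. -/
theorem mem_pow_idealOfVars_of_map {A₀ : Type u} [CommRing A₀] {σ : Type} (φ : A₀ →+* A)
    (hφ : Function.Injective φ) (k : ℕ) (p : MvPolynomial σ A₀)
    (hp : MvPolynomial.map φ p ∈ MvPolynomial.idealOfVars σ A ^ k) :
    p ∈ MvPolynomial.idealOfVars σ A₀ ^ k := by
  rw [MvPolynomial.mem_pow_idealOfVars_iff'] at hp ⊢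
  intro x hx
  apply hφ
  rw [map_zero, ← MvPolynomial.coeff_map]
  exact hp x hx

theorem exists_mul_eq_zero_of_forall_pow {R : Type u} [CommRing R] [IsNoetherianRing R] (q : Ideal R)
    [q.IsPrime] {I : Ideal R} (hI : I ≤ q) (h : R) (hh : ∀ k : ℕ, h ∈ I ^ k) : ∃ s, s ∉ q ∧ s * h = 0 := by
  let L := Localization.AtPrime q
  let J := I.map (algebraMap R L)
  have hJ : J ≠ ⊤ := ((Ideal.map_mono hI).trans_lt
    (by rw [Localization.AtPrime.map_eq_maximalIdeal]
        exact (IsLocalRing.maximalIdeal.isMaximal L).ne_top.lt_top)).ne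
  have hz : algebraMap R L h = 0 := by
    have : algebraMap R L h ∈ ⨅ k : ℕ, J ^ k := Submodule.mem_iInf _ |>.2 fun k => by
      rw [← Ideal.map_pow]
      exact Ideal.mem_map_of_mem _ (hh k)
    rw [Ideal.iInf_pow_eq_bot_of_isLocalRing J hJ] at this
    exact this
  obtain ⟨s₀, hs⟩ := (IsLocalization.map_eq_zero_iff q.primeCompl L h).1 hz
  exact ⟨s₀, s₀.2, hs⟩

/-- An element of a smooth algebra over a polynomial ring, lying in all powers of the ideal of the
variables, vanishes near every prime containing the variables. -/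
theorem exists_mul_eq_zero {σ : Type} [Finite σ] {C : Type u} [CommRing C]
    [Algebra (MvPolynomial σ A) C] [Algebra.Smooth (MvPolynomial σ A) C] (h : C)
    (hh : ∀ k : ℕ, h ∈ (MvPolynomial.idealOfVars σ A ^ k).map (algebraMap (MvPolynomial σ A) C))
    (q : Ideal C) [q.IsPrime] (hq : (MvPolynomial.idealOfVars σ A).map (algebraMap _ C) ≤ q) :
    ∃ s, s ∉ q ∧ s * h = 0 := by
  classical
  obtain ⟨P₀, C₀, _, _, hfg, hsm, ⟨e⟩⟩ :=
    Algebra.Smooth.exists_subalgebra_fg ℤ (MvPolynomial σ A) C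
  obtain ⟨S, hS⟩ := hfg
  obtain ⟨T, hT⟩ := TensorProduct.exists_finset (e h)
  let coeffsOf : MvPolynomial σ A → Finset A := fun p => p.support.image fun d => p.coeff d
  let A₀ : Subalgebra ℤ A :=
    Algebra.adjoin ℤ (↑(S.biUnion coeffsOf ∪ T.biUnion fun x => coeffsOf x.1) : Set A)
  let R' : Subalgebra ℤ (MvPolynomial σ A) := (MvPolynomial.mapAlgHom A₀.val).range
  have hR' : ∀ p : MvPolynomial σ A, (∀ d, p.coeff d ∈ A₀) → p ∈ R' := by
    intro p hp
    have : p ∈ Set.range (MvPolynomial.map A₀.val.toRingHom) := by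
      rw [MvPolynomial.mem_range_map_iff_coeffs_subset]
      intro a ha
      obtain ⟨d, -, rfl⟩ := MvPolynomial.mem_coeffs_iff.1 ha
      exact ⟨⟨_, hp d⟩, rfl⟩
    obtain ⟨x, hx⟩ := this
    exact ⟨x, hx⟩
  have hmem : ∀ p : MvPolynomial σ A, (∀ a ∈ coeffsOf p, a ∈ A₀) → p ∈ R' := by
    intro p hp
    refine hR' p fun d => ?_
    by_cases hd : d ∈ p.support
    · exact hp _ (Finset.mem_image.2 ⟨d, hd, rfl⟩)
    · rw [MvPolynomial.notMem_support_iff.1 hd]; exact zero_mem _
  have hle : P₀ ≤ R' := by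
    rw [← hS]
    refine Algebra.adjoin_le fun p hp => hmem p fun a ha => Algebra.subset_adjoin ?_
    simp only [Finset.coe_union, Finset.coe_biUnion]
    exact Or.inl (Set.mem_biUnion hp ha)
  have hTR : ∀ x ∈ T, x.1 ∈ R' := fun x hx => hmem _ fun a ha => Algebra.subset_adjoin (by
    simp only [Finset.coe_union, Finset.coe_biUnion]
    exact Or.inr (Set.mem_biUnion hx ha))
  letI : Algebra P₀ R' := (Subalgebra.inclusion hle).toRingHom.toAlgebra
  let ι : R' →ₐ[P₀] MvPolynomial σ A := { R'.val.toRingHom with commutes' := fun _ => rfl }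
  let ψ := Algebra.TensorProduct.map (S := P₀) ι (AlgHom.id P₀ C₀)
  let h₀ : R' ⊗[P₀] C₀ := ∑ x ∈ T.attach, (⟨x.1.1, hTR _ x.2⟩ : R') ⊗ₜ[P₀] x.1.2
  have hψ : ψ h₀ = e h := by
    rw [hT, map_sum, ← Finset.sum_attach T]
    exact Finset.sum_congr rfl fun x _ => rfl
  let IA := MvPolynomial.idealOfVars σ A
  let I' : Ideal R' := Ideal.span (Set.range fun i : σ =>
    (⟨MvPolynomial.X i, ⟨MvPolynomial.X i, MvPolynomial.map_X A₀.val.toRingHom i⟩⟩ : R'))
  have hM : ∀ k, (IA ^ k).comap ι.toRingHom ≤ I' ^ k := by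
    intro k p hp
    obtain ⟨p', hp'⟩ := p.2
    let μ : MvPolynomial σ A₀ →+* R' := (MvPolynomial.mapAlgHom A₀.val).rangeRestrict.toRingHom
    have hμ : μ p' = p := Subtype.ext hp'
    have h1 : p' ∈ MvPolynomial.idealOfVars σ A₀ ^ k := by
      refine mem_pow_idealOfVars_of_map A₀.val.toRingHom Subtype.val_injective k p' ?_
      rw [show MvPolynomial.map A₀.val.toRingHom p' = (p : MvPolynomial σ A) from hp']
      exact hp
    have h2 := Ideal.mem_map_of_mem μ h1
    rw [Ideal.map_pow, hμ, MvPolynomial.idealOfVars, Ideal.map_span, ← Set.range_comp] at h2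
    have hset : (fun i : σ => (⟨MvPolynomial.X i, ⟨MvPolynomial.X i, MvPolynomial.map_X A₀.val.toRingHom i⟩⟩ : R')) =
        μ ∘ MvPolynomial.X := funext fun i => Subtype.ext (MvPolynomial.map_X A₀.val.toRingHom i).symm
    change p ∈ Ideal.span (Set.range _) ^ k
    rw [hset]
    exact h2
  let incl : R' →ₐ[P₀] R' ⊗[P₀] C₀ := Algebra.TensorProduct.includeLeft
  have hk : ∀ k, h₀ ∈ (I' ^ k).map incl.toRingHom := by
    intro k
    refine Ideal.map_mono (hM k) ?_
    let pr : MvPolynomial σ A →ₐ[P₀] MvPolynomial σ A ⧸ IA ^ k := Ideal.Quotient.mkₐ P₀ (IA ^ k)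
    let M₀ : Ideal R' := (IA ^ k).comap ι.toRingHom
    let pr₀ : R' →ₐ[P₀] R' ⧸ M₀ := Ideal.Quotient.mkₐ P₀ M₀
    let j : (R' ⧸ M₀) →ₐ[P₀] MvPolynomial σ A ⧸ IA ^ k :=
      Ideal.quotientMapₐ (IA ^ k) ι (le_of_eq rfl)
    have hj : Function.Injective j := Ideal.quotientMap_injective' (H := le_of_eq rfl) (le_of_eq rfl)
    have hcomp : j.comp pr₀ = pr.comp ι := AlgHom.ext fun _ => rfl
    haveI : Module.Flat P₀ C₀ := inferInstance
    have hinj : Function.Injective (Algebra.TensorProduct.map j (AlgHom.id P₀ C₀)) :=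
      Module.Flat.rTensor_preserves_injective_linearMap (M := C₀) j.toLinearMap hj
    have h0 : Algebra.TensorProduct.map pr₀ (AlgHom.id P₀ C₀) h₀ = 0 := by
      apply hinj
      rw [map_zero, ← AlgHom.comp_apply, ← Algebra.TensorProduct.map_comp, hcomp, AlgHom.id_comp]
      rw [show Algebra.TensorProduct.map (pr.comp ι) (AlgHom.id P₀ C₀) =
        (Algebra.TensorProduct.map pr (AlgHom.id P₀ C₀)).comp ψ from by
          rw [← Algebra.TensorProduct.map_comp, AlgHom.id_comp], AlgHom.comp_apply, hψ]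
      have h1 := Ideal.mem_map_of_mem e.toAlgHom.toRingHom (hh k)
      rw [Ideal.map_map] at h1
      refine (show (IA ^ k).map (e.toAlgHom.toRingHom.comp (algebraMap (MvPolynomial σ A) C)) ≤
        RingHom.ker (Algebra.TensorProduct.map pr (AlgHom.id P₀ C₀)) from ?_) h1
      refine Ideal.map_le_iff_le_comap.2 fun p hp => ?_
      simp only [Ideal.mem_comap, RingHom.mem_ker, RingHom.coe_comp, Function.comp_apply]
      change Algebra.TensorProduct.map pr (AlgHom.id P₀ C₀) (e (algebraMap _ _ p)) = 0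
      rw [e.commutes, Algebra.TensorProduct.algebraMap_apply, Algebra.TensorProduct.map_tmul]
      change pr p ⊗ₜ[P₀] (1 : C₀) = 0
      rw [show pr p = 0 from Ideal.Quotient.eq_zero_iff_mem.2 hp, TensorProduct.zero_tmul]
    have h3 : h₀ ∈ RingHom.ker (Algebra.TensorProduct.map pr₀ (AlgHom.id P₀ C₀)) := h0
    rw [Algebra.TensorProduct.rTensor_ker _ (Ideal.Quotient.mkₐ_surjective P₀ M₀)] at h3
    rw [show RingHom.ker pr₀ = M₀ from Ideal.Quotient.mkₐ_ker P₀ M₀] at h3
    exact h3
  haveI : Algebra.FiniteType ℤ A₀ := (Subalgebra.fg_iff_finiteType A₀).1 ⟨_, rfl⟩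
  haveI : IsNoetherianRing A₀ := Algebra.FiniteType.isNoetherianRing ℤ A₀
  haveI : IsNoetherianRing R' :=
    isNoetherianRing_of_surjective _ _ _ (MvPolynomial.mapAlgHom A₀.val).rangeRestrict_surjective
  haveI : Algebra.FiniteType R' (R' ⊗[P₀] C₀) := inferInstance
  haveI := Algebra.FiniteType.isNoetherianRing R' (R' ⊗[P₀] C₀)
  let θ : R' ⊗[P₀] C₀ →+* C := e.symm.toAlgHom.toRingHom.comp ψ.toRingHom
  let q₀ : Ideal (R' ⊗[P₀] C₀) := q.comap θ
  have hI₀ : I'.map incl.toRingHom ≤ q₀ := by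
    refine Ideal.map_le_iff_le_comap.2 (Ideal.span_le.2 ?_)
    rintro _ ⟨i, rfl⟩
    refine hq ?_
    have : θ (incl.toRingHom ⟨MvPolynomial.X i, ⟨MvPolynomial.X i, MvPolynomial.map_X A₀.val.toRingHom i⟩⟩) =
        algebraMap (MvPolynomial σ A) C (MvPolynomial.X i) := by
      refine e.injective ?_
      rw [e.commutes]
      change e (e.symm _) = _
      rw [e.apply_symm_apply]
      rfl
    exact (congrArg (· ∈ Ideal.map (algebraMap (MvPolynomial σ A) C) (MvPolynomial.idealOfVars σ A)) this).mpr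
      (Ideal.mem_map_of_mem _ (Ideal.subset_span ⟨i, rfl⟩))
  obtain ⟨s₀, hs₀, hs⟩ := exists_mul_eq_zero_of_forall_pow q₀ hI₀ h₀ fun k => by
    rw [← Ideal.map_pow]
    exact hk k
  refine ⟨θ s₀, hs₀, ?_⟩
  have hθ : θ h₀ = h := by
    change e.symm (ψ h₀) = h
    rw [hψ, e.symm_apply_apply]
  rw [← hθ, ← map_mul, hs, map_zero]

end Groth.Agent.Omega.QuasiSmooth
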