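import Groth.Agent.Omega.SeparableMono
import Groth.Agent.Omega.GenericSep
import Groth.Agent.FieldSep.Cartier
import Groth.Agent.VarBC.Dim
import Groth.Agent.CycLib.Residue
import Groth.Agent.Props.QProj
import Groth.Agent.AmpleLib.Span

/-!
# Sections of the differentials of the source of a separable morphism
-/

set_option autoImplicit false
set_option linter.style.haveILetI false

universe u

open CategoryTheory CategoryTheory.Limits AlgebraicGeometry TopologicalSpace
open scoped TensorProduct

noncomputable section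

namespace Groth.Agent.Omega.SepSections

/-- The image of the differentials of a separably extended subfield is large. -/
theorem rank_span_ge {k K L : Type u} [Field k] [Field K] [Field L] [Algebra k K] [Algebra k L]
    [Algebra K L] [IsScalarTower k K L] [Algebra.EssFiniteType k K] [Algebra.FormallySmooth K L]
    (m : ℕ) (hm : m ≤ Cardinal.toNat (Algebra.trdeg k K)) (S : Submodule L (KaehlerDifferential k L))
    (hS : ∀ a : K, KaehlerDifferential.D k L (algebraMap K L a) ∈ S) :
    (m : Cardinal.{u}) ≤ Module.rank L S := by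
  obtain ⟨h1, -, h3⟩ := FieldSep.Cartier.trdeg_le_finrank_sub_finrank k k K
  haveI := h1
  have hK : m ≤ Module.finrank K (KaehlerDifferential k K) := by omega
  let ι := KaehlerDifferential.mapBaseChange k K L
  have hinj : Function.Injective ι := by
    rw [injective_iff_map_eq_zero]
    intro t ht
    obtain ⟨y, rfl⟩ := (Algebra.H1Cotangent.exact_δ_mapBaseChange k K L t).mp ht
    rw [Subsingleton.elim y 0, map_zero]
  have hle : LinearMap.range ι ≤ S := by
    rintro _ ⟨t, rfl⟩
    induction t using TensorProduct.induction_on with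
    | zero => simp
    | add a b ha hb => rw [map_add]; exact add_mem ha hb
    | tmul b w =>
      rw [KaehlerDifferential.mapBaseChange_tmul]
      refine S.smul_mem _ ?_
      have hw : w ∈ Submodule.span K (Set.range (KaehlerDifferential.D k K)) := by
        rw [KaehlerDifferential.span_range_derivation]; trivial
      induction hw using Submodule.span_induction with
      | mem w hw =>
        obtain ⟨a, rfl⟩ := hw
        rw [KaehlerDifferential.map_D]
        exact hS a
      | zero => rw [map_zero]; exact zero_mem _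
      | add a b _ _ ha hb => rw [map_add]; exact add_mem ha hb
      | smul r a _ ha => rw [map_smul, ← algebraMap_smul L r]; exact S.smul_mem _ ha
  refine le_trans ?_ (Submodule.rank_mono hle)
  rw [← (LinearEquiv.ofInjective ι hinj).rank_eq, Module.rank_baseChange, Cardinal.lift_id,
    ← Module.finrank_eq_rank]
  exact_mod_cast hK

/-- A spanning family of a space of rank at least `m` contains `m` independent members. -/
theorem exists_fin_of_rank {L V : Type u} [Field L] [AddCommGroup V] [Module L V] {ι : Type u} (v : ι → V)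
    (m : ℕ) (h : (m : Cardinal.{u}) ≤ Module.rank L (Submodule.span L (Set.range v))) :
    ∃ j : Fin m → ι, LinearIndependent L (v ∘ j) := by
  obtain ⟨b, hb, hspan, hli⟩ := exists_linearIndependent L (Set.range v)
  rw [← hspan, rank_span_set hli] at h
  obtain ⟨e⟩ : Nonempty (Fin m ↪ b) := Cardinal.lift_mk_le'.mp (by simpa using h)
  choose j hj using fun i : Fin m => hb (e i).2
  refine ⟨j, ?_⟩
  have : v ∘ j = (Subtype.val : b → V) ∘ e := funext hj
  rw [this]
  exact hli.comp _ e.injective

open OmegaSh Basic Stalks StalkConormal SeparableMono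
open Groth.Agent.PullStalk.Sky Groth.Agent.PullStalk.Exact Groth.Agent.PullStalk.Basic

set_option maxHeartbeats 1000000 in
theorem exists_global_germs (k : Type u) [Field k] {X Z : Scheme.{u}}
    [Z.Over (Spec (CommRingCat.of k))] [IsIntegral X] [LocallyOfFiniteType (Z ↘ Spec (CommRingCat.of k))]
    (f : X ⟶ Z) (m : ℕ) (hm : m ≤ VarDim.dimPt k Z (f (genericPoint X)))
    (hsep : letI := (f.residueFieldMap (genericPoint X)).hom.toAlgebra
      Algebra.FormallySmooth (Z.residueField (f (genericPoint X))) (X.residueField (genericPoint X)))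
    {ΩZ : Z.Modules} {dZ : Der (Z ↘ Spec (CommRingCat.of k)) ΩZ} (hZ : IsUniversal dZ)
    {ΩX : X.Modules} {dX : Der (f ≫ Z ↘ Spec (CommRingCat.of k)) ΩX} (hX : IsUniversal dX)
    {c : (Scheme.Modules.pullback f).obj ΩZ ⟶ ΩX} (hc : IsDiffCompat f dZ dX c)
    (hgen : ∀ (V : X.Opens) (hV : genericPoint X ∈ V) (s : Γ((Scheme.Modules.pullback f).obj ΩZ, V)),
      germM ((Scheme.Modules.pullback f).obj ΩZ) V (genericPoint X) hV s ∈
        Submodule.span (X.presheaf.stalk (genericPoint X))
        (Set.range fun σ : Γ((Scheme.Modules.pullback f).obj ΩZ, ⊤) ↦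
          germM ((Scheme.Modules.pullback f).obj ΩZ) ⊤ (genericPoint X) trivial σ))
    :
    ∃ σ : Fin m → Γ(ΩX, ⊤),
      LinearIndependent (X.presheaf.stalk (genericPoint X)) fun i => germM ΩX ⊤ (genericPoint X) trivial (σ i) := by
  let pZ := Z ↘ Spec (CommRingCat.of k)
  let ξ := genericPoint X
  let A := Z.presheaf.stalk (f ξ)
  let B := X.presheaf.stalk ξ
  let K := Z.residueField (f ξ)
  let L := X.residueField ξ
  let P := (Scheme.Modules.pullback f).obj ΩZ
  let σk : k →+* (Spec (CommRingCat.of k)).presheaf.stalk (pZ (f ξ)) :=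
    ((Scheme.ΓSpecIso (CommRingCat.of k)).inv ≫
      (Spec (CommRingCat.of k)).presheaf.germ ⊤ (pZ (f ξ)) trivial).hom
  have hσk : Function.Surjective σk := specField_stalk_surjective k (pZ (f ξ))
  letI : Algebra k K := (Curv2.resMap k Z (f ξ)).toAlgebra
  letI : Algebra K L := (f.residueFieldMap ξ).hom.toAlgebra
  letI : Algebra k L := ((algebraMap K L).comp (algebraMap k K)).toAlgebra
  haveI : IsScalarTower k K L := IsScalarTower.of_algebraMap_eq fun _ => rfl
  haveI : Algebra.FormallySmooth K L := hsep
  have hk : ∀ a : k, algebraMap k K a = Z.residue (f ξ) (pZ.stalkMap (f ξ) (σk a)) := fun a => by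
    change (Z.residue (f ξ)) (Z.presheaf.germ ⊤ (f ξ) trivial (Coh.toGlobal pZ a)) = _
    congr 1
    exact (Scheme.Hom.germ_stalkMap_apply pZ ⊤ (f ξ) trivial _).symm
  haveI : Algebra.EssFiniteType k K := by
    change (algebraMap k K).EssFiniteType
    have : (((Z.residue (f ξ)).hom.comp (pZ.stalkMap (f ξ)).hom).comp σk) = algebraMap k K :=
      RingHom.ext fun a => (hk a).symm
    rw [← this]
    exact RingHom.EssFiniteType.comp
      (RingHom.FiniteType.essFiniteType (RingHom.FiniteType.of_surjective _ hσk))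
      (RingHom.EssFiniteType.comp (LocallyOfFiniteType.stalkMap pZ (f ξ))
        (RingHom.FiniteType.essFiniteType (RingHom.FiniteType.of_surjective _ (Z.residue_surjective (f ξ)))))
  have hres : ∀ a : A, X.residue ξ (f.stalkMap ξ a) = algebraMap K L (Z.residue (f ξ) a) := fun a =>
    (congr($(Scheme.residue_residueFieldMap f ξ) a)).symm
  obtain ⟨δ, -, -, hδ, hu⟩ := exists_pullDer f ξ hZ
  obtain ⟨δX, -, -, hδX, huX⟩ := exists_stalk_universal hX ξ
  let DL := KaehlerDifferential.D k L
  letI : Module B (KaehlerDifferential k L) := Module.compHom _ (X.residue ξ).hom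
  obtain ⟨ψ, hψ, -⟩ := huX (KaehlerDifferential k L)
    (AddMonoidHom.mk' (fun b => DL (X.residue ξ b)) fun a b => by rw [map_add, map_add])
    (fun a b => by
      change DL (X.residue ξ (a * b)) = X.residue ξ a • DL (X.residue ξ b) + X.residue ξ b • DL (X.residue ξ a)
      rw [map_mul, Derivation.leibniz])
    (fun t => by
      obtain ⟨t, rfl⟩ := hσk t
      change DL (X.residue ξ ((f ≫ pZ).stalkMap ξ (σk t))) = 0
      rw [show (f ≫ pZ).stalkMap ξ (σk t) = f.stalkMap ξ (pZ.stalkMap (f ξ) (σk t)) from
        congr($(Scheme.Hom.stalkMap_comp f pZ ξ) (σk t)), hres, ← hk, ← IsScalarTower.algebraMap_apply]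
      exact DL.map_algebraMap t)
  let Ψ : P.presheaf.stalk ξ →ₗ[B] KaehlerDifferential k L := ψ ∘ₗ stalkLin c ξ
  have hΨ : ∀ a : A, Ψ (δ a) = DL (algebraMap K L (Z.residue (f ξ) a)) := fun a => by
    obtain ⟨V, hV, s, rfl⟩ := Z.presheaf.exists_germ_eq (x := f ξ) a
    rw [← hres, LinearMap.comp_apply, hδ V hV s, stalkLin_germ, hc V s, ← hδX, hψ]
    exact congrArg (fun b => DL (X.residue ξ b)) (Scheme.Hom.germ_stalkMap_apply f V ξ hV s).symm
  let S := Submodule.span L (Set.range fun σ : Γ(P, ⊤) => Ψ (germM P ⊤ ξ trivial σ))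
  have hall : ∀ v, Ψ v ∈ S := fun v => by
    obtain ⟨V, hV, n, rfl⟩ := exists_germM_eq P ξ v
    have hv := hgen V hV n
    generalize germM P V ξ hV n = w at hv ⊢
    induction hv using Submodule.span_induction with
    | mem v hv =>
      obtain ⟨σ, rfl⟩ := hv
      exact Submodule.subset_span ⟨σ, rfl⟩
    | zero => rw [map_zero]; exact zero_mem _
    | add a b _ _ ha hb => rw [map_add]; exact add_mem ha hb
    | smul r a _ ha => rw [map_smul]; exact S.smul_mem (X.residue ξ r) ha
  have hrank := rank_span_ge (k := k) (K := K) (L := L) m hm S fun a => by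
    obtain ⟨a, rfl⟩ := Z.residue_surjective (f ξ) a
    exact hΨ a ▸ hall _
  obtain ⟨j, hj⟩ := exists_fin_of_rank _ m hrank
  refine ⟨fun i => c.app ⊤ (j i), LinearIndependent.of_comp ψ ?_⟩
  rw [Fintype.linearIndependent_iff]
  intro g hg i
  refine (RingHom.injective ((X.residue ξ).hom : X.functionField →+* L)) ?_
  rw [map_zero]
  refine Fintype.linearIndependent_iff.mp hj (fun i => X.residue ξ (g i)) (Eq.trans ?_ hg) i
  refine Finset.sum_congr rfl fun i _ => ?_
  change X.residue ξ (g i) • ψ (stalkLin c ξ (germM P ⊤ ξ trivial (j i))) = X.residue ξ (g i) • _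
  rw [stalkLin_germ]
  rfl

theorem exists_linearIndependent_sections (k : Type u) [Field k] {X Z : Scheme.{u}}
    [Z.Over (Spec (CommRingCat.of k))] [IsIntegral X] [LocallyOfFiniteType (Z ↘ Spec (CommRingCat.of k))]
    (f : X ⟶ Z) (m : ℕ) (hm : m ≤ VarDim.dimPt k Z (f (genericPoint X)))
    (hsep : letI := (f.residueFieldMap (genericPoint X)).hom.toAlgebra
      Algebra.FormallySmooth (Z.residueField (f (genericPoint X))) (X.residueField (genericPoint X)))
    {ΩZ : Z.Modules} {dZ : Der (Z ↘ Spec (CommRingCat.of k)) ΩZ} (hZ : IsUniversal dZ)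
    {ΩX : X.Modules} {dX : Der (f ≫ Z ↘ Spec (CommRingCat.of k)) ΩX} (hX : IsUniversal dX)
    {c : (Scheme.Modules.pullback f).obj ΩZ ⟶ ΩX} (hc : IsDiffCompat f dZ dX c)
    (hgen : ∀ (V : X.Opens) (hV : genericPoint X ∈ V) (s : Γ((Scheme.Modules.pullback f).obj ΩZ, V)),
      germM ((Scheme.Modules.pullback f).obj ΩZ) V (genericPoint X) hV s ∈
        Submodule.span (X.presheaf.stalk (genericPoint X))
        (Set.range fun σ : Γ((Scheme.Modules.pullback f).obj ΩZ, ⊤) ↦
          germM ((Scheme.Modules.pullback f).obj ΩZ) ⊤ (genericPoint X) trivial σ))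
    (U : X.Opens) :
    ∃ s : Fin m → ΩX.val.obj (Opposite.op U),
      LinearIndependent (X.ringCatSheaf.obj.obj (Opposite.op U)) s := by
  obtain ⟨σ, hσ⟩ := exists_global_germs k f m hm hsep hZ hX hc hgen
  refine ⟨fun i => ΩX.presheaf.map (homOfLE (le_top : U ≤ ⊤)).op (σ i), ?_⟩
  rw [Fintype.linearIndependent_iff]
  intro g hg i
  let g' : Fin m → Γ(X, U) := g
  let ξ := genericPoint X
  by_cases hξ : ξ ∈ U
  swap
  · haveI : Subsingleton Γ(X, U) := by
      have : U = ⊥ := by
        by_contra hne
        exact hξ (((genericPoint_spec X).mem_open_set_iff U.isOpen).mpr (by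
          simpa using (Opens.ne_bot_iff_nonempty U).mp hne))
      subst this
      infer_instance
    exact Subsingleton.elim (α := Γ(X, U)) _ _
  have h0 := congrArg (fun t => germM ΩX U ξ hξ t) hg
  simp only [germM] at h0
  have key : (fun i => X.presheaf.germ U ξ hξ (g' i)) i = 0 := by
    refine Fintype.linearIndependent_iff.mp hσ (fun i => X.presheaf.germ U ξ hξ (g' i)) ?_ i
    refine Eq.trans ?_ (h0.trans (map_zero (ΩX.presheaf.germ U ξ hξ).hom))
    refine Eq.trans ?_ (map_sum (ΩX.presheaf.germ U ξ hξ).hom _ _).symm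
    refine Finset.sum_congr rfl fun i _ => ?_
    change _ = germM ΩX U ξ hξ (g' i • _)
    rw [germM_smul]
    exact congrArg (fun t => X.presheaf.germ U ξ hξ (g' i) • t)
      (ΩX.presheaf.germ_res_apply (homOfLE (le_top : U ≤ ⊤)) ξ hξ _).symm
  refine germ_injective_of_isIntegral X ξ hξ (a₁ := g' i) (a₂ := (0 : Γ(X, U))) ?_
  rw [map_zero]
  exact key

end Groth.Agent.Omega.SepSections

end
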