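import Mathlib.RingTheory.Smooth.Basic
import Mathlib.RingTheory.LocalRing.Module
import Mathlib.RingTheory.Etale.Locus
import Mathlib.RingTheory.Etale.Kaehler
import Mathlib.RingTheory.RingHom.Etale
import Mathlib.RingTheory.Smooth.Flat
import Mathlib.RingTheory.Localization.Ideal

/-!
# Cutting an étale algebra out of a smooth one along a section
-/

set_option autoImplicit false
set_option linter.style.haveILetI false

universe v w

open TensorProduct

namespace Groth.Agent.Omega.SmoothRelDimZero

variable {C : Type v} {B : Type w} [CommRing C] [CommRing B] [Algebra C B]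

/-- Elements whose differentials form a basis cut out a formally étale local algebra. -/
theorem formallyEtale_of_basis {T : Type w} [CommRing T] [Algebra C T] [Algebra.FormallySmooth C T]
    {L : Type w} [CommRing L] [Algebra C L] [Algebra T L] [IsScalarTower C T L]
    {ι : Type w} (f : ι → T) (b : Module.Basis ι T Ω[T⁄C]) (hb : ∀ i, b i = KaehlerDifferential.D C T (f i))
    (hsurj : Function.Surjective (algebraMap T L))
    (hker : RingHom.ker (algebraMap T L) = Ideal.span (Set.range f)) : Algebra.FormallyEtale C L := by
  classical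
  let bL := b.baseChange L
  have hf : ∀ i, f i ∈ RingHom.ker (algebraMap T L) := fun i => hker ▸ Ideal.subset_span ⟨i, rfl⟩
  have hbL : ∀ i, KaehlerDifferential.kerCotangentToTensor C T L (Ideal.toCotangent _ ⟨f i, hf i⟩) = bL i := by
    intro i
    rw [KaehlerDifferential.kerCotangentToTensor_toCotangent, Module.Basis.baseChange_apply, hb]
  have hsurjK : Function.Surjective (KaehlerDifferential.kerCotangentToTensor C T L) := by
    intro y
    induction y using TensorProduct.induction_on with
    | zero => exact ⟨0, map_zero _⟩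
    | add x y hx hy =>
      obtain ⟨a, rfl⟩ := hx
      obtain ⟨c, rfl⟩ := hy
      exact ⟨a + c, map_add _ _ _⟩
    | tmul l ω =>
      obtain ⟨t, rfl⟩ := hsurj l
      have hω : ω ∈ Submodule.span T (Set.range b) := by rw [b.span_eq]; trivial
      induction hω using Submodule.span_induction with
      | zero => exact ⟨0, by simp⟩
      | mem x hx =>
        obtain ⟨i, rfl⟩ := hx
        refine ⟨t • Ideal.toCotangent _ ⟨f i, hf i⟩, ?_⟩
        rw [map_smul, hbL, Module.Basis.baseChange_apply, TensorProduct.smul_tmul', ← Algebra.algebraMap_eq_smul_one]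
      | add x y _ _ hx hy =>
        obtain ⟨a, ha⟩ := hx
        obtain ⟨c, hc⟩ := hy
        exact ⟨a + c, by rw [map_add, ha, hc, tmul_add]⟩
      | smul r x _ hx =>
        obtain ⟨a, ha⟩ := hx
        exact ⟨r • a, by rw [map_smul, ha, ← TensorProduct.tmul_smul]⟩
  have hinjK : Function.Injective (KaehlerDifferential.kerCotangentToTensor C T L) := by
    rw [injective_iff_map_eq_zero]
    intro z hz
    obtain ⟨⟨x, hx⟩, rfl⟩ := Ideal.toCotangent_surjective _ z
    have hx' := hx
    rw [hker, Ideal.span, Finsupp.mem_span_range_iff_exists_finsupp] at hx'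
    obtain ⟨a, rfl⟩ := hx'
    rw [Ideal.toCotangent_eq_zero]
    have hrep : (bL.repr (KaehlerDifferential.kerCotangentToTensor C T L
        (Ideal.toCotangent _ ⟨a.sum fun i r => r • f i, hx⟩))) = a.mapRange (algebraMap T L) (map_zero _) := by
      have : (Ideal.toCotangent (RingHom.ker (algebraMap T L)) ⟨a.sum fun i r => r • f i, hx⟩) =
          a.sum fun i r => r • Ideal.toCotangent _ (⟨f i, hf i⟩ : RingHom.ker (algebraMap T L)) := by
        simp only [← map_smul, Finsupp.sum, ← map_sum]
        congr 1
        exact Subtype.ext (by simp [Finsupp.sum])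
      rw [this]
      simp only [Finsupp.sum, map_sum, map_smul, hbL]
      ext i
      simp [← IsScalarTower.algebraMap_smul L (M := L ⊗[T] Ω[T⁄C]), Finsupp.single_apply, ← Algebra.algebraMap_eq_smul_one]
      intro h
      simp [h]
    rw [hz, map_zero] at hrep
    have ha : ∀ i, a i ∈ RingHom.ker (algebraMap T L) := fun i => by
      have := congrArg (fun v => v i) hrep
      simpa [RingHom.mem_ker] using this.symm
    rw [sq]
    exact Ideal.sum_mem _ fun i _ => Ideal.mul_mem_mul (ha i) (hf i)
  haveI : Algebra.FormallySmooth C L := (Algebra.FormallySmooth.iff_split_injection hsurj).2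
    ⟨(LinearEquiv.ofBijective _ ⟨hinjK, hsurjK⟩).symm.toLinearMap, LinearMap.ext fun x =>
      (LinearEquiv.ofBijective _ ⟨hinjK, hsurjK⟩).symm_apply_apply x⟩
  haveI : Algebra.FormallyUnramified C L := by
    rw [Algebra.formallyUnramified_iff]
    refine ⟨fun x y => ?_⟩
    have key : ∀ x : Ω[L⁄C], x = 0 := fun x => by
      obtain ⟨u, rfl⟩ := KaehlerDifferential.mapBaseChange_surjective C T L hsurj x
      exact (KaehlerDifferential.exact_kerCotangentToTensor_mapBaseChange C T L hsurj u).2 (hsurjK u)
    rw [key x, key y]
  exact Algebra.FormallyEtale.iff_formallyUnramified_and_formallySmooth.2 ⟨inferInstance, inferInstance⟩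

/-- Near a point of a closed subscheme onto which the base surjects, a smooth algebra contains an étale
closed subscheme containing it. -/
theorem exists_etale_quotient [Algebra.Smooth C B] (J : Ideal B)
    (hsurj : Function.Surjective ((Ideal.Quotient.mk J).comp (algebraMap C B)))
    (q : Ideal B) [q.IsPrime] (hq : J ≤ q) :
    ∃ J₀ : Ideal B, J₀ ≤ J ∧ J₀.FG ∧ ∃ f : B, f ∉ q ∧
      Algebra.Etale C (Localization.Away (Ideal.Quotient.mk J₀ f)) := by
  let T := Localization.AtPrime q
  let k := IsLocalRing.ResidueField T
  haveI : Algebra.FormallyEtale B T := Algebra.FormallyEtale.of_isLocalization q.primeCompl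
  haveI : Algebra.FormallySmooth C T := Algebra.FormallySmooth.comp C B T
  have hbc := KaehlerDifferential.isBaseChange_of_formallyEtale C B T
  haveI : Module.Finite T Ω[T⁄C] := Module.Finite.equiv hbc.equiv
  let d : B → Ω[T⁄C] := fun b => KaehlerDifferential.D C T (algebraMap B T b)
  let v : J → k ⊗[T] Ω[T⁄C] := fun j => 1 ⊗ₜ d j
  have hdJ : ∀ b, ∃ j : J, d b = d j := by
    intro b
    obtain ⟨c, hc⟩ := hsurj (Ideal.Quotient.mk J b)
    refine ⟨⟨b - algebraMap C B c, Ideal.Quotient.eq.1 hc.symm⟩, ?_⟩
    simp only [d, map_sub, ← IsScalarTower.algebraMap_apply, Derivation.map_algebraMap, sub_zero]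
  have hspan : Submodule.span k (Set.range v) = ⊤ := by
    rw [eq_top_iff]
    intro y hy
    clear hy
    induction y using TensorProduct.induction_on with
    | zero => exact zero_mem _
    | add x y hx hy => exact add_mem hx hy
    | tmul l ω =>
      obtain ⟨z, rfl⟩ := hbc.equiv.surjective ω
      induction z using TensorProduct.induction_on with
      | zero => simp
      | add x y hx hy =>
        rw [map_add, tmul_add]
        exact add_mem hx hy
      | tmul t η =>
        rw [IsBaseChange.equiv_tmul, ← TensorProduct.smul_tmul]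
        generalize t • l = l'
        have hη : η ∈ Submodule.span B (Set.range (KaehlerDifferential.D C B)) := by
          rw [KaehlerDifferential.span_range_derivation]; trivial
        induction hη using Submodule.span_induction generalizing l' with
        | zero => simp
        | mem x hx =>
          obtain ⟨b, rfl⟩ := hx
          obtain ⟨j, hj⟩ := hdJ b
          have : (KaehlerDifferential.map C C B T) (KaehlerDifferential.D C B b) = d j := by
            rw [KaehlerDifferential.map_D]; exact hj
          rw [this, show l' ⊗ₜ[T] d j = l' • v j by simp [v, TensorProduct.smul_tmul']]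
          exact Submodule.smul_mem _ _ (Submodule.subset_span ⟨j, rfl⟩)
        | add x y _ _ hx hy =>
          rw [map_add, tmul_add]
          exact add_mem (hx l') (hy l')
        | smul r x _ hx =>
          rw [map_smul, ← IsScalarTower.algebraMap_smul T r, ← TensorProduct.smul_tmul]
          exact hx _
  obtain ⟨ι, a, -, hsp, hli⟩ := exists_linearIndependent' k v
  haveI : Finite ι := Module.Finite.finite_basis (Module.Basis.mk hli (by rw [hsp, hspan]))
  have hbij := Module.IsLocalRing.linearCombination_bijective_of_flat (R := T) (fun i => d (a i))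
    ⟨hli, by
      rw [← LinearMap.range_eq_top, Finsupp.range_linearCombination]
      exact hsp.trans hspan⟩
  let b : Module.Basis ι T Ω[T⁄C] := Module.Basis.mk hbij.1 (by
    rw [← Finsupp.range_linearCombination, LinearMap.range_eq_top.2 hbij.2])
  let J₀ : Ideal B := Ideal.span (Set.range fun i => (a i : B))
  have hJ₀J : J₀ ≤ J := Ideal.span_le.2 fun x ⟨i, hi⟩ => hi ▸ (a i).2
  have hJ₀q : J₀ ≤ q := hJ₀J.trans hq
  let qb : Ideal (B ⧸ J₀) := q.map (Ideal.Quotient.mk J₀)
  haveI : qb.IsPrime := Ideal.map_isPrime_of_surjective Ideal.Quotient.mk_surjective (by rwa [Ideal.mk_ker])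
  have hmap : q.primeCompl.map (Ideal.Quotient.mk J₀) = qb.primeCompl := by
    ext x
    obtain ⟨x, rfl⟩ := Ideal.Quotient.mk_surjective x
    refine ⟨?_, fun hx => ⟨x, fun h => hx (Ideal.mem_map_of_mem _ h), rfl⟩⟩
    rintro ⟨y, hy, hyx⟩ hxq
    obtain ⟨z, hz, hzx⟩ := (Ideal.mem_map_iff_of_surjective _ Ideal.Quotient.mk_surjective).1 hxq
    have : y - z ∈ J₀ := Ideal.Quotient.eq.1 (hyx.trans hzx.symm)
    exact hy (by simpa using q.add_mem (hJ₀q this) hz)
  let L := Localization.AtPrime qb
  haveI : IsLocalization (q.primeCompl.map (Ideal.Quotient.mk J₀)) L := by rw [hmap]; infer_instance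
  let φ : T →+* L := IsLocalization.map L (Ideal.Quotient.mk J₀) q.primeCompl.le_comap_map
  letI : Algebra T L := φ.toAlgebra
  haveI : IsScalarTower C T L := IsScalarTower.of_algebraMap_eq fun c => by
    change algebraMap C L c = φ (algebraMap C T c)
    rw [IsScalarTower.algebraMap_apply C B T, IsLocalization.map_eq, IsScalarTower.algebraMap_apply C (B ⧸ J₀) L]
    rfl
  have hker : RingHom.ker (algebraMap T L) = Ideal.span (Set.range fun i => algebraMap B T (a i)) := by
    change RingHom.ker φ = _
    rw [IsLocalization.ker_map (T := q.primeCompl.map (Ideal.Quotient.mk J₀)) L (Ideal.Quotient.mk J₀) rfl,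
      Ideal.mk_ker, Ideal.map_span, ← Set.range_comp]
    rfl
  haveI : Algebra.IsEtaleAt C qb :=
    formallyEtale_of_basis (T := T) (L := L) (fun i => algebraMap B T (a i)) b
      (fun i => Module.Basis.mk_apply _ _ i)
      (IsLocalization.map_surjective_of_surjective (g := Ideal.Quotient.mk J₀) q.primeCompl T L Ideal.Quotient.mk_surjective)
      hker
  have hfg : J₀.FG := Submodule.fg_span (Set.finite_range _)
  haveI : Algebra.FinitePresentation C (B ⧸ J₀) := Algebra.FinitePresentation.quotient hfg
  obtain ⟨f, hf, hfet⟩ := Algebra.exists_etale_of_isEtaleAt (R := C) qb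
  obtain ⟨f, rfl⟩ := Ideal.Quotient.mk_surjective f
  exact ⟨J₀, hJ₀J, hfg, f, fun h => hf (Ideal.mem_map_of_mem _ h), hfet⟩

end Groth.Agent.Omega.SmoothRelDimZero
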