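import Groth.Prelude.Def_Omega3
import Mathlib.RingTheory.Localization.Basic
import Mathlib.RingTheory.Localization.Ideal
import Mathlib.RingTheory.Ideal.Quotient.Nilpotent

/-!
# Localisation of universal first order thickenings
-/

set_option autoImplicit false

universe u

namespace Groth.Agent.Omega.ThickLoc

/-- Localising a universal thickening at a multiplicative set (the base may be replaced by an epimorphic
extension of it). -/
theorem isUnivThickeningRing_localization {R R' B B' BS B'S : Type u} [CommRing R] [CommRing R']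
    [CommRing B] [CommRing B'] [CommRing BS] [CommRing B'S] [Algebra R R']
    [Algebra R B] [Algebra R B'] (π : B' →ₐ[R] B) (hπ : OmegaSh.IsUnivThickeningRing R B B' π)
    (M' : Submonoid B') (M : Submonoid B) (hM : ∀ s ∈ M, ∃ s' ∈ M', π s' = s)
    (hM' : ∀ s' ∈ M', π s' ∈ M)
    (hepi : ∀ (T : Type u) [CommRing T] (f g : R' →+* T),
      f.comp (algebraMap R R') = g.comp (algebraMap R R') → f = g)
    [Algebra B BS] [IsLocalization M BS] [Algebra B' B'S] [IsLocalization M' B'S]
    [Algebra R' BS] [Algebra R BS] [IsScalarTower R R' BS] [IsScalarTower R B BS]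
    [Algebra R' B'S] [Algebra R B'S] [IsScalarTower R R' B'S] [IsScalarTower R B' B'S]
    (πS : B'S →ₐ[R'] BS) (hπS : ∀ x : B', πS (algebraMap B' B'S x) = algebraMap B BS (π x)) :
    OmegaSh.IsUnivThickeningRing R' BS B'S πS := by
  obtain ⟨hsurj, hsq, huniv⟩ := hπ
  refine ⟨fun y => ?_, ?_, fun A _ _ I hI a => ?_⟩
  · obtain ⟨b, s, rfl⟩ := IsLocalization.exists_mk'_eq M y
    obtain ⟨b', rfl⟩ := hsurj b
    obtain ⟨s', hs', e⟩ := hM s s.2
    refine ⟨IsLocalization.mk' B'S b' ⟨s', hs'⟩, ?_⟩
    rw [IsLocalization.eq_mk'_iff_mul_eq, ← e, ← hπS, ← map_mul, IsLocalization.mk'_spec, hπS]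
  · have hle : RingHom.ker πS.toRingHom ≤ (RingHom.ker π.toRingHom).map (algebraMap B' B'S) := by
      intro x hx
      obtain ⟨b', s', rfl⟩ := IsLocalization.exists_mk'_eq M' x
      have h0 : algebraMap B BS (π b') = 0 := by
        rw [← hπS, ← IsLocalization.mk'_spec B'S b' s', map_mul]
        rw [show πS (IsLocalization.mk' B'S b' s') = 0 from hx, zero_mul]
      obtain ⟨t, ht⟩ := (IsLocalization.map_eq_zero_iff M BS _).1 h0
      obtain ⟨t', ht', e⟩ := hM t t.2
      refine (IsLocalization.mk'_mem_map_algebraMap_iff M' B'S _ _ _).2 ⟨t', ht', ?_⟩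
      show π (t' * b') = 0
      rw [map_mul, e]; exact ht
    refine le_bot_iff.1 ((Ideal.pow_right_mono hle 2).trans ?_)
    rw [← Ideal.map_pow, hsq, Ideal.map_bot]
  · letI : Algebra R A := ((algebraMap R' A).comp (algebraMap R R')).toAlgebra
    haveI : IsScalarTower R R' A := .of_algebraMap_eq fun _ => rfl
    let aB : B →ₐ[R] A ⧸ I := (a.restrictScalars R).comp (IsScalarTower.toAlgHom R B BS)
    obtain ⟨a', ha', huniq⟩ := huniv A I hI aB
    have ha'' : ∀ x, Ideal.Quotient.mk I (a' x) = a (algebraMap B BS (π x)) := fun x =>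
      DFunLike.congr_fun ha' x
    have hunit : ∀ s : M', IsUnit (a' s) := by
      intro s
      have hu : IsUnit (a (algebraMap B BS (π s))) :=
        (IsLocalization.map_units BS (⟨π s, hM' s s.2⟩ : M)).map a
      rw [← ha''] at hu
      exact (IsNilpotent.isUnit_quotient_mk_iff ⟨2, hI⟩).1 hu
    let L : B'S →+* A := IsLocalization.lift (M := M') (g := a'.toRingHom) hunit
    have hL : ∀ x, L (algebraMap B' B'S x) = a' x := fun x => IsLocalization.lift_eq hunit x
    have hcomm : L.comp (algebraMap R' B'S) = algebraMap R' A := hepi A _ _ (RingHom.ext fun r => by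
      show L (algebraMap R' B'S (algebraMap R R' r)) = algebraMap R' A (algebraMap R R' r)
      rw [← IsScalarTower.algebraMap_apply, IsScalarTower.algebraMap_apply R B' B'S, hL]
      exact a'.commutes r)
    refine ⟨{ L with commutes' := RingHom.congr_fun hcomm }, ?_, fun c hc => ?_⟩
    · apply AlgHom.coe_ringHom_injective
      refine IsLocalization.ringHom_ext M' (RingHom.ext fun x => ?_)
      show Ideal.Quotient.mk I (L (algebraMap B' B'S x)) = a (πS (algebraMap B' B'S x))
      rw [hL, hπS]
      exact ha'' x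
    · apply AlgHom.coe_ringHom_injective
      refine IsLocalization.ringHom_ext M' (RingHom.ext fun x => ?_)
      show c (algebraMap B' B'S x) = L (algebraMap B' B'S x)
      rw [hL]
      refine DFunLike.congr_fun (huniq ((c.restrictScalars R).comp (IsScalarTower.toAlgHom R B' B'S))
        (AlgHom.ext fun y => ?_)) x
      show Ideal.Quotient.mk I (c (algebraMap B' B'S y)) = a (algebraMap B BS (π y))
      rw [← hπS]
      exact DFunLike.congr_fun hc _

end Groth.Agent.Omega.ThickLoc
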