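import Groth.Prelude.Def_EGA43
import Mathlib

/-!
# Universally open at a point from a universally open neighbourhood
-/

set_option autoImplicit false

universe u

open CategoryTheory CategoryTheory.Limits AlgebraicGeometry Topology

namespace Groth.Agent.Omega.UnivOpen

theorem isUnivOpenAt_of_nhd {X Y : Scheme.{u}} (f : X ⟶ Y) (U : X.Opens) [UniversallyOpen (U.ι ≫ f)]
    {x : X} (hx : x ∈ U) : EGA43.IsUnivOpenAt f x := by
  intro Y' g x' hx' N hN
  let W := pullback.fst f g ⁻¹ᵁ U
  have h := (isPullback_morphismRestrict (pullback.fst f g) U).paste_vert (IsPullback.of_hasPullback f g)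
  have : UniversallyOpen (W.ι ≫ pullback.snd f g) :=
    MorphismProperty.of_isPullback (P := @UniversallyOpen) h inferInstance
  have hxW : x' ∈ W := by show (pullback.fst f g).base x' ∈ U; rw [hx']; exact hx
  obtain ⟨O, hON, hO, hxO⟩ := mem_nhds_iff.mp hN
  refine Filter.mem_of_superset (((W.ι ≫ pullback.snd f g).isOpenMap _
    (hO.preimage W.ι.continuous)).mem_nhds ⟨⟨x', hxW⟩, hxO, rfl⟩) ?_
  rintro _ ⟨w, hw, rfl⟩
  exact ⟨W.ι w, hON hw, rfl⟩

end Groth.Agent.Omega.UnivOpen
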