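import Groth.Agent.Omega.ConormalProj
import Groth.Agent.Omega.ThickSmooth
import Groth.Agent.RegImm44.Affine
import Groth.Agent.KReg44.Ideal
import Groth.Agent.Omega.ConormalZero
import Groth.Agent.QCoh.Pullback
import Groth.Agent.S1488

/-!
# The conormal sheaf of an unramified local complete intersection morphism
-/

set_option autoImplicit false
set_option linter.style.haveILetI false

universe u

open CategoryTheory CategoryTheory.Limits AlgebraicGeometry TopologicalSpace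

noncomputable section

namespace Groth.Agent.Omega.UnramKoszul

variable {X X' Y : Scheme.{u}}

/-- Morphisms from a thickened scheme land in opens containing the image of the closed part. -/
theorem range_subset {T T' : Scheme.{u}} {t : T ⟶ T'} (ht : MoreMor.IsFirstOrderThickening t)
    (g : T' ⟶ X) {W : X.Opens} (hW : IsAffineOpen W) (h : ∀ q, g (t q) ∈ W) :
    Set.range g ⊆ Set.range hW.fromSpec := by
  rintro _ ⟨p, rfl⟩
  obtain ⟨q, rfl⟩ := ht.1.2.surj p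
  rw [hW.range_fromSpec]
  exact h q

/-- Charts for a factorisation through an immersion into `P` and for a thickening of `X`. -/
theorem exists_charts {i : X ⟶ X'} (hi : MoreMor.IsThickening i) {U₀ : X.Opens} {P : Scheme.{u}}
    (iP : (U₀ : Scheme.{u}) ⟶ P) [IsImmersion iP] {x : X} (hx : x ∈ U₀) (O : P.Opens) (hxO : iP ⟨x, hx⟩ ∈ O) :
    ∃ (W : X'.Opens) (Q : P.Opens), IsAffineOpen W ∧ IsAffineOpen Q ∧ Q ≤ O ∧ i x ∈ W ∧
      IsClosedImmersion (iP ∣_ Q) ∧ U₀.ι ''ᵁ (iP ⁻¹ᵁ Q) = i ⁻¹ᵁ W := by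
  obtain ⟨Q₁, hQ₁, hxQ₁, hQ₁O⟩ := exists_isAffineOpen_mem_and_subset (U := iP.coborderRange ⊓ O)
    (x := iP ⟨x, hx⟩) ⟨subset_coborder (Set.mem_range_self _), hxO⟩
  have := ConormalZero.isClosedImmersion_morphismRestrict iP (W := Q₁) fun y hy => (hQ₁O hy).1
  have hV₁ := RegImm44.isAffineOpen_preimage iP hQ₁
  have hU₁ : IsAffineOpen (U₀.ι ''ᵁ (iP ⁻¹ᵁ Q₁)) := hV₁.image_of_isOpenImmersion U₀.ι
  have := hi.1
  have := hi.2
  let W₀ : X'.Opens := ⟨i '' (U₀.ι ''ᵁ (iP ⁻¹ᵁ Q₁) : Set X), by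
    rw [← isClosed_compl_iff, ← Set.image_compl_eq ⟨i.isClosedEmbedding.injective, hi.2.surj⟩]
    exact i.isClosedEmbedding.isClosedMap _ (U₀.ι ''ᵁ (iP ⁻¹ᵁ Q₁)).isOpen.isClosed_compl⟩
  have hxU₁ : x ∈ U₀.ι ''ᵁ (iP ⁻¹ᵁ Q₁) := ⟨⟨x, hx⟩, hxQ₁, rfl⟩
  obtain ⟨W₁, hW₁, hxW₁, hW₁le⟩ := exists_isAffineOpen_mem_and_subset (U := W₀) (x := i x)
    ⟨x, hxU₁, rfl⟩
  have hle : i ⁻¹ᵁ W₁ ≤ U₀.ι ''ᵁ (iP ⁻¹ᵁ Q₁) := fun y hy => by
    obtain ⟨z, hz, he⟩ := hW₁le hy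
    exact i.isClosedEmbedding.injective he ▸ hz
  obtain ⟨g, hg, hxg⟩ := hU₁.exists_basicOpen_le (V := i ⁻¹ᵁ W₁) ⟨x, hxW₁⟩ hxU₁
  obtain ⟨h, hh⟩ := i.app_surjective W₁ hW₁ (X.presheaf.map (homOfLE hle).op g)
  obtain ⟨a, ha⟩ := RegImm44.app_surjective iP hQ₁ ((U₀.ι.appIso (iP ⁻¹ᵁ Q₁)).hom g)
  have hW : i ⁻¹ᵁ X'.basicOpen h = X.basicOpen g := by
    rw [Scheme.preimage_basicOpen]
    refine (congrArg X.basicOpen hh).trans ((X.basicOpen_res g _).trans ?_)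
    exact inf_eq_right.mpr hg
  refine ⟨X'.basicOpen h, P.basicOpen a, hW₁.basicOpen h, hQ₁.basicOpen a,
    fun y hy => (hQ₁O (P.basicOpen_le a hy)).2, ?_,
    RegImm44.isClosedImmersion_restrict_of_le iP (P.basicOpen_le a), ?_⟩
  · exact (show x ∈ i ⁻¹ᵁ X'.basicOpen h from hW ▸ hxg)
  · rw [hW, Scheme.preimage_basicOpen, show (iP.app Q₁) a = _ from ha, Scheme.image_basicOpen]
    exact congrArg X.basicOpen ((U₀.ι.appIso _).hom_inv_id_apply g)

set_option backward.isDefEq.respectTransparency false in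
/-- The conormal sections near a point are finite projective. -/
theorem exists_nhd {f : X ⟶ Y} {i : X ⟶ X'} {h' : X' ⟶ Y} (hu : OmegaSh.IsUnivThickening f i h')
    {x : X} (hf : Synt.IsKoszulAt f x) :
    ∃ U : X.Opens, IsAffineOpen U ∧ x ∈ U ∧
      Module.FinitePresentation Γ(X, U) Γ(Omega.conormal i, U) ∧ Module.Flat Γ(X, U) Γ(Omega.conormal i, U) := by
  obtain ⟨U₀, P, iP, π, hx, -, hreg, hπ, hfac⟩ := hf
  have := hreg.1
  obtain ⟨V, hV, hxV, -⟩ := exists_isAffineOpen_mem_and_subset (x := f x) (U := ⊤) trivial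
  have hfot := hu.1
  have := hfot.1.1
  obtain ⟨W, Q, hW, hQ, -, hxW, hcl, hUQ⟩ := exists_charts hfot.1 iP hx ⊤ trivial
  have hV₀ := RegImm44.isAffineOpen_preimage iP hQ
  have hU : IsAffineOpen (i ⁻¹ᵁ W) := hW.preimage i
  have hV₀U : iP ⁻¹ᵁ Q ≤ U₀.ι ⁻¹ᵁ (i ⁻¹ᵁ W) := fun y hy => hUQ.le ⟨y, hy, rfl⟩
  let θ := U₀.ι.appLE (i ⁻¹ᵁ W) (iP ⁻¹ᵁ Q) hV₀U
  haveI hθ : IsIso θ := by
    have : θ = X.presheaf.map (eqToHom hUQ).op ≫ (U₀.ι.appIso (iP ⁻¹ᵁ Q)).hom := by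
      rw [Scheme.Hom.appIso_hom', Scheme.Hom.map_appLE]
    rw [this]
    infer_instance
  -- `p : A → B`
  let p : Γ(P, Q) ⟶ Γ(X, i ⁻¹ᵁ W) := iP.app Q ≫ inv θ
  let j₀ : Spec Γ(X, i ⁻¹ᵁ W) ⟶ (U₀ : Scheme.{u}) := Spec.map (inv θ) ≫ hV₀.fromSpec
  have hj₀ : j₀ ≫ U₀.ι = hU.fromSpec := by
    simp only [j₀, Category.assoc]
    rw [← IsAffineOpen.SpecMap_appLE_fromSpec U₀.ι hU hV₀ hV₀U, ← Spec.map_comp_assoc,
      IsIso.hom_inv_id, Spec.map_id, Category.id_comp]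
  have hp : Spec.map p ≫ hQ.fromSpec = j₀ ≫ iP := by
    simp only [p, j₀, Spec.map_comp, Category.assoc, Scheme.Hom.app_eq_appLE]
    rw [IsAffineOpen.SpecMap_appLE_fromSpec iP hQ hV₀ le_rfl]
  have hpsurj : Function.Surjective p := by
    change Function.Surjective ((inv θ).hom ∘ (iP.app Q).hom)
    exact (ConcreteCategory.bijective_of_isIso (inv θ)).2.comp (RegImm44.app_surjective iP hQ)
  have hK : RingHom.ker p.hom = RingHom.ker (iP.app Q).hom := by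
    ext a
    exact (map_eq_zero_iff (inv θ).hom (ConcreteCategory.bijective_of_isIso (inv θ)).1)
  have hreg' : LCI.IsKoszulRegularIdeal (RingHom.ker p.hom) :=
    hK ▸ RegImm44.isKoszulRegularIdeal_ker iP hreg.2 hQ
  have hqr := KReg44.isLocallyQuasiRegular_of_isKoszulRegularIdeal hreg'
  -- the thickening of the chart
  let s : Γ(X', W) ⟶ Γ(X, i ⁻¹ᵁ W) := i.app W
  have hssq : RingHom.ker s.hom ^ 2 = ⊥ := Thick.ker_app_sq i hfot.2 hW
  have hs : Spec.map s ≫ hW.fromSpec = hU.fromSpec ≫ i := by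
    simp only [s, Scheme.Hom.app_eq_appLE]
    exact IsAffineOpen.SpecMap_appLE_fromSpec i hW hU le_rfl
  have ht := Thick.isFOT_spec s (i.app_surjective W hW) hssq
  have hjf : hU.fromSpec ≫ f = j₀ ≫ iP ≫ π := by rw [hfac, ← hj₀, Category.assoc]
  -- the lift `ψ : A → S`
  obtain ⟨l, hl₁, hl₂⟩ := ThickSmooth.exists_lift_fot ((Groth.Agent.S1488.result π).1 hπ).2
    (Spec.map s) ht (j₀ ≫ iP) (hW.fromSpec ≫ h')
    (by rw [← Category.assoc, hs, Category.assoc, hu.2.1, hjf]; simp only [j₀, Category.assoc])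
  have hlr : Set.range l ⊆ Set.range hQ.fromSpec := range_subset ht l hQ fun q => by
    rw [← Scheme.Hom.comp_apply, hl₁, ← hp, Scheme.Hom.comp_apply, ← SetLike.mem_coe, ← hQ.range_fromSpec]
    exact Set.mem_range_self _
  obtain ⟨ψ, hψ⟩ := Spec.map_surjective (IsOpenImmersion.lift hQ.fromSpec l hlr)
  have hψl : Spec.map ψ ≫ hQ.fromSpec = l := by rw [hψ, IsOpenImmersion.lift_fac]
  have hψs : ψ ≫ s = p := Spec.map_injective <| by
    rw [← cancel_mono hQ.fromSpec, Spec.map_comp, Category.assoc, hψl, hl₁, hp]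
  -- the first order neighbourhood and `a : S → A/K²`
  let K := RingHom.ker p.hom
  let mk : Γ(P, Q) ⟶ CommRingCat.of (Γ(P, Q) ⧸ K ^ 2) := CommRingCat.ofHom (Ideal.Quotient.mk (K ^ 2))
  let q : CommRingCat.of (Γ(P, Q) ⧸ K ^ 2) ⟶ Γ(X, i ⁻¹ᵁ W) :=
    CommRingCat.ofHom (Ideal.Quotient.lift (K ^ 2) p.hom fun a ha => Ideal.pow_le_self two_ne_zero ha)
  have hmq : mk ≫ q = p := by ext a; rfl
  have hqsurj : Function.Surjective q.hom := fun b => by
    obtain ⟨a, ha⟩ := hpsurj b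
    exact ⟨Ideal.Quotient.mk _ a, ha⟩
  have hqsq : RingHom.ker q.hom ^ 2 = ⊥ := by
    rw [CommRingCat.hom_ofHom, Ideal.ker_quotient_lift, ← Ideal.map_pow, Ideal.map_quotient_self]
  have hq := Thick.isFOT_spec q hqsurj hqsq
  obtain ⟨a', ⟨ha₁, ha₂⟩, -⟩ := hu.2.2 _ _ (Spec.map q) (Spec.map mk ≫ hQ.fromSpec ≫ π) hU.fromSpec hq
    (by rw [← Spec.map_comp_assoc, hmq, ← Category.assoc, hp, hjf, Category.assoc])
  have har : Set.range a' ⊆ Set.range hW.fromSpec := range_subset hq a' hW fun z => by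
    rw [← Scheme.Hom.comp_apply, ha₁, ← hs, Scheme.Hom.comp_apply, ← SetLike.mem_coe, ← hW.range_fromSpec]
    exact Set.mem_range_self _
  obtain ⟨a, ha⟩ := Spec.map_surjective (IsOpenImmersion.lift hW.fromSpec a' har)
  have haa : Spec.map a ≫ hW.fromSpec = a' := by rw [ha, IsOpenImmersion.lift_fac]
  -- the composite is the identity
  have hψK : ∀ c ∈ K ^ 2, ψ.hom c = 0 := fun c hc => by
    rw [← Ideal.mem_bot, ← hssq]
    have : K.map ψ.hom ≤ RingHom.ker s.hom := Ideal.map_le_iff_le_comap.mpr fun k hk => by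
      have hk' : p k = 0 := hk
      rwa [← hψs] at hk'
    exact Ideal.pow_right_mono this 2 (Ideal.map_pow ψ.hom K 2 ▸ Ideal.mem_map_of_mem _ hc)
  let ψ' : CommRingCat.of (Γ(P, Q) ⧸ K ^ 2) ⟶ Γ(X', W) :=
    CommRingCat.ofHom (Ideal.Quotient.lift (K ^ 2) ψ.hom hψK)
  have hmψ : mk ≫ ψ' = ψ := by ext c; rfl
  have hψ'q : ψ' ≫ s = q := by
    ext c
    exact congr($hψs c)
  have hid : a ≫ ψ' = 𝟙 _ := Spec.map_injective <| by
    rw [Spec.map_comp, Spec.map_id, ← cancel_mono hW.fromSpec, Category.assoc, haa, Category.id_comp]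
    refine (hu.2.2 _ _ (Spec.map s) (hW.fromSpec ≫ h') hU.fromSpec ht
      (by rw [← Category.assoc, hs, Category.assoc, hu.2.1])).unique ⟨?_, ?_⟩ ⟨hs, rfl⟩
    · rw [← Spec.map_comp_assoc, hψ'q, ha₁]
    · rw [Category.assoc, ha₂, ← Spec.map_comp_assoc, hmψ, ← Category.assoc, hψl, hl₂]
  -- conclusion
  letI := s.hom.toAlgebra
  obtain ⟨_, _⟩ := ConormalProj.finite_projective_of_retract p.hom hpsurj
    (QReg.fg_of_isLocallyQuasiRegular hqr) (QReg.projective_of_isLocallyQuasiRegular hqr)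
    (RingHom.ker s.hom) rfl ψ.hom congr($(hψs).hom) a.hom fun t c h => by
      have h1 : ψ' (a t) = t := congr($hid t)
      rw [← h] at h1
      exact h1
  obtain ⟨e⟩ := ConormalProj.nonempty_secEquiv i hW hU
  haveI := Module.Finite.equiv e
  haveI := Module.Projective.of_equiv e
  exact ⟨i ⁻¹ᵁ W, hU, hxW, Module.finitePresentation_of_projective _ _, inferInstance⟩

theorem isFinLocFree_conormal {f : X ⟶ Y} (hf : ∀ x : X, Synt.IsKoszulAt f x) {i : X ⟶ X'} {h' : X' ⟶ Y}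
    (hu : OmegaSh.IsUnivThickening f i h') : FlatMod.IsFinLocFree (Omega.conormal i) := by
  have := hu.1.1.1
  haveI : (ClSub.idealMod i.ker).IsQuasicoherent := AmpleLib.isQCoh_idealMod _
  haveI : (Omega.conormal i).IsQuasicoherent :=
    inferInstanceAs ((Scheme.Modules.pullback i).obj (ClSub.idealMod i.ker)).IsQuasicoherent
  exact PinchLib.isFinLocFree_of_sections fun x => exists_nhd hu (hf x)

end Groth.Agent.Omega.UnramKoszul

end
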