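import Mathlib.AlgebraicGeometry.Morphisms.FormallyUnramified
import Mathlib.AlgebraicGeometry.Morphisms.Separated
import Mathlib.AlgebraicGeometry.Fiber

/-!
# The locus where two morphisms to an unramified scheme agree
-/

set_option autoImplicit false

universe u

open CategoryTheory CategoryTheory.Limits AlgebraicGeometry TopologicalSpace

namespace Groth.Agent.Omega.UnramRigid

variable {X Y S : Scheme.{u}} (h : Y ⟶ S) (f g : X ⟶ Y) (w : g ≫ h = f ≫ h)

/-- The locus of agreement, as a pullback of the diagonal. -/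
noncomputable abbrev agree : pullback (pullback.diagonal h) (pullback.lift f g w.symm) ⟶ X :=
  pullback.snd _ _

theorem agree_comp : agree h f g w ≫ f = agree h f g w ≫ g := by
  have h1 := congrArg (· ≫ pullback.fst h h) (pullback.condition (f := pullback.diagonal h) (g := pullback.lift f g w.symm))
  have h2 := congrArg (· ≫ pullback.snd h h) (pullback.condition (f := pullback.diagonal h) (g := pullback.lift f g w.symm))
  simp only [Category.assoc, pullback.diagonal_fst, pullback.diagonal_snd, pullback.lift_fst, pullback.lift_snd,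
    Category.comp_id] at h1 h2
  exact h1.symm.trans h2

theorem range_subset_agree {T : Scheme.{u}} (t : T ⟶ X) (ht : t ≫ f = t ≫ g) :
    Set.range t.base ⊆ Set.range (agree h f g w).base := by
  have hl : (t ≫ f) ≫ pullback.diagonal h = t ≫ pullback.lift f g w.symm := by
    refine pullback.hom_ext ?_ ?_
    · simp only [Category.assoc, pullback.diagonal_fst, pullback.lift_fst, Category.comp_id]
    · simp only [Category.assoc, pullback.diagonal_snd, pullback.lift_snd, Category.comp_id]
      exact ht
  have : t = pullback.lift (t ≫ f) t hl ≫ agree h f g w := (pullback.lift_snd _ _ _).symm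
  rw [this]
  rintro _ ⟨z, rfl⟩
  exact ⟨_, (Scheme.Hom.comp_apply _ _ _).symm⟩

theorem eq_of_preimage_subset [IsOpenImmersion (agree h f g w)] (W : X.Opens)
    (hW : (W : Set X) ⊆ Set.range (agree h f g w).base) : W.ι ≫ f = W.ι ≫ g := by
  rw [← IsOpenImmersion.lift_fac (agree h f g w) W.ι (by rwa [Scheme.Opens.range_ι]), Category.assoc, Category.assoc,
    agree_comp]

variable [FormallyUnramified h] [LocallyOfFiniteType h]

theorem exists_open (hc : IsClosedMap (f ≫ h).base) (s : S)
    (hs : (f ≫ h).fiberι s ≫ f = (f ≫ h).fiberι s ≫ g) :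
    ∃ V : S.Opens, (V : Set S) = ((f ≫ h).base '' (Set.range (agree h f g w).base)ᶜ)ᶜ ∧ s ∈ V ∧
      ((f ≫ h) ⁻¹ᵁ V).ι ≫ f = ((f ≫ h) ⁻¹ᵁ V).ι ≫ g := by
  haveI : IsOpenImmersion (agree h f g w) := inferInstance
  refine ⟨⟨_, (hc _ (agree h f g w).isOpenEmbedding.isOpen_range.isClosed_compl).isOpen_compl⟩, rfl, ?_,
    eq_of_preimage_subset h f g w _ fun x hx => ?_⟩
  · rintro ⟨x, hx, hxs⟩
    exact hx (range_subset_agree h f g w _ hs (by rw [Scheme.Hom.range_fiberι]; exact hxs))
  · by_contra hne
    exact hx ⟨x, hne, rfl⟩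

end Groth.Agent.Omega.UnramRigid
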