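import Mathlib.AlgebraicGeometry.Morphisms.FormallyUnramified
import Mathlib.AlgebraicGeometry.Morphisms.FiniteType

/-!
# Sections of unramified morphisms
-/

set_option autoImplicit false

universe u

open CategoryTheory CategoryTheory.Limits AlgebraicGeometry

noncomputable section

namespace Groth.Agent.Omega.UnramSection

theorem isPullback_section {P Y : Scheme.{u}} (p : P ⟶ Y) (r : Y ⟶ P) (h : r ≫ p = 𝟙 Y) :
    IsPullback r r (pullback.lift (p ≫ r) (𝟙 P) (by rw [Category.assoc, h, Category.comp_id, Category.id_comp]))
      (pullback.diagonal p) := by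
  have w : r ≫ pullback.lift (p ≫ r) (𝟙 P) (by rw [Category.assoc, h, Category.comp_id, Category.id_comp]) =
      r ≫ pullback.diagonal p :=
    pullback.hom_ext
      (by simp only [Category.assoc, pullback.lift_fst, pullback.diagonal_fst, Category.comp_id]
          exact (Category.assoc _ _ _).symm.trans ((congrArg (fun k => k ≫ r) h).trans (Category.id_comp _)))
      (by simp only [Category.assoc, pullback.lift_snd, pullback.diagonal_snd, Category.comp_id])
  refine ⟨⟨w⟩, ⟨PullbackCone.IsLimit.mk w (fun s => s.fst ≫ p) (fun s => ?_) (fun s => ?_) fun s m h₁ _ => ?_⟩⟩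
  · have e₁ := congrArg (fun k => k ≫ pullback.fst p p) s.condition
    have e₂ := congrArg (fun k => k ≫ pullback.snd p p) s.condition
    simp only [Category.assoc, pullback.lift_fst, pullback.lift_snd, pullback.diagonal_fst, pullback.diagonal_snd,
      Category.comp_id] at e₁ e₂
    exact (Category.assoc _ _ _).trans (e₁.trans e₂.symm)
  · have e₁ := congrArg (fun k => k ≫ pullback.fst p p) s.condition
    simp only [Category.assoc, pullback.lift_fst, pullback.diagonal_fst, Category.comp_id] at e₁
    exact (Category.assoc _ _ _).trans e₁
  · exact ((congrArg (fun k => k ≫ p) h₁.symm).trans ((Category.assoc _ _ _).trans ((congrArg (m ≫ ·) h).trans (Category.comp_id _)))).symm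

/-- A morphism to an unramified scheme with open composite is an open immersion. -/
theorem isOpenImmersion_of_comp {Y P W : Scheme.{u}} (s : Y ⟶ P) (q : P ⟶ W) [FormallyUnramified q]
    [LocallyOfFiniteType q] [IsOpenImmersion (s ≫ q)] : IsOpenImmersion s := by
  let r : Y ⟶ pullback (s ≫ q) q := pullback.lift (𝟙 Y) s (by simp)
  have : FormallyUnramified (pullback.fst (s ≫ q) q) := MorphismProperty.pullback_fst _ _ inferInstance
  have : IsOpenImmersion (pullback.diagonal (pullback.fst (s ≫ q) q)) := inferInstance
  have : IsOpenImmersion r :=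
    MorphismProperty.of_isPullback (isPullback_section (pullback.fst (s ≫ q) q) r (pullback.lift_fst _ _ _)).flip this
  rw [show s = r ≫ pullback.snd (s ≫ q) q from (pullback.lift_snd _ _ _).symm]
  infer_instance

end Groth.Agent.Omega.UnramSection

end
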